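import Groth.Agent.Wt.Local
import Mathlib.Topology.Semicontinuity.Basic

/-!
# Positive weightings of separated morphisms with finite fibres
-/

universe u

open AlgebraicGeometry CategoryTheory Limits
open scoped Topology

namespace Groth.Agent.Wt.LSC

open GeomPts EtNbhd Split Parts Master Local

variable {X Y V : Scheme.{u}}

theorem fibreIntegral_eq_geomInt (f : X ⟶ Y) [LocallyQuasiFinite f] (hfin : ∀ y : Y, (f ⁻¹' {y}).Finite)
    (w : X → ℤ) (g : V ⟶ Y) {K : Type u} [Field K] [IsAlgClosed K]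
    (yb : Spec (CommRingCat.of K) ⟶ V) :
    Finite (GeomFib (pullback.snd f g) yb) ∧
      MoreMor.fibreIntegral f w (g (pt yb)) =
        geomInt (pullback.snd f g) yb (fun p => w (pullback.fst f g p)) := by
  have : Finite {x : X // f x = pt (yb ≫ g)} := (hfin _).to_subtype
  have := finite_geomFib f (yb ≫ g)
  refine ⟨.of_equiv _ (baseChangeEquiv f (IsPullback.of_hasPullback f g) yb).symm, ?_⟩
  rw [← pt_comp, ← geomInt_eq_fibreIntegral f (yb ≫ g),
    ← geomInt_baseChange f (IsPullback.of_hasPullback f g) yb]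
  rfl

/-- Near any point the fibre integral is at least its value there, and equality forces the fibre to lie
in the finite parts. -/
theorem exists_parts (f : X ⟶ Y) [LocallyOfFiniteType f] [LocallyQuasiFinite f] [IsSeparated f]
    (hfin : ∀ y : Y, (f ⁻¹' {y}).Finite) {w : X → ℤ} (hw : MoreMor.IsWeighting f w)
    (hpos : ∀ x, 0 < w x) (y : Y) :
    ∃ (V : Scheme.{u}) (g : V ⟶ Y) (u : V), Etale g ∧ g u = y ∧
      ∃ (J : Set ↥(pullback f g)) (W : ↥(pullback f g) → (pullback f g).Opens), J.Finite ∧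
        (∀ z ∈ J, IsFinite ((W z).ι ≫ pullback.snd f g)) ∧
        ∀ᶠ n in 𝓝 u, MoreMor.fibreIntegral f w y ≤ MoreMor.fibreIntegral f w (g n) ∧
          (MoreMor.fibreIntegral f w (g n) = MoreMor.fibreIntegral f w y →
            ∀ p, pullback.snd f g p = n → ∃ z ∈ J, p ∈ W z) := by
  obtain ⟨V, g, u, hg, hu, J, W, hJ, hJW, hmem, hev⟩ :=
    exists_single f hw y (f ⁻¹' {y}) (hfin y) fun _ h => h
  refine ⟨V, g, u, hg, hu, J, W, hJ, fun z hz => (hJW z hz).1.finite, ?_⟩
  let q := pullback.snd f g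
  let w' := fun p => w (pullback.fst f g p)
  let S := ∑ᶠ z ∈ J, w' z
  have hdisj := eventually_disjoint q hJ fun z hz => (hJW z hz).1
  have key : ∀ᶠ n in 𝓝 u, S ≤ MoreMor.fibreIntegral f w (g n) ∧
      ((∀ p, q p = n → ∃ z ∈ J, p ∈ W z) → MoreMor.fibreIntegral f w (g n) = S) ∧
      (∀ p, q p = n → (∀ z ∈ J, p ∉ W z) → S < MoreMor.fibreIntegral f w (g n)) := by
    filter_upwards [hev, hdisj] with n hn hn'
    obtain ⟨yb, hyb⟩ := exists_geomPt n
    obtain ⟨hF, hI⟩ := fibreIntegral_eq_geomInt f hfin w g yb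
    rw [hyb] at hI
    classical
    cases nonempty_fintype (GeomFib q yb)
    let U := hJ.toFinset.biUnion fun z =>
      (Finset.univ : Finset (GeomFib q yb)).filter fun x => pt x.1 ∈ W z
    have hUS : ∑ x ∈ U, w' (pt x.1) = S := by
      rw [Finset.sum_biUnion]
      · refine ((finsum_mem_eq_finite_toFinset_sum _ hJ).trans
          (Finset.sum_congr rfl fun z hz => ?_)).symm
        show w (pullback.fst f g z) = _
        rw [← hn z (hJ.mem_toFinset.mp hz) _ yb hyb, geomSum,
          finsum_mem_eq_finite_toFinset_sum _ (Set.toFinite _)]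
        refine Finset.sum_congr ?_ fun _ _ => rfl
        ext x
        simp
      · intro z hz z' hz' hne
        rw [Function.onFun, Finset.disjoint_left]
        simp only [Finset.mem_filter, Finset.mem_univ, true_and]
        exact fun x hx => hn' z (hJ.mem_toFinset.mp hz) z' (hJ.mem_toFinset.mp hz') hne _ hx
          ((apply_pt q yb x).trans hyb)
    have htot : MoreMor.fibreIntegral f w (g n) = ∑ x : GeomFib q yb, w' (pt x.1) := by
      rw [hI]
      exact finsum_eq_sum_of_fintype _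
    rw [htot, ← hUS]
    refine ⟨Finset.sum_le_univ_sum_of_nonneg fun _ => (hpos _).le, fun h => ?_, fun p hp h => ?_⟩
    · refine (Finset.sum_subset (Finset.subset_univ U) fun x _ hx => ?_).symm
      obtain ⟨z, hz, hzW⟩ := h _ ((apply_pt q yb x).trans hyb)
      exact absurd (Finset.mem_biUnion.mpr ⟨z, hJ.mem_toFinset.mpr hz, by simpa using hzW⟩) hx
    · obtain ⟨c, hc⟩ := surjective_pt q yb ⟨p, hp.trans hyb.symm⟩
      have hc' : pt c.1 = p := congrArg Subtype.val hc
      refine Finset.sum_lt_sum_of_subset (Finset.subset_univ U) (Finset.mem_univ c) ?_ (hpos _)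
        fun x _ _ => (hpos _).le
      simp only [U, Finset.mem_biUnion, Finset.mem_filter, Finset.mem_univ, true_and, hc']
      rintro ⟨z, hz, hzW⟩
      exact h z (hJ.mem_toFinset.mp hz) hzW
  have hy : MoreMor.fibreIntegral f w y = S := by
    rw [← hu]
    refine key.self_of_nhds.2.1 fun p hp => ?_
    have hp' : pullback.fst f g p ∈ f ⁻¹' {y} := by
      show f _ = y
      rw [← Scheme.Hom.comp_apply, pullback.condition, Scheme.Hom.comp_apply]
      exact (congrArg g hp).trans hu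
    exact ⟨p, hmem p hp hp', (hJW p (hmem p hp hp')).1.mem⟩
  filter_upwards [key] with n hn
  rw [hy]
  refine ⟨hn.1, fun he p hp => ?_⟩
  by_contra h
  push Not at h
  exact (hn.2.2 p hp h).ne' he

theorem lowerSemicontinuous_fibreIntegral (f : X ⟶ Y) [LocallyOfFiniteType f] [LocallyQuasiFinite f]
    [IsSeparated f] (hfin : ∀ y : Y, (f ⁻¹' {y}).Finite) {w : X → ℤ}
    (hw : MoreMor.IsWeighting f w) (hpos : ∀ x, 0 < w x) :
    LowerSemicontinuous (MoreMor.fibreIntegral f w) := by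
  intro y k hk
  obtain ⟨V, g, u, hg, hu, J, W, -, -, hev⟩ := exists_parts f hfin hw hpos y
  obtain ⟨N, hN, hNo, huN⟩ := mem_nhds_iff.mp hev
  filter_upwards [(g.isOpenMap N hNo).mem_nhds ⟨u, huN, hu⟩] with y' hy'
  obtain ⟨n, hn, rfl⟩ := hy'
  exact lt_of_lt_of_le hk (hN hn).1

/-- A morphism whose source is covered by finitely many opens finite over the base is universally
closed. -/
theorem universallyClosed_of_finite_parts {P T : Scheme.{u}} (q : P ⟶ T) {ι : Type*} (J : Set ι)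
    (hJ : J.Finite) (W : ι → P.Opens) (hW : ∀ z ∈ J, IsFinite ((W z).ι ≫ q))
    (hcov : ∀ p, ∃ z ∈ J, p ∈ W z) : UniversallyClosed q := by
  constructor
  intro P' T' a b q' h C hC
  have h' : IsPullback a q' q b := h.flip
  have : q' '' C = ⋃ z ∈ J, ((a ⁻¹ᵁ W z).ι ≫ q') '' ((a ⁻¹ᵁ W z).ι ⁻¹' C) := by
    ext t
    simp only [Set.mem_image, Set.mem_iUnion, exists_prop]
    constructor
    · rintro ⟨x, hx, rfl⟩
      obtain ⟨z, hz, hzW⟩ := hcov (a x)
      exact ⟨z, hz, ⟨x, hzW⟩, hx, rfl⟩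
    · rintro ⟨z, -, x, hx, rfl⟩
      exact ⟨_, hx, rfl⟩
  rw [this]
  refine hJ.isClosed_biUnion fun z hz => ?_
  have := isFinite_preimage b h' (W z) (hW z hz)
  exact ((a ⁻¹ᵁ W z).ι ≫ q').isClosedMap _ (hC.preimage (a ⁻¹ᵁ W z).ι.continuous)

/-- Over the locus where the fibre integral is maximal the morphism is finite. -/
theorem isFinite_morphismRestrict (f : X ⟶ Y) [LocallyOfFiniteType f] [LocallyQuasiFinite f]
    [IsSeparated f] (hfin : ∀ y : Y, (f ⁻¹' {y}).Finite) {w : X → ℤ}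
    (hw : MoreMor.IsWeighting f w) (hpos : ∀ x, 0 < w x) (d : ℤ) (O : Y.Opens)
    (hO : ∀ y ∈ O, MoreMor.fibreIntegral f w y = d) : IsFinite (f ∣_ O) := by
  suffices UniversallyClosed (f ∣_ O) by
    have : IsProper (f ∣_ O) := ⟨⟩
    exact .of_isProper_of_locallyQuasiFinite _
  have hex : ∀ y ∈ O, ∃ M : Y.Opens, y ∈ M ∧ M ≤ O ∧ UniversallyClosed (f ∣_ M) := fun y hy => by
    obtain ⟨V, g, u, hg, hu, J, W, hJ, hW, hev⟩ := exists_parts f hfin hw hpos y
    obtain ⟨M, hM, hyM, hMO⟩ := exists_isAffineOpen_mem_and_subset (x := y) (U := O) hy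
    obtain ⟨N₀, hN₀, hN₀o, huN₀⟩ := mem_nhds_iff.mp hev
    obtain ⟨N, hN, huN, hNsub⟩ := exists_isAffineOpen_mem_and_subset (x := u)
      (U := ⟨N₀, hN₀o⟩ ⊓ g ⁻¹ᵁ M) ⟨huN₀, show g u ∈ M from hu.symm ▸ hyM⟩
    let O' : Y.Opens := ⟨g '' N, g.isOpenMap N N.2⟩
    have hO'M : O' ≤ M := by
      rintro _ ⟨n, hn, rfl⟩
      exact (hNsub hn).2
    refine ⟨O', ⟨u, huN, hu⟩, hO'M.trans hMO, ?_⟩
    have hr : Set.range (N.ι ≫ g) ⊆ Set.range O'.ι := by
      rw [Scheme.Opens.range_ι]
      rintro _ ⟨n, rfl⟩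
      exact ⟨_, n.2, rfl⟩
    let π := IsOpenImmersion.lift O'.ι (N.ι ≫ g) hr
    have hπ : π ≫ O'.ι = N.ι ≫ g := IsOpenImmersion.lift_fac _ _ _
    have : Etale (π ≫ O'.ι) := hπ ▸ inferInstance
    have : Etale π := MorphismProperty.of_postcomp (W := @Etale) (W' := @Etale) π O'.ι
      inferInstance inferInstance
    have : Surjective π := ⟨fun x => by
      obtain ⟨n, hn, e⟩ := x.2
      exact ⟨(⟨n, hn⟩ : ↥N.toScheme), O'.ι.isOpenEmbedding.injective
        ((congr($(hπ) (⟨n, hn⟩ : ↥N.toScheme))).trans e)⟩⟩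
    have : IsAffine M := hM
    have : IsAffine N := hN
    have : QuasiCompact (π ≫ Y.homOfLE hO'M) := inferInstance
    have : QuasiCompact π := QuasiCompact.of_comp π (Y.homOfLE hO'M)
    refine MorphismProperty.of_pullback_snd_of_descendsAlong (P := @UniversallyClosed)
      (Q := @Surjective ⊓ @Flat ⊓ @QuasiCompact) (f := f ∣_ O') (g := π)
      ⟨⟨inferInstance, inferInstance⟩, inferInstance⟩ ?_
    let q := pullback.snd f g
    have h₁ : IsPullback (pullback.fst (f ∣_ O') π ≫ (f ⁻¹ᵁ O').ι) (pullback.snd (f ∣_ O') π) f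
        (N.ι ≫ g) := by
      rw [← hπ]
      exact (IsPullback.of_hasPullback (f ∣_ O') π).paste_horiz
        (isPullback_morphismRestrict f O').flip
    let a := pullback.lift (f := f) (g := g) _ (pullback.snd (f ∣_ O') π ≫ N.ι)
      (h₁.w.trans (Category.assoc _ _ _).symm)
    have h₂ : IsPullback a (pullback.snd (f ∣_ O') π) q N.ι := by
      refine .of_right ?_ (pullback.lift_snd _ _ _) (IsPullback.of_hasPullback f g)
      rw [pullback.lift_fst]
      exact h₁
    refine universallyClosed_of_finite_parts _ J hJ (fun z => a ⁻¹ᵁ W z)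
      (fun z hz => isFinite_preimage _ h₂ _ (hW z hz)) fun p => ?_
    have hn := pullback.snd (f ∣_ O') π p
    have hap : q (a p) = N.ι (pullback.snd (f ∣_ O') π p) := by
      rw [← Scheme.Hom.comp_apply, h₂.w, Scheme.Hom.comp_apply]
    have hnN := (pullback.snd (f ∣_ O') π p).2
    exact (hN₀ (hNsub hnN).1).2 (((hO _ (hMO (hNsub hnN).2))).trans (hO y hy).symm) (a p) hap
  choose M hyM hMO hMc using hex
  refine IsZariskiLocalAtTarget.of_iSup_eq_top (fun y : ↥O.toScheme => O.ι ⁻¹ᵁ M y.1 y.2)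
    (eq_top_iff.mpr fun y _ => TopologicalSpace.Opens.mem_iSup.mpr ⟨y, hyM y.1 y.2⟩) fun y => ?_
  have : MorphismProperty.RespectsIso @UniversallyClosed :=
    MorphismProperty.IsStableUnderBaseChange.respectsIso
  rw [MorphismProperty.arrow_mk_iso_iff @UniversallyClosed (morphismRestrictRestrict f O _)]
  have e : O.ι ''ᵁ (O.ι ⁻¹ᵁ M y.1 y.2) = M y.1 y.2 := by
    rw [Scheme.Hom.image_preimage_eq_opensRange_inf, Scheme.Opens.opensRange_ι]
    exact inf_eq_right.mpr (hMO _ _)
  rw [e]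
  exact hMc _ _

end Groth.Agent.Wt.LSC
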