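import Groth.Agent.Wt.Master
import Groth.Agent.EtStruct.Residue
import Mathlib.RingTheory.LocalRing.Length
import Mathlib.RingTheory.RamificationInertia.Basic
import Mathlib.FieldTheory.PurelyInseparable.Tower
import Mathlib.AlgebraicGeometry.Morphisms.FlatRank

/-!
# The weighting of a flat quasi-finite morphism
-/

universe u

open AlgebraicGeometry CategoryTheory Limits

namespace Groth.Agent.Wt.FlatWt

variable {X Y Z P V : Scheme.{u}}

/-- Length of the closed fibre of a map of local rings. -/
noncomputable def ringLen {A B : CommRingCat.{u}} [IsLocalRing A] (φ : A ⟶ B) : ℕ :=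
  (Module.length B (B ⧸ Ideal.map φ.hom (IsLocalRing.maximalIdeal A))).toNat

/-- Inseparable degree of the residue extension. -/
noncomputable def ins (f : X ⟶ Y) (x : X) : ℕ :=
  letI := (f.residueFieldMap x).hom.toAlgebra
  Field.finInsepDegree (Y.residueField (f x)) (X.residueField x)

/-- The weight of a flat quasi-finite morphism. -/
noncomputable def wt (f : X ⟶ Y) (x : X) : ℤ := (ringLen (f.stalkMap x) : ℤ) * (ins f x : ℤ)

theorem ringLen_comp_of_map_eq {A B C : CommRingCat.{u}} [IsLocalRing A] [IsLocalRing B]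
    (φ : A ⟶ B) (ψ : B ⟶ C)
    (h : (IsLocalRing.maximalIdeal A).map φ.hom = IsLocalRing.maximalIdeal B) :
    ringLen (φ ≫ ψ) = ringLen ψ := by
  rw [ringLen, ringLen, CommRingCat.hom_comp, ← Ideal.map_map, h]

theorem ringLen_comp_of_flat {A B C : CommRingCat.{u}} [IsLocalRing A] [IsLocalRing B]
    [IsLocalRing C] (φ : A ⟶ B) (ψ : B ⟶ C) [IsLocalHom ψ.hom] (hflat : ψ.hom.Flat)
    (h : (IsLocalRing.maximalIdeal B).map ψ.hom = IsLocalRing.maximalIdeal C) :
    ringLen (φ ≫ ψ) = ringLen φ := by
  algebraize [ψ.hom]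
  have : IsLocalHom (algebraMap B C) := ‹_›
  let I := (IsLocalRing.maximalIdeal A).map φ.hom
  have e := (Algebra.TensorProduct.quotIdealMapEquivTensorQuot C I).toLinearEquiv.length_eq
  rw [ringLen, ringLen, CommRingCat.hom_comp, ← Ideal.map_map]
  show (Module.length C (C ⧸ I.map (algebraMap B C))).toNat = _
  rw [e, IsLocalRing.length_baseChange, show (IsLocalRing.maximalIdeal B).map (algebraMap B C) =
    IsLocalRing.maximalIdeal C from h]
  have : Module.length C (C ⧸ IsLocalRing.maximalIdeal C) = 1 := by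
    rw [Module.length_eq_one_iff, isSimpleModule_iff_isCoatom, ← Ideal.isMaximal_def]
    infer_instance
  rw [this, mul_one]

theorem etale_stalk (g : X ⟶ Y) [Etale g] (x : X) :
    (IsLocalRing.maximalIdeal (Y.presheaf.stalk (g x))).map (g.stalkMap x).hom =
        IsLocalRing.maximalIdeal (X.presheaf.stalk x) ∧
      (letI := (g.residueFieldMap x).hom.toAlgebra
       Module.Finite (Y.residueField (g x)) (X.residueField x) ∧
        Algebra.IsSeparable (Y.residueField (g x)) (X.residueField x)) :=
  (EtStruct.stalkMap_formallyUnramified_iff g x).mp (FormallyUnramified.stalkMap g x)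

theorem ins_comp (f : X ⟶ Y) (g : Y ⟶ Z) (x : X)
    (hg : letI := (g.residueFieldMap (f x)).hom.toAlgebra
      Module.Finite (Z.residueField (g (f x))) (Y.residueField (f x))) :
    ins (f ≫ g) x = ins g (f x) * ins f x := by
  letI := (f.residueFieldMap x).hom.toAlgebra
  letI := (g.residueFieldMap (f x)).hom.toAlgebra
  letI : Algebra (Z.residueField (g (f x))) (X.residueField x) :=
    ((f ≫ g).residueFieldMap x).hom.toAlgebra
  have : IsScalarTower (Z.residueField (g (f x))) (Y.residueField (f x)) (X.residueField x) :=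
    IsScalarTower.of_algebraMap_eq' (congrArg CommRingCat.Hom.hom (Scheme.residueFieldMap_comp f g x))
  exact (Field.finInsepDegree_mul_finInsepDegree_of_isAlgebraic (Z.residueField (g (f x)))
    (Y.residueField (f x)) (X.residueField x)).symm

theorem ins_eq_one_of_etale (g : X ⟶ Y) [Etale g] (x : X) : ins g x = 1 := by
  letI := (g.residueFieldMap x).hom.toAlgebra
  have := (etale_stalk g x).2.2
  exact Algebra.IsSeparable.finInsepDegree_eq _ _

/-- The weight is invariant under étale change of source and target. -/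
theorem wt_eq_of_comm (f : X ⟶ Y) [LocallyQuasiFinite f] (q : P ⟶ V) [LocallyQuasiFinite q]
    (a : P ⟶ X) [Etale a] (g : V ⟶ Y) [Etale g] (h : a ≫ f = q ≫ g) (p : P) :
    wt f (a p) = wt q p := by
  have h₁ : wt (a ≫ f) p = wt f (a p) := by
    rw [wt, wt, Scheme.Hom.stalkMap_comp, ins_comp a f p (GeomPts.residueFieldMap_finite f _),
      ins_eq_one_of_etale a, mul_one]
    congr 2
    exact ringLen_comp_of_flat _ _ (Flat.stalkMap a p) (etale_stalk a p).1
  have h₂ : wt (q ≫ g) p = wt q p := by
    rw [wt, wt, Scheme.Hom.stalkMap_comp, ins_comp q g p (etale_stalk g _).2.1,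
      ins_eq_one_of_etale g, one_mul]
    congr 2
    exact ringLen_comp_of_map_eq _ _ (etale_stalk g _).1
  rw [← h₁, h, h₂]

theorem ins_pos (f : X ⟶ Y) [LocallyQuasiFinite f] (x : X) : 0 < ins f x := by
  letI := (f.residueFieldMap x).hom.toAlgebra
  have : Module.Finite (Y.residueField (f x)) (X.residueField x) := GeomPts.residueFieldMap_finite f x
  exact Nat.pos_of_ne_zero (NeZero.ne (Field.finInsepDegree (Y.residueField (f x)) (X.residueField x)))

theorem wt_mul_finSepDegree_SpecMap {R S : CommRingCat.{u}} (φ : R ⟶ S) (hφ : φ.hom.Finite)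
    (q : Spec S) :
    letI := φ.hom.toAlgebra
    wt (Spec.map φ) q * (letI := ((Spec.map φ).residueFieldMap q).hom.toAlgebra
      (Field.finSepDegree ((Spec R).residueField (Spec.map φ q)) ((Spec S).residueField q) : ℤ)) =
      (q.asIdeal.ramificationIdx R : ℤ) * (q.asIdeal.inertiaDeg R : ℤ) := by
  algebraize [φ.hom]
  have hqp : q.asIdeal.IsPrime := PrimeSpectrum.isPrime q
  let p := q.asIdeal.under R
  have : p.IsPrime := inferInstanceAs (q.asIdeal.under R).IsPrime
  let L := Localization.localRingHom p q.asIdeal φ.hom rfl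
  have hloc : IsLocalHom L := Localization.isLocalHom_localRingHom _ _ _ _
  have hlen : ringLen ((Spec.map φ).stalkMap q) = q.asIdeal.ramificationIdx R := by
    rw [show (Spec.map φ).stalkMap q = _ from (Scheme.localRingHom_comp_stalkIso φ q).symm]
    haveI : IsLocalRing ((Spec R).presheaf.stalk (PrimeSpectrum.comap φ.hom q)) :=
      inferInstanceAs (IsLocalRing ((Spec R).presheaf.stalk (Spec.map φ q)))
    refine (ringLen_comp_of_map_eq _ _
      (IsLocalRing.map_maximalIdeal_of_surjective _
        (ConcreteCategory.bijective_of_isIso (Spec.stalkIso R (q.comap φ.hom)).hom).2)).trans ?_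
    haveI : IsLocalHom (Spec.stalkIso S q).inv.hom := ⟨fun a ha =>
      (isUnit_map_iff (Spec.stalkIso S q).symm.commRingCatIsoToRingEquiv a).mp ha⟩
    refine (ringLen_comp_of_flat (C := (Spec S).presheaf.stalk q) _ _
      (RingHom.Flat.of_bijective (ConcreteCategory.bijective_of_isIso _))
      (IsLocalRing.map_maximalIdeal_of_surjective _
        (ConcreteCategory.bijective_of_isIso (Spec.stalkIso S q).inv).2)).trans ?_
    rw [Ideal.ramificationIdx_def]
    have hI : Ideal.map L (IsLocalRing.maximalIdeal (Localization.AtPrime p)) =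
        Ideal.map (algebraMap R (Localization.AtPrime q.asIdeal)) p := by
      rw [← Localization.AtPrime.map_eq_maximalIdeal, Ideal.map_map]
      congr 1
      ext r
      simp [L, Localization.localRingHom_to_map]
      rfl
    exact congrArg (fun I : Ideal (Localization.AtPrime q.asIdeal) =>
      (Module.length (Localization.AtPrime q.asIdeal) (Localization.AtPrime q.asIdeal ⧸ I)).toNat) hI
  have hdeg : (letI := ((Spec.map φ).residueFieldMap q).hom.toAlgebra
      Module.finrank ((Spec R).residueField (Spec.map φ q)) ((Spec S).residueField q)) =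
      q.asIdeal.inertiaDeg R := by
    letI := ((Spec.map φ).residueFieldMap q).hom.toAlgebra
    let := Localization.AtPrime.algebraOfLiesOver p q.asIdeal
    rw [Ideal.inertiaDeg_def]
    refine Algebra.finrank_eq_of_equiv_equiv
      (Scheme.Spec.residueFieldIso R (Spec.map φ q)).commRingCatIsoToRingEquiv
      (Scheme.Spec.residueFieldIso S q).commRingCatIsoToRingEquiv ?_
    have h := EtNbhd.residueFieldMap_SpecMap φ q
    rw [Iso.inv_comp_eq] at h
    ext x
    have h' := congr($(h).hom x)
    simp only [CommRingCat.hom_comp, RingHom.comp_apply] at h'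
    refine Eq.trans ?_ h'.symm
    show algebraMap p.ResidueField q.asIdeal.ResidueField _ = Ideal.ResidueField.map p q.asIdeal φ.hom rfl _
    refine DFunLike.congr_fun (?_ : algebraMap p.ResidueField q.asIdeal.ResidueField =
      Ideal.ResidueField.map p q.asIdeal φ.hom rfl) _
    refine Ideal.ResidueField.ringHom_ext ?_
    ext r
    simp only [RingHom.comp_apply, ← IsScalarTower.algebraMap_apply]
    exact (Ideal.ResidueField.map_algebraMap ..).symm
  letI := ((Spec.map φ).residueFieldMap q).hom.toAlgebra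
  rw [wt, hlen, ins, mul_assoc, ← Nat.cast_mul (α := ℤ), mul_comm (Field.finInsepDegree _ _),
    Field.finSepDegree_mul_finInsepDegree, hdeg]

theorem fibreIntegral_SpecMap {R S : CommRingCat.{u}} (φ : R ⟶ S) (hfin : φ.hom.Finite)
    (hflat : φ.hom.Flat) (p : Spec R) :
    MoreMor.fibreIntegral (Spec.map φ) (wt (Spec.map φ)) p = (φ.hom.finrank p : ℤ) := by
  algebraize [φ.hom]
  have hp : (PrimeSpectrum.asIdeal p).IsPrime := PrimeSpectrum.isPrime p
  let e : {u : Spec S // Spec.map φ u = p} ≃ (PrimeSpectrum.asIdeal p).primesOver S :=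
    { toFun := fun u => ⟨PrimeSpectrum.asIdeal u.1, PrimeSpectrum.isPrime u.1,
        ⟨(congrArg PrimeSpectrum.asIdeal u.2).symm⟩⟩
      invFun := fun q => ⟨(⟨q.1, q.2.1⟩ : PrimeSpectrum S), PrimeSpectrum.ext q.2.2.over.symm⟩
      left_inv := fun _ => rfl
      right_inv := fun _ => rfl }
  have : Fintype ((PrimeSpectrum.asIdeal p).primesOver S) :=
    @Fintype.ofFinite _ (Set.finite_coe_iff.mpr
      (Algebra.QuasiFinite.finite_primesOver (PrimeSpectrum.asIdeal p)))
  have hsum := Ideal.sum_ramification_inertia_eq_finrank_fiber (PrimeSpectrum.asIdeal p) S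
  have hrank : φ.hom.finrank p = Module.finrank (PrimeSpectrum.asIdeal p).ResidueField
      ((PrimeSpectrum.asIdeal p).Fiber S) := by
    rw [← RingHom.algebraMap_toAlgebra φ.hom, RingHom.finrank_algebraMap]
    exact Module.rankAtStalk_eq (M := S) (p : PrimeSpectrum R)
  rw [hrank, ← hsum, Nat.cast_sum]
  unfold MoreMor.fibreIntegral
  rw [← finsum_comp_equiv e.symm, finsum_eq_sum_of_fintype]
  refine Finset.sum_congr rfl fun q _ => ?_
  rw [Nat.cast_mul]
  exact wt_mul_finSepDegree_SpecMap φ hfin (e.symm q).1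

/-- For a finite flat morphism the fibre integral of the weight is the rank. -/
theorem fibreIntegral_eq_finrank {U : Scheme.{u}} (π : U ⟶ V) [IsFinite π] [Flat π] (v : V) :
    MoreMor.fibreIntegral π (wt π) v = (π.finrank v : ℤ) := by
  obtain ⟨R, i, hi, v', rfl⟩ := V.exists_Spec_apply_eq v
  let P := pullback π i
  have : IsAffine P := isAffine_of_isAffineHom (pullback.snd π i)
  obtain ⟨φ, hφ⟩ := Spec.map_surjective (P.isoSpec.inv ≫ pullback.snd π i)
  let a := P.isoSpec.inv ≫ pullback.fst π i
  have hsq : IsPullback a (Spec.map φ) π i :=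
    (IsPullback.of_hasPullback π i).of_iso P.isoSpec (Iso.refl _) (Iso.refl _) (Iso.refl _)
      (by simp [a]) (by simp [hφ]) (by simp) (by simp)
  have : IsFinite (Spec.map φ) := MorphismProperty.of_isPullback hsq ‹_›
  have : Flat (Spec.map φ) := MorphismProperty.of_isPullback hsq ‹_›
  have : Etale a := MorphismProperty.of_isPullback hsq.flip inferInstance
  obtain ⟨yb, hyb⟩ := GeomPts.exists_geomPt v'
  have : Finite {u // π u = GeomPts.pt (yb ≫ i)} := (π.finite_preimage_singleton _).to_subtype
  have : Finite {u // Spec.map φ u = GeomPts.pt yb} :=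
    ((Spec.map φ).finite_preimage_singleton _).to_subtype
  have hπ : MoreMor.fibreIntegral π (wt π) (i v') =
      MoreMor.fibreIntegral (Spec.map φ) (wt (Spec.map φ)) v' := by
    conv_lhs => rw [← hyb, ← GeomPts.pt_comp, ← GeomPts.geomInt_eq_fibreIntegral π (yb ≫ i),
      ← GeomPts.geomInt_baseChange π hsq yb]
    conv_rhs => rw [← hyb, ← GeomPts.geomInt_eq_fibreIntegral (Spec.map φ) yb]
    congr 1
    funext p
    exact wt_eq_of_comm π (Spec.map φ) a i hsq.w p
  rw [hπ, fibreIntegral_SpecMap φ (IsFinite.SpecMap_iff φ |>.mp inferInstance)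
    (Flat.SpecMap_iff.mp inferInstance), ← Scheme.Hom.finrank_SpecMap_eq_finrank
    (IsFinite.SpecMap_iff φ |>.mp inferInstance) (Flat.SpecMap_iff.mp inferInstance),
    Scheme.Hom.finrank_of_isPullback _ _ _ _ hsq v']

theorem isWeighting_wt (f : X ⟶ Y) [LocallyQuasiFinite f] [Flat f] [LocallyOfFinitePresentation f] :
    MoreMor.IsWeighting f (wt f) := by
  intro T g _ U hU
  let π := U.ι ≫ pullback.snd f g
  have : LocallyQuasiFinite π := inferInstanceAs (LocallyQuasiFinite (U.ι ≫ pullback.snd f g))
  have h : (fun u => wt f (pullback.fst f g (U.ι u))) = wt π := funext fun u =>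
    wt_eq_of_comm f π (U.ι ≫ pullback.fst f g) g
      (by simp [π, pullback.condition]) u
  rw [h, show MoreMor.fibreIntegral (U.ι ≫ pullback.snd f g) (wt π) = fun v => (π.finrank v : ℤ) from
    funext (fibreIntegral_eq_finrank π)]
  exact (Scheme.Hom.isLocallyConstant_finrank π).comp _

theorem wt_pos_of_isFinite {U : Scheme.{u}} (π : U ⟶ V) [IsFinite π] (z : U) : 0 < wt π z := by
  obtain ⟨R, i, hi, v', hv⟩ := V.exists_Spec_apply_eq (π z)
  let P := pullback π i
  have : IsAffine P := isAffine_of_isAffineHom (pullback.snd π i)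
  obtain ⟨φ, hφ⟩ := Spec.map_surjective (P.isoSpec.inv ≫ pullback.snd π i)
  let a := P.isoSpec.inv ≫ pullback.fst π i
  have hsq : IsPullback a (Spec.map φ) π i :=
    (IsPullback.of_hasPullback π i).of_iso P.isoSpec (Iso.refl _) (Iso.refl _) (Iso.refl _)
      (by simp [a]) (by simp [hφ]) (by simp) (by simp)
  have : IsFinite (Spec.map φ) := MorphismProperty.of_isPullback hsq ‹_›
  have hfin : φ.hom.Finite := IsFinite.SpecMap_iff φ |>.mp inferInstance
  have : Etale a := MorphismProperty.of_isPullback hsq.flip inferInstance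
  obtain ⟨p₀, hp₀, -⟩ := Scheme.Pullback.exists_preimage_pullback (f := π) (g := i) z v' hv.symm
  have hp : a (P.isoSpec.hom p₀) = z := by
    rw [← Scheme.Hom.comp_apply, Iso.hom_inv_id_assoc, hp₀]
  rw [← hp, wt_eq_of_comm π (Spec.map φ) a i hsq.w]
  have h := wt_mul_finSepDegree_SpecMap φ hfin (P.isoSpec.hom p₀)
  algebraize [φ.hom]
  refine pos_of_mul_pos_left (h.symm ▸ mul_pos ?_ ?_) (Nat.cast_nonneg _)
  · exact_mod_cast @Ideal.ramificationIdx_pos _ _ _ R _ _ (PrimeSpectrum.isPrime _) _
  · exact_mod_cast @Ideal.inertiaDeg_pos _ _ _ R _ _ (PrimeSpectrum.isPrime _) _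

theorem wt_pos (f : X ⟶ Y) [LocallyQuasiFinite f] [LocallyOfFiniteType f] (x : X) : 0 < wt f x := by
  obtain ⟨T, g, u, hn, W, z, hW, hz⟩ := EtNbhd.exists_finPart f x (f.quasiFiniteAt x)
  have := hn.etale
  have := hW.finite
  rw [← hz]
  exact (wt_pos_of_isFinite (W.ι ≫ pullback.snd f g) (⟨z, hW.mem⟩ : W.toScheme)).trans_eq
    (wt_eq_of_comm f (W.ι ≫ pullback.snd f g) (W.ι ≫ pullback.fst f g) g
      (by simp [pullback.condition]) _).symm

end Groth.Agent.Wt.FlatWt
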