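import Groth.Agent.Wt.LSC
import Groth.Agent.Wt.FlatWt
import Mathlib.Topology.Sheaves.SheafCondition.UniqueGluing

/-!
# The fibre integral of the flat weight is the degree of the fibre
-/

universe u

open AlgebraicGeometry CategoryTheory Limits
open scoped Topology

namespace Groth.Agent.Wt.Degree

open GeomPts EtNbhd Split Parts Master Local LSC FlatWt

variable {X Y T P V : Scheme.{u}}

/-- Restriction to a clopen open is surjective on sections. -/
theorem surjective_res_of_isClosed (U : P.Opens) (hU : IsClosed (U : Set P)) :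
    Function.Surjective (P.presheaf.map (homOfLE le_top : U ⟶ (⊤ : P.Opens)).op) := by
  intro s
  let U' : P.Opens := ⟨(U : Set P)ᶜ, hU.isOpen_compl⟩
  let W : Bool → P.Opens := fun b => bif b then U else U'
  let sf : ∀ b, Γ(P, W b) := fun b => match b with
    | true => s
    | false => 0
  have hsub : ∀ V : P.Opens, V ≤ U ⊓ U' → Subsingleton Γ(P, V) := fun V hV => by
    have : V = ⊥ := le_bot_iff.mp fun x hx => ((hV hx).2 (hV hx).1).elim
    subst this
    infer_instance
  obtain ⟨gl, hgl, -⟩ := P.sheaf.existsUnique_gluing' W ⊤ (fun _ => homOfLE le_top)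
    (fun x _ => by
      refine TopologicalSpace.Opens.mem_iSup.mpr ?_
      by_cases h : x ∈ U
      · exact ⟨true, h⟩
      · exact ⟨false, h⟩) sf (by
      rintro (_ | _) (_ | _)
      · rfl
      · exact (hsub (U' ⊓ U) (fun x hx => ⟨hx.2, hx.1⟩)).elim _ _
      · exact (hsub (U ⊓ U') le_rfl).elim _ _
      · rfl)
  exact ⟨gl, hgl true⟩

/-- The rank of the global functions of a finite scheme over a field. -/
theorem rank_eq_finrank {K : Type u} [Field K] (π : P ⟶ Spec (CommRingCat.of K)) [IsFinite π]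
    (v : Spec (CommRingCat.of K)) :
    (letI := ((Scheme.ΓSpecIso (CommRingCat.of K)).inv ≫ π.appTop).hom.toAlgebra
     Module.rank K (Γ(P, ⊤) : Type u)) = (π.finrank v : Cardinal.{u}) := by
  have : IsAffine P := isAffine_of_isAffineHom π
  let φ := (Scheme.ΓSpecIso (CommRingCat.of K)).inv ≫ π.appTop
  have hπ : P.isoSpec.inv ≫ π = Spec.map φ := by
    rw [Spec.map_comp, Iso.inv_comp_eq, Scheme.isoSpec_hom_naturality_assoc]
    simp [Scheme.isoSpec_Spec_hom, ← Spec.map_comp]
  have : IsFinite (Spec.map φ) := hπ ▸ inferInstance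
  have hfin : φ.hom.Finite := IsFinite.SpecMap_iff φ |>.mp inferInstance
  algebraize [φ.hom]
  have : MorphismProperty.RespectsIso @Flat :=
    MorphismProperty.IsStableUnderBaseChange.respectsIso
  have : Flat π := by
    rw [← MorphismProperty.cancel_left_of_respectsIso @Flat P.isoSpec.inv, hπ, Flat.SpecMap_iff]
    exact inferInstanceAs (Module.Flat K Γ(P, ⊤))
  rw [← Scheme.Hom.finrank_comp_left_of_isIso P.isoSpec.inv π, hπ,
    Scheme.Hom.finrank_SpecMap_eq_finrank hfin (inferInstanceAs (Module.Flat K Γ(P, ⊤))),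
    ← RingHom.algebraMap_toAlgebra φ.hom, RingHom.finrank_algebraMap,
    Module.rankAtStalk_eq_finrank_of_free]
  exact (Module.finrank_eq_rank K Γ(P, ⊤)).symm

/-- The geometric fibre over a point with finite fibre is finite, of rank the fibre integral. -/
theorem exists_finite_geomFibre (f : X ⟶ Y) [Flat f] [LocallyOfFinitePresentation f]
    [LocallyQuasiFinite f] [IsSeparated f] (y : Y) (hy : (f ⁻¹' {y}).Finite) {K : Type u} [Field K]
    [IsAlgClosed K] (yb : Spec (CommRingCat.of K) ⟶ Y) (hyb : pt yb = y) :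
    IsFinite (pullback.snd f yb) ∧
      ∀ v, ((pullback.snd f yb).finrank v : ℤ) = MoreMor.fibreIntegral f (wt f) y := by
  obtain ⟨T, g, u, hg, hu, J, W, hJ, hJW, hmem⟩ :=
    Groth.Agent.Wt.Pure.exists_pureParts f y (f ⁻¹' {y}) hy (fun _ h => h) (fun x _ => f.quasiFiniteAt x)
  let q := pullback.snd f g
  have hdisj := eventually_disjoint q hJ fun z hz => (hJW z hz).1
  obtain ⟨N₀, -, hN₀o, huN₀⟩ := mem_nhds_iff.mp hdisj
  let N : T.Opens := ⟨N₀, hN₀o⟩
  let U₀ : (pullback f g).Opens := (⨆ z ∈ J, W z) ⊓ q ⁻¹ᵁ N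
  let qN := q ∣_ N
  let π := ((q ⁻¹ᵁ N).ι ⁻¹ᵁ U₀).ι ≫ qN
  have hsqN := (isPullback_morphismRestrict q N).flip
  have : UniversallyClosed π := by
    refine universallyClosed_of_finite_parts π J hJ
      (fun z => ((q ⁻¹ᵁ N).ι ⁻¹ᵁ U₀).ι ⁻¹ᵁ ((q ⁻¹ᵁ N).ι ⁻¹ᵁ W z)) (fun z hz => ?_) ?_
    · have h := isFinite_preimage N.ι hsqN (W z) (hJW z hz).1.finite
      let W₁ := (q ⁻¹ᵁ N).ι ⁻¹ᵁ W z
      let U₁ := (q ⁻¹ᵁ N).ι ⁻¹ᵁ U₀
      have hle : W₁ ≤ U₁ := fun x hx => ⟨TopologicalSpace.Opens.mem_iSup.mpr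
        ⟨z, TopologicalSpace.Opens.mem_iSup.mpr ⟨hz, hx⟩⟩, x.2⟩
      have e : Set.range W₁.ι = Set.range ((U₁.ι ⁻¹ᵁ W₁).ι ≫ U₁.ι) := by
        rw [Scheme.Opens.range_ι]
        ext x
        constructor
        · exact fun hx => ⟨⟨⟨x, hle hx⟩, hx⟩, rfl⟩
        · rintro ⟨x, rfl⟩
          exact x.2
      have : (U₁.ι ⁻¹ᵁ W₁).ι ≫ π =
          (IsOpenImmersion.isoOfRangeEq W₁.ι ((U₁.ι ⁻¹ᵁ W₁).ι ≫ U₁.ι) e).inv ≫ W₁.ι ≫ qN := by
        rw [IsOpenImmersion.isoOfRangeEq_inv_fac_assoc, Category.assoc]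
      rw [this]
      infer_instance
    · intro p
      obtain ⟨z, h⟩ := TopologicalSpace.Opens.mem_iSup.mp p.2.1
      obtain ⟨hz, hzW⟩ := TopologicalSpace.Opens.mem_iSup.mp h
      exact ⟨z, hz, hzW⟩
  have : IsProper π := ⟨⟩
  have : IsFinite π := .of_isProper_of_locallyQuasiFinite π
  have hcov : ∀ p, q p = u → p ∈ U₀ := fun p hp => by
    have hp' : pullback.fst f g p ∈ f ⁻¹' {y} := by
      show f _ = y
      rw [← Scheme.Hom.comp_apply, pullback.condition, Scheme.Hom.comp_apply]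
      exact (congrArg g hp).trans hu
    exact ⟨TopologicalSpace.Opens.mem_iSup.mpr ⟨p, TopologicalSpace.Opens.mem_iSup.mpr
      ⟨hmem p hp hp', (hJW p (hmem p hp hp')).1.mem⟩⟩, show q p ∈ N from hp.symm ▸ huN₀⟩
  let u' : N.toScheme := ⟨u, huN₀⟩
  let ι₀ := ((q ⁻¹ᵁ N).ι ⁻¹ᵁ U₀).ι ≫ (q ⁻¹ᵁ N).ι
  have hι₀ : π ≫ N.ι = ι₀ ≫ q := by simp [π, ι₀, qN]
  -- the fibre integral is the rank
  have hI : MoreMor.fibreIntegral f (wt f) y = (π.finrank u' : ℤ) := by
    obtain ⟨zb, hzb⟩ := exists_geomPt u'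
    have hyz : pt (zb ≫ N.ι ≫ g) = y := by
      rw [pt_comp, hzb, Scheme.Hom.comp_apply]
      exact hu
    have : Finite {x : X // f x = pt (zb ≫ N.ι ≫ g)} := by
      rw [hyz]
      exact hy.to_subtype
    have : Finite {x // π x = pt zb} := (π.finite_preimage_singleton _).to_subtype
    have hb := geomInt_baseChange f (IsPullback.of_hasPullback f g) (zb ≫ N.ι) (wt f)
    rw [Category.assoc] at hb
    rw [← fibreIntegral_eq_finrank π u', ← hzb, ← geomInt_eq_fibreIntegral π zb, ← hyz,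
      ← geomInt_eq_fibreIntegral f (zb ≫ N.ι ≫ g),
      ← hb]
    unfold geomInt
    let Φ : GeomFib π zb → GeomFib q (zb ≫ N.ι) := fun x =>
      ⟨x.1 ≫ ι₀, by rw [Category.assoc, ← hι₀, reassoc_of% x.2]⟩
    have hr : ∀ x : GeomFib q (zb ≫ N.ι), Set.range x.1 ⊆ Set.range ι₀ := fun x => by
      rintro _ ⟨s, rfl⟩
      rw [eq_pt]
      have hqx : q (pt x.1) = u := by
        rw [apply_pt q (zb ≫ N.ι) x, pt_comp, hzb]; rfl
      have hm := hcov _ hqx
      exact ⟨⟨⟨pt x.1, hm.2⟩, hm⟩, rfl⟩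
    have hΦ : Function.Bijective Φ := ⟨fun a b h => Subtype.ext ((cancel_mono ι₀).mp
        (congrArg (fun x : GeomFib q (zb ≫ N.ι) => x.1) h)),
      fun x => ⟨⟨IsOpenImmersion.lift ι₀ x.1 (hr x), by
        rw [← cancel_mono N.ι, Category.assoc, hι₀, IsOpenImmersion.lift_fac_assoc]
        exact x.2⟩, Subtype.ext (IsOpenImmersion.lift_fac _ _ _)⟩⟩
    rw [← finsum_comp_equiv (Equiv.ofBijective Φ hΦ)]
    refine finsum_congr fun x => ?_
    have key := wt_eq_of_comm f π (ι₀ ≫ pullback.fst f g) (N.ι ≫ g)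
      (by rw [Category.assoc, pullback.condition, reassoc_of% hι₀]) (pt x.1)
    exact key
  -- lift the point and compare
  have := locallyQuasiFinite_of_etale g
  obtain ⟨c, hc⟩ := surjective_pt g yb ⟨u, hu.trans hyb.symm⟩
  have hc' : pt c.1 = u := congrArg Subtype.val hc
  have hr : Set.range c.1 ⊆ Set.range N.ι := by
    rintro _ ⟨s, rfl⟩
    rw [eq_pt, hc']
    exact ⟨u', rfl⟩
  let c' := IsOpenImmersion.lift N.ι c.1 hr
  have hc'' : c' ≫ N.ι ≫ g = yb := by rw [IsOpenImmersion.lift_fac_assoc]; exact c.2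
  let m : pullback π c' ⟶ pullback f yb := pullback.lift
    (pullback.fst π c' ≫ ι₀ ≫ pullback.fst f g) (pullback.snd π c') (by
      rw [Category.assoc, Category.assoc, pullback.condition, ← reassoc_of% hι₀,
        pullback.condition_assoc, hc''])
  let σ : pullback f yb ⟶ pullback f g := pullback.lift (pullback.fst f yb)
    (pullback.snd f yb ≫ c.1) (by rw [Category.assoc, c.2, pullback.condition])
  have hσ : ∀ p, σ p ∈ U₀ := fun p => hcov _ (by
    rw [← Scheme.Hom.comp_apply, pullback.lift_snd, Scheme.Hom.comp_apply, eq_pt]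
    exact hc')
  have hσr : Set.range σ ⊆ Set.range ι₀ := by
    rintro _ ⟨p, rfl⟩
    exact ⟨⟨⟨σ p, (hσ p).2⟩, hσ p⟩, rfl⟩
  let k : pullback f yb ⟶ pullback π c' :=
    pullback.lift (IsOpenImmersion.lift ι₀ σ hσr) (pullback.snd f yb) (by
      rw [← cancel_mono N.ι, Category.assoc, hι₀, IsOpenImmersion.lift_fac_assoc, Category.assoc,
        IsOpenImmersion.lift_fac, pullback.lift_snd])
  have hkm : k ≫ m = 𝟙 _ := by
    refine pullback.hom_ext ?_ ?_
    · rw [Category.assoc, pullback.lift_fst, pullback.lift_fst_assoc, IsOpenImmersion.lift_fac_assoc,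
        pullback.lift_fst, Category.id_comp]
    · rw [Category.assoc, pullback.lift_snd, pullback.lift_snd, Category.id_comp]
  have hmk : m ≫ k = 𝟙 _ := by
    refine pullback.hom_ext ?_ ?_
    · rw [Category.assoc, pullback.lift_fst, ← cancel_mono ι₀, Category.assoc,
        IsOpenImmersion.lift_fac, Category.id_comp]
      refine pullback.hom_ext ?_ ?_
      · rw [Category.assoc, Category.assoc, pullback.lift_fst, pullback.lift_fst]
      · rw [Category.assoc, Category.assoc, pullback.lift_snd, ← hι₀, pullback.lift_snd_assoc,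
          pullback.condition_assoc, IsOpenImmersion.lift_fac]
    · rw [Category.assoc, pullback.lift_snd, pullback.lift_snd, Category.id_comp]
  let e : pullback f yb ≅ pullback π c' := ⟨k, m, hkm, hmk⟩
  have hesnd : e.hom ≫ pullback.snd π c' = pullback.snd f yb := pullback.lift_snd _ _ _
  have : Flat π := inferInstanceAs (Flat (((q ⁻¹ᵁ N).ι ⁻¹ᵁ U₀).ι ≫ q ∣_ N))
  have : IsIso e.hom := ⟨⟨m, hkm, hmk⟩⟩
  have : IsFinite e.hom := inferInstance
  refine ⟨hesnd ▸ (inferInstance : IsFinite (e.hom ≫ pullback.snd π c')), fun v => ?_⟩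
  rw [hI, ← hesnd, Scheme.Hom.finrank_comp_left_of_isIso, Scheme.Hom.finrank_pullback_snd, eq_pt]
  congr 2
  exact N.ι.isOpenEmbedding.injective (by rw [← pt_comp, IsOpenImmersion.lift_fac]; exact hc')

/-- A bound on the ranks of the fibres bounds the number of points and the fibre integral. -/
theorem finite_and_le (f : X ⟶ Y) [Flat f] [LocallyOfFinitePresentation f]
    [LocallyQuasiFinite f] [IsSeparated f] (n : ℕ)
    (hn : ∀ (K : Type u) [Field K] (g : Spec (CommRingCat.of K) ⟶ Y),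
      (letI := ((Scheme.ΓSpecIso (CommRingCat.of K)).inv ≫ (pullback.snd f g).appTop).hom.toAlgebra
       Module.rank K (Γ(pullback f g, ⊤) : Type u)) ≤ (n : Cardinal.{u})) (y : Y) :
    (f ⁻¹' {y}).Finite ∧ MoreMor.fibreIntegral f (wt f) y ≤ n := by
  obtain ⟨yb, hyb⟩ := exists_geomPt y
  let K := AlgebraicClosure (Y.residueField y)
  let v : Spec (CommRingCat.of K) := IsLocalRing.closedPoint K
  have key : ∀ A : Finset X, (∀ a ∈ A, f a = y) → A.card ≤ n := by
    intro A hA
    have hdisc := f.isDiscrete_preimage_singleton y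
    rw [isDiscrete_iff_discreteTopology, discreteTopology_iff_isOpen_singleton] at hdisc
    have hO : ∀ a ∈ A, ∃ O : X.Opens, a ∈ O ∧ ∀ x ∈ O, f x = y → x = a := fun a ha => by
      obtain ⟨O, hO, hOa⟩ := isOpen_induced_iff.mp (hdisc ⟨a, hA a ha⟩)
      have ha' : a ∈ O :=
        show (⟨a, hA a ha⟩ : f ⁻¹' {y}) ∈ Subtype.val ⁻¹' O by rw [hOa]; rfl
      refine ⟨⟨O, hO⟩, ha', fun x hx hxy => ?_⟩
      have : (⟨x, hxy⟩ : f ⁻¹' {y}) ∈ Subtype.val ⁻¹' O := hx
      rw [hOa] at this
      exact congrArg Subtype.val this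
    choose O hmem hO using hO
    let U₀ : X.Opens := ⨆ a : A, O a.1 a.2
    let f₀ := U₀.ι ≫ f
    have hfib : (f₀ ⁻¹' {y}) ⊆ U₀.ι ⁻¹' (A : Set X) := fun x hx => by
      obtain ⟨a, ha⟩ := TopologicalSpace.Opens.mem_iSup.mp x.2
      show U₀.ι x ∈ (A : Set X)
      have : U₀.ι x = a.1 := hO a.1 a.2 _ ha hx
      rw [this]
      exact a.2
    have hfin₀ : (f₀ ⁻¹' {y}).Finite :=
      (A.finite_toSet.preimage U₀.ι.isOpenEmbedding.injective.injOn).subset hfib
    obtain ⟨hfinite, hrank⟩ := exists_finite_geomFibre f₀ y hfin₀ yb hyb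
    -- the fibre over `U₀` is open and closed in the fibre
    let j : pullback f₀ yb ⟶ pullback f yb :=
      pullback.map f₀ yb f yb U₀.ι (𝟙 _) (𝟙 _) (Category.comp_id _) (by simp)
    have hj : j ≫ pullback.snd f yb = pullback.snd f₀ yb :=
      (pullback.lift_snd _ _ _).trans (Category.comp_id _)
    have : IsFinite (j ≫ pullback.snd f yb) := hj ▸ hfinite
    have : IsFinite j := IsFinite.of_comp j (pullback.snd f yb)
    have hsurj : Function.Surjective j.appTop := by
      have hcl : IsClosed (j.opensRange : Set ↥(pullback f yb)) := j.isClosedMap.isClosed_range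
      let V := j.opensRange
      have h1 : Function.Surjective V.ι.appTop := by
        rw [Scheme.Opens.ι_appTop]
        exact surjective_res_of_isClosed (V.ι ''ᵁ ⊤) (by rwa [Scheme.Opens.ι_image_top])
      have h2 : j.appTop = V.ι.appTop ≫ j.isoOpensRange.hom.appTop := by
        rw [← Scheme.Hom.comp_appTop, Scheme.Hom.isoOpensRange_hom_ι]
      rw [h2]
      have : IsIso j.isoOpensRange.hom.appTop := inferInstanceAs (IsIso (Scheme.Γ.map j.isoOpensRange.hom.op))
      intro b
      obtain ⟨b', rfl⟩ := (ConcreteCategory.bijective_of_isIso j.isoOpensRange.hom.appTop).2 b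
      obtain ⟨c, rfl⟩ := h1 b'
      exact ⟨c, rfl⟩
    letI := ((Scheme.ΓSpecIso (CommRingCat.of K)).inv ≫ (pullback.snd f yb).appTop).hom.toAlgebra
    letI := ((Scheme.ΓSpecIso (CommRingCat.of K)).inv ≫ (pullback.snd f₀ yb).appTop).hom.toAlgebra
    let jₗ : Γ(pullback f yb, ⊤) →ₐ[K] Γ(pullback f₀ yb, ⊤) :=
      { j.appTop.hom with
        commutes' := fun k => by
          show (((Scheme.ΓSpecIso (CommRingCat.of K)).inv ≫ (pullback.snd f yb).appTop) ≫
            j.appTop).hom k = ((Scheme.ΓSpecIso (CommRingCat.of K)).inv ≫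
              (pullback.snd f₀ yb).appTop).hom k
          rw [Category.assoc, ← Scheme.Hom.comp_appTop, hj] }
    have h3 : ((pullback.snd f₀ yb).finrank v : Cardinal.{u}) ≤ n := by
      rw [← rank_eq_finrank (pullback.snd f₀ yb) v]
      exact (LinearMap.rank_le_of_surjective jₗ.toLinearMap hsurj).trans (hn K yb)
    have h4 : (A.card : ℤ) ≤ MoreMor.fibreIntegral f₀ (wt f₀) y := by
      have : Finite {x // f₀ x = y} := hfin₀.to_subtype
      cases nonempty_fintype {x // f₀ x = y}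
      unfold MoreMor.fibreIntegral
      rw [finsum_eq_sum_of_fintype]
      refine le_trans ?_ (Finset.card_nsmul_le_sum Finset.univ _ (1 : ℤ) fun x _ => ?_)
      · rw [nsmul_one, Finset.card_univ, Nat.cast_le, ← Fintype.card_coe]
        let ι : A → {x // f₀ x = y} := fun a =>
          ⟨⟨a.1, TopologicalSpace.Opens.mem_iSup.mpr ⟨a, hmem a.1 a.2⟩⟩, hA a.1 a.2⟩
        refine Fintype.card_le_of_injective ι fun a b h => Subtype.ext ?_
        exact congrArg (fun x : {x // f₀ x = y} => U₀.ι x.1) h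
      · letI := (f₀.residueFieldMap x.1).hom.toAlgebra
        have : Module.Finite (Y.residueField (f₀ x.1)) (U₀.toScheme.residueField x.1) :=
          residueFieldMap_finite f₀ x.1
        exact one_le_mul_of_one_le_of_one_le (wt_pos f₀ x.1)
          (by exact_mod_cast Nat.one_le_iff_ne_zero.mpr (NeZero.ne
            (Field.finSepDegree (Y.residueField (f₀ x.1)) (U₀.toScheme.residueField x.1))))
    rw [← hrank v] at h4
    exact (Nat.cast_le (α := ℤ)).mp h4 |>.trans (by exact_mod_cast h3)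
  have hfin : (f ⁻¹' {y}).Finite := by
    by_contra h
    obtain ⟨A, hA, hcard⟩ := Set.Infinite.exists_subset_card_eq h (n + 1)
    have := key A fun a ha => hA ha
    omega
  refine ⟨hfin, ?_⟩
  obtain ⟨hfinite, hrank⟩ := exists_finite_geomFibre f y hfin yb hyb
  have h3 : ((pullback.snd f yb).finrank v : Cardinal.{u}) ≤ n := by
    rw [← rank_eq_finrank (pullback.snd f yb) v]
    exact hn K yb
  rw [← hrank v]
  exact_mod_cast h3

/-- The fibre integral is the degree for base changes that are finite locally free. -/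
theorem finrank_snd_eq (f : X ⟶ Y) [Flat f] [LocallyOfFinitePresentation f]
    [LocallyQuasiFinite f] [IsSeparated f] (hfin : ∀ y : Y, (f ⁻¹' {y}).Finite) (g : T ⟶ Y)
    [IsFinite (pullback.snd f g)] (t : T) :
    ((pullback.snd f g).finrank t : ℤ) = MoreMor.fibreIntegral f (wt f) (g t) := by
  obtain ⟨tb, htb⟩ := exists_geomPt t
  obtain ⟨-, hrank⟩ := exists_finite_geomFibre f (g t) (hfin _) (tb ≫ g) (by rw [pt_comp, htb])
  rw [← hrank (IsLocalRing.closedPoint _)]
  congr 1
  have hsq : IsPullback (pullback.fst (pullback.snd f g) tb ≫ pullback.fst f g)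
      (pullback.snd (pullback.snd f g) tb) f (tb ≫ g) :=
    (IsPullback.of_hasPullback (pullback.snd f g) tb).paste_horiz (IsPullback.of_hasPullback f g)
  rw [← hsq.isoPullback_inv_snd,
    Scheme.Hom.finrank_comp_left_of_isIso]
  exact (congrArg _ htb.symm).trans (Scheme.Hom.finrank_pullback_snd (pullback.snd f g) tb _).symm

end Groth.Agent.Wt.Degree
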