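import Groth.Agent.Wt.QAThick
import Groth.Agent.Props.GenPull
import Groth.Agent.Props.AmpleBase

/-!
# Ampleness and surjective closed immersions

`isAmple_iff i`: for a surjective closed immersion `i : Z ⟶ X`, an invertible module is ample on `X`
iff its pullback to `Z` is ample (no finiteness or nilpotence assumption).
-/

set_option autoImplicit false
set_option linter.style.haveILetI false

universe u

open CategoryTheory Limits AlgebraicGeometry TopologicalSpace Opposite

noncomputable section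

namespace Groth.Agent.Wt.AmpleThick

open Groth.Agent.QCoh Groth.Agent.Props.GenLocus Groth.Agent.Props.GenTensor Groth.Agent.Props.GenProd
  Groth.Agent.Props.GenExt Groth.Agent.Props.GenPull

variable {Z X : Scheme.{u}}

lemma rres_rres' {U V W : X.Opens} (h : V ≤ U) (h' : W ≤ V) (a : Γ(X, U)) :
    rres h' (rres h a) = rres (h'.trans h) a := by
  rw [rres_rres]

/-- A locus `i⁻¹U` of a section downstairs, with `U` affine and inside a frame, is the preimage of the
locus of a section upstairs. -/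
theorem exists_genLocus_eq (i : Z ⟶ X) [IsClosedImmersion i] [Surjective i] [CompactSpace X]
    [QuasiSeparatedSpace X] {L : X.Modules} (hL : PicF.IsInvertible L) {K : ℕ} (hK : 0 < K)
    (U : X.Opens) (hU : IsAffineOpen U) (e₀ : Γ(L, U)) (he₀ : IsGen L U e₀)
    (s : Coh.structureModule Z ⟶ CohB1.tensorPow ((Scheme.Modules.pullback i).obj L) K)
    (hs : CohB1.genLocus _ s = i ⁻¹ᵁ U) :
    ∃ (n : ℕ) (S : Coh.structureModule X ⟶ CohB1.tensorPow L (n + 1)),
      CohB1.genLocus _ S = U := by
  classical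
  have key : ∀ x : X, ∃ (W : X.Opens) (e : Γ(L, W)), x ∈ W ∧ IsAffineOpen W ∧ IsGen L W e := by
    intro x
    obtain ⟨U, e, hxU, he⟩ := exists_isGen hL x
    obtain ⟨W, hW, hxW, hWU⟩ := exists_isAffineOpen_mem_and_subset (U := U) (x := x) hxU
    exact ⟨W, res L hWU e, hxW, hW, he.restrict hWU⟩
  choose W₀ f₀ hxW₀ hW₀ hf₀ using key
  obtain ⟨F, hF⟩ := isCompact_univ.elim_finite_subcover (fun x : X => (W₀ x : Set X))
    (fun x => (W₀ x).2) fun x _ => Set.mem_iUnion.mpr ⟨x, hxW₀ x⟩
  let W : F → X.Opens := fun j => W₀ j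
  let e : ∀ j : F, Γ(L, W j) := fun j => f₀ j
  have he : ∀ j : F, IsGen L (W j) (e j) := fun j => hf₀ j
  have hcov : ⊤ ≤ iSup W := by
    intro x hx
    obtain ⟨y, hy, hxy⟩ := Set.mem_iUnion₂.mp (hF (Set.mem_univ x))
    exact Opens.mem_iSup.mpr ⟨⟨y, hy⟩, hxy⟩
  obtain ⟨τ, hτ⟩ := i.app_surjective U hU (co K (sec s ⊤) le_top (isGen_pb i he₀))
  choose t ht using fun j : F => i.app_surjective (W j) (hW₀ j.1)
    (co K (sec s ⊤) le_top (isGen_pb i (he j)))
  have htU : ∀ j, X.basicOpen (t j) = U ⊓ W j := fun j => QAThick.preimage_inj i (by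
    rw [Scheme.preimage_basicOpen, ht j, ← genLocus_inf_eq (isGen_pb i (he j)) s, hs]
    rfl)
  have hDW : ∀ j, X.basicOpen (t j) ≤ W j := fun j => X.basicOpen_le _
  have hDU : ∀ j, X.basicOpen (t j) ≤ U := fun j => (htU j).le.trans inf_le_left
  choose v hvu hv using fun j : F =>
    exists_unit_smul ((he j).restrict (hDW j)) (he₀.restrict (hDU j))
  let σ : ∀ j : F, Γ(X, X.basicOpen (t j)) := fun j => v j ^ K * rres (hDU j) τ
  have hnil : ∀ j, IsNilpotent (σ j - rres (hDW j) (t j)) := fun j => by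
    refine QAThick.isNilpotent_of_app_eq_zero i ((hW₀ j.1).basicOpen (t j)) _ ?_
    rw [map_sub, sub_eq_zero, map_mul, map_pow, app_rres, app_rres, hτ, ht j, co_res, co_res]
    refine (co_of_eq_smul (L := (Scheme.Modules.pullback i).obj L) _ _
      ((isGen_pb i (he j)).restrict _) ((isGen_pb i he₀).restrict _) ?_).symm
    have h1 := congrArg (LFFrame.unitSec i L (X.basicOpen (t j))) (hv j)
    rw [LFFrame.unitSec_smul, LFFrame.unitSec_res, LFFrame.unitSec_res] at h1
    exact h1
  have hext : ∀ j : F, ∃ n, ∀ N, n ≤ N → ∃ T : Γ(X, W j),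
      rres (hDW j) (t j * T) = σ j ^ N := fun j => by
    have := (hW₀ j.1).isLocalization_basicOpen (t j)
    exact SectionExtend.exists_extend_pow (A := Γ(X, W j)) (B := Γ(X, X.basicOpen (t j)))
      (t j) (σ j) (hnil j)
  choose n hn using hext
  let N := Finset.univ.sup n + 1
  choose T hT using fun j : F => hn j N (by
    have := Finset.le_sup (f := n) (Finset.mem_univ j); omega)
  let g : ∀ j : F, Γ(X, W j) := fun j => t j * T j
  have hg : ∀ j, X.basicOpen (g j) = U ⊓ W j := fun j => by
    refine le_antisymm ?_ ?_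
    · rw [show g j = t j * T j from rfl, Scheme.basicOpen_mul, ← htU j]
      exact inf_le_left
    · rw [← htU j]
      have hunit : IsUnit (σ j) := by
        have h1 : IsUnit (rres (hDW j) (t j)) := RingedSpace.isUnit_res_basicOpen _ _
        have := IsNilpotent.isUnit_add_left_of_commute (hnil j) h1 (Commute.all _ _)
        simpa using this
      have h2 := X.basicOpen_of_isUnit (hunit.pow N)
      rw [← hT j] at h2
      exact inf_eq_left.mp ((Scheme.basicOpen_res X (g j) (homOfLE (hDW j)).op).symm.trans h2)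
  have hpair : ∀ p : F × F, ∃ P, ∀ Q, P ≤ Q → ∀ u : Γ(X, W p.1 ⊓ W p.2),
      res L (inf_le_right : W p.1 ⊓ W p.2 ≤ W p.2) (e p.2) =
          u • res L (inf_le_left : W p.1 ⊓ W p.2 ≤ W p.1) (e p.1) →
      rres (inf_le_left : W p.1 ⊓ W p.2 ≤ W p.1) (g p.1) ^ (2 * Q + 1) =
        (u ^ (K * N) * rres (inf_le_right : W p.1 ⊓ W p.2 ≤ W p.2) (g p.2)) ^ (2 * Q + 1) := by
    rintro ⟨j, k⟩
    obtain ⟨u, -, hu⟩ := exists_unit_smul ((he j).restrict (inf_le_left : W j ⊓ W k ≤ W j))
      ((he k).restrict (inf_le_right : W j ⊓ W k ≤ W k))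
    have hcpt : IsCompact ((W j ⊓ W k : X.Opens) : Set X) :=
      QuasiSeparatedSpace.inter_isCompact _ _ (W j).2 (hW₀ j.1).isCompact (W k).2 (hW₀ k.1).isCompact
    set a := rres (inf_le_left : W j ⊓ W k ≤ W j) (g j) with ha
    set b := u ^ (K * N) * rres (inf_le_right : W j ⊓ W k ≤ W k) (g k) with hb
    have hzero : ∀ (O : X.Opens) (hO : O ≤ W j ⊓ W k), O ≤ U → rres hO (a - b) = 0 := by
      intro O hO hOU
      have hOj : O ≤ X.basicOpen (t j) := by rw [htU j]; exact le_inf hOU (hO.trans inf_le_left)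
      have hOk : O ≤ X.basicOpen (t k) := by rw [htU k]; exact le_inf hOU (hO.trans inf_le_right)
      have hgj : rres (hO.trans inf_le_left) (g j) = rres hOj (σ j) ^ N := by
        rw [← map_pow, ← hT j, rres_rres']
      have hgk : rres (hO.trans inf_le_right) (g k) = rres hOk (σ k) ^ N := by
        rw [← map_pow, ← hT k, rres_rres']
      have hjk : rres hOj (v j) = rres hOk (v k) * rres hO u := by
        refine (he j).injective (hO.trans inf_le_left) ?_
        have e1 := congrArg (res L hOj) (hv j)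
        have e2 := congrArg (res L hOk) (hv k)
        have e3 := congrArg (res L hO) hu
        simp only [res_smul, res_res] at e1 e2 e3
        rw [← e1, e2, e3, smul_smul]
      have hR : rres hO b = rres hO u ^ (K * N) * rres (hO.trans inf_le_right) (g k) := by
        rw [hb, map_mul (rres hO).hom, map_pow, rres_rres']
      rw [map_sub, sub_eq_zero, hR, ha, rres_rres', hgj, hgk]
      simp only [σ, map_mul, map_pow, rres_rres', hjk]
      ring
    have hax : X.basicOpen a ≤ U := by
      rw [ha, show X.basicOpen (rres (inf_le_left : W j ⊓ W k ≤ W j) (g j)) =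
        (W j ⊓ W k) ⊓ X.basicOpen (g j) from Scheme.basicOpen_res X (g j) _, hg j]
      exact inf_le_right.trans inf_le_left
    have hby : X.basicOpen b ≤ U := by
      rw [hb, Scheme.basicOpen_mul,
        show X.basicOpen (rres (inf_le_right : W j ⊓ W k ≤ W k) (g k)) =
        (W j ⊓ W k) ⊓ X.basicOpen (g k) from Scheme.basicOpen_res X (g k) _, hg k]
      exact inf_le_right.trans (inf_le_right.trans inf_le_left)
    obtain ⟨P, hP⟩ := exists_pow_mul_eq_zero_of_res_basicOpen_eq_zero_of_isCompact X hcpt (a - b) a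
      (hzero _ (X.basicOpen_le a) hax)
    obtain ⟨P', hP'⟩ := exists_pow_mul_eq_zero_of_res_basicOpen_eq_zero_of_isCompact X hcpt (a - b) b
      (hzero _ (X.basicOpen_le b) hby)
    refine ⟨P + P', fun Q hQ u' hu' => ?_⟩
    obtain rfl : u' = u := ((he j).restrict (inf_le_left : W j ⊓ W k ≤ W j)).injective le_rfl
      (by rw [res_self]; exact hu'.symm.trans hu)
    refine SectionExtend.pow_eq_pow a b Q ?_ ?_
    · obtain ⟨l, rfl⟩ := Nat.exists_eq_add_of_le (show P ≤ Q by omega)
      rw [add_comm, pow_add, mul_assoc, hP, mul_zero]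
    · obtain ⟨l, rfl⟩ := Nat.exists_eq_add_of_le (show P' ≤ Q by omega)
      rw [add_comm, pow_add, mul_assoc, hP', mul_zero]
  choose P hP using hpair
  let Q := Finset.univ.sup P
  obtain ⟨S, hS⟩ := exists_hom_of_cover W hcov e he (K * N * (2 * Q + 1))
    (fun j => g j ^ (2 * Q + 1)) fun j k u hu => by
      rw [map_pow, map_pow, pow_mul, ← mul_pow]
      exact hP (j, k) Q (Finset.le_sup (f := P) (Finset.mem_univ (j, k))) u hu
  have hgen : CohB1.genLocus _ S = U := by
    ext x
    obtain ⟨j, hxj⟩ := Opens.mem_iSup.mp (hcov (trivial : x ∈ (⊤ : X.Opens)))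
    have h1 : CohB1.genLocus _ S ⊓ W j = U ⊓ W j := by
      rw [(hS j).2, X.basicOpen_pow (g j) (by omega), hg j]
    have := congrArg (fun O : X.Opens => x ∈ O) h1
    have hxj' : x ∈ W j := hxj
    simpa [hxj'] using this
  obtain ⟨m, S', hS'⟩ := exists_succ (Nat.mul_pos (Nat.mul_pos hK (by omega)) (by omega)) S
  exact ⟨m, S', hS'.trans hgen⟩

/-- Pullback of an ample module along a closed immersion is ample. -/
theorem isAmple_pullback (i : Z ⟶ X) [IsClosedImmersion i] {L : X.Modules}
    (h : CohB1.IsAmple L) : CohB1.IsAmple ((Scheme.Modules.pullback i).obj L) := by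
  have : CompactSpace X := h.2.1
  have : CompactSpace Z := QuasiCompact.compactSpace_of_compactSpace i
  refine Props.AmpleBase.isAmple_of_isBasis (PicCl.isInvertible_pullback i h.1) ?_
  exact isBasis_pullback i i.isClosedEmbedding.isInducing h.1 (isBasis_of_isAmple h)

/-- Ampleness is detected on a surjective closed subscheme. -/
theorem isAmple_of_pullback (i : Z ⟶ X) [IsClosedImmersion i] [Surjective i] {L : X.Modules}
    (hL : PicF.IsInvertible L) (h : CohB1.IsAmple ((Scheme.Modules.pullback i).obj L)) :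
    CohB1.IsAmple L := by
  have : CompactSpace Z := h.2.1
  have : CompactSpace X := i.surjective.compactSpace i.continuous
  have : Z.IsSeparated := Props.AmpleBase.isSeparated_of_isAmple h
  have := Chevalley.isSeparated_target i
  refine ⟨hL, inferInstance, fun x => ?_⟩
  obtain ⟨z, rfl⟩ := i.surjective x
  obtain ⟨W, e, hzW, he⟩ := exists_isGen hL (i z)
  obtain ⟨n, s, hzs, hle, haff⟩ :=
    Props.AmpleBase.exists_affine_genLocus_le h (O := i ⁻¹ᵁ W) (x := z) hzW
  obtain ⟨U, hU⟩ : ∃ U : X.Opens, i ⁻¹ᵁ U = CohB1.genLocus _ s := by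
    obtain ⟨A, hA, hAe⟩ := i.isClosedEmbedding.isInducing.isOpen_iff.mp (CohB1.genLocus _ s).2
    exact ⟨⟨A, hA⟩, Opens.ext hAe⟩
  have hUW : U ≤ W := by
    intro y hy
    obtain ⟨w, rfl⟩ := i.surjective y
    have : w ∈ i ⁻¹ᵁ U := hy
    rw [hU] at this
    exact hle this
  have hUaff : IsAffineOpen U := by
    have : IsAffine ((i ⁻¹ᵁ U : Z.Opens) : Scheme.{u}) := by rw [hU]; exact haff
    have : IsClosedImmersion (i ∣_ U) := IsZariskiLocalAtTarget.restrict ‹IsClosedImmersion i› _
    have : Surjective (i ∣_ U) := IsZariskiLocalAtTarget.restrict ‹Surjective i› _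
    exact Chevalley.isAffine (i ∣_ U)
  obtain ⟨m, S, hS⟩ := exists_genLocus_eq i hL (Nat.succ_pos n) U hUaff _ (he.restrict hUW) s hU.symm
  refine ⟨m, S, ?_, hS ▸ hUaff⟩
  rw [hS]
  have : z ∈ i ⁻¹ᵁ U := by rw [hU]; exact hzs
  exact this

end Groth.Agent.Wt.AmpleThick
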