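import Groth.Agent.FlatMisc.GenericFlat
import Mathlib.AlgebraicGeometry.Fiber
import Mathlib.AlgebraicGeometry.Morphisms.UniversallyOpen
import Mathlib.AlgebraicGeometry.Geometrically.Reduced
import Mathlib.RingTheory.Nilpotent.Lemmas

/-!
# Generic fibres: reduction to flat finitely presented families over affine integral bases

`exists_model`: for `f : X ⟶ Y` of finite type, `Y` irreducible, a base change of `f` along a
preimmersion `j : S ⟶ Y` with open range, `S` affine integral, is flat and finitely presented.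
The fibres do not change.
-/

universe u

open CategoryTheory CategoryTheory.Limits AlgebraicGeometry TopologicalSpace

namespace Groth.Agent.Wt.GenFib

theorem isIso_residueFieldMap {S Y : Scheme.{u}} (j : S ⟶ Y) [IsPreimmersion j] (s : S) :
    IsIso (j.residueFieldMap s) := by
  rw [ConcreteCategory.isIso_iff_bijective]
  refine ⟨(j.residueFieldMap s).hom.injective, fun z => ?_⟩
  obtain ⟨z, rfl⟩ := S.residue_surjective s z
  obtain ⟨w, rfl⟩ := j.stalkMap_surjective s z
  refine ⟨Y.residue (j s) w, ?_⟩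
  rw [← CommRingCat.comp_apply, Scheme.residue_residueFieldMap, CommRingCat.comp_apply]

/-- Fibres do not change along preimmersions. -/
theorem exists_fiber_iso {X Y X' S : Scheme.{u}} {f : X ⟶ Y} {u : X' ⟶ S} {e : X' ⟶ X} {j : S ⟶ Y}
    [IsPreimmersion j] (hc : IsPullback e u f j) (s : S) :
    ∃ (φ : u.fiber s ≅ f.fiber (j s)) (ψ : Spec (S.residueField s) ≅ Spec (Y.residueField (j s))),
      φ.hom ≫ f.fiberToSpecResidueField (j s) = u.fiberToSpecResidueField s ≫ ψ.hom := by
  have h := isPullback_fiberToSpecResidueField_of_isPullback hc s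
  haveI := isIso_residueFieldMap j s
  haveI : IsIso (Spec.map (j.residueFieldMap s)) := inferInstance
  haveI := h.isIso_fst_of_isIso
  exact ⟨@asIso _ _ _ _ _ h.isIso_fst_of_isIso, asIso (Spec.map (j.residueFieldMap s)), h.w⟩

/-- Reduction of questions on fibres near the generic point. -/
theorem exists_model {X Y : Scheme.{u}} (f : X ⟶ Y) [IrreducibleSpace Y] [LocallyOfFiniteType f]
    [QuasiCompact f] :
    ∃ (X' S : Scheme.{u}) (u : X' ⟶ S) (e : X' ⟶ X) (j : S ⟶ Y),
      IsPullback e u f j ∧ IsAffine S ∧ IsIntegral S ∧ IsPreimmersion j ∧ IsOpen (Set.range j) ∧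
      (∀ η : S, IsGenericPoint η Set.univ → j η = genericPoint Y) ∧
      Flat u ∧ LocallyOfFinitePresentation u ∧ QuasiCompact u ∧ CompactSpace X' := by
  obtain ⟨_, ⟨(V : Y.Opens), (hV : IsAffineOpen V), rfl⟩, hηV, -⟩ :=
    Y.isBasis_affineOpens.exists_subset_of_mem_open (Set.mem_univ (genericPoint Y)) isOpen_univ
  let R := Γ(Y, V)
  let j₀ : Spec (CommRingCat.of (R ⧸ nilradical R)) ⟶ Y :=
    Spec.map (CommRingCat.ofHom (Ideal.Quotient.mk (nilradical R))) ≫ hV.fromSpec
  haveI : IsClosedImmersion (Spec.map (CommRingCat.ofHom (Ideal.Quotient.mk (nilradical R)))) :=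
    IsClosedImmersion.spec_of_surjective _ Ideal.Quotient.mk_surjective
  haveI : IsPreimmersion j₀ := inferInstanceAs (IsPreimmersion (_ ≫ _))
  haveI : Surjective (Spec.map (CommRingCat.ofHom (Ideal.Quotient.mk (nilradical R)))) := by
    refine ⟨fun x => ?_⟩
    have : x ∈ Set.range (PrimeSpectrum.comap (Ideal.Quotient.mk (nilradical R))) := by
      rw [range_comap_of_surjective _ _ Ideal.Quotient.mk_surjective, Ideal.mk_ker]
      haveI : x.asIdeal.IsPrime := x.2
      exact nilradical_le_prime x.asIdeal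
    exact this
  have hrange : Set.range j₀ = (V : Set Y) := by
    simp only [j₀, Scheme.Hom.comp_base, TopCat.coe_comp, Set.range_comp]
    rw [Surjective.surj (f := Spec.map _).range_eq, Set.image_univ, hV.range_fromSpec]
  let S₀ := Spec (CommRingCat.of (R ⧸ nilradical R))
  haveI : _root_.IsReduced (R ⧸ nilradical R) :=
    (Ideal.isRadical_iff_quotient_reduced _).1 (Ideal.radical_isRadical _)
  haveI : IsReduced S₀ := inferInstanceAs (IsReduced (Spec _))
  haveI : IrreducibleSpace S₀ := by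
    obtain ⟨s, hs⟩ : genericPoint Y ∈ Set.range j₀ := hrange.symm ▸ hηV
    have hirr : IsPreirreducible (Set.univ : Set S₀) := by
      rw [← Set.preimage_univ (f := j₀)]
      exact (PreirreducibleSpace.isPreirreducible_univ).preimage
        ⟨j₀.isEmbedding, hrange ▸ V.2⟩
    haveI : PreirreducibleSpace S₀ := ⟨hirr⟩
    exact ⟨⟨s⟩⟩
  haveI : IsIntegral S₀ := isIntegral_of_irreducibleSpace_of_isReduced _
  let g₀ : pullback f j₀ ⟶ S₀ := pullback.snd f j₀
  haveI : LocallyOfFiniteType g₀ :=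
    MorphismProperty.of_isPullback (IsPullback.of_hasPullback f j₀) ‹LocallyOfFiniteType f›
  haveI : QuasiCompact g₀ :=
    MorphismProperty.of_isPullback (IsPullback.of_hasPullback f j₀) ‹QuasiCompact f›
  obtain ⟨W, -, hW, hfl, hfp⟩ := FlatMisc.GenericFlat.exists_open g₀ ⊤ ⟨genericPoint S₀, trivial⟩
  obtain ⟨w, hw⟩ := hW
  obtain ⟨_, ⟨(U : S₀.Opens), (hU : IsAffineOpen U), rfl⟩, hwU, hUW⟩ :=
    S₀.isBasis_affineOpens.exists_subset_of_mem_open hw W.2
  replace hUW : U ≤ W := hUW
  haveI : Nonempty (U : Scheme.{u}) := ⟨⟨w, hwU⟩⟩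
  have hsq : IsPullback ((g₀ ⁻¹ᵁ U).ι ≫ pullback.fst f j₀) (g₀ ∣_ U) f (U.ι ≫ j₀) :=
    (isPullback_morphismRestrict g₀ U).flip.paste_horiz (IsPullback.of_hasPullback f j₀)
  have hres : ∀ (P : MorphismProperty Scheme.{u}) [P.IsStableUnderBaseChange],
      P (g₀ ∣_ W) → P (g₀ ∣_ U) := by
    intro P _ hP
    refine MorphismProperty.of_isPullback (P := P)
      (f := S₀.homOfLE hUW) ?_ hP (f' := (pullback f j₀).homOfLE (g₀.preimage_mono hUW))
    refine IsPullback.of_right ?_ ?_ (isPullback_morphismRestrict g₀ W).flip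
    · rw [Scheme.homOfLE_ι, Scheme.homOfLE_ι]; exact (isPullback_morphismRestrict g₀ U).flip
    · rw [← cancel_mono W.ι, Category.assoc, morphismRestrict_ι, Scheme.homOfLE_ι_assoc, Category.assoc, Scheme.homOfLE_ι, morphismRestrict_ι]
  haveI : QuasiCompact (g₀ ∣_ U) :=
    MorphismProperty.of_isPullback (isPullback_morphismRestrict g₀ U).flip ‹QuasiCompact g₀›
  haveI : IsAffine (U : Scheme.{u}) := hU
  haveI : IsPreimmersion (U.ι ≫ j₀) := inferInstance
  refine ⟨_, _, g₀ ∣_ U, _, U.ι ≫ j₀, hsq, inferInstance, isIntegral_of_isOpenImmersion U.ι,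
    inferInstance, ?_, fun η hη => ?_, hres @Flat hfl, hres @LocallyOfFinitePresentation hfp,
    inferInstance, QuasiCompact.compactSpace_of_compactSpace (g₀ ∣_ U)⟩
  · simp only [Scheme.Hom.comp_base, TopCat.coe_comp, Set.range_comp]
    obtain ⟨O, hO, hOU⟩ := j₀.isEmbedding.isInducing.isOpen_iff.1 U.2
    rw [show Set.range U.ι = (U : Set S₀) from U.range_ι, show (U : Set S₀) = ⇑j₀ ⁻¹' O from hOU.symm, Set.image_preimage_eq_inter_range, hrange]
    exact hO.inter V.2
  · have hop : IsOpen (Set.range (U.ι ≫ j₀)) := by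
      simp only [Scheme.Hom.comp_base, TopCat.coe_comp, Set.range_comp]
      obtain ⟨O, hO, hOU⟩ := j₀.isEmbedding.isInducing.isOpen_iff.1 U.2
      rw [show Set.range U.ι = (U : Set S₀) from U.range_ι, show (U : Set S₀) = ⇑j₀ ⁻¹' O from hOU.symm, Set.image_preimage_eq_inter_range, hrange]
      exact hO.inter V.2
    obtain ⟨t, ht⟩ : genericPoint Y ∈ Set.range (U.ι ≫ j₀) :=
      (genericPoint_spec Y).mem_open_set_iff hop |>.2 ⟨_, trivial, ⟨η, rfl⟩⟩
    have h2 : η ⤳ t := hη.specializes trivial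
    exact ((genericPoint_specializes _).antisymm (ht ▸ h2.map (U.ι ≫ j₀).continuous)).eq.symm

/-- Reduction to flat finitely presented families over `Spec` of a domain. -/
theorem exists_open_of_model {X Y : Scheme.{u}} (f : X ⟶ Y) [IrreducibleSpace Y]
    [LocallyOfFiniteType f] [QuasiCompact f]
    (P : ∀ ⦃F T : Scheme.{u}⦄, (F ⟶ T) → Prop)
    (hP : ∀ ⦃F F' T T' : Scheme.{u}⦄ (g : F ⟶ T) (g' : F' ⟶ T') (φ : F' ≅ F) (ψ : T' ≅ T),
      φ.hom ≫ g = g' ≫ ψ.hom → P g' → P g)
    (h : ∀ (A : CommRingCat.{u}) [IsDomain A] {X' : Scheme.{u}} (u : X' ⟶ Spec A) [Flat u]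
      [LocallyOfFinitePresentation u] [QuasiCompact u] [CompactSpace X'],
      (∃ (φ : u.fiber (genericPoint (Spec A)) ≅ f.fiber (genericPoint Y))
        (ψ : Spec ((Spec A).residueField (genericPoint (Spec A))) ≅
          Spec (Y.residueField (genericPoint Y))),
        φ.hom ≫ f.fiberToSpecResidueField _ = u.fiberToSpecResidueField _ ≫ ψ.hom) →
      ∃ U : (Spec A).Opens, (U : Set (Spec A)).Nonempty ∧ ∀ s ∈ U, P (u.fiberToSpecResidueField s)) :
    ∃ V : Y.Opens, (V : Set Y).Nonempty ∧ ∀ y ∈ V, P (f.fiberToSpecResidueField y) := by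
  obtain ⟨X', S, u, e, j₁, hc₁, _, _, _, hop, hη, _, _, _, _⟩ := exists_model f
  let A := Γ(S, ⊤)
  haveI : IsDomain A := inferInstance
  let j : Spec A ⟶ Y := S.isoSpec.inv ≫ j₁
  let u' : X' ⟶ Spec A := u ≫ S.isoSpec.hom
  have hc : IsPullback e u' f j :=
    hc₁.of_iso (Iso.refl _) (Iso.refl _) S.isoSpec (Iso.refl _) (by simp) (by simp [u']) (by simp)
      (by simp [j])
  haveI : IsPreimmersion j := inferInstance
  have hrange : Set.range j = Set.range j₁ :=
    (Scheme.homeoOfIso S.isoSpec.symm).surjective.range_comp j₁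
  have hgen : j (genericPoint (Spec A)) = genericPoint Y := by
    refine hη (S.isoSpec.inv (genericPoint (Spec A))) ?_
    have := (genericPoint_spec (Spec A)).image S.isoSpec.inv.continuous
    rwa [Set.image_univ, (show Function.Surjective ⇑S.isoSpec.inv from (Scheme.homeoOfIso S.isoSpec.symm).surjective).range_eq,
      closure_univ] at this
  haveI : Flat u' := inferInstance
  haveI : LocallyOfFinitePresentation u' := inferInstance
  haveI : QuasiCompact u' := inferInstance
  have hg := exists_fiber_iso hc (genericPoint (Spec A))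
  rw [hgen] at hg
  obtain ⟨U, hUne, hU⟩ := h A u' hg
  obtain ⟨O, hO, hOU⟩ := j.isEmbedding.isInducing.isOpen_iff.1 U.2
  refine ⟨⟨O ∩ Set.range j, hO.inter (hrange ▸ hop)⟩, ?_, ?_⟩
  · obtain ⟨s, hs⟩ := hUne
    exact ⟨j s, (hOU.symm ▸ hs : s ∈ ⇑j ⁻¹' O), s, rfl⟩
  · rintro _ ⟨hy, s, rfl⟩
    obtain ⟨φ, ψ, hφ⟩ := exists_fiber_iso hc s
    exact hP _ _ φ ψ hφ (hU s (show s ∈ (U : Set (Spec A)) from
      (show ⇑j ⁻¹' O = (U : Set (Spec A)) from hOU) ▸ (hy : s ∈ ⇑j ⁻¹' O)))

end Groth.Agent.Wt.GenFib
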