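import Groth.Agent.Wt.GeomPts
import Groth.Prelude.Def_Hens2

/-!
# Finite parts of quasi-finite morphisms after elementary étale localization
-/

universe u

open AlgebraicGeometry CategoryTheory Limits TensorProduct

namespace Groth.Agent.Wt.EtNbhd

set_option backward.isDefEq.respectTransparency.types false in
set_option backward.isDefEq.respectTransparency false in
theorem residueFieldMap_SpecMap {R R' : CommRingCat.{u}} (φ : R ⟶ R') (x : Spec R') :
    (Scheme.Spec.residueFieldIso R (Spec.map φ x)).inv ≫ (Spec.map φ).residueFieldMap x ≫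
      (Scheme.Spec.residueFieldIso R' x).hom =
    CommRingCat.ofHom (Ideal.ResidueField.map (Spec.map φ x).asIdeal x.asIdeal φ.hom rfl) := by
  have : Epi (CommRingCat.ofHom (algebraMap R (Spec.map φ x).asIdeal.ResidueField)) := by
    constructor
    intro Z g h e
    ext1
    exact Ideal.ResidueField.ringHom_ext (by ext r; exact congr($(e).hom r))
  rw [← cancel_epi (CommRingCat.ofHom (algebraMap R (Spec.map φ x).asIdeal.ResidueField)),
    Scheme.Spec.algebraMap_residueFieldIso_inv_assoc, Scheme.residue_residueFieldMap_assoc,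
    Scheme.Spec.residue_residueFieldIso_hom]
  ext r
  simp
  rfl

variable {X Y Z U S : Scheme.{u}}

/-- Two field valued points at `u` with equal image agree if the residue field map at `u` is surjective. -/
theorem eq_of_comp_eq (g : U ⟶ S) (u : U) (hu : Function.Surjective (g.residueFieldMap u))
    {K : Type u} [Field K] {a b : Spec (CommRingCat.of K) ⟶ U} (ha : GeomPts.pt a = u)
    (hb : GeomPts.pt b = u) (h : a ≫ g = b ≫ g) : a = b := by
  have : ∀ (c : Spec (CommRingCat.of K) ⟶ U), GeomPts.pt c = u →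
      ∃ φ : U.residueField u ⟶ CommRingCat.of K, c = Spec.map φ ≫ U.fromSpecResidueField u := by
    rintro c rfl
    exact ⟨_, ((U.SpecToEquivOfField K).symm_apply_apply c).symm⟩
  obtain ⟨φ, rfl⟩ := this a ha
  obtain ⟨ψ, rfl⟩ := this b hb
  rw [Category.assoc, Category.assoc, ← g.SpecMap_residueFieldMap_fromSpecResidueField,
    ← Spec.map_comp_assoc, ← Spec.map_comp_assoc, cancel_mono, Spec.map_inj] at h
  have : φ = ψ := by
    ext x
    obtain ⟨y, rfl⟩ := hu x
    exact congr($(h).hom y)
  rw [this]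

theorem residueFieldMap_bijective_comp (f : X ⟶ Y) (g : Y ⟶ Z) (x : X)
    (hf : Function.Bijective (f.residueFieldMap x))
    (hg : Function.Bijective (g.residueFieldMap (f x))) :
    Function.Bijective ((f ≫ g).residueFieldMap x) := by
  rw [Scheme.residueFieldMap_comp]
  exact hf.comp hg

/-- Over a point with trivial residue extension there is exactly one point above any given point,
with trivial residue extension. -/
theorem existsUnique_lift (f : X ⟶ S) (g : U ⟶ S) (x : X) (u : U) (h : f x = g u)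
    (hu : Function.Bijective (g.residueFieldMap u)) :
    ∃ z : ↥(pullback f g), (pullback.fst f g z = x ∧ pullback.snd f g z = u ∧
      Function.Bijective ((pullback.fst f g).residueFieldMap z)) ∧
      ∀ z', pullback.fst f g z' = x → pullback.snd f g z' = u → z' = z := by
  have : IsIso (g.residueFieldMap u) :=
    (ConcreteCategory.isIso_iff_bijective (g.residueFieldMap u)).mpr hu
  let b : Spec (X.residueField x) ⟶ U :=
    Spec.map (inv (g.residueFieldMap u) ≫ (S.residueFieldCongr h.symm).hom ≫ f.residueFieldMap x) ≫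
      U.fromSpecResidueField u
  have hb : X.fromSpecResidueField x ≫ f = b ≫ g := by
    simp only [b, Category.assoc, ← Scheme.Hom.SpecMap_residueFieldMap_fromSpecResidueField,
      ← Spec.map_comp_assoc, IsIso.hom_inv_id_assoc]
    rw [Spec.map_comp, Category.assoc, Scheme.residueFieldCongr_fromSpecResidueField]
  let σ := pullback.lift (X.fromSpecResidueField x) b hb
  let K := X.residueField x
  let σ' : Spec (CommRingCat.of K) ⟶ pullback f g := σ
  refine ⟨GeomPts.pt σ', ⟨?_, ?_, ?_⟩, fun z' h₁ h₂ => ?_⟩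
  · have h₁ : σ' ≫ pullback.fst f g = X.fromSpecResidueField x := pullback.lift_fst _ _ _
    exact ((GeomPts.pt_comp _ σ').symm.trans (congrArg GeomPts.pt h₁)).trans
      (X.fromSpecResidueField_apply x _)
  · have h₁ : σ' ≫ pullback.snd f g = b := pullback.lift_snd _ _ _
    exact ((GeomPts.pt_comp _ σ').symm.trans (congrArg GeomPts.pt h₁)).trans
      (U.fromSpecResidueField_apply u _)
  · have e : σ' ≫ pullback.fst f g = Spec.map (𝟙 K) ≫ X.fromSpecResidueField x := by
      rw [Spec.map_id, Category.id_comp]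
      exact pullback.lift_fst _ _ _
    obtain ⟨ψ, hψ⟩ : ∃ ψ : (pullback f g).residueField (GeomPts.pt σ') ⟶ CommRingCat.of K,
        σ' = Spec.map ψ ≫ (pullback f g).fromSpecResidueField _ :=
      ⟨_, (((pullback f g).SpecToEquivOfField K).symm_apply_apply σ').symm⟩
    rw [hψ, Category.assoc, ← Scheme.Hom.SpecMap_residueFieldMap_fromSpecResidueField,
      ← Spec.map_comp_assoc] at e
    have e' := congrArg (X.SpecToEquivOfField K) e
    have h' : ∀ (v : X) (φ : X.residueField v ⟶ CommRingCat.of K),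
        X.SpecToEquivOfField K (Spec.map φ ≫ X.fromSpecResidueField v) = ⟨v, φ⟩ :=
      fun v φ => (X.SpecToEquivOfField K).apply_symm_apply ⟨v, φ⟩
    rw [h', h'] at e'
    obtain ⟨ev, e'⟩ := Scheme.SpecToEquivOfField_eq_iff.mp e'
    have hbij : Function.Bijective ((pullback.fst f g).residueFieldMap (GeomPts.pt σ') ≫ ψ) := by
      dsimp only at e'
      rw [e', Category.comp_id]
      exact ConcreteCategory.bijective_of_isIso _
    have hψi : Function.Injective ψ.hom := RingHom.injective ψ.hom
    replace hbij : Function.Bijective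
        (ψ.hom ∘ ((pullback.fst f g).residueFieldMap (GeomPts.pt σ')).hom) := hbij
    exact ⟨(RingHom.injective _), Function.Surjective.of_comp_left hbij.2 hψi⟩
  · obtain ⟨y, hy⟩ := GeomPts.exists_geomPt z'
    obtain ⟨φ, hφ⟩ : ∃ φ : X.residueField x ⟶ _,
        y ≫ pullback.fst f g = Spec.map φ ≫ X.fromSpecResidueField x := by
      have gen : ∀ {L : Type u} [Field L] (c : Spec (CommRingCat.of L) ⟶ X), GeomPts.pt c = x →
          ∃ φ : X.residueField x ⟶ CommRingCat.of L,
            c = Spec.map φ ≫ X.fromSpecResidueField x := by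
        rintro L _ c rfl
        exact ⟨_, ((X.SpecToEquivOfField L).symm_apply_apply c).symm⟩
      exact gen _ (by rw [GeomPts.pt_comp, hy, h₁])
    have hys : y ≫ pullback.snd f g = Spec.map φ ≫ b := by
      refine eq_of_comp_eq g u hu.2 ?_ ?_ ?_
      · rw [GeomPts.pt_comp, hy, h₂]
      · exact U.fromSpecResidueField_apply u _
      · rw [Category.assoc, ← pullback.condition, reassoc_of% hφ, Category.assoc, hb]
    have : y = Spec.map φ ≫ σ := pullback.hom_ext
      (by rw [hφ, Category.assoc, pullback.lift_fst])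
      (by rw [hys, Category.assoc, pullback.lift_snd])
    rw [← hy, this]
    exact congrArg σ (Subsingleton.elim (α := Spec (CommRingCat.of K)) _ _)

/-- An open of a base change which is finite over the base and contains exactly one point `z`
over a chosen point. -/
structure IsFinPart {P : Scheme.{u}} (q : P ⟶ U) (u : U) (W : P.Opens) (z : P) : Prop where
  mem : z ∈ W
  finite : IsFinite (W.ι ≫ q)
  map_eq : q z = u
  unique : ∀ w, w ∈ W → q w = u → w = z

set_option backward.defeqAttrib.useBackward true in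
set_option backward.isDefEq.respectTransparency.types false in
set_option backward.isDefEq.respectTransparency false in
theorem exists_finPart (f : X ⟶ S) [LocallyOfFiniteType f] (x : X) (hx : f.QuasiFiniteAt x) :
    ∃ (U : Scheme.{u}) (g : U ⟶ S) (u : U), Hens2.IsEtaleNbhd g u (f x) ∧
      ∃ (W : (pullback f g).Opens) (z : ↥(pullback f g)),
        IsFinPart (pullback.snd f g) u W z ∧ pullback.fst f g z = x := by
  obtain ⟨_, ⟨U, hU, rfl⟩, hxU, -⟩ := S.isBasis_affineOpens.exists_subset_of_mem_open
    (Set.mem_univ (f x)) isOpen_univ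
  obtain ⟨_, ⟨V, hV, rfl⟩, hxV, hUV : V ≤ f ⁻¹ᵁ U⟩ :=
    X.isBasis_affineOpens.exists_subset_of_mem_open hxU (f ⁻¹ᵁ U).2
  have : (f.appLE U V hUV).hom.FiniteType := f.finiteType_appLE hU hV hUV
  algebraize [(f.appLE U V hUV).hom]
  have : (hV.primeIdealOf ⟨x, hxV⟩).asIdeal.LiesOver (hU.primeIdealOf ⟨f x, hxU⟩).asIdeal := by
    suffices hU.primeIdealOf ⟨f x, hxU⟩ = Spec.map (f.appLE U V hUV) (hV.primeIdealOf ⟨x, hxV⟩) from
      ⟨congr(($this).1)⟩
    apply hU.isoSpec.inv.homeomorph.injective
    apply Subtype.ext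
    simp only [IsAffineOpen.primeIdealOf, Scheme.Hom.homeomorph_apply,
      ← Scheme.Hom.comp_apply, ← Scheme.Opens.ι_apply, IsAffineOpen.isoSpec_hom]
    simp
  have : Algebra.QuasiFiniteAt Γ(S, U) (hV.primeIdealOf ⟨x, hxV⟩).asIdeal :=
    hx.quasiFiniteAt hV hU hUV hxV
  obtain ⟨R, _, _, _, P, hPp, hPo, e, _, P', hP'p, hP'o, hP', heP', hres, _, huniq⟩ :=
    Algebra.exists_etale_isIdempotentElem_forall_liesOver_eq
    (hU.primeIdealOf ⟨f x, hxU⟩).asIdeal (hV.primeIdealOf ⟨x, hxV⟩).asIdeal
  let φ : Γ(S, U) ⟶ .of R := CommRingCat.ofHom <| algebraMap Γ(S, U) R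
  have hφ : φ.hom.Etale := RingHom.etale_algebraMap.mpr ‹_›
  have : Etale (Spec.map φ) := HasRingHomProperty.Spec_iff.mpr hφ
  let p : Spec (.of R) := ⟨P, hPp⟩
  have hp : Spec.map φ p = hU.primeIdealOf ⟨f x, hxU⟩ := PrimeSpectrum.ext (Ideal.over_def _ _).symm
  have hg : (Spec.map φ ≫ hU.fromSpec) p = f x := by
    rw [Scheme.Hom.comp_apply, hp]
    exact hU.fromSpec_primeIdealOf ⟨f x, hxU⟩
  have hbij : Function.Bijective ((Spec.map φ ≫ hU.fromSpec).residueFieldMap p) := by
    refine residueFieldMap_bijective_comp _ _ _ ?_ (ConcreteCategory.bijective_of_isIso _)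
    have key : Function.Bijective (Ideal.ResidueField.map (Spec.map φ p).asIdeal p.asIdeal φ.hom
        rfl) := by
      have : ∀ (q : Spec Γ(S, U)) (hq : q = hU.primeIdealOf ⟨f x, hxU⟩)
          (h' : q.asIdeal = p.asIdeal.comap φ.hom),
          Function.Bijective (Ideal.ResidueField.map q.asIdeal p.asIdeal φ.hom h') := by
        rintro q rfl h'
        exact hres
      exact this _ hp _
    have e := residueFieldMap_SpecMap φ p
    have e2 : (Spec.map φ).residueFieldMap p =
        (Scheme.Spec.residueFieldIso _ (Spec.map φ p)).hom ≫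
          CommRingCat.ofHom (Ideal.ResidueField.map (Spec.map φ p).asIdeal p.asIdeal φ.hom rfl) ≫
            (Scheme.Spec.residueFieldIso (CommRingCat.of R) p).inv := by
      rw [← e]
      simp
    rw [e2]
    exact ((ConcreteCategory.bijective_of_isIso
      (Scheme.Spec.residueFieldIso (CommRingCat.of R) p).inv).comp key).comp
        (ConcreteCategory.bijective_of_isIso
          (Scheme.Spec.residueFieldIso _ (Spec.map φ p)).hom)
  let e₁ : Spec (.of (R ⊗ Γ(X, V))) ≅ pullback (Spec.map (f.appLE U V hUV)) (Spec.map φ) :=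
    (pullbackSpecIso _ _ _).symm ≪≫ pullbackSymmetry _ _
  have he₁ : e₁.hom ≫ pullback.fst _ _ =
      Spec.map (CommRingCat.ofHom Algebra.TensorProduct.includeRight.toRingHom) := by
    dsimp [e₁, RingHom.algebraMap_toAlgebra]
    rw [Category.assoc, pullbackSymmetry_hom_comp_fst]
    exact pullbackSpecIso_inv_snd ..
  have he₂ : e₁.hom ≫ pullback.snd _ _ = Spec.map (CommRingCat.ofHom (algebraMap R (R ⊗[Γ(S, U)] Γ(X, V)))) := by
    dsimp [e₁, RingHom.algebraMap_toAlgebra]
    rw [Category.assoc, pullbackSymmetry_hom_comp_snd]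
    exact pullbackSpecIso_inv_fst ..
  let g : Spec (.of (R ⊗[Γ(S, U)] Γ(X, V))) ⟶ pullback f (Spec.map φ ≫ hU.fromSpec) :=
    e₁.hom ≫ pullback.map _ _ _ _ hV.fromSpec (𝟙 _) hU.fromSpec
      (IsAffineOpen.SpecMap_appLE_fromSpec ..) (by simp)
  have hgs : g ≫ pullback.snd f (Spec.map φ ≫ hU.fromSpec) =
      Spec.map (CommRingCat.ofHom (algebraMap R (R ⊗[Γ(S, U)] Γ(X, V)))) := by
    simp [g, he₂]
  let W₁ := g ''ᵁ PrimeSpectrum.basicOpen e
  have hfin : IsFinite (W₁.ι ≫ pullback.snd f _) := by
    have : (algebraMap R (Localization.Away e)).Finite := RingHom.finite_algebraMap.mpr ‹_›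
    let ι : Spec (.of (Localization.Away e)) ⟶ pullback f (Spec.map φ ≫ hU.fromSpec) :=
      Spec.map (CommRingCat.ofHom <| algebraMap _ _) ≫ g
    have : ι.opensRange = W₁ := by
      simp only [Scheme.Hom.opensRange_comp, ι, W₁]
      congr 1
      exact TopologicalSpace.Opens.ext <| PrimeSpectrum.localization_away_comap_range _ _
    rw [← this, ← MorphismProperty.cancel_left_of_respectsIso @IsFinite
      (Scheme.Hom.isoOpensRange _).hom]
    have H : (pullbackSpecIso _ R _).inv ≫ pullback.fst _ (Spec.map (f.appLE U V hUV)) = _ :=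
      pullbackSpecIso_inv_fst ..
    simpa [Scheme.Hom.isoOpensRange, ι, g, e₁, RingHom.algebraMap_toAlgebra, φ, H,
      ← Spec.map_comp, IsFinite.SpecMap_iff]
  refine ⟨Spec (.of R), Spec.map φ ≫ hU.fromSpec, p, ⟨inferInstance, hg, hbij⟩, W₁,
    g ⟨P', hP'p⟩, ⟨⟨⟨P', hP'p⟩, heP', rfl⟩, hfin, ?_, ?_⟩, ?_⟩
  · rw [← Scheme.Hom.comp_apply, hgs]
    exact PrimeSpectrum.ext (Ideal.over_def _ _).symm
  · rintro _ ⟨w, hw, rfl⟩ hwu
    change (g ≫ pullback.snd f (Spec.map φ ≫ hU.fromSpec)) w = p at hwu
    rw [hgs] at hwu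
    have : w.asIdeal.LiesOver P := ⟨congr(($hwu).asIdeal).symm⟩
    exact congrArg g (PrimeSpectrum.ext (huniq w.asIdeal inferInstance this hw))
  · trans hV.fromSpec ⟨P'.comap Algebra.TensorProduct.includeRight.toRingHom, inferInstance⟩
    · simp [← Scheme.Hom.comp_apply, -Scheme.Hom.comp_base, g, reassoc_of% he₁]; rfl
    convert! hV.fromSpec_primeIdealOf ⟨x, hxV⟩

end Groth.Agent.Wt.EtNbhd
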