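import Groth.Prelude.Def_MoreMor
import Mathlib.AlgebraicGeometry.ZariskisMainTheorem
import Mathlib.FieldTheory.PurelyInseparable.Basic
import Mathlib.FieldTheory.Minpoly.Field

/-!
# Geometric points of fibres and fibre integrals

For `π : U ⟶ V` and a geometric point `y : Spec K ⟶ V`, `GeomFib π y` is the set of lifts of `y` to `U`.
For `π` locally quasi-finite, `MoreMor.fibreIntegral π w` is the sum of `w` over this set.
-/

universe u

open AlgebraicGeometry CategoryTheory Limits

namespace Groth.Agent.Wt.GeomPts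

variable {U V S : Scheme.{u}}

/-- The point of a field valued point. -/
noncomputable abbrev pt {K : Type u} [Field K] (x : Spec (CommRingCat.of K) ⟶ U) : U :=
  x (IsLocalRing.closedPoint K)

/-- The lifts of a field valued point along `π`. -/
noncomputable def GeomFib (π : U ⟶ V) {K : Type u} [Field K] (y : Spec (CommRingCat.of K) ⟶ V) : Type u :=
  {x : Spec (CommRingCat.of K) ⟶ U // x ≫ π = y}

variable (π : U ⟶ V) {K : Type u} [Field K] (y : Spec (CommRingCat.of K) ⟶ V)

theorem pt_comp (x : Spec (CommRingCat.of K) ⟶ U) : pt (x ≫ π) = π (pt x) := rfl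

theorem apply_pt (x : GeomFib π y) : π (pt x.1) = pt y := by
  rw [← pt_comp, x.2]

theorem eq_pt (x : Spec (CommRingCat.of K) ⟶ U) (p : Spec (CommRingCat.of K)) : x p = pt x :=
  congrArg _ (Subsingleton.elim _ _)

/-- The sum of `w` over the lifts of a field valued point. -/
noncomputable def geomInt (w : U → ℤ) : ℤ := ∑ᶠ x : GeomFib π y, w (pt x.1)

theorem residueFieldMap_finite [LocallyQuasiFinite π] (u : U) :
    (π.residueFieldMap u).hom.Finite := by
  let r := V.residue (π u)
  have h1 : (π.stalkMap u ≫ U.residue u).hom.QuasiFinite := by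
    rw [CommRingCat.hom_comp]
    exact RingHom.QuasiFinite.stableUnderComposition _ _ (π.quasiFiniteAt u)
      (.of_finite (RingHom.Finite.of_surjective _ Ideal.Quotient.mk_surjective))
  rw [← Scheme.residue_residueFieldMap] at h1
  algebraize [(π.residueFieldMap u).hom]
  let _ : Algebra (V.presheaf.stalk (π u)) (U.residueField u) :=
    (V.residue (π u) ≫ π.residueFieldMap u).hom.toAlgebra
  let _ : Algebra (V.presheaf.stalk (π u)) (V.residueField (π u)) := (V.residue (π u)).hom.toAlgebra
  have : IsScalarTower (V.presheaf.stalk (π u)) (V.residueField (π u)) (U.residueField u) :=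
    .of_algebraMap_eq' rfl
  have : Algebra.QuasiFinite (V.presheaf.stalk (π u)) (U.residueField u) := h1
  have : Algebra.QuasiFinite (V.residueField (π u)) (U.residueField u) :=
    Algebra.QuasiFinite.of_restrictScalars (V.presheaf.stalk (π u)) _ _
  exact Module.Finite.of_quasiFinite

/-- The embedding of the residue field at the image of a field valued point. -/
noncomputable def emb : V.residueField (pt y) ⟶ CommRingCat.of K := (V.SpecToEquivOfField K y).2

/-- The lifts of `y` through the residue field of a given point of the fibre. -/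
def Lifts (u : {u : U // π u = pt y}) : Type u :=
  {φ : U.residueField u.1 ⟶ CommRingCat.of K //
    π.residueFieldMap u.1 ≫ φ = (V.residueFieldCongr u.2).hom ≫ emb y}

theorem toComp (u : U) (φ : U.residueField u ⟶ CommRingCat.of K) :
    (Spec.map φ ≫ U.fromSpecResidueField u) ≫ π =
      (V.SpecToEquivOfField K).symm ⟨π u, π.residueFieldMap u ≫ φ⟩ := by
  rw [Category.assoc, ← Scheme.Hom.SpecMap_residueFieldMap_fromSpecResidueField, ← Category.assoc,
    ← Spec.map_comp]
  rfl

theorem lift_iff (u : U) (φ : U.residueField u ⟶ CommRingCat.of K) :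
    (Spec.map φ ≫ U.fromSpecResidueField u) ≫ π = y ↔
      ∃ e : π u = pt y, π.residueFieldMap u ≫ φ = (V.residueFieldCongr e).hom ≫ emb y := by
  rw [toComp, Equiv.symm_apply_eq]
  exact Scheme.SpecToEquivOfField_eq_iff

/-- `GeomFib` as a sigma type. -/
noncomputable def sigmaEquiv : GeomFib π y ≃ Σ u : {u : U // π u = pt y}, Lifts π y u where
  toFun x :=
    ⟨⟨pt x.1, apply_pt π y x⟩, ⟨(U.SpecToEquivOfField K x.1).2, by
      obtain ⟨_, h⟩ := (lift_iff π y (U.SpecToEquivOfField K x.1).1
        (U.SpecToEquivOfField K x.1).2).mp (by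
          rw [show Spec.map _ ≫ U.fromSpecResidueField _ = x.1 from
            (U.SpecToEquivOfField K).symm_apply_apply x.1]
          exact x.2)
      exact h⟩⟩
  invFun p := ⟨Spec.map p.2.1 ≫ U.fromSpecResidueField p.1.1,
    (lift_iff π y _ _).mpr ⟨p.1.2, p.2.2⟩⟩
  left_inv x := Subtype.ext ((U.SpecToEquivOfField K).symm_apply_apply x.1)
  right_inv p := by
    obtain ⟨⟨u, hu⟩, ⟨φ, hφ⟩⟩ := p
    have h := (U.SpecToEquivOfField K).apply_symm_apply ⟨u, φ⟩
    have key : ∀ (q : Σ x, U.residueField x ⟶ CommRingCat.of K), q = ⟨u, φ⟩ →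
        ∀ (h1 : π q.1 = pt y) (h2 : π.residueFieldMap q.1 ≫ q.2 =
          (V.residueFieldCongr h1).hom ≫ emb y),
        (⟨⟨q.1, h1⟩, ⟨q.2, h2⟩⟩ : Σ u : {u : U // π u = pt y}, Lifts π y u) =
          ⟨⟨u, hu⟩, ⟨φ, hφ⟩⟩ := by
      rintro q rfl h1 h2; rfl
    exact key _ h _ _

theorem pt_sigmaEquiv_symm (p) : pt ((sigmaEquiv π y).symm p).1 = p.1.1 :=
  congrArg Sigma.fst ((U.SpecToEquivOfField K).apply_symm_apply ⟨p.1.1, p.2.1⟩)

theorem card_lifts [IsAlgClosed K] [LocallyQuasiFinite π] (u : {u : U // π u = pt y}) :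
    Finite (Lifts π y u) ∧ Nat.card (Lifts π y u) =
      (letI := (π.residueFieldMap u.1).hom.toAlgebra
       Field.finSepDegree (V.residueField (π u.1)) (U.residueField u.1)) := by
  letI := (π.residueFieldMap u.1).hom.toAlgebra
  letI : Algebra (V.residueField (π u.1)) K := ((V.residueFieldCongr u.2).hom ≫ emb y).hom.toAlgebra
  have : Module.Finite (V.residueField (π u.1)) (U.residueField u.1) :=
    residueFieldMap_finite π u.1
  let e : Lifts π y u ≃ (U.residueField u.1 →ₐ[V.residueField (π u.1)] K) :=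
    { toFun := fun φ => ⟨φ.1.hom, fun r => congr($(φ.2).hom r)⟩
      invFun := fun ψ => ⟨CommRingCat.ofHom ψ.toRingHom, by
        ext r
        exact ψ.commutes r⟩
      left_inv := fun _ => rfl
      right_inv := fun _ => rfl }
  refine ⟨.of_equiv _ e.symm, ?_⟩
  rw [Nat.card_congr e, ← Field.finSepDegree_eq_of_isAlgClosed]

variable [IsAlgClosed K] [LocallyQuasiFinite π]

theorem finite_geomFib [Finite {u : U // π u = pt y}] : Finite (GeomFib π y) := by
  have := fun u => (card_lifts π y u).1
  exact .of_equiv _ (sigmaEquiv π y).symm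

theorem surjective_pt : Function.Surjective
    (fun x : GeomFib π y => (⟨pt x.1, apply_pt π y x⟩ : {u : U // π u = pt y})) := by
  intro u
  have : Nat.card (Lifts π y u) ≠ 0 := by
    letI := (π.residueFieldMap u.1).hom.toAlgebra
    have : Module.Finite (V.residueField (π u.1)) (U.residueField u.1) :=
      residueFieldMap_finite π u.1
    rw [(card_lifts π y u).2]
    exact NeZero.ne _
  obtain ⟨⟨φ⟩⟩ := Nat.card_ne_zero.mp this
  exact ⟨(sigmaEquiv π y).symm ⟨u, φ⟩, Subtype.ext (pt_sigmaEquiv_symm π y _)⟩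

omit [IsAlgClosed K] [LocallyQuasiFinite π] in
theorem finite_fibre [Finite (GeomFib π y)] [IsAlgClosed K] [LocallyQuasiFinite π] :
    Finite {u : U // π u = pt y} :=
  Finite.of_surjective _ (surjective_pt π y)

theorem geomInt_eq_fibreIntegral [Finite {u : U // π u = pt y}] (w : U → ℤ) :
    geomInt π y w = MoreMor.fibreIntegral π w (pt y) := by
  have := finite_geomFib π y
  have := fun u => (card_lifts π y u).1
  cases nonempty_fintype {u : U // π u = pt y}
  have := fun u => Fintype.ofFinite (Lifts π y u)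
  unfold geomInt MoreMor.fibreIntegral
  rw [← finsum_comp_equiv (sigmaEquiv π y).symm, finsum_eq_sum_of_fintype,
    finsum_eq_sum_of_fintype, Fintype.sum_sigma]
  refine Finset.sum_congr rfl fun u _ => ?_
  simp only [pt_sigmaEquiv_symm]
  rw [Finset.sum_const, Finset.card_univ, ← Nat.card_eq_fintype_card, (card_lifts π y u).2,
    nsmul_eq_mul, mul_comm]

omit [IsAlgClosed K] [LocallyQuasiFinite π] in
/-- Every point has a geometric point over it. -/
theorem exists_geomPt (v : V) :
    ∃ y : Spec (CommRingCat.of (AlgebraicClosure (V.residueField v))) ⟶ V, pt y = v := by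
  refine ⟨Spec.map (CommRingCat.ofHom (algebraMap (V.residueField v) (AlgebraicClosure (V.residueField v)))) ≫ V.fromSpecResidueField v, ?_⟩
  exact congrArg Sigma.fst ((V.SpecToEquivOfField _).apply_symm_apply ⟨v, _⟩)

omit [IsAlgClosed K] [LocallyQuasiFinite π] in
/-- Lifts of a base change. -/
noncomputable def baseChangeEquiv {U' V' : Scheme.{u}} {π' : U' ⟶ V'} {h : U' ⟶ U} {g : V' ⟶ V}
    (hc : IsPullback h π' π g) (y' : Spec (CommRingCat.of K) ⟶ V') :
    GeomFib π' y' ≃ GeomFib π (y' ≫ g) where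
  toFun x := ⟨x.1 ≫ h, by rw [Category.assoc, hc.w, ← Category.assoc, x.2]⟩
  invFun x := ⟨hc.lift x.1 y' x.2, hc.lift_snd _ _ _⟩
  left_inv x := Subtype.ext (hc.hom_ext (hc.lift_fst _ _ _) (by rw [hc.lift_snd, x.2]))
  right_inv x := Subtype.ext (hc.lift_fst _ _ _)

omit [IsAlgClosed K] [LocallyQuasiFinite π] in
theorem geomInt_baseChange {U' V' : Scheme.{u}} {π' : U' ⟶ V'} {h : U' ⟶ U} {g : V' ⟶ V}
    (hc : IsPullback h π' π g) (y' : Spec (CommRingCat.of K) ⟶ V') (w : U → ℤ) :
    geomInt π' y' (w ∘ h) = geomInt π (y' ≫ g) w := by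
  unfold geomInt
  rw [← finsum_comp_equiv (baseChangeEquiv π hc y')]
  rfl

omit [IsAlgClosed K] [LocallyQuasiFinite π] in
/-- Lifts along a composite. -/
noncomputable def compEquiv (g : V ⟶ S) (z : Spec (CommRingCat.of K) ⟶ S) :
    GeomFib (π ≫ g) z ≃ Σ y : GeomFib g z, GeomFib π y.1 where
  toFun x := ⟨⟨x.1 ≫ π, by rw [Category.assoc]; exact x.2⟩, ⟨x.1, rfl⟩⟩
  invFun p := ⟨p.2.1, by rw [← Category.assoc, p.2.2, p.1.2]⟩
  left_inv _ := rfl
  right_inv := by rintro ⟨⟨y, hy⟩, ⟨x, rfl : x ≫ π = y⟩⟩; rfl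

end Groth.Agent.Wt.GeomPts
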