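import Groth.Agent.Wt.ChevalleyNoeth
import Groth.Agent.LimLib.FPSystem
import Groth.Agent.LimLib.Model

/-!
# Chevalley's theorem: an image of an affine scheme under a universally closed map is affine

`isAffine f`: if `f : X ⟶ S` is surjective and universally closed with `X` affine, then `S` is affine.
-/

set_option autoImplicit false
set_option linter.style.haveILetI false
set_option backward.isDefEq.respectTransparency false

universe u

open CategoryTheory Limits AlgebraicGeometry Opposite TopologicalSpace

noncomputable section

namespace Groth.Agent.Wt.Chevalley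

variable {X S : Scheme.{u}}

/-- A scheme dominated by an affine scheme through a universally closed surjection is separated. -/
theorem isSeparated_target (f : X ⟶ S) [X.IsSeparated] [Surjective f] [UniversallyClosed f] :
    S.IsSeparated := by
  let p := terminal.from S
  let q := pullback.map (f ≫ p) (f ≫ p) p p f f (𝟙 _) (Category.comp_id _) (Category.comp_id _)
  have hq : UniversallyClosed q :=
    MorphismProperty.pullbackMap (P := @UniversallyClosed) inferInstance inferInstance rfl rfl
  have : IsSeparated (f ≫ p) := by
    rw [terminal.comp_from]; infer_instance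
  have hw : pullback.diagonal (f ≫ p) ≫ q = f ≫ pullback.diagonal p := by
    apply pullback.hom_ext <;> simp [q]
  have hr : Set.range (pullback.diagonal p) = Set.range (pullback.diagonal (f ≫ p) ≫ q) := by
    rw [hw]
    exact (f.surjective.range_comp (pullback.diagonal p)).symm
  refine ⟨⟨IsClosedImmersion.of_isPreimmersion _ ?_⟩⟩
  rw [hr]
  exact (pullback.diagonal (f ≫ p) ≫ q).isClosedMap.isClosed_range

/-- Chevalley's theorem for finite surjective maps of finite presentation. -/
theorem isAffine_finitePresentation (f : X ⟶ S) [IsAffine X] [S.IsSeparated] [CompactSpace S]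
    [Surjective f] [IsFinite f] [LocallyOfFinitePresentation f] : IsAffine S := by
  obtain ⟨P⟩ := LimLib.nonempty_ftSystem S
  have hc := P.isLimit.some
  let c : Cone P.D := Cone.mk S P.π
  obtain ⟨i, W₀, f₀, q₀, h₁, h₂, h₃, h⟩ := LimLib.hasModel (c := c) hc (f := (f : X ⟶ c.pt))
  obtain ⟨j, φ, hfin⟩ := LimLib.descends_isFinite P.D c hc (fun _ _ a => P.isAffineHom a)
    (fun _ => inferInstance) (fun _ => inferInstance) i W₀ f₀ h₂ h₃ inferInstance X q₀ f h
    (inferInstanceAs (IsFinite f))
  let g₀ := pullback.snd f₀ (P.D.map φ)
  let qY : X ⟶ pullback f₀ (P.D.map φ) := pullback.lift q₀ (f ≫ c.π.app j) (by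
    rw [h.w, Category.assoc, c.w])
  have hY : IsPullback qY (f : X ⟶ c.pt) g₀ (c.π.app j) :=
    IsPullback.of_right (by simpa [qY, g₀] using h) (by simp [qY, g₀]) (IsPullback.of_hasPullback _ _)
  have : CompactSpace ↥(pullback f₀ (P.D.map φ)) := QuasiCompact.compactSpace_of_compactSpace g₀
  have : QuasiSeparatedSpace ↥(pullback f₀ (P.D.map φ)) := quasiSeparatedSpace_of_quasiSeparated g₀
  let cb := LimLib.bcCone (D := P.D) (c := c) (i₀ := j) (g₀ := g₀) (qY := qY)
    (g := (f : X ⟶ c.pt)) hY
  have : IsAffine cb.pt := inferInstanceAs (IsAffine X)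
  obtain ⟨k, hk⟩ := Scheme.exists_isAffine_of_isLimit _ cb
    (LimLib.isLimitBcCone (D := P.D) (c := c) (i₀ := j) (g₀ := g₀) hc hY)
  have hk' : IsAffine (pullback g₀ (P.D.map k.hom)) := hk
  let fk := pullback.snd g₀ (P.D.map k.hom)
  have : IsFinite fk := MorphismProperty.pullback_snd _ _ hfin
  have hsq : IsPullback (cb.π.app k) f fk (P.π.app k.left) :=
    LimLib.isPullback_bcCone (D := P.D) (c := c) (i₀ := j) (g₀ := g₀) hY k
  let π : S ⟶ P.D.obj k.left := P.π.app k.left
  have : IsAffineHom π := isAffineHom_π_app P.D c hc k.left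
  have : Surjective (pullback.snd fk π.imageι) := ⟨fun z => by
    have : z ∈ Set.range (pullback.snd fk π.imageι) := by
      rw [Scheme.Pullback.range_snd]
      have hz : π.imageι z ∈ closure (Set.range π) := by
        have := π.toImage.denseRange.closure_range ▸ Set.mem_univ z
        have := map_mem_closure π.imageι.continuous this
          (t := Set.range π) (by
            rintro _ ⟨y, rfl⟩
            exact ⟨y, by rw [← Scheme.Hom.comp_apply, π.toImage_imageι]⟩)
        exact this
      refine (closure_minimal ?_ fk.isClosedMap.isClosed_range) hz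
      rintro _ ⟨s, rfl⟩
      obtain ⟨x, rfl⟩ := f.surjective s
      exact ⟨(cb.π.app k) x, congrArg (fun m : X ⟶ P.D.obj k.left => m x) hsq.w⟩
    exact this⟩
  have : IsAffine (pullback fk π.imageι) := isAffine_of_isAffineHom (pullback.fst fk π.imageι)
  have : IsFinite (pullback.snd fk π.imageι) := MorphismProperty.pullback_snd _ _ inferInstance
  have : IsLocallyNoetherian π.image := LocallyOfFiniteType.isLocallyNoetherian π.imageι
  have : CompactSpace π.image := QuasiCompact.compactSpace_of_compactSpace π.imageι
  have : IsNoetherian π.image := ⟨⟩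
  have : IsAffine π.image := ChevalleyNoeth.isAffine (pullback.snd fk π.imageι)
  have : IsAffineHom (π.toImage ≫ π.imageι) := by rw [π.toImage_imageι]; infer_instance
  have : IsAffineHom π.toImage := IsAffineHom.of_comp π.toImage π.imageι
  exact isAffine_of_isAffineHom π.toImage

/-- Chevalley's theorem: the target of a universally closed surjection from an affine scheme is
affine. -/
theorem isAffine (f : X ⟶ S) [IsAffine X] [Surjective f] [UniversallyClosed f] : IsAffine S := by
  have : CompactSpace S := f.surjective.compactSpace f.continuous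
  have := isSeparated_target f
  have : IsAffineHom (f ≫ terminal.from S) := by
    rw [terminal.comp_from]
    infer_instance
  have : IsAffineHom f := IsAffineHom.of_comp f (terminal.from S)
  have : IsIntegralHom f := IsIntegralHom.iff_universallyClosed_and_isAffineHom.mpr ⟨‹_›, ‹_›⟩
  obtain ⟨I, _, _, _, D, c, hc, hD, ⟨e⟩⟩ := LimLib.exists_finiteSystem f
  obtain ⟨hc'⟩ := LimLib.isLimitForget hc
  have (i : Iᵒᵖ) : IsFinite (D.obj i).hom := (hD i).1
  have (i : Iᵒᵖ) : CompactSpace ↥((D ⋙ Over.forget S).obj i) :=
    QuasiCompact.compactSpace_of_compactSpace (D.obj i).hom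
  have (i : Iᵒᵖ) : QuasiSeparatedSpace ↥((D ⋙ Over.forget S).obj i) :=
    quasiSeparatedSpace_of_quasiSeparated (D.obj i).hom
  have (i j : Iᵒᵖ) (a : i ⟶ j) : IsAffineHom ((D ⋙ Over.forget S).map a) := by
    have : IsAffineHom ((D.map a).left ≫ (D.obj j).hom) := by
      rw [Over.w]; infer_instance
    exact IsAffineHom.of_comp (D.map a).left (D.obj j).hom
  have : IsAffine ((Over.forget S).obj (Over.mk f)) := ‹IsAffine X›
  have : IsAffine ((Over.forget S).mapCone c).pt :=
    IsAffine.of_isIso ((Over.forget S).mapIso e).hom
  obtain ⟨i, hi⟩ := Scheme.exists_isAffine_of_isLimit _ _ hc'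
  have : IsAffine (D.obj i).left := hi
  have : LocallyOfFinitePresentation (D.obj i).hom := (hD i).2
  have : Surjective (D.obj i).hom := by
    have : Surjective ((c.π.app i).left ≫ (D.obj i).hom) := by
      rw [Over.w]
      show Surjective c.pt.hom
      rw [← Over.w e.hom]
      have : Surjective (Over.mk f).hom := ‹Surjective f›
      infer_instance
    exact Surjective.of_comp (c.π.app i).left _
  exact isAffine_finitePresentation (D.obj i).hom

end Groth.Agent.Wt.Chevalley
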