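import Groth.Agent.ConsPairLib.QuasiAffine

/-!
# Ind-quasi-affine morphisms
-/

set_option linter.style.haveILetI false
set_option backward.isDefEq.respectTransparency false

universe u

open CategoryTheory CategoryTheory.Limits AlgebraicGeometry TopologicalSpace

namespace Groth.Agent.Wt.IndQA

open MoreMor Groth.Agent.ConsPairLib

/-- Compact schemes covered by quasi-affine basic opens of global sections are quasi-affine. -/
lemma isQuasiAffine_of_basicOpens {X : Scheme.{u}} [CompactSpace X]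
    (h : ∀ x : X, ∃ r : Γ(X, ⊤), x ∈ X.basicOpen r ∧
      Scheme.IsQuasiAffine (X.basicOpen r : Scheme.{u})) : X.IsQuasiAffine := by
  choose r hxr hq using h
  haveI : QuasiSeparatedSpace X := by
    refine QuasiSeparatedSpace.of_isOpenCover (U := fun x => X.basicOpen (r x))
      (eq_top_iff.mpr fun x _ => Opens.mem_iSup.mpr ⟨x, hxr x⟩)
      (fun _ => isRetrocompact_basicOpen _) (fun x => ?_)
    haveI := hq x
    haveI : IsSeparated (terminal.from ((X.basicOpen (r x) : X.Opens) : Scheme.{u})) :=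
      Scheme.IsSeparated.isSeparated_terminal_from
    exact isQuasiSeparated_iff_quasiSeparatedSpace _ (X.basicOpen (r x)).2 |>.2
      (quasiSeparatedSpace_of_quasiSeparated (terminal.from ((X.basicOpen (r x) : X.Opens) : Scheme.{u})))
  refine Scheme.IsQuasiAffine.of_forall_exists_mem_basicOpen _ fun x => ?_
  haveI := hq x
  obtain ⟨_, ⟨_, ⟨t, ht, rfl⟩, rfl⟩, hxt, -⟩ :=
    (Scheme.IsQuasiAffine.isBasis_basicOpen
      (X.basicOpen (r x) : Scheme.{u})).exists_subset_of_mem_open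
      (Set.mem_univ (⟨x, hxr x⟩ : (X.basicOpen (r x) : Scheme.{u}))) isOpen_univ
  set t' : Γ(X, X.basicOpen (r x)) := (X.basicOpen (r x)).topIso.hom t with ht'
  haveI := isLocalization_basicOpen_of_qcqs (X := X) isCompact_univ isQuasiSeparated_univ (r x)
  obtain ⟨⟨a, ⟨_, n, rfl⟩⟩, ha⟩ := IsLocalization.surj (M := .powers (r x)) t'
  refine ⟨r x * a, ?_⟩
  have hbo : X.basicOpen (r x * a) = X.basicOpen t' := by
    have hu : IsUnit (algebraMap Γ(X, ⊤) Γ(X, X.basicOpen (r x)) (r x ^ n)) :=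
      IsLocalization.map_units _ (⟨_, n, rfl⟩ : Submonoid.powers (r x))
    have h1 : X.basicOpen (algebraMap Γ(X, ⊤) Γ(X, X.basicOpen (r x)) a) =
        X.basicOpen (r x) ⊓ X.basicOpen a := Scheme.basicOpen_res _ _ _
    rw [Scheme.basicOpen_mul, ← h1, ← ha, Scheme.basicOpen_mul, Scheme.basicOpen_of_isUnit _ hu,
      inf_eq_left]
    exact X.basicOpen_le _
  rw [hbo]
  have himg : (X.basicOpen (r x)).ι ''ᵁ
      ((X.basicOpen (r x) : Scheme.{u}).basicOpen t) = X.basicOpen t' := by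
    rw [ht', Scheme.image_basicOpen]; simp only [Scheme.Opens.ι_appIso, Scheme.Opens.topIso]
    exact (Scheme.basicOpen_res_eq _ _ _).symm
  rw [← himg]
  exact ⟨ht.image_of_isOpenImmersion _, ⟨⟨x, hxr x⟩, hxt, rfl⟩⟩

lemma isCompact_iff {X : Scheme.{u}} (U : X.Opens) :
    IsCompact (U : Set X) ↔ CompactSpace (U : Scheme.{u}) := isCompact_iff_compactSpace

/-- An open subscheme mapping isomorphically. -/
lemma isQuasiAffine_image {X Y : Scheme.{u}} (j : X ⟶ Y) [IsOpenImmersion j] (U : X.Opens) :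
    Scheme.IsQuasiAffine (j ''ᵁ U : Scheme.{u}) ↔ Scheme.IsQuasiAffine (U : Scheme.{u}) :=
  ⟨fun _ => isQuasiAffine_of_iso (j.isoImage U), fun _ => isQuasiAffine_of_iso (j.isoImage U).symm⟩

/-- Ind-quasi-affineness in terms of opens of the source. -/
lemma iff_forall {X Y : Scheme.{u}} (f : X ⟶ Y) :
    IsIndQuasiAffineHom f ↔ ∀ V : Y.Opens, IsAffineOpen V → ∀ U : X.Opens, U ≤ f ⁻¹ᵁ V →
      IsCompact (U : Set X) → Scheme.IsQuasiAffine (U : Scheme.{u}) := by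
  refine ⟨fun h V hV U hUV hU => ?_, fun h V hV U hU => ?_⟩
  · have e : (f ⁻¹ᵁ V).ι ''ᵁ ((f ⁻¹ᵁ V).ι ⁻¹ᵁ U) = U := by
      rw [Scheme.Hom.image_preimage_eq_opensRange_inf, Scheme.Opens.opensRange_ι, inf_eq_right.2 hUV]
    have hc : IsCompact (((f ⁻¹ᵁ V).ι ⁻¹ᵁ U) : Set (f ⁻¹ᵁ V : Scheme.{u})) := by
      refine (f ⁻¹ᵁ V).ι.isOpenEmbedding.isInducing.isCompact_preimage' hU ?_
      rw [Scheme.Opens.range_ι]
      exact hUV
    have := (isQuasiAffine_image (f ⁻¹ᵁ V).ι _).2 (h V hV _ hc)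
    rwa [e] at this
  · rw [← isQuasiAffine_image (f ⁻¹ᵁ V).ι]
    refine h V hV _ ?_ (hU.image (f ⁻¹ᵁ V).ι.continuous)
    rintro _ ⟨x, -, rfl⟩
    exact x.2

/-- The source of a quasi-affine morphism to a quasi-affine scheme is quasi-affine. -/
lemma isQuasiAffine_of_qaMor {U V : Scheme.{u}} (g : U ⟶ V) [V.IsQuasiAffine]
    (hg : IsQuasiAffineHom g) : U.IsQuasiAffine := by
  haveI := hg.1
  haveI := QuasiCompact.compactSpace_of_compactSpace g
  refine isQuasiAffine_of_basicOpens fun x => ?_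
  obtain ⟨_, ⟨_, ⟨r, hr, rfl⟩, rfl⟩, hxr, -⟩ := (Scheme.IsQuasiAffine.isBasis_basicOpen
    V).exists_subset_of_mem_open (Set.mem_univ (g x)) isOpen_univ
  refine ⟨g.appTop r, ?_⟩
  rw [← Scheme.preimage_basicOpen_top]
  exact ⟨hxr, hg.2 _ hr⟩

/-- A compact scheme over an affine `V` is quasi-affine as soon as it is so locally on `V`. -/
lemma isQuasiAffine_of_local {X Y : Scheme.{u}} (f : X ⟶ Y) {V : Y.Opens} (hV : IsAffineOpen V)
    {U : X.Opens} (hUV : U ≤ f ⁻¹ᵁ V) (hU : IsCompact (U : Set X))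
    (h : ∀ y ∈ V, ∃ W : Y.Opens, y ∈ W ∧ W ≤ V ∧ ∀ V₀ : Y.Opens, IsAffineOpen V₀ → V₀ ≤ W →
      ∀ U₀ : X.Opens, U₀ ≤ U → U₀ ≤ f ⁻¹ᵁ V₀ → IsCompact (U₀ : Set X) →
        Scheme.IsQuasiAffine (U₀ : Scheme.{u})) :
    Scheme.IsQuasiAffine (U : Scheme.{u}) := by
  haveI : CompactSpace (U : Scheme.{u}) := (isCompact_iff U).1 hU
  refine isQuasiAffine_of_basicOpens fun x => ?_
  obtain ⟨W, hyW, hWV, hW⟩ := h (f x.1) (hUV x.2)
  obtain ⟨r, hrW, hxr⟩ := hV.exists_basicOpen_le ⟨f x.1, hyW⟩ (hUV x.2)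
  let g : (U : Scheme.{u}) ⟶ V := f.resLE V U hUV
  haveI : IsAffine (V : Scheme.{u}) := hV
  let r' : Γ((V : Scheme.{u}), ⊤) := V.topIso.inv r
  have himg : V.ι ''ᵁ (V : Scheme.{u}).basicOpen r' = Y.basicOpen r := by
    rw [Scheme.image_basicOpen]
    simp only [r', Scheme.Opens.ι_appIso, Scheme.Opens.topIso]
    exact Scheme.basicOpen_res_eq _ _ _
  refine ⟨g.appTop r', ?_⟩
  rw [← Scheme.preimage_basicOpen_top]
  have hmem : ∀ z : (U : Scheme.{u}), g z ∈ (V : Scheme.{u}).basicOpen r' ↔ f z.1 ∈ Y.basicOpen r := by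
    intro z
    have hz : V.ι (g z) = f z.1 := by
      show V.ι (f.resLE V U hUV z) = _
      rw [← Scheme.Hom.comp_apply, Scheme.Hom.resLE_comp_ι]
      rfl
    rw [← hz, ← himg]
    exact ⟨fun h => ⟨_, h, rfl⟩, fun ⟨w, hw, he⟩ => V.ι.isOpenEmbedding.injective he ▸ hw⟩
  refine ⟨(hmem x).2 hxr, ?_⟩
  rw [← isQuasiAffine_image U.ι]
  have hc : CompactSpace (g ⁻¹ᵁ (V : Scheme.{u}).basicOpen r' : Scheme.{u}) := by
    rw [← isCompact_iff, Scheme.preimage_basicOpen_top]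
    haveI : IsAffineHom ((U : Scheme.{u}).basicOpen (g.appTop r')).ι := inferInstance
    exact (isCompact_iff _).2 (QuasiCompact.compactSpace_of_compactSpace
      ((U : Scheme.{u}).basicOpen (g.appTop r')).ι)
  refine hW _ (hV.basicOpen r) hrW _ ?_ ?_ (((isCompact_iff _).2 hc).image U.ι.continuous)
  · rintro _ ⟨z, -, rfl⟩; exact z.2
  · rintro _ ⟨z, hz, rfl⟩; exact (hmem z).1 hz

lemma isQuasiAffineHom_comp_immersion {X Y : Scheme.{u}} (f : X ⟶ Y) [IsImmersion f]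
    {V : Y.Opens} (hV : IsAffineOpen V) {U : X.Opens} (hUV : U ≤ f ⁻¹ᵁ V)
    (hU : IsCompact (U : Set X)) : Scheme.IsQuasiAffine (U : Scheme.{u}) := by
  haveI : CompactSpace (U : Scheme.{u}) := (isCompact_iff U).1 hU
  haveI : IsAffine (V : Scheme.{u}) := hV
  haveI : IsImmersion (f.resLE V U hUV ≫ V.ι) := by rw [Scheme.Hom.resLE_comp_ι]; infer_instance
  haveI : IsImmersion (f.resLE V U hUV) := IsImmersion.of_comp _ V.ι
  exact Scheme.IsQuasiAffine.of_isImmersion (f.resLE V U hUV)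

lemma resLE_preimage_image {X Y : Scheme.{u}} (f : X ⟶ Y) (V : Y.Opens) (U : X.Opens)
    (hUV : U ≤ f ⁻¹ᵁ V) (W : (V : Scheme.{u}).Opens) :
    U.ι ''ᵁ (f.resLE V U hUV ⁻¹ᵁ W) = U ⊓ f ⁻¹ᵁ (V.ι ''ᵁ W) := by
  have key : ∀ z : (U : Scheme.{u}), V.ι (f.resLE V U hUV z) = f z.1 := fun z => by
    rw [← Scheme.Hom.comp_apply, Scheme.Hom.resLE_comp_ι]; rfl
  ext x
  refine ⟨?_, ?_⟩
  · rintro ⟨z, hz, rfl⟩
    exact ⟨z.2, ⟨_, hz, key z⟩⟩
  · rintro ⟨hx, w, hw, he⟩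
    refine ⟨⟨x, hx⟩, ?_, rfl⟩
    show f.resLE V U hUV ⟨x, hx⟩ ∈ W
    rw [V.ι.isOpenEmbedding.injective ((key ⟨x, hx⟩).trans he.symm)]
    exact hw

/-- (1) ⇒ (4) -/
lemma isQuasiAffineHom_resLE {X Y : Scheme.{u}} (f : X ⟶ Y) (hf : IsIndQuasiAffineHom f)
    (V : Y.Opens) (hVq : IsQuasiSeparated (V : Set Y)) (U : X.Opens) (hUV : U ≤ f ⁻¹ᵁ V)
    (hU : IsCompact (U : Set X)) : IsQuasiAffineHom (f.resLE V U hUV) := by
  haveI : CompactSpace (U : Scheme.{u}) := (isCompact_iff U).1 hU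
  haveI : QuasiSeparatedSpace (V : Scheme.{u}) :=
    (isQuasiSeparated_iff_quasiSeparatedSpace _ V.2).1 hVq
  haveI : QuasiCompact (f.resLE V U hUV) := inferInstance
  refine ⟨inferInstance, fun W hW => ?_⟩
  rw [← isQuasiAffine_image U.ι]
  refine (iff_forall f).1 hf _ (hW.image_of_isOpenImmersion V.ι) _ ?_ ?_
  · rw [resLE_preimage_image]; exact inf_le_right
  · exact (QuasiCompact.isCompact_preimage (f := f.resLE V U hUV) _ W.2 hW.isCompact).image U.ι.continuous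

theorem iff_qcqs {X Y : Scheme.{u}} (f : X ⟶ Y) :
    IsIndQuasiAffineHom f ↔ ∀ (V : Y.Opens), IsCompact (V : Set Y) → IsQuasiSeparated (V : Set Y) →
      ∀ (U : X.Opens) (hUV : U ≤ f ⁻¹ᵁ V), IsCompact (U : Set X) →
        IsQuasiAffineHom (f.resLE V U hUV) := by
  refine ⟨fun hf V _ hVq U hUV hU => isQuasiAffineHom_resLE f hf V hVq U hUV hU, fun h => ?_⟩
  rw [iff_forall]
  intro V hV U hUV hU
  haveI : IsAffine (V : Scheme.{u}) := hV
  exact isQuasiAffine_of_qaMor _ (h V hV.isCompact hV.isQuasiSeparated U hUV hU)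

theorem comp {X Y Z : Scheme.{u}} (f : X ⟶ Y) (g : Y ⟶ Z) (hf : IsIndQuasiAffineHom f)
    (hg : IsIndQuasiAffineHom g) : IsIndQuasiAffineHom (f ≫ g) := by
  rw [iff_forall]
  intro W hW U hUW hU
  obtain ⟨V, hVc, hfV, hVW⟩ : ∃ V : Y.Opens, IsCompact (V : Set Y) ∧ f '' (U : Set X) ⊆ V ∧
      V ≤ g ⁻¹ᵁ W := by
    obtain ⟨s, hs⟩ := (hU.image f.continuous).elim_finite_subcover
      (fun V : { V : Y.affineOpens // (V : Y.Opens) ≤ g ⁻¹ᵁ W } => ((V.1 : Y.Opens) : Set Y))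
      (fun V => V.1.1.2) (by
        rintro _ ⟨x, hx, rfl⟩
        obtain ⟨_, ⟨V, hV, rfl⟩, hxV, hVle⟩ :=
          Y.isBasis_affineOpens.exists_subset_of_mem_open (hUW hx) (g ⁻¹ᵁ W).2
        exact Set.mem_iUnion.2 ⟨⟨⟨V, hV⟩, hVle⟩, hxV⟩)
    refine ⟨⨆ i ∈ s, (i.1 : Y.Opens), ?_, ?_, iSup₂_le fun i _ => i.2⟩
    · simp only [Opens.coe_iSup]
      exact s.finite_toSet.isCompact_biUnion fun i _ => i.1.2.isCompact
    · simpa only [Opens.coe_iSup] using hs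
  haveI := (iff_forall g).1 hg W hW V hVW hVc
  have hVq : IsQuasiSeparated (V : Set Y) :=
    (isQuasiSeparated_iff_quasiSeparatedSpace _ V.2).2
      (haveI : IsSeparated (terminal.from (V : Scheme.{u})) := Scheme.IsSeparated.isSeparated_terminal_from
       quasiSeparatedSpace_of_quasiSeparated (terminal.from (V : Scheme.{u})))
  exact isQuasiAffine_of_qaMor _
    (isQuasiAffineHom_resLE f hf V hVq U (fun x hx => hfV ⟨x, hx, rfl⟩) hU)

theorem of_comp {X Y Z : Scheme.{u}} (f : X ⟶ Y) (g : Y ⟶ Z) (h : IsIndQuasiAffineHom (f ≫ g)) :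
    IsIndQuasiAffineHom f := by
  rw [iff_forall]
  intro V hV U hUV hU
  refine isQuasiAffine_of_local f hV hUV hU fun y hy => ?_
  obtain ⟨_, ⟨W, hW, rfl⟩, hyW, -⟩ :=
    Z.isBasis_affineOpens.exists_subset_of_mem_open (Set.mem_univ (g y)) isOpen_univ
  refine ⟨V ⊓ g ⁻¹ᵁ W, ⟨hy, hyW⟩, inf_le_left, fun V₀ _ hV₀ U₀ _ hU₀ hc => ?_⟩
  exact (iff_forall _).1 h W hW U₀ (fun x hx => (hV₀ (hU₀ hx)).2) hc

theorem baseChange {X S X' S' : Scheme.{u}} (f : X ⟶ S) (f' : X' ⟶ S') (g' : X' ⟶ X) (g : S' ⟶ S)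
    (hc : IsPullback g' f' f g) (hf : IsIndQuasiAffineHom f) : IsIndQuasiAffineHom f' := by
  rw [iff_forall]
  intro V hV U hUV hU
  refine isQuasiAffine_of_local f' hV hUV hU fun y hy => ?_
  obtain ⟨_, ⟨W, hW, rfl⟩, hyW, -⟩ :=
    S.isBasis_affineOpens.exists_subset_of_mem_open (Set.mem_univ (g y)) isOpen_univ
  refine ⟨V ⊓ g ⁻¹ᵁ W, ⟨hy, hyW⟩, inf_le_left, fun V₀ hV₀a hV₀ U₀ _ hU₀ hU₀c => ?_⟩
  have hgV₀ : V₀ ≤ g ⁻¹ᵁ W := fun x hx => (hV₀ hx).2
  have hUW : ∀ x ∈ U₀, f (g' x) ∈ W := fun x hx => by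
    rw [← Scheme.Hom.comp_apply, hc.w, Scheme.Hom.comp_apply]
    exact hgV₀ (hU₀ hx)
  obtain ⟨U₁, hU₁c, hgU, hU₁W⟩ : ∃ U₁ : X.Opens, IsCompact (U₁ : Set X) ∧
      g' '' (U₀ : Set X') ⊆ U₁ ∧ U₁ ≤ f ⁻¹ᵁ W := by
    obtain ⟨s, hs⟩ := (hU₀c.image g'.continuous).elim_finite_subcover
      (fun V : { V : X.affineOpens // (V : X.Opens) ≤ f ⁻¹ᵁ W } => ((V.1 : X.Opens) : Set X))
      (fun V => V.1.1.2) (by
        rintro _ ⟨x, hx, rfl⟩
        obtain ⟨_, ⟨V, hV, rfl⟩, hxV, hVle⟩ :=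
          X.isBasis_affineOpens.exists_subset_of_mem_open (hUW x hx) (f ⁻¹ᵁ W).2
        exact Set.mem_iUnion.2 ⟨⟨⟨V, hV⟩, hVle⟩, hxV⟩)
    refine ⟨⨆ i ∈ s, (i.1 : X.Opens), ?_, ?_, iSup₂_le fun i _ => i.2⟩
    · simp only [Opens.coe_iSup]
      exact s.finite_toSet.isCompact_biUnion fun i _ => i.1.2.isCompact
    · simpa only [Opens.coe_iSup] using hs
  haveI : Scheme.IsQuasiAffine (U₁ : Scheme.{u}) := (iff_forall f).1 hf W hW U₁ hU₁W hU₁c
  haveI : IsAffine (V₀ : Scheme.{u}) := hV₀a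
  haveI : IsAffine (W : Scheme.{u}) := hW
  let a := f.resLE W U₁ hU₁W
  let b := g.resLE W V₀ hgV₀
  haveI : IsAffineHom b := inferInstance
  haveI : IsAffineHom (pullback.fst a b) :=
    MorphismProperty.of_isPullback (IsPullback.of_hasPullback a b).flip ‹IsAffineHom b›
  haveI : (pullback a b).IsQuasiAffine := Scheme.IsQuasiAffine.of_isAffineHom (pullback.fst a b)
  haveI : CompactSpace (U₀ : Scheme.{u}) := (isCompact_iff U₀).1 hU₀c
  let l : (U₀ : Scheme.{u}) ⟶ pullback a b :=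
    pullback.lift (g'.resLE U₁ U₀ (fun x hx => hgU ⟨x, hx, rfl⟩)) (f'.resLE V₀ U₀ hU₀) (by
      rw [← cancel_mono (Scheme.Opens.ι W)]
      simp only [a, b, Category.assoc, Scheme.Hom.resLE_comp_ι, Scheme.Hom.resLE_comp_ι_assoc, hc.w])
  let m : pullback a b ⟶ X' := hc.lift (pullback.fst a b ≫ U₁.ι) (pullback.snd a b ≫ V₀.ι) (by
    rw [Category.assoc, Category.assoc, ← Scheme.Hom.resLE_comp_ι f hU₁W,
      ← Scheme.Hom.resLE_comp_ι g hgV₀, pullback.condition_assoc])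
  have hlm : l ≫ m = U₀.ι := by
    apply hc.hom_ext <;> simp only [l, m, Category.assoc, IsPullback.lift_fst, IsPullback.lift_snd, pullback.lift_fst_assoc, pullback.lift_snd_assoc, Scheme.Hom.resLE_comp_ι]
  haveI : IsImmersion (l ≫ m) := by rw [hlm]; infer_instance
  haveI : IsImmersion l := IsImmersion.of_comp l m
  exact Scheme.IsQuasiAffine.of_isImmersion l

theorem of_isImmersion {X Y : Scheme.{u}} (f : X ⟶ Y) [IsImmersion f] : IsIndQuasiAffineHom f :=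
  (iff_forall f).2 fun _ hV _ hUV hU => isQuasiAffineHom_comp_immersion f hV hUV hU

theorem of_isQuasiAffineHom {X Y : Scheme.{u}} (f : X ⟶ Y) (hf : IsQuasiAffineHom f) :
    IsIndQuasiAffineHom f := by
  intro V hV U hU
  haveI := hf.2 V hV
  haveI : CompactSpace (U : Scheme.{u}) := (isCompact_iff U).1 hU
  exact Scheme.IsQuasiAffine.of_isImmersion U.ι

end Groth.Agent.Wt.IndQA
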