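import Groth.Agent.Wt.Constr

/-!
# Level sets of fibre integrals are constructible
-/

universe u

open AlgebraicGeometry CategoryTheory Limits Topology

namespace Groth.Agent.Wt.ConstrInt

open GeomPts Split Parts Master Local Constr

variable {X Y : Scheme.{u}}

instance (P : Scheme.{u}) [CompactSpace P] [QuasiSeparatedSpace P] : SpectralSpace P where

theorem isClosed_bad {α ι : Type*} [TopologicalSpace α] {J : Set ι} (hJ : J.Finite) {A : Set α}
    {B : ι → ι → Set α} (hA : IsClosed A) (hB : ∀ z ∈ J, ∀ z' ∈ J, IsClosed (B z z')) :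
    IsClosed (A ∪ ⋃ z ∈ J, ⋃ z' ∈ J, ⋃ _ : z ≠ z', B z z') :=
  hA.union (hJ.isClosed_biUnion fun z hz => hJ.isClosed_biUnion fun z' hz' =>
    isClosed_iUnion_of_finite fun _ => hB z hz z' hz')

theorem fibreIntegral_eq_geomInt (f : X ⟶ Y) [LocallyQuasiFinite f] [QuasiCompact f] (w : X → ℤ)
    {V : Scheme.{u}} (g : V ⟶ Y) {K : Type u} [Field K] [IsAlgClosed K]
    (yb : Spec (CommRingCat.of K) ⟶ V) :
    Finite (GeomFib (pullback.snd f g) yb) ∧
      MoreMor.fibreIntegral f w (g (pt yb)) =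
        geomInt (pullback.snd f g) yb (fun p => w (pullback.fst f g p)) := by
  have : Finite {x : X // f x = pt (yb ≫ g)} := (f.finite_preimage_singleton _).to_subtype
  have := finite_geomFib f (yb ≫ g)
  refine ⟨.of_equiv _ (baseChangeEquiv f (IsPullback.of_hasPullback f g) yb).symm, ?_⟩
  rw [← pt_comp, ← geomInt_eq_fibreIntegral f (yb ≫ g),
    ← geomInt_baseChange f (IsPullback.of_hasPullback f g) yb]
  rfl

theorem exists_constructible_const (f : X ⟶ Y) [LocallyOfFinitePresentation f] [LocallyQuasiFinite f]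
    [QuasiCompact f] [QuasiSeparated f] {w : X → ℤ} (hw : MoreMor.IsWeighting f w) (Y₀ : Y.Opens)
    (hY₀ : IsAffineOpen Y₀) (y : Y₀.toScheme) :
    ∃ C : Set Y₀.toScheme, IsConstructible C ∧ y ∈ C ∧
      ∀ y' ∈ C, MoreMor.fibreIntegral f w (Y₀.ι y') = MoreMor.fibreIntegral f w (Y₀.ι y) := by
  obtain ⟨V, g, u, hg, hu, J, W, hJ, hJW, hmem, hev⟩ :=
    exists_single f hw (Y₀.ι y) (f ⁻¹' {Y₀.ι y}) (f.finite_preimage_singleton _) fun _ h => h
  obtain ⟨N₀, hN₀, hN₀o, huN₀⟩ := mem_nhds_iff.mp hev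
  obtain ⟨N, hN, huN, hNsub⟩ := exists_isAffineOpen_mem_and_subset (x := u)
    (U := ⟨N₀, hN₀o⟩ ⊓ g ⁻¹ᵁ Y₀) ⟨huN₀, show g u ∈ Y₀ from hu.symm ▸ y.2⟩
  have : IsAffine N.toScheme := hN
  have : IsAffine Y₀.toScheme := hY₀
  let q := pullback.snd f g
  let P := (q ⁻¹ᵁ N).toScheme
  let qN : P ⟶ N.toScheme := q ∣_ N
  let j := (q ⁻¹ᵁ N).ι
  have : CompactSpace P := isCompact_iff_compactSpace.mp (q.isCompact_preimage hN.isCompact)
  have : QuasiSeparatedSpace P := (quasiSeparated_iff_quasiSeparatedSpace qN).mp inferInstance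
  have hcont := SpecTop.continuous_cons_of_isSpectralMap
    (quasiCompact_iff_isSpectralMap.mp (inferInstance : QuasiCompact qN))
  have hjq : ∀ p, N.ι (qN p) = q (j p) := fun p => by
    rw [← Scheme.Hom.comp_apply, morphismRestrict_ι, Scheme.Hom.comp_apply]
  have hWc : ∀ z ∈ J, IsCompact (j ⁻¹' (W z : Set _)) := fun z hz => by
    have := isFinite_preimage N.ι (isPullback_morphismRestrict q N).flip (W z) (hJW z hz).1.finite
    have : IsAffine (j ⁻¹ᵁ W z).toScheme := isAffine_of_isAffineHom ((j ⁻¹ᵁ W z).ι ≫ qN)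
    exact isCompact_iff_compactSpace.mpr (inferInstanceAs (CompactSpace (j ⁻¹ᵁ W z).toScheme))
  let E₁ : Set P := (⋃ z ∈ J, j ⁻¹' (W z : Set _))ᶜ
  let E₂ := fun z z' => j ⁻¹' (W z : Set _) ∩ j ⁻¹' (W z' : Set _)
  let B : Set N.toScheme := qN '' E₁ ∪ ⋃ z ∈ J, ⋃ z' ∈ J, ⋃ _ : z ≠ z', qN '' E₂ z z'
  let u' : N.toScheme := ⟨u, huN⟩
  have hB : IsClosed[constructibleTopology N.toScheme] B := by
    refine @isClosed_bad _ _ (constructibleTopology N.toScheme) _ hJ _ _ ?_ fun z hz z' hz' => ?_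
    · exact SpecTop.isClosed_cons_image hcont (SpecTop.isClosed_cons_of_isClosed
        (isOpen_biUnion fun z _ => (W z).2.preimage j.continuous).isClosed_compl)
    · exact SpecTop.isClosed_cons_image hcont (SpecTop.isClosed_cons_of_compactOpen
        (((W z).2.preimage j.continuous).inter ((W z').2.preimage j.continuous))
        (QuasiSeparatedSpace.inter_isCompact _ _ ((W z).2.preimage j.continuous) (hWc z hz)
          ((W z').2.preimage j.continuous) (hWc z' hz')))
  have huB : u' ∉ B := by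
    rintro (⟨p, hp, hpu⟩ | h)
    · refine hp ?_
      have hqp : q (j p) = u := (hjq p).symm.trans (congrArg (fun i => N.ι i) hpu)
      have hz : j p ∈ J := hmem _ hqp (by
        show f _ = _
        rw [← Scheme.Hom.comp_apply, pullback.condition, Scheme.Hom.comp_apply, ← hu]
        exact congrArg g hqp)
      exact Set.mem_biUnion hz (hJW _ hz).1.mem
    · simp only [Set.mem_iUnion] at h
      obtain ⟨z, hz, z', hz', hne, p, ⟨hp, hp'⟩, hpu⟩ := h
      have hqp : q (j p) = u := (hjq p).symm.trans (congrArg (fun i => N.ι i) hpu)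
      exact hne (((hJW z hz).1.unique _ hp hqp).symm.trans ((hJW z' hz').1.unique _ hp' hqp))
  obtain ⟨C, hC, huC, hCs⟩ := FDesc.ProConsImage.exists_isConstructible_subset
    ((@isOpen_compl_iff _ _ (constructibleTopology _)).mpr hB) (x := u') huB
  let w' := fun p => w (pullback.fst f g p)
  have key : ∀ n ∈ C, MoreMor.fibreIntegral f w (g (N.ι n)) = ∑ᶠ z ∈ J, w' z := fun n hn => by
    obtain ⟨yb, hyb⟩ := exists_geomPt (N.ι n)
    obtain ⟨hF, hI⟩ := fibreIntegral_eq_geomInt f w g yb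
    rw [← hyb, hI, ← geomSum_univ]
    have hlift : ∀ x : GeomFib q yb, ∃ p : P, j p = pt x.1 ∧ qN p = n := fun x => by
      have hx : q (pt x.1) = N.ι n := (apply_pt q yb x).trans hyb
      refine ⟨⟨pt x.1, show q (pt x.1) ∈ N by rw [hx]; exact n.2⟩, rfl,
        N.ι.isOpenEmbedding.injective ((hjq _).trans hx)⟩
    unfold geomSum
    have hset : {x : GeomFib q yb | pt x.1 ∈ (Set.univ : Set ↥(pullback f g))} =
        ⋃ z ∈ J, {x : GeomFib q yb | pt x.1 ∈ (W z : Set _)} := by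
      ext x
      simp only [Set.mem_univ, Set.mem_ofPred_eq, Set.mem_iUnion, true_iff]
      obtain ⟨p, hp, hpn⟩ := hlift x
      by_contra h
      push Not at h
      refine hCs hn (Or.inl ⟨p, ?_, hpn⟩)
      simp only [E₁, Set.mem_compl_iff, Set.mem_iUnion, Set.mem_preimage]
      rintro ⟨z, hz, hzW⟩
      exact h z hz (hp ▸ hzW)
    rw [hset]
    refine (finsum_mem_biUnion ?_ hJ fun z _ => Set.toFinite _).trans
      (finsum_mem_congr rfl fun z hz => hN₀ (hNsub n.2).1 z hz _ yb hyb)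
    intro z hz z' hz' hne
    rw [Function.onFun, Set.disjoint_left]
    intro x hx hx'
    obtain ⟨p, hp, hpn⟩ := hlift x
    refine hCs hn (Or.inr ?_)
    simp only [Set.mem_iUnion]
    exact ⟨z, hz, z', hz', hne, p, ⟨show j p ∈ W z from hp.symm ▸ hx,
      show j p ∈ W z' from hp.symm ▸ hx'⟩, hpn⟩
  have hNY : N ≤ g ⁻¹ᵁ Y₀ := fun n hn => (hNsub hn).2
  have : QuasiCompact (g.resLE Y₀ N hNY) := inferInstance
  refine ⟨g.resLE Y₀ N hNY '' C, (g.resLE Y₀ N hNY).isConstructible_image hC,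
    ⟨u', huC, Y₀.ι.isOpenEmbedding.injective
      ((congr($(Scheme.Hom.resLE_comp_ι g hNY) u')).trans hu)⟩, ?_⟩
  rintro _ ⟨n, hn, rfl⟩
  rw [← hu, show Y₀.ι (g.resLE Y₀ N hNY n) = g (N.ι n) from
    congr($(Scheme.Hom.resLE_comp_ι g hNY) n), key n hn]
  exact (key u' huC).symm

theorem isLocallyConstructible_fibreIntegral (f : X ⟶ Y) [LocallyOfFinitePresentation f]
    [LocallyQuasiFinite f] [QuasiCompact f] [QuasiSeparated f] {w : X → ℤ}
    (hw : MoreMor.IsWeighting f w) (n : ℤ) :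
    IsLocallyConstructible {y : Y | MoreMor.fibreIntegral f w y = n} := by
  intro y
  obtain ⟨Y₀, hY₀, hy, -⟩ := exists_isAffineOpen_mem_and_subset (TopologicalSpace.Opens.mem_top y)
  have : IsAffine Y₀.toScheme := hY₀
  have : SpectralSpace (Y₀ : Set Y) := inferInstanceAs (SpectralSpace Y₀.toScheme)
  refine ⟨Y₀, Y₀.2.mem_nhds hy, Y₀.2, ?_⟩
  have key : ∀ P : ℤ → Prop, IsOpen[constructibleTopology Y₀.toScheme]
      {y : Y₀.toScheme | P (MoreMor.fibreIntegral f w (Y₀.ι y))} := fun P => by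
    refine (@isOpen_iff_forall_mem_open _ (constructibleTopology Y₀.toScheme) _).mpr fun y hyP => ?_
    obtain ⟨C, hC, hyC, hCw⟩ := exists_constructible_const f hw Y₀ hY₀ y
    exact ⟨C, fun y' hy' => by show P _; rw [hCw y' hy']; exact hyP,
      (SpecTop.isClopen_cons_of_isConstructible hC).2, hyC⟩
  exact SpecTop.isConstructible_of_isClopen_cons
    ⟨@IsClosed.mk _ (constructibleTopology Y₀.toScheme) _ (key (· ≠ n)), key (· = n)⟩

end Groth.Agent.Wt.ConstrInt
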