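import Groth.Agent.Wt.Pure
import Mathlib.RingTheory.Unramified.LocalStructure

/-!
# Weightings: the master lemma

A weighting has locally constant fibre integrals on *every* base change along finite opens.
-/

universe u

open AlgebraicGeometry CategoryTheory Limits

namespace Groth.Agent.Wt.Master

open GeomPts EtNbhd Parts Split _root_.Groth.Agent.Wt.Pure

variable {X Y S T T' P P' : Scheme.{u}}

theorem locallyQuasiFinite_of_etale (g : X ⟶ Y) [Etale g] : LocallyQuasiFinite g := by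
  rw [HasRingHomProperty.iff_appLE (P := @LocallyQuasiFinite)]
  intro V U e
  have h : (g.appLE V.1 U.1 e).hom.Etale := HasRingHomProperty.appLE @Etale g ‹_› V U e
  algebraize [(g.appLE V.1 U.1 e).hom]
  exact (inferInstance : Algebra.QuasiFinite Γ(Y, V) Γ(X, U))

variable (q : P ⟶ T)

theorem finite_fibre_open (W : P.Opens) (hW : IsFinite (W.ι ≫ q)) (t : T) :
    ((W : Set P) ∩ q ⁻¹' {t}).Finite := by
  refine (((W.ι ≫ q).finite_preimage_singleton t).image W.ι).subset ?_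
  rintro p ⟨hp, hpt⟩
  exact ⟨⟨p, hp⟩, hpt, rfl⟩

/-- A closed set missing the fibre of a finite open misses a neighbourhood of the fibre. -/
theorem exists_nbhd_avoid (W : P.Opens) (hW : IsFinite (W.ι ≫ q)) (C : Set P) (hC : IsClosed C)
    (t : T) (h : ∀ p ∈ W, q p = t → p ∉ C) :
    ∃ N : T.Opens, t ∈ N ∧ ∀ p ∈ W, q p ∈ N → p ∉ C := by
  let Z := (W.ι ≫ q) '' (W.ι ⁻¹' C)
  have hZ : IsClosed Z := (W.ι ≫ q).isClosedMap _ (hC.preimage W.ι.continuous)
  refine ⟨⟨Zᶜ, hZ.isOpen_compl⟩, ?_, fun p hp hpN hpC => hpN ⟨⟨p, hp⟩, hpC, rfl⟩⟩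
  rintro ⟨w, hw, rfl⟩
  exact h _ w.2 rfl hw

/-- A finite open inside another finite open is relatively closed in it. -/
theorem exists_isClosed_inter (W U : P.Opens) (hW : IsFinite (W.ι ≫ q)) (hU : IsFinite (U.ι ≫ q))
    (N : T.Opens) (h : ∀ p ∈ W, q p ∈ N → p ∈ U) :
    ∃ C : Set P, IsClosed C ∧ ∀ p ∈ U, q p ∈ N → (p ∈ C ↔ p ∈ W) := by
  let qW := W.ι ≫ q
  let qU := U.ι ≫ q
  have hr : Set.range ((qW ⁻¹ᵁ N).ι ≫ W.ι) ⊆ Set.range ((qU ⁻¹ᵁ N).ι ≫ U.ι) := by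
    rintro _ ⟨w, rfl⟩
    exact ⟨⟨⟨W.ι w.1, h _ w.1.2 w.2⟩, w.2⟩, rfl⟩
  let k := IsOpenImmersion.lift ((qU ⁻¹ᵁ N).ι ≫ U.ι) ((qW ⁻¹ᵁ N).ι ≫ W.ι) hr
  have hk : k ≫ qU ∣_ N = qW ∣_ N := by
    rw [← cancel_mono N.ι, Category.assoc, morphismRestrict_ι, morphismRestrict_ι]
    simp only [qW, qU, ← Category.assoc]
    congr 1
    rw [Category.assoc]
    exact IsOpenImmersion.lift_fac _ _ _
  have h₁ : IsFinite (qW ∣_ N) := inferInstanceAs (IsFinite ((W.ι ≫ q) ∣_ N))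
  have h₂ : IsFinite (qU ∣_ N) := inferInstanceAs (IsFinite ((U.ι ≫ q) ∣_ N))
  have : IsFinite (k ≫ qU ∣_ N) := hk ▸ h₁
  have : IsFinite k := IsFinite.of_comp k (qU ∣_ N)
  have hcl : IsClosed (Set.range k) := k.isClosedMap.isClosed_range
  let j := (qU ⁻¹ᵁ N).ι ≫ U.ι
  have hj : ∀ v, j v = ((v.1).1 : P) := fun v => rfl
  refine ⟨closure (j '' Set.range k), isClosed_closure, fun p hp hpN => ?_⟩
  let p' : ↑(qU ⁻¹ᵁ N).toScheme := ⟨⟨p, hp⟩, hpN⟩
  have e : p = j p' := rfl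
  rw [e, ← Set.mem_preimage, ← j.isOpenEmbedding.isInducing.closure_eq_preimage_closure_image,
    hcl.closure_eq]
  constructor
  · rintro ⟨w, hw⟩
    rw [← hw, ← Scheme.Hom.comp_apply]
    simp only [k, j, IsOpenImmersion.lift_fac]
    exact w.1.2
  · intro hpW
    refine ⟨⟨⟨p, hpW⟩, hpN⟩, j.isOpenEmbedding.injective ?_⟩
    have := congr($(IsOpenImmersion.lift_fac _ _ hr) (⟨⟨p, hpW⟩, hpN⟩ : ↑(qW ⁻¹ᵁ N).toScheme))
    exact this

/-- The sum of `w` over the geometric points in a subset. -/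
noncomputable def geomSum (A : Set P) (w : P → ℤ) {K : Type u} [Field K]
    (y : Spec (CommRingCat.of K) ⟶ T) : ℤ :=
  ∑ᶠ x ∈ {x : GeomFib q y | pt x.1 ∈ A}, w (pt x.1)

/-- The lifts in an open are the lifts along the open. -/
noncomputable def openEquiv (U : P.Opens) {K : Type u} [Field K] (y : Spec (CommRingCat.of K) ⟶ T) :
    GeomFib (U.ι ≫ q) y ≃ {x : GeomFib q y // pt x.1 ∈ U} where
  toFun x := ⟨⟨x.1 ≫ U.ι, by rw [Category.assoc]; exact x.2⟩, (pt x.1).2⟩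
  invFun x := ⟨IsOpenImmersion.lift U.ι x.1.1 (by
      rintro _ ⟨p, rfl⟩
      rw [eq_pt, Scheme.Opens.range_ι]
      exact x.2), (Category.assoc _ _ _).symm.trans
        ((congrArg (· ≫ q) (IsOpenImmersion.lift_fac _ _ _)).trans x.1.2)⟩
  left_inv x := Subtype.ext ((cancel_mono U.ι).mp (IsOpenImmersion.lift_fac _ _ _))
  right_inv x := Subtype.ext (Subtype.ext (IsOpenImmersion.lift_fac _ _ _))

theorem geomInt_open (U : P.Opens) (w : P → ℤ) {K : Type u} [Field K]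
    (y : Spec (CommRingCat.of K) ⟶ T) :
    geomInt (U.ι ≫ q) y (fun p => w (U.ι p)) = geomSum q U w y := by
  unfold geomInt geomSum
  rw [← finsum_set_coe_eq_finsum_mem]
  exact finsum_comp_equiv (openEquiv q U y) (f := fun x => w (pt x.1.1))

theorem finite_geomFib_open (U : P.Opens) (hU : IsFinite (U.ι ≫ q)) {K : Type u} [Field K]
    [IsAlgClosed K] (y : Spec (CommRingCat.of K) ⟶ T) :
    {x : GeomFib q y | pt x.1 ∈ U}.Finite := by
  have : Finite {u // (U.ι ≫ q) u = pt y} := ((U.ι ≫ q).finite_preimage_singleton (pt y)).to_subtype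
  have := finite_geomFib (U.ι ≫ q) y
  exact Set.finite_coe_iff.mp (Finite.of_equiv _ (openEquiv q U y))

theorem geomSum_eq_fibreIntegral (U : P.Opens) (hU : IsFinite (U.ι ≫ q)) (w : P → ℤ) {K : Type u}
    [Field K] [IsAlgClosed K] (y : Spec (CommRingCat.of K) ⟶ T) :
    geomSum q U w y = MoreMor.fibreIntegral (U.ι ≫ q) (fun p => w (U.ι p)) (pt y) := by
  have : Finite {u // (U.ι ≫ q) u = pt y} := ((U.ι ≫ q).finite_preimage_singleton (pt y)).to_subtype
  rw [← geomInt_eq_fibreIntegral (U.ι ≫ q) y, geomInt_open]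

theorem geomSum_preimage {a : P' ⟶ P} {q' : P' ⟶ T'} {b : T' ⟶ T} (h : IsPullback a q' q b)
    (A : Set P) (w : P → ℤ) {K : Type u} [Field K] (y : Spec (CommRingCat.of K) ⟶ T') :
    geomSum q' (a ⁻¹' A) (w ∘ a) y = geomSum q A w (y ≫ b) := by
  unfold geomSum
  refine finsum_mem_eq_of_bijOn (baseChangeEquiv q h y) ⟨?_, ?_, ?_⟩ fun x _ => rfl
  · exact fun x hx => hx
  · exact (baseChangeEquiv q h y).injective.injOn
  · intro x hx
    refine ⟨(baseChangeEquiv q h y).symm x, ?_, Equiv.apply_symm_apply _ x⟩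
    have : pt (((baseChangeEquiv q h y).symm x).1 ≫ a) = pt x.1 :=
      congrArg (fun z : GeomFib q (y ≫ b) => pt z.1) ((baseChangeEquiv q h y).apply_symm_apply x)
    show pt ((baseChangeEquiv q h y).symm x).1 ∈ a ⁻¹' A
    rw [Set.mem_preimage, ← pt_comp, this]
    exact hx

/-- The weighting condition, read on geometric points. -/
theorem geomSum_eventually_const {f : X ⟶ Y} {w : X → ℤ} (hw : MoreMor.IsWeighting f w) (g : T ⟶ Y)
    [Etale g] (U : (pullback f g).Opens) (hU : IsFinite (U.ι ≫ pullback.snd f g)) (t : T) :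
    ∃ N : T.Opens, t ∈ N ∧ ∃ c : ℤ, ∀ (K : Type u) [Field K] [IsAlgClosed K]
      (y : Spec (CommRingCat.of K) ⟶ T), pt y ∈ N →
        geomSum (pullback.snd f g) U (fun p => w (pullback.fst f g p)) y = c := by
  obtain ⟨N, hN, htN, hconst⟩ := (hw T g U hU).exists_open t
  refine ⟨⟨N, hN⟩, htN, MoreMor.fibreIntegral (U.ι ≫ pullback.snd f g)
    (fun u => w (pullback.fst f g (U.ι u))) t, fun K _ _ y hy => ?_⟩
  rw [geomSum_eq_fibreIntegral _ U hU]
  exact hconst _ hy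

/-- Points of a geometrically single part over a refinement of the base. -/
theorem eq_of_isGeomSingle {a : P' ⟶ P} {q' : P' ⟶ T'} {b : T' ⟶ T} [LocallyQuasiFinite q']
    (h : IsPullback a q' q b) {z : P} (hz : IsGeomSingle q z) (p p' : P') (hp : a p = z)
    (hp' : a p' = z) (e : q' p = q' p') : p = p' := by
  obtain ⟨y, hy⟩ := exists_geomPt (q' p)
  obtain ⟨c, hc⟩ := surjective_pt q' y ⟨p, hy.symm⟩
  obtain ⟨d, hd⟩ := surjective_pt q' y ⟨p', (hy.trans e).symm⟩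
  have hc' : pt c.1 = p := congrArg Subtype.val hc
  have hd' : pt d.1 = p' := congrArg Subtype.val hd
  have key : c.1 ≫ a = d.1 ≫ a := hz _ _ _ (by rw [pt_comp, hc', hp]) (by rw [pt_comp, hd', hp'])
    (by rw [Category.assoc, Category.assoc, h.w, reassoc_of% c.2, reassoc_of% d.2])
  rw [← hc', ← hd', h.hom_ext key (c.2.trans d.2.symm)]

open scoped Topology

/-- **Master lemma.** For a weighting, the sums over the geometric points of a finite open of any
base change are locally constant. -/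
theorem exists_nbhd_geomSum {f : X ⟶ Y} [LocallyOfFiniteType f] [LocallyQuasiFinite f] {w : X → ℤ}
    (hw : MoreMor.IsWeighting f w) (g : T ⟶ Y) (U : (pullback f g).Opens)
    (hU : IsFinite (U.ι ≫ pullback.snd f g)) (t : T) :
    ∃ N : T.Opens, t ∈ N ∧ ∃ c : ℤ, ∀ (K : Type u) [Field K] [IsAlgClosed K]
      (y : Spec (CommRingCat.of K) ⟶ T), pt y ∈ N →
        geomSum (pullback.snd f g) U (fun p => w (pullback.fst f g p)) y = c := by
  let A : Set X := pullback.fst f g '' ((U : Set ↥(pullback f g)) ∩ pullback.snd f g ⁻¹' {t})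
  have hA : A.Finite := (finite_fibre_open _ U hU t).image _
  have hAt : ∀ x ∈ A, f x = g t := by
    rintro _ ⟨p, ⟨-, hp⟩, rfl⟩
    rw [← Scheme.Hom.comp_apply, pullback.condition, Scheme.Hom.comp_apply, hp]
  obtain ⟨V, g₁, u, _, hu, J, W, hJ, hJW, hJmem⟩ :=
    exists_pureParts f (g t) A hA hAt (fun x _ => f.quasiFiniteAt x)
  obtain ⟨t', ht', hu'⟩ := Scheme.Pullback.exists_preimage_pullback (f := g) (g := g₁) t u hu.symm
  let s' := pullback.fst g g₁
  let s'' := pullback.snd g g₁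
  have hb : s'' ≫ g₁ = s' ≫ g := pullback.condition.symm
  let a' := bcMap f s' (g := g) rfl
  let a₁ := bcMap f s'' (g := g₁) hb
  have h' : IsPullback a' (pullback.snd f (s' ≫ g)) (pullback.snd f g) s' := isPullback_bcMap f s' rfl
  have h₁ : IsPullback a₁ (pullback.snd f (s' ≫ g)) (pullback.snd f g₁) s'' :=
    isPullback_bcMap f s'' hb
  let q' := pullback.snd f (s' ≫ g)
  let U' := a' ⁻¹ᵁ U
  have hU' : IsFinite (U'.ι ≫ q') := isFinite_preimage s' h' U hU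
  let F := (U' : Set ↥(pullback f (s' ≫ g))) ∩ q' ⁻¹' {t'}
  have hF : F.Finite := finite_fibre_open q' U' hU' t'
  have hFJ : ∀ p ∈ F, a₁ p ∈ J := fun p hp => hJmem _
    (by rw [snd_bcMap]; exact (congrArg s'' hp.2).trans hu')
    (by
      rw [fst_bcMap, ← fst_bcMap f s' (g := g) rfl]
      refine ⟨_, ⟨hp.1, ?_⟩, rfl⟩
      rw [Set.mem_preimage, snd_bcMap]
      exact (congrArg s' hp.2).trans ht')
  let W' := fun p => a₁ ⁻¹ᵁ W (a₁ p)
  have hW' : ∀ p ∈ F, IsFinite ((W' p).ι ≫ q') := fun p hp =>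
    isFinite_preimage s'' h₁ _ (hJW _ (hFJ p hp)).1.finite
  have hfib : ∀ p ∈ F, ∀ x ∈ W' p, q' x = t' → x = p := fun p hp x hx hxt => by
    obtain ⟨hfp, hsingle, -⟩ := hJW _ (hFJ p hp)
    refine eq_of_isGeomSingle _ h₁ hsingle x p (hfp.unique _ hx ?_) rfl (hxt.trans hp.2.symm)
    rw [snd_bcMap]
    exact (congrArg s'' hxt).trans hu'
  have hself : ∀ p ∈ F, p ∈ W' p := fun p hp => (hJW _ (hFJ p hp)).1.mem
  have avoid : ∀ (W₀ : (pullback f (s' ≫ g)).Opens), IsFinite (W₀.ι ≫ q') →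
      ∀ C : Set ↥(pullback f (s' ≫ g)), IsClosed C → (∀ x ∈ W₀, q' x = t' → x ∉ C) →
        ∀ᶠ n in 𝓝 t', ∀ x ∈ W₀, q' x = n → x ∉ C := fun W₀ h₀ C hC h => by
    obtain ⟨N, htN, hN⟩ := exists_nbhd_avoid q' W₀ h₀ C hC t' h
    filter_upwards [N.2.mem_nhds htN] with n hn x hx hxn
    exact hN x hx (show q' x ∈ N from hxn ▸ hn)
  have ev₁ : ∀ᶠ n in 𝓝 t', ∀ p ∈ F, ∀ x ∈ W' p, q' x = n → x ∈ U' := by
    refine hF.eventually_all.mpr fun p hp => ?_
    filter_upwards [avoid (W' p) (hW' p hp) _ U'.2.isClosed_compl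
      fun x hx hxt hxU => hxU (hfib p hp x hx hxt ▸ hp.1)] with n hn x hx hxn
    exact not_not.mp (hn x hx hxn)
  have ev₂ : ∀ᶠ n in 𝓝 t', ∀ x ∈ U', q' x = n → ∃ p ∈ F, x ∈ W' p := by
    filter_upwards [avoid U' hU' (⋃ p ∈ F, (W' p : Set _))ᶜ
      (isOpen_biUnion fun p _ => (W' p).2).isClosed_compl
      fun x hx hxt hx' => hx' (Set.mem_biUnion (show x ∈ F from ⟨hx, hxt⟩) (hself x ⟨hx, hxt⟩))]
      with n hn x hx hxn
    simpa using hn x hx hxn
  have ev₃ : ∀ᶠ n in 𝓝 t', ∀ p ∈ F, ∀ p' ∈ F, p ≠ p' → ∀ x ∈ W' p, q' x = n → x ∈ U' →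
      x ∉ W' p' := by
    refine hF.eventually_all.mpr fun p hp => hF.eventually_all.mpr fun p' hp' => ?_
    by_cases hne : p = p'
    · exact .of_forall fun n h => absurd hne h
    obtain ⟨N, htN, hN⟩ := exists_nbhd_avoid q' (W' p') (hW' p' hp') _ U'.2.isClosed_compl t'
      fun x hx hxt hxU => hxU (hfib p' hp' x hx hxt ▸ hp'.1)
    obtain ⟨C, hC, hCW⟩ := exists_isClosed_inter q' (W' p') U' (hW' p' hp') hU' N
      fun x hx hxN => not_not.mp (hN x hx hxN)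
    filter_upwards [avoid (W' p) (hW' p hp) C hC fun x hx hxt hxC => by
        obtain rfl := hfib p hp x hx hxt
        exact hne (hfib p' hp' x ((hCW x hp.1 (hxt ▸ htN)).mp hxC) hxt),
      N.2.mem_nhds htN] with n hn hnN _ x hx hxn hxU hx'
    exact hn x hx hxn ((hCW x hxU (show q' x ∈ N from hxn ▸ hnN)).mpr hx')
  have hconst : ∀ p ∈ F, ∃ c : ℤ, ∀ᶠ n in 𝓝 t', ∀ (K : Type u) [Field K] [IsAlgClosed K]
      (y : Spec (CommRingCat.of K) ⟶ pullback g g₁), pt y = n →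
        geomSum q' (W' p) (fun x => w (pullback.fst f (s' ≫ g) x)) y = c := fun p hp => by
    obtain ⟨N, huN, c, hc⟩ :=
      geomSum_eventually_const hw g₁ (W (a₁ p)) (hJW _ (hFJ p hp)).1.finite u
    refine ⟨c, ?_⟩
    filter_upwards [(s'' ⁻¹ᵁ N).2.mem_nhds (show s'' t' ∈ N from hu'.symm ▸ huN)]
      with n hn K _ _ y hy
    rw [← hc K (y ≫ s'') (by rw [pt_comp, hy]; exact hn), ← geomSum_preimage _ h₁]
    congr 1
    funext x
    exact congrArg w (fst_bcMap f s'' hb x).symm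
  choose! c hc using hconst
  have ev₄ : ∀ᶠ n in 𝓝 t', ∀ p ∈ F, ∀ (K : Type u) [Field K] [IsAlgClosed K]
      (y : Spec (CommRingCat.of K) ⟶ pullback g g₁), pt y = n →
        geomSum q' (W' p) (fun x => w (pullback.fst f (s' ≫ g) x)) y = c p :=
    hF.eventually_all.mpr hc
  obtain ⟨N₁, hN₁, hN₁o, htN₁⟩ := mem_nhds_iff.mp (ev₁.and (ev₂.and (ev₃.and ev₄)))
  refine ⟨⟨s' '' N₁, s'.isOpenMap N₁ hN₁o⟩, ⟨t', htN₁, ht'⟩, ∑ᶠ p ∈ F, c p,
    fun K _ _ y hy => ?_⟩
  obtain ⟨n, hn, hny⟩ := hy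
  have := locallyQuasiFinite_of_etale s'
  obtain ⟨y', hy'⟩ := surjective_pt s' y ⟨n, hny⟩
  have hyn : pt y'.1 = n := congrArg Subtype.val hy'
  obtain ⟨e₁, e₂, e₃, e₄⟩ := hN₁ hn
  have step : geomSum (pullback.snd f g) U (fun p => w (pullback.fst f g p)) y =
      geomSum q' U' (fun x => w (pullback.fst f (s' ≫ g) x)) y'.1 := by
    conv_lhs => rw [← y'.2, ← geomSum_preimage _ h']
    congr 1
    funext x
    exact congrArg w (fst_bcMap f s' rfl x)
  rw [step, ← finsum_mem_congr rfl fun p hp => e₄ p hp K y'.1 hyn]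
  unfold geomSum
  have hset : {x : GeomFib q' y'.1 | pt x.1 ∈ (U' : Set ↥(pullback f (s' ≫ g)))} =
      ⋃ p ∈ F, {x : GeomFib q' y'.1 | pt x.1 ∈ (W' p : Set ↥(pullback f (s' ≫ g)))} := by
    ext x
    have hx : q' (pt x.1) = n := (apply_pt q' y'.1 x).trans hyn
    simp only [Set.mem_iUnion, Set.mem_ofPred_eq, SetLike.mem_coe, exists_prop]
    exact ⟨fun h => e₂ _ h hx, fun ⟨p, hp, h⟩ => e₁ p hp _ h hx⟩
  rw [hset]
  refine finsum_mem_biUnion ?_ hF fun p hp => finite_geomFib_open q' _ (hW' p hp) y'.1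
  intro p hp p' hp' hne
  rw [Function.onFun, Set.disjoint_left]
  intro x hx hx'
  have hxn : q' (pt x.1) = n := (apply_pt q' y'.1 x).trans hyn
  exact e₃ p hp p' hp' hne _ hx hxn (e₁ p hp _ hx hxn) hx'

end Groth.Agent.Wt.Master
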