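import Groth.Agent.Wt.Parts

/-!
# Purely inseparable splitting of quasi-finite points (finite parts with one geometric point)
-/

universe u

open AlgebraicGeometry CategoryTheory Limits Polynomial Scheme.Pullback

namespace Groth.Agent.Wt.Pure

open EtNbhd Parts Split

variable {X S U U' P P' : Scheme.{u}}

theorem isGeomSingle_preimage {b : U' ⟶ U} {a : P' ⟶ P} {q' : P' ⟶ U'} {q : P ⟶ U}
    (h : IsPullback a q' q b) {z : P} (hz : IsGeomSingle q z) {z' : P'} (hz' : a z' = z) :
    IsGeomSingle q' z' := by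
  intro K _ _ c d hc hd he
  refine h.hom_ext (hz K _ _ ?_ ?_ ?_) he
  · rw [GeomPts.pt_comp, hc, hz']
  · rw [GeomPts.pt_comp, hd, hz']
  · rw [Category.assoc, Category.assoc, h.w, reassoc_of% he]

theorem finite_points_over (f : X ⟶ S) (g : U ⟶ S) (x : X) (u : U)
    (hfin : (f.residueFieldMap x).hom.Finite) :
    {w : ↥(pullback f g) | pullback.fst f g w = x ∧ pullback.snd f g w = u}.Finite := by
  by_cases h : f x = g u
  swap
  · apply Set.finite_empty.subset
    rintro w ⟨rfl, rfl⟩
    exact h (by rw [← Scheme.Hom.comp_apply, ← Scheme.Hom.comp_apply, pullback.condition])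
  let T : Triplet f g := Triplet.mk' x u h
  have h1 : IsFinite (Spec.map ((S.residueFieldCongr T.hx).inv ≫ f.residueFieldMap T.x)) := by
    rw [IsFinite.SpecMap_iff, CommRingCat.hom_comp]
    exact hfin.comp (RingHom.Finite.of_surjective _
      (ConcreteCategory.bijective_of_isIso (S.residueFieldCongr T.hx).inv).2)
  have : IsFinite (Spec.map T.tensorInr) :=
    MorphismProperty.of_isPullback T.isPullback_SpecMap_tensor h1
  have : Finite (Spec T.tensor) := by
    have hu := (Spec.map T.tensorInr).finite_preimage_singleton (IsLocalRing.closedPoint _)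
    exact Set.finite_univ_iff.mp (hu.subset fun p _ => Subsingleton.elim _ _)
  refine (Set.finite_range T.SpecTensorTo).subset ?_
  rintro w ⟨h₁, h₂⟩
  have e : Triplet.ofPoint w = T := by
    ext
    · exact h₁
    · exact h₂
  refine ⟨Spec.map (Triplet.tensorCongr e).inv (SpecOfPoint w), ?_⟩
  rw [← Scheme.Hom.comp_apply, Triplet.tensorCongr_inv, tensorCongr_SpecTensorTo,
    SpecTensorTo_SpecOfPoint]

theorem quasiFiniteAt_snd (f : X ⟶ S) [LocallyOfFiniteType f] (g : U ⟶ S) (w : ↥(pullback f g))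
    (h : f.QuasiFiniteAt (pullback.fst f g w)) : (pullback.snd f g).QuasiFiniteAt w := by
  let Q := f.quasiFiniteLocus
  let j : pullback (Q.ι ≫ f) g ⟶ pullback f g :=
    pullback.map (Q.ι ≫ f) g f g Q.ι (𝟙 _) (𝟙 _) (Category.comp_id _) (by simp)
  have : w ∈ Set.range j := by
    rw [Scheme.Pullback.range_map]
    simpa [Q] using h
  obtain ⟨w', rfl⟩ := this
  have e : j ≫ pullback.snd f g = pullback.snd (Q.ι ≫ f) g :=
    (pullback.lift_snd _ _ _).trans (Category.comp_id _)
  rw [← Scheme.Hom.quasiFiniteAt_comp_iff_of_isOpenImmersion, e]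
  exact (pullback.snd (Q.ι ≫ f) g).quasiFiniteAt w'

/-- After an étale neighbourhood, finitely many quasi-finite points over `s` split into finite parts
each with a single geometric point. -/
theorem exists_pureParts (f : X ⟶ S) [LocallyOfFiniteType f] (s : S) (A : Set X) (hA : A.Finite)
    (hs : ∀ x ∈ A, f x = s) (hx : ∀ x ∈ A, f.QuasiFiniteAt x) :
    ∃ (U : Scheme.{u}) (g : U ⟶ S) (u : U), Etale g ∧ g u = s ∧
      ∃ (J : Set ↥(pullback f g)) (W : ↥(pullback f g) → (pullback f g).Opens), J.Finite ∧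
        (∀ z ∈ J, IsFinPart (pullback.snd f g) u (W z) z ∧ IsGeomSingle (pullback.snd f g) z ∧
          pullback.fst f g z ∈ A) ∧
        ∀ w, pullback.snd f g w = u → pullback.fst f g w ∈ A → w ∈ J := by
  have hB : ∀ x : A, letI := (f.residueFieldMap x.1).hom.toAlgebra
      ∃ B : Set (X.residueField x.1), B.Finite ∧ IntermediateField.adjoin (S.residueField (f x.1)) B =
        separableClosure (S.residueField (f x.1)) (X.residueField x.1) := fun x => by
    letI := (f.residueFieldMap x.1).hom.toAlgebra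
    have : Module.Finite (S.residueField (f x.1)) (X.residueField x.1) :=
      residueFieldMap_finite_of_quasiFiniteAt f x.1 (hx _ x.2)
    exact IntermediateField.fg_def.mp (IntermediateField.fg_of_noetherian _)
  choose B hBf hB using hB
  have : Finite A := hA.to_subtype
  have : ∀ x : A, Finite (B x) := fun x => (hBf x).to_subtype
  let P : (Σ x : A, B x) → (S.residueField s)[X] := fun p =>
    letI := (f.residueFieldMap p.1.1).hom.toAlgebra
    (minpoly (S.residueField (f p.1.1)) p.2.1).map (S.residueFieldCongr (hs _ p.1.2)).hom.hom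
  have hP : ∀ p, (P p).Separable := fun ⟨x, b, hb⟩ => by
    letI := (f.residueFieldMap x.1).hom.toAlgebra
    have : b ∈ separableClosure (S.residueField (f x.1)) (X.residueField x.1) :=
      hB x ▸ IntermediateField.subset_adjoin _ _ hb
    exact Polynomial.Separable.map (mem_separableClosure_iff.mp this)
  obtain ⟨U₁, g₁, u₁, hu₁, _, hsplit⟩ := exists_split s P hP
  let J₀ : Set ↥(pullback f g₁) :=
    {w | pullback.snd f g₁ w = u₁ ∧ pullback.fst f g₁ w ∈ A}
  have hJ₀ : J₀.Finite := by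
    refine ((hA.biUnion fun x hxA => finite_points_over f g₁ x u₁
      (residueFieldMap_finite_of_quasiFiniteAt f x (hx x hxA)))).subset ?_
    intro w hw
    simp only [Set.mem_iUnion]
    exact ⟨_, hw.2, rfl, hw.1⟩
  have hsingle : ∀ w ∈ J₀, IsGeomSingle (pullback.snd f g₁) w := by
    rintro w ⟨hw, hwA⟩
    refine isGeomSingle_of_splits f g₁ w
      (residueFieldMap_finite_of_quasiFiniteAt f _ (hx _ hwA))
      ⟨B ⟨_, hwA⟩, (hB ⟨_, hwA⟩).ge, fun a ha => ?_⟩
    subst hw
    refine ⟨hu₁.trans (hs _ hwA).symm, ?_⟩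
    have h := hsplit ⟨⟨_, hwA⟩, a, ha⟩
    rw [Polynomial.map_map] at h
    convert h using 2
    rw [← CommRingCat.hom_comp]
    congr 1
    simp [Scheme.residueFieldCongr_inv]
  have : Finite J₀ := hJ₀.to_subtype
  obtain ⟨U₂, g₂, u₂, hn₂, W, z, hWz⟩ := exists_finParts (pullback.snd f g₁) u₁ J₀ (fun w => w.1)
    (fun w => w.2.1) (fun w => quasiFiniteAt_snd f g₁ w.1 (hx _ w.2.2))
  have := hn₂.etale
  let a := bcMap f g₂ (g := g₁) rfl
  have ha := isPullback_bcMap f g₂ (g := g₁) rfl
  let e := ha.isoPullback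
  have hsq : IsPullback e.hom (pullback.snd f (g₂ ≫ g₁)) (pullback.snd (pullback.snd f g₁) g₂)
      (𝟙 U₂) := IsPullback.of_horiz_isIso ⟨by rw [ha.isoPullback_hom_snd, Category.comp_id]⟩
  have key : ∀ w : J₀, ∃ z', e.hom z' = z w ∧
      IsFinPart (pullback.snd f (g₂ ≫ g₁)) u₂ (e.hom ⁻¹ᵁ W w) z' := fun w =>
    isFinPart_preimage _ hsq u₂ (by rw [Scheme.residueFieldMap_id]; exact Function.bijective_id)
      (hWz w).1
  choose z' hz' hpart using key
  have haz : ∀ w, a (z' w) = w.1 := fun w => by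
    rw [← (hWz w).2, ← hz' w, ← Scheme.Hom.comp_apply, ha.isoPullback_hom_fst]
  classical
  let inv : ↥(pullback f (g₂ ≫ g₁)) → (pullback f (g₂ ≫ g₁)).Opens := fun p =>
    if h : ∃ w, z' w = p then e.hom ⁻¹ᵁ W h.choose else ⊥
  refine ⟨U₂, g₂ ≫ g₁, u₂, inferInstance, ?_, Set.range z', inv, Set.finite_range _, ?_, ?_⟩
  · rw [Scheme.Hom.comp_apply, hn₂.base_eq, hu₁]
  · rintro _ ⟨w, rfl⟩
    have hex : ∃ v, z' v = z' w := ⟨w, rfl⟩
    have hv : hex.choose = w := by
      apply Subtype.ext
      rw [← haz, hex.choose_spec, haz]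
    refine ⟨?_, isGeomSingle_preimage ha (hsingle _ w.2) (haz w), ?_⟩
    · simp only [inv, dif_pos hex, hv]
      exact hpart w
    · rw [← fst_bcMap f g₂ (g := g₁) rfl]
      change pullback.fst f g₁ (a (z' w)) ∈ A
      rw [haz]
      exact w.2.2
  · intro v hv hvA
    let w : J₀ := ⟨a v, by
      rw [show pullback.snd f g₁ (a v) = g₂ (pullback.snd f (g₂ ≫ g₁) v) from
        snd_bcMap f g₂ rfl v, hv, hn₂.base_eq],
      (fst_bcMap f g₂ (g := g₁) rfl v).symm ▸ hvA⟩
    obtain ⟨z₀, -, huniq⟩ := existsUnique_lift_sq g₂ ha u₂ w.1 (w.2.1.trans hn₂.base_eq.symm)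
      hn₂.residue_bijective
    exact ⟨w, (huniq _ (haz w) (hpart w).map_eq).trans (huniq v rfl hv).symm⟩

end Groth.Agent.Wt.Pure
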