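import Groth.Agent.Wt.ClosedPtsOne
import Mathlib.RingTheory.Valuation.LocalSubring
import Mathlib.RingTheory.Localization.Integral

/-!
# Closed points of the generic fibre between a point and a closed point of a special fibre
-/

universe u

open Polynomial

namespace Groth.Agent.Wt.ClosedPts

/-- A prime over a maximal ideal with algebraic residues is maximal. -/
theorem isMaximal_of_residue {A' B' : Type u} [CommRing A'] [CommRing B'] [Algebra A' B']
    (M : Ideal A') [M.IsMaximal] (m' : Ideal B') [m'.IsPrime] (h : m'.comap (algebraMap A' B') = M)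
    (G : Set B') (hG : Algebra.adjoin A' G = ⊤)
    (halg : ∀ z ∈ G, ∃ P : A'[X], (∃ i, P.coeff i ∉ M) ∧ aeval z P ∈ m') : m'.IsMaximal := by
  have : m'.LiesOver M := ⟨h.symm⟩
  letI : Field (A' ⧸ M) := Ideal.Quotient.field M
  have hint : Algebra.IsIntegral (A' ⧸ M) (B' ⧸ m') := by
    refine ⟨fun z => ?_⟩
    obtain ⟨z, rfl⟩ := Ideal.Quotient.mk_surjective z
    have hz : z ∈ Algebra.adjoin A' G := hG.ge Algebra.mem_top
    induction hz using Algebra.adjoin_induction with
    | mem z hz =>
      obtain ⟨P, ⟨i, hi⟩, hP⟩ := halg z hz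
      refine IsAlgebraic.isIntegral ⟨P.map (Ideal.Quotient.mk M), fun h0 => hi ?_, ?_⟩
      · have := congrArg (fun p => p.coeff i) h0
        simpa [coeff_map, Ideal.Quotient.eq_zero_iff_mem] using this
      · rw [aeval_def, eval₂_map]
        show eval₂ ((Ideal.Quotient.mk m').comp (algebraMap A' B')) (Ideal.Quotient.mk m' z) P = 0
        rw [← hom_eval₂, ← aeval_def]
        exact Ideal.Quotient.eq_zero_iff_mem.mpr hP
    | algebraMap a => exact isIntegral_algebraMap (x := Ideal.Quotient.mk M a)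
    | add p q _ _ hp hq => rw [map_add]; exact hp.add hq
    | mul p q _ _ hp hq => rw [map_mul]; exact hp.mul hq
  have : IsDomain (B' ⧸ m') := Ideal.Quotient.isDomain m'
  exact Ideal.Quotient.maximal_of_isField _
    (isField_of_isIntegral_of_isField' (Field.toIsField (A' ⧸ M)))

/-- The inductive step, with the auxiliary fields as variables. -/
theorem exists_prime_step {A B F L : Type u} [CommRing A] [IsDomain A] [CommRing B] [IsDomain B]
    [Algebra A B] [FaithfulSMul A B] [Algebra.FiniteType A B] [Field F] [Algebra B F]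
    [IsFractionRing B F] [Algebra A F] [IsScalarTower A B F] [Field L] [Algebra A L] [Algebra L F]
    [IsScalarTower A L F] [FaithfulSMul A L] (d : ℕ) (hL : Algebra.trdeg A L = (d : ℕ))
    (hFtr : Algebra.trdeg A F = (d + 1 : ℕ)) (m : Ideal B) [m.IsPrime] (g : B) (hg : g ≠ 0)
    (hm : m.comap (algebraMap A B) ≠ ⊥)
    (halgm : ∀ b : B, ∃ P : A[X], (∃ i, algebraMap A B (P.coeff i) ∉ m) ∧ aeval b P ∈ m) :
    ∃ Q₀ : Ideal B, Q₀.IsPrime ∧ Q₀ ≤ m ∧ Q₀.comap (algebraMap A B) = ⊥ ∧ g ∉ Q₀ ∧
      Algebra.trdeg A (B ⧸ Q₀) ≤ (d : ℕ) := by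
  classical
  have : FaithfulSMul L F := (faithfulSMul_iff_algebraMap_injective _ _).mpr (algebraMap L F).injective
  have hLF : Algebra.trdeg L F = 1 := by
    have h := trdeg_add_eq A L (A := F)
    rw [hL, hFtr, Nat.cast_succ] at h
    exact Cardinal.eq_of_add_eq_add_left h Cardinal.natCast_lt_aleph0
  -- a valuation ring of `F` centred at `m`
  obtain ⟨V, hBV, hloc⟩ := IsLocalRing.exists_factor_valuationRing
    (IsLocalization.lift (M := m.primeCompl) (S := Localization.AtPrime m) (g := algebraMap B F)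
      fun s => (IsUnit.mk0 _ ((map_ne_zero_iff _ (IsFractionRing.injective B F)).mpr
        fun h => s.2 (show (s : B) ∈ m from h ▸ m.zero_mem))))
  have hbV : ∀ b : B, algebraMap B F b ∈ V := fun b => by
    have := hBV (algebraMap B _ b)
    rwa [IsLocalization.lift_eq] at this
  let ρ : B →+* V := (algebraMap B F).codRestrict V.toSubring hbV
  have hmax : ∀ b : B, ρ b ∈ IsLocalRing.maximalIdeal V ↔ b ∈ m := by
    intro b
    rw [← IsLocalization.AtPrime.to_map_mem_maximal_iff (Localization.AtPrime m) m b,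
      IsLocalRing.mem_maximalIdeal, IsLocalRing.mem_maximalIdeal, mem_nonunits_iff, mem_nonunits_iff]
    have key : RingHom.codRestrict _ V.toSubring hBV (algebraMap B _ b) = ρ b :=
      Subtype.ext (IsLocalization.lift_eq _ b)
    rw [← key]
    exact not_congr ⟨fun h => hloc.map_nonunit _ h, fun h => h.map _⟩
  -- the trace of `V` on `L`
  let A' : ValuationSubring L := V.comap (algebraMap L F)
  letI : Algebra A' F := ((algebraMap L F).comp A'.subtype).toAlgebra
  have : IsScalarTower A' L F := IsScalarTower.of_algebraMap_eq fun z => rfl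
  have hAA' : ∀ a : A, algebraMap A L a ∈ A' := fun a => by
    rw [ValuationSubring.mem_comap, ← IsScalarTower.algebraMap_apply,
      IsScalarTower.algebraMap_apply A B F]
    exact hbV _
  letI : Algebra A A' := ((algebraMap A L).codRestrict A'.toSubring hAA').toAlgebra
  have : IsScalarTower A A' L := IsScalarTower.of_algebraMap_eq fun z => rfl
  have : IsScalarTower A A' F := IsScalarTower.of_algebraMap_eq fun z =>
    IsScalarTower.algebraMap_apply A L F z
  have hA'L : Algebra.IsAlgebraic A' L :=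
    IsFractionRing.comap_isAlgebraic_iff.mpr (inferInstance : Algebra.IsAlgebraic L L)
  have hAF : Function.Injective (algebraMap A F) := by
    rw [IsScalarTower.algebraMap_eq A B F]
    exact (IsFractionRing.injective B F).comp (FaithfulSMul.algebraMap_injective A B)
  have : FaithfulSMul A A' := (faithfulSMul_iff_algebraMap_injective _ _).mpr fun a b h => hAF (by
    rw [IsScalarTower.algebraMap_apply A A' F, h, ← IsScalarTower.algebraMap_apply A A' F])
  have hA'tr : Algebra.trdeg A A' = (d : ℕ) := by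
    rw [← hL, ← trdeg_add_eq A A' (A := L), trdeg_eq_zero (R := A') (A := L), add_zero]
  have : FaithfulSMul A' F := (faithfulSMul_iff_algebraMap_injective _ _).mpr
    ((algebraMap L F).injective.comp Subtype.val_injective)
  have hA'F : Algebra.trdeg A' F = 1 := by
    rw [← trdeg_add_eq A' L (A := F), trdeg_eq_zero (R := A') (A := L), zero_add, hLF]
  -- the curve over `A'`
  obtain ⟨s, hs⟩ := (Algebra.FiniteType.out : (⊤ : Subalgebra A B).FG)
  let B' : Subalgebra A' F := Algebra.adjoin A' (s.image (algebraMap B F) : Set F)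
  have hB'fg : Algebra.FiniteType A' B' :=
    (Subalgebra.fg_iff_finiteType _).mp ⟨s.image (algebraMap B F), rfl⟩
  have hBB' : ∀ b : B, algebraMap B F b ∈ B' := by
    intro b
    have hb : b ∈ Algebra.adjoin A (s : Set B) := hs.ge Algebra.mem_top
    induction hb using Algebra.adjoin_induction with
    | mem z hz => exact Algebra.subset_adjoin (Finset.mem_coe.mpr (Finset.mem_image_of_mem _ hz))
    | algebraMap a =>
      rw [← IsScalarTower.algebraMap_apply A B F, IsScalarTower.algebraMap_apply A A' F]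
      exact B'.algebraMap_mem _
    | add p q _ _ hp hq => rw [map_add]; exact B'.add_mem hp hq
    | mul p q _ _ hp hq => rw [map_mul]; exact B'.mul_mem hp hq
  have hB'V : ∀ z : B', (z : F) ∈ V := by
    rintro ⟨z, hz⟩
    induction hz using Algebra.adjoin_induction with
    | mem z hz =>
      obtain ⟨b, -, rfl⟩ := Finset.mem_image.mp hz
      exact hbV b
    | algebraMap a => exact a.2
    | add p q _ _ hp hq => exact V.add_mem _ _ hp hq
    | mul p q _ _ hp hq => exact V.mul_mem _ _ hp hq
  let σ : B' →+* V := B'.val.toRingHom.codRestrict V.toSubring hB'V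
  let j : B →+* B' := (algebraMap B F).codRestrict B'.toSubring hBB'
  let m' : Ideal B' := (IsLocalRing.maximalIdeal V).comap σ
  have hjm : ∀ b, j b ∈ m' ↔ b ∈ m := fun b => hmax b
  have : FaithfulSMul A' B' := (faithfulSMul_iff_algebraMap_injective _ _).mpr fun a b h =>
    FaithfulSMul.algebraMap_injective A' F (congrArg Subtype.val h)
  have hB'tr : Algebra.trdeg A' B' = 1 := by
    have : Algebra.IsAlgebraic B' F := ⟨fun z => by
      obtain ⟨b, c, hc, rfl⟩ := IsFractionRing.div_surjective (A := B) z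
      refine ⟨Polynomial.C (j c) * Polynomial.X - Polynomial.C (j b), fun h => ?_, ?_⟩
      · have h1 := congrArg (fun p => p.coeff 1) h
        have : algebraMap B F c = 0 := congrArg Subtype.val (by simpa using h1)
        exact nonZeroDivisors.ne_zero hc ((map_eq_zero_iff _ (IsFractionRing.injective B F)).mp this)
      · rw [map_sub, map_mul, aeval_C, aeval_C, aeval_X]
        show algebraMap B F c * (algebraMap B F b / algebraMap B F c) - algebraMap B F b = 0
        rw [mul_div_cancel₀ _ ((map_ne_zero_iff _ (IsFractionRing.injective B F)).mpr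
          (nonZeroDivisors.ne_zero hc)), sub_self]⟩
    rw [← hA'F, ← trdeg_add_eq A' B' (A := F), trdeg_eq_zero (R := B') (A := F), add_zero]
  have hcomap : m'.comap (algebraMap A' B') = IsLocalRing.maximalIdeal A' := by
    ext a
    show (σ (algebraMap A' B' a)) ∈ IsLocalRing.maximalIdeal V ↔ _
    rw [IsLocalRing.mem_maximalIdeal, IsLocalRing.mem_maximalIdeal, mem_nonunits_iff, mem_nonunits_iff]
    refine not_congr ⟨fun hu => ?_, fun hu => hu.map (σ.comp (algebraMap A' B'))⟩
    obtain ⟨w, hw⟩ := isUnit_iff_exists_inv.mp hu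
    have hw' : algebraMap L F (a : L) * (w : F) = 1 := congrArg Subtype.val hw
    have ha0 : (a : L) ≠ 0 := fun h => by rw [h, map_zero, zero_mul] at hw'; exact zero_ne_one hw'
    have hinv : (a : L)⁻¹ ∈ A' := by
      rw [ValuationSubring.mem_comap, map_inv₀, ← eq_inv_of_mul_eq_one_right hw']
      exact w.2
    exact isUnit_iff_exists_inv.mpr ⟨⟨_, hinv⟩, Subtype.ext (mul_inv_cancel₀ ha0)⟩
  have hA'bot : IsLocalRing.maximalIdeal A' ≠ ⊥ := by
    obtain ⟨a, ha, ha0⟩ := (Submodule.ne_bot_iff _).mp hm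
    refine (Submodule.ne_bot_iff _).mpr ⟨algebraMap A A' a, ?_, fun h => ha0
      (FaithfulSMul.algebraMap_injective A A' (h.trans (map_zero _).symm))⟩
    rw [← hcomap]
    have : algebraMap A' B' (algebraMap A A' a) = j (algebraMap A B a) := Subtype.ext (by
      show algebraMap A' F (algebraMap A A' a) = algebraMap B F (algebraMap A B a)
      rw [← IsScalarTower.algebraMap_apply A A' F, ← IsScalarTower.algebraMap_apply A B F])
    show algebraMap A' B' (algebraMap A A' a) ∈ m'
    rw [this]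
    exact (hjm _).mpr ha
  -- `m'` is maximal
  have : m'.IsPrime := Ideal.IsPrime.comap _
  have hjalg₀ : (algebraMap A' B').comp (algebraMap A A') = j.comp (algebraMap A B) :=
    RingHom.ext fun a => Subtype.ext (by
      show algebraMap A' F (algebraMap A A' a) = algebraMap B F (algebraMap A B a)
      rw [← IsScalarTower.algebraMap_apply A A' F, ← IsScalarTower.algebraMap_apply A B F])
  have : m'.IsMaximal := by
    refine isMaximal_of_residue (IsLocalRing.maximalIdeal A') m' hcomap _
      Algebra.adjoin_adjoin_coe_preimage fun z hz => ?_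
    obtain ⟨b, -, hb⟩ := Finset.mem_image.mp (Finset.mem_coe.mp hz)
    obtain rfl : j b = z := Subtype.ext hb
    obtain ⟨P, ⟨i, hi⟩, hP⟩ := halgm b
    refine ⟨P.map (algebraMap A A'), ⟨i, fun h => hi ((hjm _).mp ?_)⟩, ?_⟩
    · rw [coeff_map, ← hcomap, Ideal.mem_comap] at h
      rw [← RingHom.comp_apply, ← hjalg₀]
      exact h
    · rw [aeval_def, eval₂_map, hjalg₀, ← hom_eval₂, ← aeval_def]
      exact (hjm _).mpr hP
  have hjg : j g ≠ 0 := fun h => hg ((map_eq_zero_iff _ (IsFractionRing.injective B F)).mp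
    (congrArg Subtype.val h))
  obtain ⟨Q', hQ', hQ'm, hQ'A, hgQ', hQ'0⟩ :=
    exists_prime_of_trdeg_eq_one (A := A') hB'tr hA'bot m' hcomap (j g) hjg
  -- descend to `B`
  let Q₀ : Ideal B := Q'.comap j
  have : Q₀.IsPrime := Ideal.IsPrime.comap _
  have hjalg : ∀ a, j (algebraMap A B a) = algebraMap A' B' (algebraMap A A' a) := fun a =>
    Subtype.ext (by
      show algebraMap B F (algebraMap A B a) = algebraMap A' F (algebraMap A A' a)
      rw [← IsScalarTower.algebraMap_apply A A' F, ← IsScalarTower.algebraMap_apply A B F])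
  have hQ₀A : Q₀.comap (algebraMap A B) = ⊥ := by
    refine eq_bot_iff.mpr fun a ha => ?_
    have : algebraMap A A' a ∈ Q'.comap (algebraMap A' B') := by
      rw [Ideal.mem_comap, ← hjalg]; exact ha
    rw [hQ'A, Ideal.mem_bot, map_eq_zero_iff _ (FaithfulSMul.algebraMap_injective A A')] at this
    exact Ideal.mem_bot.mpr this
  have : FaithfulSMul A (B ⧸ Q₀) := (faithfulSMul_iff_algebraMap_injective _ _).mpr <|
    (injective_iff_map_eq_zero _).mpr fun a ha => by
      have : algebraMap A B a ∈ Q₀ := Ideal.Quotient.eq_zero_iff_mem.mp ha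
      rw [← Ideal.mem_comap] at this
      simpa [hQ₀A] using this
  have : Algebra.FiniteType A (B ⧸ Q₀) :=
    .of_surjective (Ideal.Quotient.mkₐ A Q₀) (Ideal.Quotient.mkₐ_surjective A Q₀)
  have hQ₀tr : Algebra.trdeg A (B ⧸ Q₀) ≤ (d : ℕ) := by
    have : IsDomain (B' ⧸ Q') := Ideal.Quotient.isDomain Q'
    have : IsScalarTower A A' (B' ⧸ Q') := IsScalarTower.of_algebraMap_eq fun a =>
      congrArg (Ideal.Quotient.mk Q') (Subtype.ext (IsScalarTower.algebraMap_apply A A' F a))
    have hinjA' : Function.Injective (algebraMap A' (B' ⧸ Q')) :=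
      (injective_iff_map_eq_zero _).mpr fun a ha => by
        have : algebraMap A' B' a ∈ Q' := Ideal.Quotient.eq_zero_iff_mem.mp ha
        rwa [← Ideal.mem_comap, hQ'A, Ideal.mem_bot] at this
    have : FaithfulSMul A' (B' ⧸ Q') := (faithfulSMul_iff_algebraMap_injective _ _).mpr hinjA'
    let φ : (B ⧸ Q₀) →ₐ[A] B' ⧸ Q' :=
      { Ideal.quotientMap Q' j le_rfl with
        commutes' := fun a => congrArg (Ideal.Quotient.mk Q')
          ((hjalg a).trans (Subtype.ext (IsScalarTower.algebraMap_apply A A' F a).symm)) }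
    refine (trdeg_le_of_injective φ Ideal.quotientMap_injective).trans ?_
    rw [← trdeg_add_eq A A' (A := B' ⧸ Q'), hA'tr]
    suffices Algebra.trdeg A' (B' ⧸ Q') = 0 by rw [this, add_zero]
    refine trdeg_eq_zero_iff.mpr ⟨fun z => ?_⟩
    obtain ⟨z, rfl⟩ := Ideal.Quotient.mk_surjective z
    by_contra hzt
    obtain ⟨y, hy, hy0⟩ := (Submodule.ne_bot_iff _).mp hQ'0
    have ht : Transcendental A' z := fun h => hzt (h.algHom (Ideal.Quotient.mkₐ A' Q'))
    -- `B'` is algebraic over `A'[z]`, so `Q'` meets `A'[z]`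
    letI : Algebra A'[X] B' := (aeval z).toRingHom.toAlgebra
    have : IsScalarTower A' A'[X] B' := IsScalarTower.of_algebraMap_eq fun a => (aeval_C z a).symm
    have : FaithfulSMul A'[X] B' :=
      (faithfulSMul_iff_algebraMap_injective _ _).mpr (transcendental_iff_injective.mp ht)
    have halg' : Algebra.IsAlgebraic A'[X] B' := by
      have := trdeg_add_eq A' A'[X] (A := B')
      rw [Polynomial.trdeg_of_isDomain, hB'tr] at this
      exact trdeg_eq_zero_iff.mp (Cardinal.eq_of_add_eq_add_left (this.trans (add_zero _).symm) Cardinal.one_lt_aleph0)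
    obtain ⟨q, hq0, hq⟩ := (halg'.isAlgebraic y).exists_nonzero_coeff_and_aeval_eq_zero
      (mem_nonZeroDivisors_of_ne_zero hy0)
    rw [← Polynomial.divX_mul_X_add q, map_add, map_mul, aeval_X, aeval_C] at hq
    have hmem : aeval z (q.coeff 0) ∈ Q' := by
      show algebraMap A'[X] B' (q.coeff 0) ∈ Q'
      rw [← neg_eq_of_add_eq_zero_right hq]
      exact Q'.neg_mem (Q'.mul_mem_left _ hy)
    exact hzt ⟨q.coeff 0, hq0, (aeval_algHom_apply (Ideal.Quotient.mkₐ A' Q') z _).trans
      (Ideal.Quotient.eq_zero_iff_mem.mpr hmem)⟩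
  exact ⟨Q₀, ‹_›, fun b hb => (hjm b).mp (hQ'm hb), hQ₀A, hgQ', hQ₀tr⟩

/-- A field inside the fraction field over which one of the basis elements remains transcendental. -/
theorem exists_fields {A B : Type u} [CommRing A] [IsDomain A] [CommRing B] [IsDomain B]
    [Algebra A B] [FaithfulSMul A B] (d : ℕ) (htr : Algebra.trdeg A B = (d + 1 : ℕ)) :
    ∃ (F : Type u) (_ : Field F) (_ : Algebra B F) (_ : IsFractionRing B F) (_ : Algebra A F)
      (_ : IsScalarTower A B F) (L : Type u) (_ : Field L) (_ : Algebra A L) (_ : Algebra L F)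
      (_ : IsScalarTower A L F) (_ : FaithfulSMul A L),
        Algebra.trdeg A L = (d : ℕ) ∧ Algebra.trdeg A F = (d + 1 : ℕ) := by
  classical
  let F := FractionRing B
  obtain ⟨ι, x, hx⟩ := exists_isTranscendenceBasis' A B
  have hcard : Cardinal.mk ι = (d + 1 : ℕ) := hx.cardinalMk_eq_trdeg.trans htr
  have : Finite ι := Cardinal.lt_aleph0_iff_finite.mp (hcard ▸ Cardinal.natCast_lt_aleph0)
  have : Fintype ι := Fintype.ofFinite ι
  have : Nonempty ι := Cardinal.mk_ne_zero_iff.mp (by rw [hcard]; exact_mod_cast d.succ_ne_zero)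
  let i₀ : ι := Classical.arbitrary ι
  let x' : {i // i ≠ i₀} → B := fun i => x i.1
  have hx' : AlgebraicIndependent A x' := hx.1.comp _ Subtype.val_injective
  let S₀ := Algebra.adjoin A (Set.range x')
  have hcard' : Cardinal.mk {i // i ≠ i₀} = (d : ℕ) := by
    rw [Cardinal.mk_fintype, Nat.cast_inj, Fintype.card_subtype_compl]
    have : Fintype.card ι = d + 1 := by
      rw [Cardinal.mk_fintype, Nat.cast_inj] at hcard; exact hcard
    simp [this]
  have hS₀ : Algebra.trdeg A S₀ = (d : ℕ) := by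
    rw [← hx'.aevalEquiv.trdeg_eq, MvPolynomial.trdeg_of_isDomain, Cardinal.lift_id, hcard']
  have hFB : Algebra.IsAlgebraic B F :=
    IsFractionRing.comap_isAlgebraic_iff.mpr (inferInstance : Algebra.IsAlgebraic F F)
  have hFtr : Algebra.trdeg A F = (d + 1 : ℕ) := by
    rw [← trdeg_add_eq A B (A := F), trdeg_eq_zero (R := B) (A := F), add_zero, htr]
  let L := FractionRing S₀
  have hS₀F : Function.Injective (algebraMap S₀ F) :=
    (IsFractionRing.injective B F).comp Subtype.val_injective
  letI : Algebra L F := (IsFractionRing.lift hS₀F).toAlgebra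
  have : IsScalarTower S₀ L F := IsScalarTower.of_algebraMap_eq fun z =>
    (IsFractionRing.lift_algebraMap hS₀F z).symm
  have : IsScalarTower A L F := IsScalarTower.of_algebraMap_eq fun z => by
    rw [IsScalarTower.algebraMap_apply A S₀ L, ← IsScalarTower.algebraMap_apply S₀ L F,
      ← IsScalarTower.algebraMap_apply A S₀ F]
  have hL : Algebra.trdeg A L = (d : ℕ) := by
    have : Algebra.IsAlgebraic S₀ L :=
      IsFractionRing.comap_isAlgebraic_iff.mpr (inferInstance : Algebra.IsAlgebraic L L)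
    rw [← trdeg_add_eq A S₀ (A := L), trdeg_eq_zero (R := S₀) (A := L), add_zero, hS₀]
  exact ⟨F, inferInstance, inferInstance, inferInstance, inferInstance, inferInstance, L,
    inferInstance, inferInstance, inferInstance, inferInstance,
    (faithfulSMul_iff_algebraMap_injective _ _).mpr (by
      rw [IsScalarTower.algebraMap_eq A S₀ L]
      exact (IsFractionRing.injective S₀ L).comp fun a b h =>
        FaithfulSMul.algebraMap_injective A B (congrArg Subtype.val h)), hL, hFtr⟩

theorem exists_prime_aux : ∀ (n : ℕ) (A B : Type u) [CommRing A] [IsDomain A] [CommRing B] [IsDomain B]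
    [Algebra A B] [FaithfulSMul A B] [Algebra.FiniteType A B], Algebra.trdeg A B = n →
    ∀ (m : Ideal B) [m.IsPrime] (g : B), g ≠ 0 → m.comap (algebraMap A B) ≠ ⊥ →
      (∀ b : B, ∃ P : A[X], (∃ i, algebraMap A B (P.coeff i) ∉ m) ∧ aeval b P ∈ m) →
      ∃ Q : Ideal B, Q.IsPrime ∧ Q ≤ m ∧ Q.comap (algebraMap A B) = ⊥ ∧ g ∉ Q ∧
        ∀ b : B, ∃ P : A[X], P ≠ 0 ∧ aeval b P ∈ Q := by
  intro n
  induction n using Nat.strong_induction_on with
  | _ n ih =>
  intro A B _ _ _ _ _ _ _ htr m _ g hg hm halgm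
  rcases n with _ | d
  · have halg : Algebra.IsAlgebraic A B := trdeg_eq_zero_iff.mp (by exact_mod_cast htr)
    refine ⟨⊥, Ideal.isPrime_bot, bot_le, ?_, hg, fun b => ?_⟩
    · rw [← RingHom.ker_eq_comap_bot, (RingHom.injective_iff_ker_eq_bot _).mp
        (FaithfulSMul.algebraMap_injective A B)]
    · obtain ⟨P, hP, hPb⟩ := halg.isAlgebraic b
      exact ⟨P, hP, hPb ▸ Submodule.zero_mem _⟩
  classical
  obtain ⟨F, _, _, _, _, _, L, _, _, _, _, _, hL, hFtr⟩ := exists_fields d htr
  obtain ⟨Q₀, hQ₀, hQ₀m, hQ₀A, hgQ', hQ₀tr⟩ := exists_prime_step (F := F) (L := L) d hL hFtr m g hg hm halgm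
  have : FaithfulSMul A (B ⧸ Q₀) := (faithfulSMul_iff_algebraMap_injective _ _).mpr <|
    (injective_iff_map_eq_zero _).mpr fun a ha => by
      have : algebraMap A B a ∈ Q₀ := Ideal.Quotient.eq_zero_iff_mem.mp ha
      rw [← Ideal.mem_comap] at this
      simpa [hQ₀A] using this
  have : Algebra.FiniteType A (B ⧸ Q₀) :=
    .of_surjective (Ideal.Quotient.mkₐ A Q₀) (Ideal.Quotient.mkₐ_surjective A Q₀)
  obtain ⟨k, hk⟩ := Cardinal.lt_aleph0.mp (hQ₀tr.trans_lt Cardinal.natCast_lt_aleph0)
  have hkd : k ≤ d := by rw [hk] at hQ₀tr; exact_mod_cast hQ₀tr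
  let m₀ : Ideal (B ⧸ Q₀) := m.map (Ideal.Quotient.mk Q₀)
  have hm₀ : ∀ b, Ideal.Quotient.mk Q₀ b ∈ m₀ ↔ b ∈ m := fun b =>
    Ideal.mem_quotient_iff_mem hQ₀m
  have : m₀.IsPrime := Ideal.map_isPrime_of_surjective Ideal.Quotient.mk_surjective (by rwa [Ideal.mk_ker])
  obtain ⟨Q, hQ, hQm, hQA, hgQ, hQalg⟩ := ih k (Nat.lt_succ_of_le hkd) A (B ⧸ Q₀) hk m₀
    (Ideal.Quotient.mk Q₀ g) (fun h => hgQ' (Ideal.Quotient.eq_zero_iff_mem.mp h))
    (by
      obtain ⟨a, ha, ha0⟩ := (Submodule.ne_bot_iff _).mp hm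
      exact (Submodule.ne_bot_iff _).mpr ⟨a, (hm₀ _).mpr ha, ha0⟩)
    (fun b => by
      obtain ⟨b, rfl⟩ := Ideal.Quotient.mk_surjective b
      obtain ⟨P, ⟨i, hi⟩, hP⟩ := halgm b
      exact ⟨P, ⟨i, fun h => hi ((hm₀ _).mp h)⟩,
        (aeval_algHom_apply (Ideal.Quotient.mkₐ A Q₀) b P).symm ▸ (hm₀ _).mpr hP⟩)
  refine ⟨Q.comap (Ideal.Quotient.mk Q₀), hQ.comap _, fun b hb => (hm₀ b).mp (hQm hb), ?_, hgQ, fun b => ?_⟩
  · rw [Ideal.comap_comap]; exact hQA
  · obtain ⟨P, hP, hPQ⟩ := hQalg (Ideal.Quotient.mk Q₀ b)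
    refine ⟨P, hP, ?_⟩
    rw [Ideal.mem_comap]
    exact (aeval_algHom_apply (Ideal.Quotient.mkₐ A Q₀) b P) ▸ hPQ

end Groth.Agent.Wt.ClosedPts
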