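import Groth.Agent.Wt.FinOrdRing
import Groth.Agent.Thick.Unram
import Groth.Agent.S1302
import Groth.Prelude.Def_Mor2
import Groth.Prelude.Def_MoreMor
import Mathlib.AlgebraicGeometry.Morphisms.FlatMono
import Mathlib.AlgebraicGeometry.Morphisms.FlatRank
import Mathlib.AlgebraicGeometry.Morphisms.Etale
import Mathlib.RingTheory.Smooth.Flat

/-!
# Base change along a finite order thickening of morphisms flat over the base

Setting: `X' → Y' → S'`, `X'` flat over `S'`, `S → S'` closed, surjective with nilpotent ideal,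
`X → Y → S` the base change.
-/

universe u

open AlgebraicGeometry CategoryTheory Limits MorphismProperty TopologicalSpace

namespace Groth.Agent.Wt.FinOrdThick

variable {X X' Y Y' S S' : Scheme.{u}} {iX : X ⟶ X'} {iY : Y ⟶ Y'} {iS : S ⟶ S'}
  {f : X ⟶ Y} {f' : X' ⟶ Y'} {g : Y ⟶ S} {g' : Y' ⟶ S'}

theorem isPullback_top (hcX : IsPullback iX (f ≫ g) (f' ≫ g') iS) (hcY : IsPullback iY g g' iS)
    (w : iX ≫ f' = f ≫ iY) : IsPullback iX f f' iY :=
  IsPullback.of_bot hcX w hcY

theorem isNilpotent_ker [IsClosedImmersion iS] (hn : IsNilpotent iS.ker)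
    (hcY : IsPullback iY g g' iS) : IsNilpotent iY.ker := by
  have : IsClosedImmersion iY := MorphismProperty.of_isPullback hcY.flip ‹IsClosedImmersion iS›
  obtain ⟨n, hn⟩ := hn
  have hex : ∀ y : Y', ∃ (V : S'.affineOpens) (U : Y'.affineOpens), y ∈ U.1 ∧ U.1 ≤ g' ⁻¹ᵁ V.1 := by
    intro y
    obtain ⟨_, ⟨V, hV, rfl⟩, hyV, -⟩ :=
      S'.isBasis_affineOpens.exists_subset_of_mem_open (Set.mem_univ (g' y)) isOpen_univ
    obtain ⟨_, ⟨U, hU, rfl⟩, hyU, hUV⟩ :=
      Y'.isBasis_affineOpens.exists_subset_of_mem_open (show y ∈ g' ⁻¹ᵁ V from hyV) (g' ⁻¹ᵁ V).2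
    exact ⟨⟨V, hV⟩, ⟨U, hU⟩, hyU, hUV⟩
  choose V U hyU hUV using hex
  refine ⟨n, Scheme.IdealSheafData.ext_of_iSup_eq_top U
    (eq_top_iff.2 fun y _ => Opens.mem_iSup.2 ⟨y, hyU y⟩) fun y => ?_⟩
  obtain ⟨h', hpo⟩ := Thick.Unram.isPushout_appLE hcY (V y).2 (U y).2 (hUV y)
  rw [Scheme.IdealSheafData.ideal_pow, Pi.pow_apply, iY.ker_apply,
    (Thick.Ring.pushout_surjection hpo (Thick.Unram.app_surjective iS (V y).2)).2, ← Ideal.map_pow,
    ← iS.ker_apply, ← Pi.pow_apply, ← Scheme.IdealSheafData.ideal_pow, hn]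
  exact Ideal.map_bot

/-- A property of ring maps local on source and target lifts, if it lifts for rings. -/
theorem of_mod {P : MorphismProperty Scheme.{u}}
    {Q : ∀ {R S : Type u} [CommRing R] [CommRing S], (R →+* S) → Prop} [HasRingHomProperty P Q]
    (hQ : RingHom.StableUnderCompositionWithLocalizationAwaySource Q)
    (H : ∀ (R A B : Type u) [CommRing R] [CommRing A] [CommRing B] [Algebra R A] [Algebra R B]
      [Algebra A B] [IsScalarTower R A B] (I : Ideal R), IsNilpotent I → Module.Flat R B →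
      Q (Ideal.quotientMap ((I.map (algebraMap R A)).map (algebraMap A B)) (algebraMap A B)
        Ideal.le_comap_map) → Q (algebraMap A B))
    [IsClosedImmersion iS] (hn : IsNilpotent iS.ker) (hcX : IsPullback iX (f ≫ g) (f' ≫ g') iS)
    (hcY : IsPullback iY g g' iS) (w : iX ≫ f' = f ≫ iY) [Flat (f' ≫ g')] (hf : P f) : P f' := by
  have : IsClosedImmersion iY := MorphismProperty.of_isPullback hcY.flip ‹IsClosedImmersion iS›
  have hc := isPullback_top hcX hcY w
  have : IsAffineHom iX := MorphismProperty.of_isPullback hc.flip (inferInstanceAs (IsAffineHom iY))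
  refine (HasRingHomProperty.iff_exists_appLE (P := P) hQ).2 fun x => ?_
  obtain ⟨_, ⟨V, hV, rfl⟩, hxV, -⟩ :=
    S'.isBasis_affineOpens.exists_subset_of_mem_open (Set.mem_univ (g' (f' x))) isOpen_univ
  obtain ⟨_, ⟨U, hU, rfl⟩, hxU, hUV⟩ :=
    Y'.isBasis_affineOpens.exists_subset_of_mem_open (show f' x ∈ g' ⁻¹ᵁ V from hxV) (g' ⁻¹ᵁ V).2
  obtain ⟨_, ⟨W, hW, rfl⟩, hxW, hWU⟩ :=
    X'.isBasis_affineOpens.exists_subset_of_mem_open (show x ∈ f' ⁻¹ᵁ U from hxU) (f' ⁻¹ᵁ U).2
  replace hUV : U ≤ g' ⁻¹ᵁ V := hUV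
  replace hWU : W ≤ f' ⁻¹ᵁ U := hWU
  refine ⟨⟨U, hU⟩, ⟨W, hW⟩, hxW, hWU, ?_⟩
  obtain ⟨h₁, p₁⟩ := Thick.Unram.isPushout_appLE hcY hV hU hUV
  obtain ⟨h₂, p₂⟩ := Thick.Unram.isPushout_appLE hc hU hW hWU
  have hπ : Function.Surjective (iY.app U).hom := Thick.Unram.app_surjective iY hU
  obtain ⟨hψ, hkerB⟩ := Thick.Ring.pushout_surjection p₂ hπ
  obtain ⟨-, hkerA⟩ := Thick.Ring.pushout_surjection p₁ (Thick.Unram.app_surjective iS hV)
  have hWV : W ≤ (f' ≫ g') ⁻¹ᵁ V := hWU.trans (f'.preimage_mono hUV)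
  have hcomp : (f' ≫ g').appLE V W hWV = g'.appLE V U hUV ≫ f'.appLE U W hWU :=
    (Scheme.Hom.appLE_comp_appLE _ _ _ _ _ _ _).symm
  have hflat : ((f' ≫ g').appLE V W hWV).hom.Flat :=
    HasRingHomProperty.appLE @Flat (f' ≫ g') ‹_› ⟨V, hV⟩ ⟨W, hW⟩ hWV
  let R' : Type u := Γ(S', V)
  let A' : Type u := Γ(Y', U)
  let B' : Type u := Γ(X', W)
  letI : Algebra R' A' := (g'.appLE V U hUV).hom.toAlgebra
  letI : Algebra A' B' := (f'.appLE U W hWU).hom.toAlgebra
  letI : Algebra R' B' := ((f' ≫ g').appLE V W hWV).hom.toAlgebra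
  haveI : IsScalarTower R' A' B' := .of_algebraMap_eq' (congrArg CommRingCat.Hom.hom hcomp)
  refine H R' A' B' (RingHom.ker (iS.app V).hom) (Thick.Unram.isNilpotent_ker_app iS hn hV) hflat ?_
  set J := (RingHom.ker (iS.app V).hom).map (algebraMap R' A') with hJ
  let eA : (A' ⧸ J) ≃+* Γ(Y, iY ⁻¹ᵁ U) :=
    (Ideal.quotEquivOfEq hkerA.symm).trans (RingHom.quotientKerEquivOfSurjective hπ)
  let eB : (B' ⧸ J.map (algebraMap A' B')) ≃+* Γ(X, iX ⁻¹ᵁ W) :=
    (Ideal.quotEquivOfEq (hkerB.trans (congrArg (Ideal.map _) hkerA)).symm).trans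
      (RingHom.quotientKerEquivOfSurjective hψ)
  have hq : Ideal.quotientMap (J.map (algebraMap A' B')) (algebraMap A' B') Ideal.le_comap_map =
      eB.symm.toRingHom.comp ((f.appLE (iY ⁻¹ᵁ U) (iX ⁻¹ᵁ W) h₂).hom.comp eA.toRingHom) := by
    refine Ideal.Quotient.ringHom_ext (RingHom.ext fun a => ?_)
    refine eB.injective ?_
    refine Eq.trans ?_ (eB.apply_symm_apply _).symm
    exact congr($(p₂.w).hom a)
  rw [hq]
  have hri := (HasRingHomProperty.isLocal_ringHomProperty P).respectsIso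
  exact hri.1 _ eB.symm (hri.2 _ eA
    (HasRingHomProperty.appLE P f hf ⟨_, hU.preimage iY⟩ ⟨_, hW.preimage iX⟩ h₂))

section

variable (iX iY iS f f' g g')
variable (hS : MoreMor.IsFiniteOrderThickening iS) (hcX : IsPullback iX (f ≫ g) (f' ≫ g') iS)
  (hcY : IsPullback iY g g' iS) (w : iX ≫ f' = f ≫ iY) [Flat (f' ≫ g')]

include hS hcX hcY w

theorem flat_iff : Flat f ↔ Flat f' := by
  refine ⟨fun hf => ?_, fun hf => MorphismProperty.of_isPullback (isPullback_top hcX hcY w) hf⟩
  haveI := hS.1.1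
  refine of_mod (P := @Flat) (Q := RingHom.Flat)
    (RingHom.Flat.stableUnderComposition.stableUnderCompositionWithLocalizationAway
      RingHom.Flat.holdsForLocalizationAway).1 ?_ hS.2 hcX hcY w hf
  intro R A B _ _ _ _ _ _ _ I hI _ hq
  refine RingHom.flat_algebraMap_iff.2 (FinOrdRing.flat_of_mod I hI ?_)
  refine RingHom.flat_algebraMap_iff.1 ?_
  convert hq using 1
  exact Ideal.Quotient.ringHom_ext (RingHom.ext fun _ => rfl)

theorem lfp_iff : LocallyOfFinitePresentation f ↔ LocallyOfFinitePresentation f' := by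
  refine ⟨fun hf => ?_, fun hf => MorphismProperty.of_isPullback (isPullback_top hcX hcY w) hf⟩
  haveI := hS.1.1
  refine of_mod (P := @LocallyOfFinitePresentation) (Q := RingHom.FinitePresentation)
    (RingHom.finitePresentation_stableUnderComposition.stableUnderCompositionWithLocalizationAway
      RingHom.finitePresentation_holdsForLocalizationAway).1 ?_ hS.2 hcX hcY w hf
  intro R A B _ _ _ _ _ _ _ I hI _ hq
  exact RingHom.finitePresentation_algebraMap.2 (FinOrdRing.finitePresentation_of_mod I hI hq)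

theorem smooth_iff : Smooth f ↔ Smooth f' := by
  refine ⟨fun hf => ?_, fun hf => MorphismProperty.of_isPullback (isPullback_top hcX hcY w) hf⟩
  haveI := hS.1.1
  refine of_mod (P := @Smooth) (Q := RingHom.Smooth)
    (RingHom.Smooth.stableUnderComposition.stableUnderCompositionWithLocalizationAway
      RingHom.Smooth.holdsForLocalizationAway).1 ?_ hS.2 hcX hcY w hf
  intro R A B _ _ _ _ _ _ _ I hI _ hq
  set J := I.map (algebraMap R A) with hJ
  have heq : Ideal.quotientMap (J.map (algebraMap A B)) (algebraMap A B) Ideal.le_comap_map =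
      algebraMap (A ⧸ J) (B ⧸ J.map (algebraMap A B)) :=
    Ideal.Quotient.ringHom_ext (RingHom.ext fun _ => rfl)
  rw [heq] at hq
  have hfl := FinOrdRing.flat_of_mod (A := A) (B := B) I hI
    (RingHom.flat_algebraMap_iff.1 hq.flat)
  have hfp := FinOrdRing.finitePresentation_of_mod (A := A) (B := B) I hI
    (by rw [heq]; exact RingHom.Smooth.finitePresentation hq)
  rw [RingHom.smooth_algebraMap] at hq ⊢
  haveI := hq.1
  have hJn : IsNilpotent J := by
    obtain ⟨n, hn⟩ := hI
    exact ⟨n, by rw [hJ, ← Ideal.map_pow, hn]; exact Ideal.map_bot⟩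
  exact ⟨CAlg48.FlatFS.formallySmooth J hJn, hfp⟩

theorem etale_iff : Etale f ↔ Etale f' := by
  refine ⟨fun hf => ?_, fun hf => MorphismProperty.of_isPullback (isPullback_top hcX hcY w) hf⟩
  haveI := hS.1.1
  haveI : IsClosedImmersion iY := MorphismProperty.of_isPullback hcY.flip ‹IsClosedImmersion iS›
  haveI : Smooth f' := (smooth_iff iX iY iS f f' g g' hS hcX hcY w).1 inferInstance
  haveI := Thick.Unram.formallyUnramified_of_nilpotent (isNilpotent_ker hS.2 hcY)
    (isPullback_top hcX hcY w)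
  exact Etale.iff_flat_and_formallyUnramified.2 ⟨inferInstance, inferInstance, inferInstance⟩

theorem isOpenImmersion_iff : IsOpenImmersion f ↔ IsOpenImmersion f' := by
  refine ⟨fun hf => ?_, fun hf => MorphismProperty.of_isPullback (isPullback_top hcX hcY w) hf⟩
  haveI := hS.1.1
  haveI := hS.1.2
  haveI : IsClosedImmersion iY := MorphismProperty.of_isPullback hcY.flip ‹IsClosedImmersion iS›
  haveI : Surjective iY := MorphismProperty.of_isPullback hcY.flip ‹Surjective iS›
  haveI : Flat f' := (flat_iff iX iY iS f f' g g' hS hcX hcY w).1 inferInstance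
  haveI : LocallyOfFinitePresentation f' := (lfp_iff iX iY iS f f' g g' hS hcX hcY w).1 inferInstance
  haveI : Mono f' := Thick.Unram.mono_of_nilpotent (isNilpotent_ker hS.2 hcY)
    (isPullback_top hcX hcY w)
  exact IsOpenImmersion.of_flat_of_mono f'

theorem isIso_iff : IsIso f ↔ IsIso f' := by
  refine ⟨fun hf => ?_, fun hf =>
    MorphismProperty.of_isPullback (P := MorphismProperty.isomorphisms Scheme.{u})
      (isPullback_top hcX hcY w) hf⟩
  haveI := hS.1.2
  haveI : Surjective iY := MorphismProperty.of_isPullback hcY.flip ‹Surjective iS›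
  haveI : IsOpenImmersion f' :=
    (isOpenImmersion_iff iX iY iS f f' g g' hS hcX hcY w).1 inferInstance
  haveI : Surjective (iX ≫ f') := by rw [w]; infer_instance
  haveI : Surjective f' := Surjective.of_comp iX f'
  exact (isIso_iff_isOpenImmersion_and_epi_base f').2 ⟨inferInstance,
    (TopCat.epi_iff_surjective _).2 f'.surjective⟩

theorem isFinLocFreeOfDeg_iff (d : ℕ) : Mor2.IsFinLocFreeOfDeg d f ↔ Mor2.IsFinLocFreeOfDeg d f' := by
  have hc := isPullback_top hcX hcY w
  haveI := hS.1.1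
  haveI := hS.1.2
  haveI : IsClosedImmersion iY := MorphismProperty.of_isPullback hcY.flip ‹IsClosedImmersion iS›
  haveI : Surjective iY := MorphismProperty.of_isPullback hcY.flip ‹Surjective iS›
  haveI : IsClosedImmersion iX := MorphismProperty.of_isPullback hc.flip ‹IsClosedImmersion iY›
  haveI : Surjective iX := MorphismProperty.of_isPullback hc.flip ‹Surjective iY›
  constructor
  · rintro ⟨⟨_, hfl, hfp⟩, hd⟩
    haveI : Flat f' := (flat_iff iX iY iS f f' g g' hS hcX hcY w).1 hfl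
    haveI : LocallyOfFinitePresentation f' := (lfp_iff iX iY iS f f' g g' hS hcX hcY w).1 hfp
    haveI : IsAffineHom f' :=
      (Groth.Agent.S1302.result iX iY f f' ⟨‹_›, ‹_›⟩ ⟨‹_›, ‹_›⟩ w).1 inferInstance
    haveI : UniversallyClosed f' := (Thick.Topo.universallyClosed_iff iX iY f f' w).1 inferInstance
    haveI : IsIntegralHom f' :=
      IsIntegralHom.iff_universallyClosed_and_isAffineHom.2 ⟨inferInstance, inferInstance⟩
    haveI : IsFinite f' :=
      IsFinite.iff_isIntegralHom_and_locallyOfFiniteType f' |>.2 ⟨inferInstance, inferInstance⟩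
    refine ⟨⟨inferInstance, inferInstance, inferInstance⟩, fun y => ?_⟩
    obtain ⟨y₀, rfl⟩ := iY.surjective y
    rw [← hd y₀]
    exact (Scheme.Hom.finrank_of_isPullback iX f f' iY hc y₀).symm
  · rintro ⟨⟨_, hfl, hfp⟩, hd⟩
    haveI := hfl
    haveI := hfp
    haveI : IsFinite f := MorphismProperty.of_isPullback hc ‹IsFinite f'›
    haveI : Flat f := MorphismProperty.of_isPullback hc hfl
    haveI : LocallyOfFinitePresentation f := MorphismProperty.of_isPullback hc hfp
    refine ⟨⟨inferInstance, inferInstance, inferInstance⟩, fun y => ?_⟩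
    rw [← hd (iY y)]
    exact Scheme.Hom.finrank_of_isPullback iX f f' iY hc y

end

end Groth.Agent.Wt.FinOrdThick
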