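import Groth.Agent.LimLib.FPSystem
import Groth.Agent.LocImm77.Finite

/-!
# Finite covers of a quasi-compact open extend

`exists_openImmersion_finite`: qcqs Zariski main theorem with the open the full preimage.
-/

set_option autoImplicit false
set_option linter.style.haveILetI false
set_option backward.isDefEq.respectTransparency false

universe u

open CategoryTheory Limits AlgebraicGeometry TopologicalSpace

noncomputable section

namespace Groth.Agent.Wt.ExtendFinite

/-- A separated quasi-finite finite type morphism to a qcqs scheme factors as a quasi-compact open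
immersion with schematically dense image followed by a finite morphism. -/
theorem exists_openImmersion_finite {X Y : Scheme.{u}} [CompactSpace Y] [QuasiSeparatedSpace Y]
    (f : X ⟶ Y) [IsSeparated f] [LocallyOfFiniteType f] [QuasiCompact f] [LocallyQuasiFinite f] :
    ∃ (Z : Scheme.{u}) (i : X ⟶ Z) (h : Z ⟶ Y), IsOpenImmersion i ∧ IsDominant i ∧ IsFinite h ∧
      i ≫ h = f := by
  obtain ⟨I, _, _, _, D, c, hc, hD, ⟨e⟩⟩ := LimLib.exists_finiteSystem f.fromNormalization
  haveI : ∀ (a b : Iᵒᵖ) (g : a ⟶ b), IsAffineHom (D.map g).left := fun a b g => by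
    haveI := (hD a).1
    haveI := (hD b).1
    haveI : IsAffineHom ((D.map g).left ≫ (D.obj b).hom) := by
      rw [Over.w]
      infer_instance
    exact IsAffineHom.of_comp (D.map g).left (D.obj b).hom
  let j : X ⟶ c.pt.left := f.toNormalization ≫ e.inv.left
  haveI : IsOpenImmersion j :=
    inferInstanceAs (IsOpenImmersion (f.toNormalization ≫ e.inv.left))
  have hj : j ≫ c.pt.hom = f := by
    show (f.toNormalization ≫ e.inv.left) ≫ c.pt.hom = f
    rw [Category.assoc, Over.w e.inv]
    exact f.toNormalization_fromNormalization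
  haveI : CompactSpace X := QuasiCompact.compactSpace_of_compactSpace f
  haveI : LocallyOfFiniteType (j ≫ c.pt.hom) := hj.symm ▸ inferInstance
  obtain ⟨i, hi⟩ := LocImm77.exists_immersion_stage D c hc j
  haveI := hi
  haveI := (hD i).1
  have hfac : (j ≫ (c.π.app i).left) ≫ (D.obj i).hom = f := by
    rw [Category.assoc, Over.w (c.π.app i)]
    exact hj
  haveI : QuasiCompact ((j ≫ (c.π.app i).left) ≫ (D.obj i).hom) := hfac.symm ▸ inferInstance
  haveI : QuasiCompact (j ≫ (c.π.app i).left) := QuasiCompact.of_comp _ (D.obj i).hom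
  refine ⟨_, (j ≫ (c.π.app i).left).toImage, (j ≫ (c.π.app i).left).imageι ≫ (D.obj i).hom,
    inferInstance, inferInstance, inferInstance, ?_⟩
  rw [← Category.assoc, Scheme.Hom.toImage_imageι]
  exact hfac

/-- A finite surjective morphism to a quasi-compact open extends to a finite surjective morphism. -/
theorem exists_extension {S V : Scheme.{u}} [CompactSpace S] [QuasiSeparatedSpace S] (U : S.Opens)
    (hU : IsCompact (U : Set S)) (v : V ⟶ (U : Scheme.{u})) [IsFinite v] [Surjective v] :
    ∃ (V' : Scheme.{u}) (π : V' ⟶ S) (i : V ⟶ V'), Surjective π ∧ IsFinite π ∧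
      IsPullback i v π U.ι := by
  have : CompactSpace (U : Scheme.{u}) := isCompact_iff_compactSpace.mp hU
  have : QuasiCompact U.ι := quasiCompact_of_compactSpace U.ι
  obtain ⟨Z, i, h, hi, hd, hh, e⟩ := exists_openImmersion_finite (v ≫ U.ι)
  let C : Closeds S := ⟨(U : Set S)ᶜ, U.2.isClosed_compl⟩
  let c := (Scheme.IdealSheafData.vanishingIdeal C).subschemeι
  have hc : Set.range c = (U : Set S)ᶜ := by
    show Set.range (Scheme.IdealSheafData.vanishingIdeal C).subschemeι = _
    rw [Scheme.IdealSheafData.range_subschemeι, Scheme.IdealSheafData.coe_support_vanishingIdeal]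
    rfl
  have hle : Set.range i ⊆ h ⁻¹' (U : Set S) := by
    rintro _ ⟨x, rfl⟩
    show h (i x) ∈ (U : Set S)
    rw [← Scheme.Hom.comp_apply, e]
    exact (v x).2
  have hrange : Set.range i = h ⁻¹' (U : Set S) := by
    refine le_antisymm hle ?_
    let W : Z.Opens := h ⁻¹ᵁ U
    let l : V ⟶ (W : Scheme.{u}) := IsOpenImmersion.lift W.ι i (by rw [Scheme.Opens.range_ι]; exact hle)
    have hl : l ≫ W.ι = i := IsOpenImmersion.lift_fac _ _ _
    have hl' : l ≫ (h ∣_ U) = v := by
      rw [← cancel_mono U.ι, Category.assoc, morphismRestrict_ι]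
      show l ≫ W.ι ≫ h = _
      rw [← Category.assoc, hl, e]
    have : IsFinite (l ≫ (h ∣_ U)) := hl'.symm ▸ inferInstance
    have : IsFinite l := IsFinite.of_comp l (h ∣_ U)
    have hcl : IsClosed (Set.range l) := l.isClosedMap.isClosed_range
    have hdense : Dense (W.ι ⁻¹' Set.range i) :=
      hd.denseRange.preimage W.ι.isOpenEmbedding.isOpenMap
    have hpre : W.ι ⁻¹' Set.range i = Set.range l := by
      ext w
      constructor
      · rintro ⟨x, hx⟩
        exact ⟨x, W.ι.isOpenEmbedding.injective (by rw [← Scheme.Hom.comp_apply, hl]; exact hx)⟩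
      · rintro ⟨x, rfl⟩
        exact ⟨x, by rw [← Scheme.Hom.comp_apply, hl]⟩
    rw [hpre] at hdense
    intro z hz
    have : (⟨z, hz⟩ : W.1) ∈ Set.range l := by
      rw [← hcl.closure_eq]; exact hdense _
    obtain ⟨x, hx⟩ := this
    refine ⟨x, ?_⟩
    rw [← hl, Scheme.Hom.comp_apply, hx]
    rfl
  refine ⟨Z ⨿ (Scheme.IdealSheafData.vanishingIdeal C).subscheme, coprod.desc h c,
    i ≫ coprod.inl, ?_, inferInstance, ?_⟩
  · refine ⟨fun s => ?_⟩
    by_cases hs : s ∈ U
    · obtain ⟨x, hx⟩ := v.surjective ⟨s, hs⟩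
      refine ⟨(coprod.inl : Z ⟶ _) (i x), ?_⟩
      rw [← Scheme.Hom.comp_apply, coprod.inl_desc, ← Scheme.Hom.comp_apply, e,
        Scheme.Hom.comp_apply, hx]
      rfl
    · obtain ⟨w, hw⟩ : s ∈ Set.range c := by rw [hc]; exact hs
      exact ⟨(coprod.inr : _ ⟶ Z ⨿ _) w, by rw [← Scheme.Hom.comp_apply, coprod.inr_desc]; exact hw⟩
  · refine (IsOpenImmersion.isPullback v (i ≫ coprod.inl) U.ι (coprod.desc h c) ?_ ?_).flip
    · rw [Category.assoc, coprod.inl_desc, e]
    · ext z
      constructor
      · intro hz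
        have hz' : coprod.desc h c z ∈ U := by
          have : coprod.desc h c z ∈ U.ι.opensRange := hz
          rwa [Scheme.Opens.opensRange_ι] at this
        rcases (isCompl_range_inl_inr Z
          (Scheme.IdealSheafData.vanishingIdeal C).subscheme).sup_eq_top.ge (Set.mem_univ z) with
          ⟨y, rfl⟩ | ⟨w, rfl⟩
        · rw [← Scheme.Hom.comp_apply, coprod.inl_desc] at hz'
          obtain ⟨x, hx⟩ := hrange.ge hz'
          exact ⟨x, by rw [Scheme.Hom.comp_apply, hx]⟩
        · rw [← Scheme.Hom.comp_apply, coprod.inr_desc] at hz'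
          exact absurd hz' (show c w ∈ (U : Set S)ᶜ by rw [← hc]; exact ⟨w, rfl⟩)
      · rintro ⟨x, rfl⟩
        show coprod.desc h c ((i ≫ coprod.inl) x) ∈ U.ι.opensRange
        rw [Scheme.Opens.opensRange_ι, ← Scheme.Hom.comp_apply, Category.assoc, coprod.inl_desc, e,
          Scheme.Hom.comp_apply]
        exact (v x).2

end Groth.Agent.Wt.ExtendFinite
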