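import Groth.Agent.Wt.GenFib
import Groth.Agent.ConsPairLib.Loci
import Groth.Agent.ConsPairLib.DimCons
import Groth.Agent.ConsPropLib.Noeth

/-!
# The dimension of fibres near the generic point
-/

universe u

open CategoryTheory CategoryTheory.Limits AlgebraicGeometry TopologicalSpace Topology

namespace Groth.Agent.Wt.GenFib

theorem isConsPair_topDim (Φ : Set (WithBot ℕ∞)) :
    ConsPropPair.IsConsPair (fun (X _ _ : Scheme.{u}) _ _ => topologicalKrullDim X ∈ Φ) :=
  ⟨fun _ _ _ _ _ _ gX _ gX' _ eX _ h _ _ _ _ _ _ _ _ sX _ =>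
      ConsPairLib.isFieldStable_topDim Φ gX gX' eX h sX,
    fun _ _ _ u _ _ _ _ _ _ _ => (ConsPairLib.isCons_topDim Φ).2 u⟩

theorem exists_open_topDim_model {A : CommRingCat.{u}} [IsDomain A] {X : Scheme.{u}}
    (u : X ⟶ Spec A) [LocallyOfFinitePresentation u] [CompactSpace X] :
    ∃ V : (Spec A).Opens, (V : Set (Spec A)).Nonempty ∧ ∀ s ∈ V,
      topologicalKrullDim ↑(u.fiber s) = topologicalKrullDim ↑(u.fiber (genericPoint (Spec A))) := by
  let 𝒰 := X.affineCover.finiteSubcover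
  haveI : ∀ a, IsAffine (𝒰.X a) := fun a => inferInstanceAs (IsAffine (Spec _))
  let W : 𝒰.I₀ → X.Opens := fun a => (𝒰.f a).opensRange
  have hW : IsOpenCover W := 𝒰.iSup_opensRange
  have key : ∀ a, ∃ U : Set (Spec A), IsOpen U ∧ genericPoint (Spec A) ∈ U ∧ ∀ s ∈ U,
      topologicalKrullDim ↑(((W a).ι ≫ u).fiber s) =
        topologicalKrullDim ↑(((W a).ι ≫ u).fiber (genericPoint (Spec A))) := fun a => by
    haveI : IsAffine (W a : Scheme.{u}) := isAffineOpen_opensRange (𝒰.f a)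
    let v := (W a).ι ≫ u
    let C : Set (Spec A) := ConsPropPair.locusPair
      (fun (X _ _ : Scheme.{u}) _ _ => topologicalKrullDim X ∈
        ({topologicalKrullDim ↑(v.fiber (genericPoint (Spec A)))} : Set (WithBot ℕ∞))) v v
    have hC : IsConstructible C :=
      (ConsPairLib.isLocallyConstructible_locusPair (isConsPair_topDim _) v v).isConstructible
    obtain ⟨U, hU, hη, hUC⟩ := ConsPropLib.exists_open_subset_of_generic hC
      (show genericPoint (Spec A) ∈ C from rfl)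
    exact ⟨U, hU, hη, fun s hs => hUC hs⟩
  choose U hU hη hUd using key
  refine ⟨⟨⋂ a, U a, isOpen_iInter_of_finite hU⟩, ⟨_, Set.mem_iInter.2 hη⟩, fun s hs => ?_⟩
  have h₁ : ∀ t, topologicalKrullDim ↑(u.fiber t) = ⨆ a, topologicalKrullDim ↑(((W a).ι ≫ u).fiber t) :=
    fun t => ConsPairLib.topDim_eq_iSup_pieces (IsPullback.of_hasPullback u _) hW
  rw [h₁, h₁]
  exact iSup_congr fun a => hUd a s (Set.mem_iInter.1 hs a)

theorem exists_open_topDim {X Y : Scheme.{u}} (f : X ⟶ Y) [IrreducibleSpace Y]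
    [LocallyOfFiniteType f] [QuasiCompact f] (d : WithBot ℕ∞)
    (h : topologicalKrullDim ↑(f.fiber (genericPoint Y)) = d) :
    ∃ V : Y.Opens, (V : Set Y).Nonempty ∧ ∀ y ∈ V, topologicalKrullDim ↑(f.fiber y) = d :=
  exists_open_of_model f (fun F _ _ => topologicalKrullDim ↑F = d)
    (fun _ _ _ _ _ _ φ _ _ hd => (ConsPairLib.topDim_eq_of_iso φ).symm.trans hd)
    fun A _ X' u _ _ _ _ ⟨φ, _, _⟩ => by
      obtain ⟨V, hV, hVd⟩ := exists_open_topDim_model u
      exact ⟨V, hV, fun s hs => (hVd s hs).trans ((ConsPairLib.topDim_eq_of_iso φ).trans h)⟩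

end Groth.Agent.Wt.GenFib
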