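import Groth.Agent.FlatOpen.Slice
import Groth.Agent.FlatOpen.API
import Mathlib.RingTheory.Regular.RegularSequence

/-!
# Slicing by a sequence which is regular on a fibre (EGA IV 11.3.8)
-/

set_option autoImplicit false

universe u

open RingTheory.Sequence

namespace Groth.Agent.Wt.CMSlice

variable {R S : Type u} [CommRing R] [CommRing S] [Algebra R S]

theorem flatAt_of_linearEquiv {M N : Type u} [AddCommGroup M] [Module S M] [Module R M]
    [IsScalarTower R S M] [AddCommGroup N] [Module S N] [Module R N] [IsScalarTower R S N]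
    (e : M ≃ₗ[S] N) (P : Ideal S) [P.IsPrime] (h : FlatCA.FlatAt R P M) : FlatCA.FlatAt R P N := by
  have : Module.Flat R (LocalizedModule P.primeCompl M) := h
  let φ : M →ₗ[S] LocalizedModule P.primeCompl N :=
    (LocalizedModule.mkLinearMap P.primeCompl N).comp e.toLinearMap
  have : IsLocalizedModule P.primeCompl φ := inferInstance
  exact Module.Flat.of_linearEquiv
    ((IsLocalizedModule.iso P.primeCompl φ).symm.restrictScalars R)

theorem mem_map_mkQ_iff (J I : Ideal S) (m : S) :
    Submodule.Quotient.mk m ∈ J • (⊤ : Submodule S (S ⧸ I)) ↔ m ∈ J ⊔ I := by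
  rw [← Submodule.range_mkQ I, ← Submodule.map_top, ← Submodule.map_smul'', smul_eq_mul,
    Ideal.mul_top, ← Submodule.mkQ_apply, ← Submodule.mem_comap, Submodule.comap_map_mkQ, sup_comm]

theorem finitePresentation_quotient_ofList (l : List S) :
    Module.FinitePresentation S (S ⧸ Ideal.ofList l) :=
  Module.finitePresentation_of_surjective (Ideal.ofList l).mkQ (Ideal.ofList l).mkQ_surjective
    (by rw [Submodule.ker_mkQ]; exact Submodule.fg_span l.finite_toSet)

/-- Near a prime where `rs` is regular on the fibre and `S` is flat, the successive quotients are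
flat and `rs` is locally regular. -/
theorem exists_open [Algebra.FinitePresentation R S] (Q : PrimeSpectrum S)
    (hflat : FlatCA.FlatAt R Q.asIdeal S) (rs : List S)
    (hreg : ∀ (l₁ : List S) (h : S) (l₂ : List S), rs = l₁ ++ h :: l₂ → ∀ m : S,
      h * m ∈ (Q.asIdeal.comap (algebraMap R S)).map (algebraMap R S) ⊔ Ideal.ofList l₁ →
        ∃ s ∉ Q.asIdeal,
          s * m ∈ (Q.asIdeal.comap (algebraMap R S)).map (algebraMap R S) ⊔ Ideal.ofList l₁) :
    ∃ U : Set (PrimeSpectrum S), IsOpen U ∧ Q ∈ U ∧ ∀ P ∈ U,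
      FlatCA.FlatAt R P.asIdeal (S ⧸ Ideal.ofList rs) ∧
      ∀ (l₁ : List S) (h : S) (l₂ : List S), rs = l₁ ++ h :: l₂ → ∀ m : S,
        h * m ∈ Ideal.ofList l₁ → ∃ s ∉ P.asIdeal, s * m ∈ Ideal.ofList l₁ := by
  induction rs using List.reverseRecOn with
  | nil =>
    have := finitePresentation_quotient_ofList ([] : List S)
    refine ⟨_, FlatOpen.isOpen_flatLocus R S (S ⧸ Ideal.ofList ([] : List S)), ?_, fun P hP =>
      ⟨hP, fun l₁ h l₂ he => absurd he (by simp)⟩⟩
    exact flatAt_of_linearEquiv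
      (Submodule.quotEquivOfEqBot (Ideal.ofList ([] : List S)) Ideal.ofList_nil).symm Q.asIdeal hflat
  | append_singleton l a ih =>
    obtain ⟨U, hU, hQU, hU'⟩ := ih fun l₁ h l₂ he => hreg l₁ h (l₂ ++ [a]) (by rw [he]; simp)
    let I := Ideal.ofList l
    let J := (Q.asIdeal.comap (algebraMap R S)).map (algebraMap R S)
    let u : (S ⧸ I) →ₗ[S] (S ⧸ I) := a • LinearMap.id
    have : Module.FinitePresentation S (S ⧸ I) := finitePresentation_quotient_ofList l
    have hQ := FlatOpen.injective_coker_flat_of_fibEq R S u Q.asIdeal (hU' Q hQU).1 fun m hm => by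
      obtain ⟨m, rfl⟩ := Submodule.Quotient.mk_surjective _ m
      obtain ⟨s, hs, hsm⟩ := hreg l a [] rfl m ((mem_map_mkQ_iff J I (a * m)).mp hm)
      exact ⟨s, hs, (mem_map_mkQ_iff J I (s * m)).mpr hsm⟩
    refine ⟨U ∩ _, hU.inter (FlatOpen.isOpen_injective_coker_flat R S u), ⟨hQU, hQ⟩,
      fun P ⟨hPU, hPf, hPi⟩ => ⟨?_, ?_⟩⟩
    · have e₁ : (LinearMap.range u) = Submodule.map I.mkQ (Ideal.span {a}) := by
        ext z
        constructor
        · rintro ⟨m, rfl⟩
          obtain ⟨m, rfl⟩ := Submodule.Quotient.mk_surjective _ m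
          exact ⟨a * m, Ideal.mem_span_singleton'.mpr ⟨m, mul_comm _ _⟩, rfl⟩
        · rintro ⟨y, hy, rfl⟩
          obtain ⟨m, rfl⟩ := Ideal.mem_span_singleton'.mp hy
          exact ⟨Submodule.Quotient.mk m, by rw [mul_comm]; rfl⟩
      have e₂ : (I ⊔ Ideal.span {a} : Ideal S) = Ideal.ofList (l ++ [a]) := by
        rw [Ideal.ofList_append, Ideal.ofList_singleton]
      exact flatAt_of_linearEquiv ((Submodule.quotEquivOfEq _ _ e₁).trans
        ((Submodule.quotientQuotientEquivQuotientSup I (Ideal.span {a})).trans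
          (Submodule.quotEquivOfEq _ _ e₂))) P.asIdeal hPf
    · intro l₁ h l₂ he m hm
      rcases List.eq_nil_or_concat l₂ with rfl | ⟨l₃, b, rfl⟩
      · obtain ⟨rfl, hh⟩ := List.append_inj' he rfl
        obtain rfl : a = h := by simpa using hh
        obtain ⟨s, hs, hsm⟩ := hPi (Submodule.Quotient.mk m)
          ((Submodule.Quotient.mk_eq_zero I).mpr hm)
        exact ⟨s, hs, (Submodule.Quotient.mk_eq_zero I).mp hsm⟩
      · refine (hU' P hPU).2 l₁ h l₃ ?_ m hm
        have : l ++ [a] = (l₁ ++ h :: l₃) ++ [b] := by rw [he]; simp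
        exact (List.append_inj' this rfl).1

/-- EGA IV 11.3.8: a fibrewise regular sequence is regular on a neighbourhood, with flat quotient. -/
theorem exists_slices [Algebra.FinitePresentation R S] (Q : PrimeSpectrum S)
    (hflat : FlatCA.FlatAt R Q.asIdeal S) (rs : List S)
    (hreg : ∀ (l₁ : List S) (h : S) (l₂ : List S), rs = l₁ ++ h :: l₂ → ∀ m : S,
      h * m ∈ (Q.asIdeal.comap (algebraMap R S)).map (algebraMap R S) ⊔ Ideal.ofList l₁ →
        ∃ s ∉ Q.asIdeal,
          s * m ∈ (Q.asIdeal.comap (algebraMap R S)).map (algebraMap R S) ⊔ Ideal.ofList l₁) :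
    ∃ g₀ ∉ Q.asIdeal, ∀ g : S, g₀ ∣ g → ∀ (C : Type u) [CommRing C] [Algebra S C] [Algebra R C]
      [IsScalarTower R S C] [IsLocalization.Away g C],
      IsWeaklyRegular C (rs.map (algebraMap S C)) ∧
        Module.Flat R (C ⧸ Ideal.ofList (rs.map (algebraMap S C))) := by
  obtain ⟨U, hU, hQU, hU'⟩ := exists_open Q hflat rs hreg
  obtain ⟨-, ⟨_, ⟨g₀, rfl⟩, rfl⟩, hgQ, hg₀⟩ :=
    PrimeSpectrum.isBasis_basic_opens.exists_subset_of_mem_open hQU hU
  refine ⟨g₀, hgQ, fun g hdvd C _ _ _ _ _ => ⟨?_, ?_⟩⟩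
  · rw [isWeaklyRegular_iff]
    intro i hi
    rw [List.length_map] at hi
    rw [List.getElem_map, ← List.map_take, ← Ideal.map_ofList]
    let I := Ideal.ofList (rs.take i)
    rw [isSMulRegular_iff_right_eq_zero_of_smul]
    intro z hz
    obtain ⟨z, rfl⟩ := Submodule.Quotient.mk_surjective _ z
    rw [← Submodule.Quotient.mk_smul, Submodule.Quotient.mk_eq_zero, smul_eq_mul, smul_eq_mul,
      Ideal.mul_top] at hz
    rw [Submodule.Quotient.mk_eq_zero, smul_eq_mul, Ideal.mul_top]
    obtain ⟨⟨m, t⟩, hmt⟩ := IsLocalization.surj (Submonoid.powers g) z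
    have h0 : algebraMap S C (rs[i] * m) ∈ I.map (algebraMap S C) := by
      rw [map_mul, ← hmt, ← mul_assoc]
      exact Ideal.mul_mem_right _ _ hz
    obtain ⟨t', ⟨k, rfl⟩, hk⟩ :=
      (IsLocalization.algebraMap_mem_map_algebraMap_iff (Submonoid.powers g) C I _).mp h0
    let A : Ideal S := Submodule.comap (LinearMap.toSpanSingleton S S (g ^ k * m)) I
    have hgA : g ∈ A.radical := by
      rw [Ideal.radical_eq_sInf, Ideal.mem_sInf]
      rintro P ⟨hAP, hP⟩
      by_contra hgP
      obtain ⟨s, hs, hsm⟩ := (hU' ⟨P, hP⟩ (hg₀ fun h => hgP (Ideal.mem_of_dvd _ hdvd h))).2 (rs.take i) rs[i] (rs.drop (i + 1))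
        (by rw [List.cons_getElem_drop_succ, List.take_append_drop]) (g ^ k * m)
        (by rw [mul_left_comm]; exact hk)
      exact hs (hAP hsm)
    obtain ⟨N, hN⟩ := hgA
    have h1 : algebraMap S C (g ^ N * (g ^ k * m)) ∈ I.map (algebraMap S C) :=
      Ideal.mem_map_of_mem _ hN
    have hu : IsUnit (algebraMap S C g) := IsLocalization.Away.algebraMap_isUnit g
    rw [map_mul, map_mul, map_pow, map_pow, Ideal.unit_mul_mem_iff_mem _ (hu.pow N),
      Ideal.unit_mul_mem_iff_mem _ (hu.pow k), ← hmt] at h1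
    exact (Ideal.mul_unit_mem_iff_mem _ (IsLocalization.map_units C t)).mp h1
  · let I := Ideal.ofList rs
    have : IsLocalizedModule (Submonoid.powers g) (Algebra.linearMap S C) :=
      (isLocalizedModule_iff_isLocalization' _ _).2 inferInstance
    let q := Submodule.toLocalizedQuotient' C (Submonoid.powers g) (Algebra.linearMap S C) I
    have heq : Submodule.localized' C (Submonoid.powers g) (Algebra.linearMap S C) I =
        Ideal.ofList (rs.map (algebraMap S C)) := by
      rw [show I = Submodule.span S {x | x ∈ rs} from rfl, Submodule.localized'_span]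
      show Submodule.span C _ = Submodule.span C _
      congr 1
      ext x
      simp
    have := FlatOpen.flat_of_flatAt_basicOpen (R := R) g q fun P hP hgP =>
      (hU' ⟨P, hP⟩ (hg₀ fun h => hgP (Ideal.mem_of_dvd _ hdvd h))).1
    exact Module.Flat.of_linearEquiv
      ((Submodule.quotEquivOfEq _ _ heq).restrictScalars R).symm

end Groth.Agent.Wt.CMSlice
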