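import Groth.Agent.Wt.GenFib
import Mathlib.Topology.Connected.Clopen
import Mathlib.Topology.NoetherianSpace

/-!
# Lower semicontinuity at the generic point of the numbers of components and of non-reducedness
-/

universe u

open CategoryTheory CategoryTheory.Limits AlgebraicGeometry TopologicalSpace

namespace Groth.Agent.Wt.GenFib

section Top

variable {F : Type u} [TopologicalSpace F] {ι : Type*}

theorem card_le_irreducibleComponents (O : ι → Set F) (ho : ∀ i, IsOpen (O i))
    (hne : ∀ i, (O i).Nonempty) (hd : Pairwise (Function.onFun Disjoint O)) :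
    ENat.card ι ≤ (irreducibleComponents F).encard := by
  choose x hx using hne
  let c : ι → irreducibleComponents F := fun i =>
    ⟨irreducibleComponent (x i), irreducibleComponent_mem_irreducibleComponents _⟩
  refine (ENat.card_le_card_of_injective (f := c) fun i j h => ?_).trans le_rfl
  by_contra hij
  have h' : irreducibleComponent (x i) = irreducibleComponent (x j) := congrArg Subtype.val h
  obtain ⟨z, -, hzi, hzj⟩ := (isIrreducible_irreducibleComponent (x := x i)).2 (O i) (O j) (ho i) (ho j)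
    ⟨x i, mem_irreducibleComponent, hx i⟩ ⟨x j, h' ▸ mem_irreducibleComponent, hx j⟩
  exact Set.disjoint_left.1 (hd hij) hzi hzj

theorem card_le_connectedComponents (O : ι → Set F) (ho : ∀ i, IsClopen (O i))
    (hne : ∀ i, (O i).Nonempty) (hd : Pairwise (Function.onFun Disjoint O)) :
    ENat.card ι ≤ ENat.card (ConnectedComponents F) := by
  choose x hx using hne
  refine ENat.card_le_card_of_injective (f := fun i => (x i : ConnectedComponents F)) fun i j h => ?_
  by_contra hij
  have := (ho i).connectedComponent_subset (hx i)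
    (ConnectedComponents.coe_eq_coe.1 h ▸ mem_connectedComponent : x j ∈ connectedComponent (x i))
  exact Set.disjoint_left.1 (hd hij) this (hx j)

end Top

variable {A : CommRingCat.{u}} [IsDomain A] {X : Scheme.{u}} (u : X ⟶ Spec A)

/-- A closed set missing the generic fibre misses the fibres near the generic point. -/
theorem exists_open_disjoint [CompactSpace X] {Z : Set X} (hZ : IsClosed Z)
    (hη : ∀ z ∈ Z, u z ≠ genericPoint (Spec A)) :
    ∃ a : A, a ≠ 0 ∧ ∀ z ∈ Z, u z ∉ PrimeSpectrum.basicOpen a := by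
  have key : ∀ x : X, ∃ W : X.Opens, x ∈ W ∧ ∃ a : A, a ≠ 0 ∧
      ∀ z ∈ Z, z ∈ W → u z ∉ PrimeSpectrum.basicOpen a := by
    intro x
    obtain ⟨_, ⟨(W : X.Opens), (hW : IsAffineOpen W), rfl⟩, hxW, -⟩ :=
      X.isBasis_affineOpens.exists_subset_of_mem_open (Set.mem_univ x) isOpen_univ
    refine ⟨W, hxW, ?_⟩
    obtain ⟨φ, hφ⟩ := Spec.map_surjective (hW.fromSpec ≫ u)
    obtain ⟨I, hI⟩ := (PrimeSpectrum.isClosed_iff_zeroLocus_ideal _).1 (hZ.preimage hW.fromSpec.continuous)
    by_contra hcon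
    push Not at hcon
    have hdisj : Disjoint (I : Set Γ(X, W)) ((nonZeroDivisors A).map φ.hom : Set Γ(X, W)) := by
      rw [Set.disjoint_left]
      rintro _ hI' ⟨a, ha, rfl⟩
      obtain ⟨z, hzZ, hzW, hza⟩ := hcon a (nonZeroDivisors.ne_zero ha)
      obtain ⟨q, rfl⟩ : z ∈ Set.range hW.fromSpec := by rw [hW.range_fromSpec]; exact hzW
      have hq : q ∈ PrimeSpectrum.zeroLocus (I : Set Γ(X, W)) := by rw [← hI]; exact hzZ
      rw [← Scheme.Hom.comp_apply, ← hφ] at hza
      exact hza (hq hI')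
    obtain ⟨q, hq, hIq, hqd⟩ := Ideal.exists_le_prime_disjoint I _ hdisj
    let q' : ↥(Spec Γ(X, W)) := ⟨q, hq⟩
    refine hη (hW.fromSpec q') ?_ ?_
    · show q' ∈ ⇑hW.fromSpec ⁻¹' Z
      rw [hI]; exact hIq
    · have hbot : q.comap φ.hom = ⊥ := by
        rw [eq_bot_iff]
        intro a ha
        by_contra ha0
        exact Set.disjoint_left.1 hqd ha ⟨a, mem_nonZeroDivisors_of_ne_zero ha0, rfl⟩
      rw [← Scheme.Hom.comp_apply, ← hφ]
      refine ((genericPoint_spec (Spec A)).specializes trivial).antisymm ?_ |>.eq.symm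
      show PrimeSpectrum.comap φ.hom q' ⤳ _
      refine (PrimeSpectrum.le_iff_specializes _ _).1 ?_
      exact (hbot.le.trans bot_le : q.comap φ.hom ≤ (genericPoint (Spec A) : PrimeSpectrum A).asIdeal)
  choose W hxW a ha hWa using key
  obtain ⟨t, ht⟩ := CompactSpace.isCompact_univ.elim_finite_subcover (fun x => (W x : Set X))
    (fun x => (W x).2) fun x _ => Set.mem_iUnion.2 ⟨x, hxW x⟩
  refine ⟨∏ x ∈ t, a x, Finset.prod_ne_zero_iff.2 fun x _ => ha x, fun z hz hza => ?_⟩
  obtain ⟨x, hx, hzx⟩ := Set.mem_iUnion₂.1 (ht (Set.mem_univ z))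
  refine hWa x z hz hzx fun h => hza ?_
  obtain ⟨b, hb⟩ := Finset.dvd_prod_of_mem a hx
  rw [hb]
  exact (u z).asIdeal.mul_mem_right b h

variable [Flat u] [LocallyOfFinitePresentation u]

theorem eq_empty_of_isOpen {W : Set X} (hW : IsOpen W) (h : ∀ z ∈ W, u z ≠ genericPoint (Spec A)) :
    W = ∅ := by
  haveI : UniversallyOpen u := inferInstance
  by_contra hne
  obtain ⟨z, hz⟩ := Set.nonempty_iff_ne_empty.2 hne
  obtain ⟨w, hw, hwη⟩ : genericPoint (Spec A) ∈ ⇑u '' W :=
    (genericPoint_spec (Spec A)).mem_open_set_iff (u.isOpenMap _ hW) |>.2 ⟨_, trivial, z, hz, rfl⟩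
  exact h w hw hwη

/-- Disjoint nonempty opens of the generic fibre give disjoint nonempty opens of nearby fibres. -/
theorem exists_opens {ι : Type*} [Finite ι] (O : ι → Set ↑(u.fiber (genericPoint (Spec A))))
    (ho : ∀ i, IsOpen (O i)) (hne : ∀ i, (O i).Nonempty) (hd : Pairwise (Function.onFun Disjoint O)) :
    ∃ (U : ι → Set X) (V : (Spec A).Opens), (V : Set (Spec A)).Nonempty ∧ (∀ i, IsOpen (U i)) ∧
      Pairwise (Function.onFun Disjoint U) ∧
      (∀ i, ⇑(u.fiberι (genericPoint (Spec A))) ⁻¹' U i = O i) ∧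
      ∀ s ∈ V, ∀ i, (⇑(u.fiberι s) ⁻¹' U i).Nonempty := by
  haveI : UniversallyOpen u := inferInstance
  choose U hUo hUO using fun i => (u.fiberι _).isEmbedding.isInducing.isOpen_iff.1 (ho i)
  have hη : ∀ i, genericPoint (Spec A) ∈ ⇑u '' U i := fun i => by
    obtain ⟨z, hz⟩ := hne i
    refine ⟨u.fiberι _ z, (hUO i).ge hz, ?_⟩
    have : u.fiberι _ z ∈ Set.range (u.fiberι (genericPoint (Spec A))) := Set.mem_range_self z
    rw [Scheme.Hom.range_fiberι] at this
    exact this
  refine ⟨U, ⟨⋂ i, ⇑u '' U i, isOpen_iInter_of_finite fun i => u.isOpenMap _ (hUo i)⟩,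
    ⟨_, Set.mem_iInter.2 hη⟩, hUo, fun i j hij => ?_, hUO, fun s hs i => ?_⟩
  · refine Set.disjoint_iff_inter_eq_empty.2 (eq_empty_of_isOpen u ((hUo i).inter (hUo j)) ?_)
    rintro z ⟨hzi, hzj⟩ hz
    obtain ⟨w, rfl⟩ : z ∈ Set.range (u.fiberι (genericPoint (Spec A))) := by
      rw [Scheme.Hom.range_fiberι]; exact hz
    exact Set.disjoint_left.1 (hd hij) (show w ∈ O i from hUO i ▸ hzi) (hUO j ▸ hzj)
  · obtain ⟨z, hz, hzs⟩ := Set.mem_iInter.1 hs i
    obtain ⟨w, rfl⟩ : z ∈ Set.range (u.fiberι s) := by rw [Scheme.Hom.range_fiberι]; exact hzs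
    exact ⟨w, hz⟩

theorem exists_open_irreducibleComponents (n : ℕ)
    (h : (irreducibleComponents ↑(u.fiber (genericPoint (Spec A)))).encard = n) :
    ∃ V : (Spec A).Opens, (V : Set (Spec A)).Nonempty ∧
      ∀ s ∈ V, (n : ℕ∞) ≤ (irreducibleComponents ↑(u.fiber s)).encard := by
  let C := irreducibleComponents ↑(u.fiber (genericPoint (Spec A)))
  have hfin : C.Finite := Set.finite_of_encard_eq_coe h
  haveI := hfin.to_subtype
  let O : C → Set ↑(u.fiber (genericPoint (Spec A))) := fun i => (⋃₀ (C \ {i.1}))ᶜ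
  obtain ⟨U, V, hV, hUo, hUd, -, hUne⟩ := exists_opens u O
    (fun i => by
      refine IsClosed.isOpen_compl (self := ?_)
      rw [Set.sUnion_eq_biUnion]
      exact hfin.sdiff.isClosed_biUnion fun s hs => isClosed_of_mem_irreducibleComponents s hs.1)
    (fun i => by
      by_contra he
      rw [Set.not_nonempty_iff_eq_empty, Set.compl_empty_iff] at he
      obtain ⟨t, ht, hit⟩ := isIrreducible_iff_sUnion_isClosed.1 i.2.1 hfin.sdiff.toFinset
        (fun s hs => isClosed_of_mem_irreducibleComponents s (hfin.sdiff.mem_toFinset.1 hs).1)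
        (by rw [hfin.sdiff.coe_toFinset, he]; exact Set.subset_univ _)
      rw [hfin.sdiff.mem_toFinset] at ht
      exact ht.2 (i.2.eq_of_ge ht.1.1 hit : t = i.1))
    (fun i j hij => Set.disjoint_left.2 fun z hzi hzj => by
      obtain ⟨t, ht, hzt⟩ : ∃ t ∈ C, z ∈ t :=
        ⟨_, irreducibleComponent_mem_irreducibleComponents z, mem_irreducibleComponent⟩
      by_cases hti : t = i.1
      · exact hzj ⟨t, ⟨ht, fun h' => hij (Subtype.ext (hti.symm.trans h'))⟩, hzt⟩
      · exact hzi ⟨t, ⟨ht, hti⟩, hzt⟩)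
  refine ⟨V, hV, fun s hs => ?_⟩
  refine le_trans (le_of_eq ?_) (card_le_irreducibleComponents (fun i => ⇑(u.fiberι s) ⁻¹' U i)
    (fun i => (hUo i).preimage (u.fiberι s).continuous) (hUne s hs)
    (fun i j hij => (hUd hij).preimage _))
  rw [← h]
  exact (ENat.card_coe_set_eq C).symm

theorem exists_open_connectedComponents [CompactSpace X] (n : ℕ)
    (h : ENat.card (ConnectedComponents ↑(u.fiber (genericPoint (Spec A)))) = n) :
    ∃ V : (Spec A).Opens, (V : Set (Spec A)).Nonempty ∧
      ∀ s ∈ V, (n : ℕ∞) ≤ ENat.card (ConnectedComponents ↑(u.fiber s)) := by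
  let F := ↑(u.fiber (genericPoint (Spec A)))
  haveI : Finite (ConnectedComponents F) := by
    rw [← ENat.card_lt_top, h]; exact ENat.natCast_lt_top n
  haveI : DiscreteTopology (ConnectedComponents F) := by
    haveI : T1Space (ConnectedComponents F) := ⟨fun c => by
      obtain ⟨x, rfl⟩ := ConnectedComponents.surjective_coe c
      rw [← ConnectedComponents.isQuotientMap_coe.isClosed_preimage, connectedComponents_preimage_singleton]
      exact isClosed_connectedComponent⟩
    infer_instance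
  let O : ConnectedComponents F → Set F := fun c => ConnectedComponents.mk ⁻¹' {c}
  have hO : ∀ c, IsClopen (O c) := fun c =>
    (isClopen_discrete {c}).preimage ConnectedComponents.continuous_coe
  obtain ⟨U, V, ⟨v, hv⟩, hUo, hUd, hUO, hUne⟩ := exists_opens u O (fun c => (hO c).2)
    (fun c => by obtain ⟨x, rfl⟩ := ConnectedComponents.surjective_coe c; exact ⟨x, rfl⟩)
    (fun c d hcd => Set.disjoint_left.2 fun z hzc hzd => hcd (hzc.symm.trans hzd))
  obtain ⟨a, ha, hZ⟩ := exists_open_disjoint u (Z := (⋃ c, U c)ᶜ) (isOpen_iUnion hUo).isClosed_compl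
    (fun z hz hzη => by
      obtain ⟨w, rfl⟩ : z ∈ Set.range (u.fiberι (genericPoint (Spec A))) := by
        rw [Scheme.Hom.range_fiberι]; exact hzη
      exact hz (Set.mem_iUnion.2 ⟨(w : ConnectedComponents F),
        (hUO _).ge (rfl : w ∈ O _)⟩))
  have hηV : genericPoint (Spec A) ∈ V :=
    (genericPoint_spec (Spec A)).mem_open_set_iff V.2 |>.2 ⟨v, trivial, hv⟩
  refine ⟨V ⊓ PrimeSpectrum.basicOpen a, ⟨genericPoint (Spec A), hηV, ?_⟩, fun s hs => ?_⟩
  · refine (genericPoint_spec (Spec A)).mem_open_set_iff (PrimeSpectrum.basicOpen a).2 |>.2 ?_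
    exact ⟨(⟨⊥, Ideal.isPrime_bot⟩ : PrimeSpectrum A), trivial, fun h => ha (by simpa using h)⟩
  rw [← h]
  refine card_le_connectedComponents (fun c => ⇑(u.fiberι s) ⁻¹' U c)
    (fun c => ⟨?_, (hUo c).preimage (u.fiberι s).continuous⟩) (hUne s hs.1)
    (fun c d hcd => (hUd hcd).preimage _)
  rw [← isOpen_compl_iff]
  have : (⇑(u.fiberι s) ⁻¹' U c)ᶜ = ⋃ d ∈ ({c}ᶜ : Set _), ⇑(u.fiberι s) ⁻¹' U d := by
    ext w
    simp only [Set.mem_compl_iff, Set.mem_iUnion, Set.mem_preimage, Set.mem_singleton_iff, exists_prop]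
    refine ⟨fun hw => ?_, fun ⟨d, hdc, hd⟩ hc => Set.disjoint_left.1 (hUd hdc) hd hc⟩
    by_contra hcon
    push Not at hcon
    have hwr : u.fiberι s w ∈ Set.range (u.fiberι s) := Set.mem_range_self w
    rw [Scheme.Hom.range_fiberι] at hwr
    refine hZ _ (fun hm => ?_) (hwr.symm ▸ hs.2)
    obtain ⟨d, hd⟩ := Set.mem_iUnion.1 hm
    by_cases hdc : d = c
    · exact hw (hdc ▸ hd)
    · exact hcon d hdc hd
  rw [this]
  exact isOpen_biUnion fun d _ => (hUo d).preimage (u.fiberι s).continuous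

end Groth.Agent.Wt.GenFib

namespace Groth.Agent.Wt.GenFib

theorem image_mem_irreducibleComponents {α β : Type u} [TopologicalSpace α] [TopologicalSpace β]
    (e : α ≃ₜ β) {s : Set α} (hs : s ∈ irreducibleComponents α) : e '' s ∈ irreducibleComponents β := by
  refine ⟨hs.1.image e e.continuous.continuousOn, fun t ht hst => ?_⟩
  have h := hs.2 (ht.image e.symm e.symm.continuous.continuousOn) (fun x hx =>
    ⟨e x, hst ⟨x, hx, rfl⟩, e.symm_apply_apply x⟩)
  exact fun y hy => ⟨e.symm y, h ⟨y, hy, rfl⟩, e.apply_symm_apply y⟩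

theorem encard_irreducibleComponents_of_homeomorph {α β : Type u} [TopologicalSpace α]
    [TopologicalSpace β] (e : α ≃ₜ β) :
    (irreducibleComponents α).encard = (irreducibleComponents β).encard := by
  rw [← (Set.image_injective.2 e.injective).encard_image (irreducibleComponents α)]
  congr 1
  refine Set.Subset.antisymm ?_ fun t ht => ⟨e.symm '' t, image_mem_irreducibleComponents e.symm ht, ?_⟩
  · rintro _ ⟨s, hs, rfl⟩
    exact image_mem_irreducibleComponents e hs
  · rw [← Set.image_comp]; simp [Function.comp_def]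

theorem card_connectedComponents_of_homeomorph {α β : Type u} [TopologicalSpace α]
    [TopologicalSpace β] (e : α ≃ₜ β) :
    ENat.card (ConnectedComponents α) = ENat.card (ConnectedComponents β) :=
  ENat.card_congr
    { toFun := e.continuous.connectedComponentsMap
      invFun := e.symm.continuous.connectedComponentsMap
      left_inv := fun c => by
        obtain ⟨x, rfl⟩ := ConnectedComponents.surjective_coe c
        exact congrArg ConnectedComponents.mk (e.symm_apply_apply x)
      right_inv := fun c => by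
        obtain ⟨x, rfl⟩ := ConnectedComponents.surjective_coe c
        exact congrArg ConnectedComponents.mk (e.apply_symm_apply x) }

theorem exists_open_irred {X Y : Scheme.{u}} (f : X ⟶ Y) [IrreducibleSpace Y] [LocallyOfFiniteType f]
    [QuasiCompact f] (n : ℕ) (h : (irreducibleComponents ↑(f.fiber (genericPoint Y))).encard = n) :
    ∃ V : Y.Opens, (V : Set Y).Nonempty ∧
      ∀ y ∈ V, (n : ℕ∞) ≤ (irreducibleComponents ↑(f.fiber y)).encard :=
  exists_open_of_model f (fun F _ _ => (n : ℕ∞) ≤ (irreducibleComponents ↑F).encard)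
    (fun _ _ _ _ _ _ φ _ _ hle => hle.trans_eq (encard_irreducibleComponents_of_homeomorph
      (Scheme.homeoOfIso φ)))
    fun A _ X' u _ _ _ _ ⟨φ, _, _⟩ => exists_open_irreducibleComponents u n
      (by rw [encard_irreducibleComponents_of_homeomorph (Scheme.homeoOfIso φ)]; exact h)

theorem exists_open_conn {X Y : Scheme.{u}} (f : X ⟶ Y) [IrreducibleSpace Y] [LocallyOfFiniteType f]
    [QuasiCompact f] (n : ℕ)
    (h : ENat.card (ConnectedComponents ↑(f.fiber (genericPoint Y))) = n) :
    ∃ V : Y.Opens, (V : Set Y).Nonempty ∧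
      ∀ y ∈ V, (n : ℕ∞) ≤ ENat.card (ConnectedComponents ↑(f.fiber y)) :=
  exists_open_of_model f (fun F _ _ => (n : ℕ∞) ≤ ENat.card (ConnectedComponents ↑F))
    (fun _ _ _ _ _ _ φ _ _ hle => hle.trans_eq (card_connectedComponents_of_homeomorph
      (Scheme.homeoOfIso φ)))
    fun A _ X' u _ _ _ _ ⟨φ, _, _⟩ => exists_open_connectedComponents u n
      (by rw [card_connectedComponents_of_homeomorph (Scheme.homeoOfIso φ)]; exact h)

end Groth.Agent.Wt.GenFib
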