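import Groth.Agent.Wt.GenFibDim
import Groth.Agent.Wt.GenFibCount
import Groth.Agent.SecComp.GeomNear

/-!
# Local constructibility of level sets of fibre invariants
-/

universe u

open CategoryTheory CategoryTheory.Limits AlgebraicGeometry TopologicalSpace Topology

namespace Groth.Agent.Wt.GenFib

theorem nGeom_baseChange {X Y X' Y' : Scheme.{u}} {f : X ⟶ Y} {f' : X' ⟶ Y'} {g' : X' ⟶ X}
    {g : Y' ⟶ Y} (hc : IsPullback g' f' f g) (y' : Y') :
    MoreMor.nGeomIrredComp f' y' = MoreMor.nGeomIrredComp f (g y') ∧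
      MoreMor.nGeomConnComp f' y' = MoreMor.nGeomConnComp f (g y') := by
  obtain ⟨L, _, _, pt, hpt⟩ := Groth.Agent.SecComp.exists_algClosed_point Y' y'
  let e : pullback f' pt ≅ pullback f (pt ≫ g) :=
    ((IsPullback.of_hasPullback f' pt).paste_horiz hc).isoPullback
  obtain ⟨h₁, h₂⟩ := Groth.Agent.SecComp.nGeom_eq f' pt
  obtain ⟨h₁', h₂'⟩ := Groth.Agent.SecComp.nGeom_eq f (pt ≫ g)
  have hy : ∀ c : ↥(Spec (CommRingCat.of L)), (pt ≫ g) c = g y' ∧ pt c = y' := fun c =>
    ⟨(Scheme.Hom.comp_apply pt g c).trans (congrArg g (hpt c)), hpt c⟩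
  have a₁ := congrArg (MoreMor.nGeomIrredComp f) (hy (IsLocalRing.closedPoint L)).1
  have a₂ := congrArg (MoreMor.nGeomConnComp f) (hy (IsLocalRing.closedPoint L)).1
  have b₁ := congrArg (MoreMor.nGeomIrredComp f') (hy (IsLocalRing.closedPoint L)).2
  have b₂ := congrArg (MoreMor.nGeomConnComp f') (hy (IsLocalRing.closedPoint L)).2
  exact ⟨((h₁.trans b₁).symm.trans (encard_irreducibleComponents_of_homeomorph
      (Scheme.homeoOfIso e))).trans (h₁'.trans a₁),
    ((h₂.trans b₂).symm.trans (card_connectedComponents_of_homeomorph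
      (Scheme.homeoOfIso e))).trans (h₂'.trans a₂)⟩

/-- An invariant of fibres compatible with base change and locally constant near the generic point
has locally constructible level sets. -/
theorem isLocallyConstructible_level {α : Type*}
    (F : ∀ {X Y : Scheme.{u}}, (X ⟶ Y) → Y → α)
    (hbc : ∀ {X Y X' Y' : Scheme.{u}} {f : X ⟶ Y} {f' : X' ⟶ Y'} {g' : X' ⟶ X} {g : Y' ⟶ Y},
      IsPullback g' f' f g → ∀ y', F f' y' = F f (g y'))
    (hgen : ∀ {X S : Scheme.{u}} (u : X ⟶ S) [IsIntegral S] [IsNoetherian S] [LocallyOfFiniteType u]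
      [QuasiCompact u], ∃ V : S.Opens, genericPoint S ∈ V ∧ ∀ s ∈ V, F u s = F u (genericPoint S))
    {X Y : Scheme.{u}} (f : X ⟶ Y) [LocallyOfFinitePresentation f] [QuasiCompact f] [QuasiSeparated f]
    (a : α) : IsLocallyConstructible {y : Y | F f y = a} := by
  let P : ∀ ⦃X Y T : Scheme.{u}⦄, (X ⟶ T) → (Y ⟶ T) → Prop := fun _ _ T gX _ => ∀ t : T, F gX t = a
  have hlocus : ∀ {X S : Scheme.{u}} (u : X ⟶ S) (s : S),
      P (u.fiberToSpecResidueField s) (u.fiberToSpecResidueField s) ↔ F u s = a := by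
    intro X S u s
    have hpb : IsPullback (u.fiberι s) (u.fiberToSpecResidueField s) u (S.fromSpecResidueField s) :=
      IsPullback.of_hasPullback _ _
    have hv : ∀ t, F (u.fiberToSpecResidueField s) t = F u s := fun t =>
      (hbc hpb t).trans (congrArg (F u) (Scheme.fromSpecResidueField_apply s t))
    exact ⟨fun h => (hv (IsLocalRing.closedPoint (S.residueField s))).symm.trans (h _),
      fun h t => (hv t).trans h⟩
  have hP : ConsPropPair.IsConsPair P := by
    refine ⟨fun X X' Y Y' T T' gX gY gX' gY' eX eY h _ _ _ _ _ _ _ _ sX _ => ?_,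
      fun X Y S u v _ _ _ _ _ _ => ?_⟩
    · haveI : Surjective h := ⟨fun t => ⟨Classical.arbitrary T', Subsingleton.elim _ _⟩⟩
      refine ⟨fun H t => (hbc sX t).trans (H _), fun H t => ?_⟩
      obtain ⟨t', rfl⟩ := h.surjective t
      exact (hbc sX t').symm.trans (H t')
    · have hl : ∀ s, s ∈ ConsPropPair.locusPair P u v ↔ F u s = a := fun s => hlocus u s
      obtain ⟨V, hηV, hV⟩ := hgen u
      by_cases ha : F u (genericPoint S) = a
      · exact Or.inl ⟨_, interior_maximal (fun s hs => (hl s).2 ((hV s hs).trans ha)) V.2 hηV⟩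
      · exact Or.inr ⟨_, interior_maximal (fun s hs hm => ha ((hV s hs).symm.trans ((hl s).1 hm))) V.2 hηV⟩
  have heq : {y : Y | F f y = a} = ConsPropPair.locusPair P f f :=
    Set.ext fun y => (hlocus f y).symm
  rw [heq]
  exact ConsPairLib.isLocallyConstructible_locusPair hP f f

theorem exists_opens_nGeom {X S : Scheme.{u}} (u : X ⟶ S) [IrreducibleSpace S] [LocallyOfFiniteType u]
    [QuasiCompact u] : ∃ V : S.Opens, genericPoint S ∈ V ∧ ∀ s ∈ V,
      MoreMor.nGeomIrredComp u s = MoreMor.nGeomIrredComp u (genericPoint S) ∧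
      MoreMor.nGeomConnComp u s = MoreMor.nGeomConnComp u (genericPoint S) := by
  obtain ⟨V, -, hηV, hopen, hV⟩ := Groth.Agent.SecComp.exists_nbhd_nGeom u (genericPoint S)
  obtain ⟨O, hO, hOV⟩ := isOpen_induced_iff.1 hopen
  have hmem : ∀ s : S, s ∈ closure ({genericPoint S} : Set S) := fun s => by
    rw [genericPoint_closure]; trivial
  exact ⟨⟨O, hO⟩, ((Set.ext_iff.1 hOV) ⟨_, hmem _⟩).2 hηV,
    fun s hs => hV s (((Set.ext_iff.1 hOV) ⟨s, hmem s⟩).1 hs)⟩

theorem isLocallyConstructible_topDim {X Y : Scheme.{u}} (f : X ⟶ Y) [LocallyOfFinitePresentation f]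
    [QuasiCompact f] [QuasiSeparated f] (n : WithBot ℕ∞) :
    IsLocallyConstructible {y : Y | topologicalKrullDim ↑(f.fiber y) = n} :=
  ConsPairLib.isLocallyConstructible_locusPair (isConsPair_topDim {n}) f f

theorem isLocallyConstructible_nGeomIrredComp {X Y : Scheme.{u}} (f : X ⟶ Y)
    [LocallyOfFinitePresentation f] [QuasiCompact f] [QuasiSeparated f] (n : ℕ∞) :
    IsLocallyConstructible {y : Y | MoreMor.nGeomIrredComp f y = n} :=
  isLocallyConstructible_level (fun {_ _} g y => MoreMor.nGeomIrredComp g y)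
    (fun hc y' => (nGeom_baseChange hc y').1)
    (fun u _ _ _ _ => let ⟨V, hη, hV⟩ := exists_opens_nGeom u; ⟨V, hη, fun s hs => (hV s hs).1⟩) f n

theorem isLocallyConstructible_nGeomConnComp {X Y : Scheme.{u}} (f : X ⟶ Y)
    [LocallyOfFinitePresentation f] [QuasiCompact f] [QuasiSeparated f] (n : ℕ∞) :
    IsLocallyConstructible {y : Y | MoreMor.nGeomConnComp f y = n} :=
  isLocallyConstructible_level (fun {_ _} g y => MoreMor.nGeomConnComp g y)
    (fun hc y' => (nGeom_baseChange hc y').2)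
    (fun u _ _ _ _ => let ⟨V, hη, hV⟩ := exists_opens_nGeom u; ⟨V, hη, fun s hs => (hV s hs).2⟩) f n

end Groth.Agent.Wt.GenFib
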