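import Groth.Agent.Wt.CMBase
import Groth.Agent.EtStruct.BaseChangeDescentScheme
import Groth.Agent.FlatMor.CMFlat
import Groth.Agent.FDesc.BaseChangeStalk

/-!
# Cohen–Macaulay points of morphisms on affine charts
-/

set_option autoImplicit false

universe u

open AlgebraicGeometry CategoryTheory Limits IsLocalRing

namespace Groth.Agent.Wt.CMBase

variable {X Y : Scheme.{u}} (f : X ⟶ Y)

/-- The fibre local ring on a chart. -/
theorem nonempty_fibLocRing_equiv {U : Y.Opens} (hU : IsAffineOpen U) {V : X.Opens}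
    (hV : IsAffineOpen V) (hVU : V ≤ f ⁻¹ᵁ U) {x : X} (hx : x ∈ V) :
    letI := (f.appLE U V hVU).hom.toAlgebra
    Nonempty (EGA4.FibLocRing Γ(Y, U) Γ(X, V) (hV.primeIdealOf ⟨x, hx⟩).asIdeal ≃+*
      X.presheaf.stalk x ⧸ (maximalIdeal (Y.presheaf.stalk (f x))).map (f.stalkMap x).hom) := by
  let := (f.appLE U V hVU).hom.toAlgebra
  let q := (hV.primeIdealOf ⟨x, hx⟩).asIdeal
  let p := (hU.primeIdealOf ⟨f x, hVU hx⟩).asIdeal
  let : Algebra Γ(X, V) (X.presheaf.stalk x) := (X.presheaf.germ V x hx).hom.toAlgebra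
  have : IsLocalization.AtPrime (X.presheaf.stalk x) q := hV.isLocalization_stalk ⟨x, hx⟩
  let : Algebra Γ(Y, U) (Y.presheaf.stalk (f x)) := (Y.presheaf.germ U (f x) (hVU hx)).hom.toAlgebra
  have : IsLocalization.AtPrime (Y.presheaf.stalk (f x)) p := hU.isLocalization_stalk ⟨f x, hVU hx⟩
  let e : Localization.AtPrime q ≃ₐ[Γ(X, V)] X.presheaf.stalk x :=
    IsLocalization.algEquiv q.primeCompl _ _
  refine ⟨Ideal.quotientEquiv _ _ e.toRingEquiv ?_⟩
  rw [← IsLocalization.AtPrime.map_eq_maximalIdeal p (Y.presheaf.stalk (f x)), Ideal.map_map,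
    show q.comap (algebraMap Γ(Y, U) Γ(X, V)) = p from
      congr($(IsAffineOpen.comap_primeIdealOf_appLE U hU V hV hVU hx).1)]
  refine Eq.trans ?_ (Ideal.map_map (I := p) _ _).symm
  congr 1
  ext a
  show (f.stalkMap x).hom (algebraMap Γ(Y, U) (Y.presheaf.stalk (f x)) a) =
    e (algebraMap Γ(X, V) (Localization.AtPrime q) (algebraMap Γ(Y, U) Γ(X, V) a))
  rw [e.commutes]
  simp only [RingHom.algebraMap_toAlgebra]
  rw [← CommRingCat.comp_apply, ← CommRingCat.comp_apply, Scheme.Hom.appLE, Category.assoc,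
    X.presheaf.germ_res, f.germ_stalkMap U x (hVU hx)]

/-- Cohen–Macaulay points on charts. -/
theorem isCMAt_iff_chart {U : Y.Opens} (hU : IsAffineOpen U) {V : X.Opens} (hV : IsAffineOpen V)
    (hVU : V ≤ f ⁻¹ᵁ U) {x : X} (hx : x ∈ V) :
    letI := (f.appLE U V hVU).hom.toAlgebra
    MoreMor.IsCMAt f x ↔ RelDim.IsCMPoint Γ(Y, U) Γ(X, V) (hV.primeIdealOf ⟨x, hx⟩) := by
  let := (f.appLE U V hVU).hom.toAlgebra
  rw [FlatMor.CMFlat.isCMAt_iff]
  obtain ⟨e⟩ := nonempty_fibLocRing_equiv f hU hV hVU hx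
  exact and_congr (EtStruct.flat_stalkMap_iff f hU hV hVU hx)
    ⟨FlatMor.CMFlat.isCM_of_ringEquiv e.symm, FlatMor.CMFlat.isCM_of_ringEquiv e⟩

/-- The fibre of `f` at a point, on a chart, is Noetherian. -/
theorem isNoetherianRing_fibLocRing {U : Y.Opens} (hU : IsAffineOpen U) {V : X.Opens}
    (hV : IsAffineOpen V) (hVU : V ≤ f ⁻¹ᵁ U) {x : X} (hx : x ∈ V)
    (hN : IsLocallyNoetherian (f.fiber (f x))) :
    letI := (f.appLE U V hVU).hom.toAlgebra
    IsNoetherianRing (EGA4.FibLocRing Γ(Y, U) Γ(X, V) (hV.primeIdealOf ⟨x, hx⟩).asIdeal) := by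
  let := (f.appLE U V hVU).hom.toAlgebra
  have := FlatMor.CMFlat.isNoetherianRing_quot f x hN
  obtain ⟨e⟩ := nonempty_fibLocRing_equiv f hU hV hVU hx
  exact isNoetherianRing_of_ringEquiv _ e.symm

/-- A locally closed set over which the structure map is locally of finite type has Noetherian
fibres. -/
theorem isLocallyNoetherian_fiber [LocallyOfFiniteType f] (y : Y) :
    IsLocallyNoetherian (f.fiber y) := by
  have : LocallyOfFiniteType (f.fiberToSpecResidueField y) :=
    MorphismProperty.of_isPullback (IsPullback.of_hasPullback f (Y.fromSpecResidueField y))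
      ‹LocallyOfFiniteType f›
  exact LocallyOfFiniteType.isLocallyNoetherian (f.fiberToSpecResidueField y)

variable {X' Y' : Scheme.{u}} {f} {f' : X' ⟶ Y'} {g' : X' ⟶ X} {g : Y' ⟶ Y}

/-- Cohen–Macaulayness at a point and at its image in a base change, the flatness aside. -/
theorem isCMAt_baseChange_iff (hc : IsPullback g' f' f g) (x' : X')
    (hN : IsLocallyNoetherian (f.fiber (f (g' x'))))
    (h : LocallyOfFiniteType f ∨ LocallyOfFiniteType g) :
    (MoreMor.IsCMAt f (g' x') → (f'.stalkMap x').hom.Flat → MoreMor.IsCMAt f' x') ∧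
    (MoreMor.IsCMAt f' x' → (f.stalkMap (g' x')).hom.Flat → MoreMor.IsCMAt f (g' x')) := by
  obtain ⟨U, hU, V, hV, hVU, hx⟩ := EtStruct.exists_chart f (g' x')
  have hy : g (f' x') ∈ U := by
    rw [show g (f' x') = f (g' x') by rw [← Scheme.Hom.comp_apply, ← Scheme.Hom.comp_apply, hc.w]]
    exact hVU hx
  obtain ⟨_, ⟨U', hU', rfl⟩, hy', hU'U⟩ :=
    Y'.isBasis_affineOpens.exists_subset_of_mem_open hy (U.2.preimage g.continuous)
  obtain ⟨W, hW'⟩ : ∃ W, W = g' ⁻¹ᵁ V ⊓ f' ⁻¹ᵁ U' := ⟨_, rfl⟩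
  have hxW : x' ∈ W := hW' ▸ ⟨hx, hy'⟩
  have hWV : W ≤ g' ⁻¹ᵁ V := hW'.le.trans inf_le_left
  have hWU : W ≤ f' ⁻¹ᵁ U' := hW'.le.trans inf_le_right
  have hpush : IsPushout (f.appLE U V hVU) (g.appLE U U' hU'U) (g'.appLE V W hWV)
      (f'.appLE U' W hWU) :=
    (isIso_pushoutSection_iff hc hU'U hVU hW').mp
      (isIso_pushoutSection_of_isAffineOpen hc hU'U hVU hW' hU hU' hV)
  have hW : IsAffineOpen W := by
    have : IsAffine U.toScheme := hU
    have : IsAffine (Scheme.Opens.toScheme U') := hU'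
    have : IsAffine V.toScheme := hV
    exact .of_isIso (Scheme.Hom.isPullback_resLE hc hU'U hVU hW').isoPullback.hom
  let : Algebra Γ(Y, U) Γ(X, V) := (f.appLE U V hVU).hom.toAlgebra
  let : Algebra Γ(Y, U) Γ(Y', U') := (g.appLE U U' hU'U).hom.toAlgebra
  let : Algebra Γ(X, V) Γ(X', W) := (g'.appLE V W hWV).hom.toAlgebra
  let : Algebra Γ(Y', U') Γ(X', W) := (f'.appLE U' W hWU).hom.toAlgebra
  let : Algebra Γ(Y, U) Γ(X', W) :=
    ((f'.appLE U' W hWU).hom.comp (g.appLE U U' hU'U).hom).toAlgebra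
  have : IsScalarTower Γ(Y, U) Γ(Y', U') Γ(X', W) := .of_algebraMap_eq' rfl
  have : IsScalarTower Γ(Y, U) Γ(X, V) Γ(X', W) :=
    .of_algebraMap_eq' congr($(hpush.w).hom).symm
  have : Algebra.IsPushout Γ(Y, U) Γ(Y', U') Γ(X, V) Γ(X', W) :=
    CommRingCat.isPushout_iff_isPushout.mp hpush.flip
  let Q := (hW.primeIdealOf ⟨x', hxW⟩).asIdeal
  have hQ : Q.comap (algebraMap Γ(X, V) Γ(X', W)) = (hV.primeIdealOf ⟨g' x', hx⟩).asIdeal :=
    congr($(IsAffineOpen.comap_primeIdealOf_appLE (f := g') V hV W hW hWV hxW).1)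
  have := isNoetherianRing_fibLocRing f hU hV hVU hx hN
  have hh : Algebra.FiniteType Γ(Y, U) Γ(X, V) ∨ Algebra.FiniteType Γ(Y, U) Γ(Y', U') := by
    rcases h with h | h
    · exact Or.inl (f.finiteType_appLE hU hV hVU)
    · exact Or.inr (g.finiteType_appLE hU hU' hU'U)
  have key := cm_fibLocRing_iff (R := Γ(Y, U)) (R' := Γ(Y', U'))
    (hV.primeIdealOf ⟨g' x', hx⟩).asIdeal Q hQ hh
  rw [isCMAt_iff_chart f hU hV hVU hx, isCMAt_iff_chart f' hU' hW hWU hxW]
  exact ⟨fun h1 h2 => ⟨(EtStruct.flat_stalkMap_iff f' hU' hW hWU hxW).mp h2, key.2 h1.2⟩,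
    fun h1 h2 => ⟨(EtStruct.flat_stalkMap_iff f hU hV hVU hx).mp h2, key.1 h1.2⟩⟩

open TensorProduct in
/-- Flatness at a point is stable under base change. -/
theorem flat_stalkMap_baseChange (hc : IsPullback g' f' f g) (x' : X')
    (h : (f.stalkMap (g' x')).hom.Flat) : (f'.stalkMap x').hom.Flat := by
  have he : g (f' x') = f (g' x') := by
    rw [← Scheme.Hom.comp_apply, ← Scheme.Hom.comp_apply, hc.w]
  let φ : Y.presheaf.stalk (f (g' x')) ⟶ Y'.presheaf.stalk (f' x') :=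
    Y.presheaf.stalkSpecializes (specializes_of_eq he) ≫ g.stalkMap (f' x')
  let : Algebra (Y.presheaf.stalk (f (g' x'))) (X.presheaf.stalk (g' x')) :=
    (f.stalkMap (g' x')).hom.toAlgebra
  let : Algebra (Y.presheaf.stalk (f (g' x'))) (Y'.presheaf.stalk (f' x')) := φ.hom.toAlgebra
  let : Algebra (X.presheaf.stalk (g' x')) (X'.presheaf.stalk x') := (g'.stalkMap x').hom.toAlgebra
  let : Algebra (Y'.presheaf.stalk (f' x')) (X'.presheaf.stalk x') := (f'.stalkMap x').hom.toAlgebra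
  let : Algebra (Y.presheaf.stalk (f (g' x'))) (X'.presheaf.stalk x') :=
    (f.stalkMap (g' x') ≫ g'.stalkMap x').hom.toAlgebra
  have : IsScalarTower (Y.presheaf.stalk (f (g' x'))) (X.presheaf.stalk (g' x'))
      (X'.presheaf.stalk x') := IsScalarTower.of_algebraMap_eq' rfl
  have : IsScalarTower (Y.presheaf.stalk (f (g' x'))) (Y'.presheaf.stalk (f' x'))
      (X'.presheaf.stalk x') := by
    refine IsScalarTower.of_algebraMap_eq' (congrArg CommRingCat.Hom.hom
      (?_ : f.stalkMap (g' x') ≫ g'.stalkMap x' = φ ≫ f'.stalkMap x'))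
    rw [← Scheme.Hom.stalkMap_comp, Scheme.Hom.stalkMap_congr_hom _ _ hc.w x', Category.assoc,
      Scheme.Hom.stalkMap_comp]
    rfl
  let ψ : (Y'.presheaf.stalk (f' x') ⊗[Y.presheaf.stalk (f (g' x'))] X.presheaf.stalk (g' x'))
      →ₐ[Y.presheaf.stalk (f (g' x'))] X'.presheaf.stalk x' :=
    Algebra.TensorProduct.productMap (IsScalarTower.toAlgHom _ _ _) (IsScalarTower.toAlgHom _ _ _)
  have hflat : ψ.toRingHom.Flat :=
    FDesc.BaseChangeStalk.flat_stalk_of_isPullback hc x' (CommRingCat.ofHom ψ.toRingHom)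
    (by ext a; exact Algebra.TensorProduct.productMap_left_apply _ _ a)
    (by ext a; exact Algebra.TensorProduct.productMap_right_apply _ _ a) rfl rfl
  have : Module.Flat (Y.presheaf.stalk (f (g' x'))) (X.presheaf.stalk (g' x')) := h
  have h1 : (algebraMap (Y'.presheaf.stalk (f' x')) (Y'.presheaf.stalk (f' x')
      ⊗[Y.presheaf.stalk (f (g' x'))] X.presheaf.stalk (g' x'))).Flat :=
    RingHom.flat_algebraMap_iff.mpr inferInstance
  convert RingHom.Flat.comp h1 hflat using 1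
  ext a
  exact (Algebra.TensorProduct.productMap_left_apply
    (IsScalarTower.toAlgHom _ (Y'.presheaf.stalk (f' x')) (X'.presheaf.stalk x'))
    (IsScalarTower.toAlgHom _ (X.presheaf.stalk (g' x')) (X'.presheaf.stalk x')) a).symm

/-- Flatness at a point descends along a base change which is flat at the point. -/
theorem flat_stalkMap_of_baseChange (hc : IsPullback g' f' f g) (x' : X')
    (hg : (g.stalkMap (f' x')).hom.Flat) (h : (f'.stalkMap x').hom.Flat) :
    (f.stalkMap (g' x')).hom.Flat := by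
  have hB : (g'.stalkMap x').hom.Flat := flat_stalkMap_baseChange hc.flip x' hg
  have hcomp : ((g' ≫ f).stalkMap x').hom.Flat := by
    rw [Scheme.Hom.stalkMap_congr_hom _ _ hc.w x', Scheme.Hom.stalkMap_comp]
    exact (RingHom.Flat.of_bijective (ConcreteCategory.bijective_of_isIso _)).comp
      (RingHom.Flat.comp hg h)
  rw [Scheme.Hom.stalkMap_comp] at hcomp
  let : Algebra (Y.presheaf.stalk (f (g' x'))) (X.presheaf.stalk (g' x')) :=
    (f.stalkMap (g' x')).hom.toAlgebra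
  let : Algebra (X.presheaf.stalk (g' x')) (X'.presheaf.stalk x') := (g'.stalkMap x').hom.toAlgebra
  let : Algebra (Y.presheaf.stalk (f (g' x'))) (X'.presheaf.stalk x') :=
    (f.stalkMap (g' x') ≫ g'.stalkMap x').hom.toAlgebra
  have : IsScalarTower (Y.presheaf.stalk (f (g' x'))) (X.presheaf.stalk (g' x'))
      (X'.presheaf.stalk x') := IsScalarTower.of_algebraMap_eq' rfl
  have : Module.FaithfullyFlat (X.presheaf.stalk (g' x')) (X'.presheaf.stalk x') :=
    FDesc.Stalk.faithfullyFlat_stalkMap g' x' hB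
  have : Module.Flat (Y.presheaf.stalk (f (g' x'))) (X'.presheaf.stalk x') := hcomp
  exact FDesc.Algebra.flat_of_comp_faithfullyFlat (C := X'.presheaf.stalk x')

end Groth.Agent.Wt.CMBase
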