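import Mathlib.AlgebraicGeometry.AffineSpace
import Mathlib.AlgebraicGeometry.Morphisms.UniversallyOpen
import Mathlib.AlgebraicGeometry.Morphisms.Immersion
import Mathlib.AlgebraicGeometry.Morphisms.Preimmersion
import Mathlib.RingTheory.TensorProduct.MvPolynomial

/-!
# Universally open morphisms and affine spaces
-/

universe u

open CategoryTheory CategoryTheory.Limits AlgebraicGeometry TopologicalSpace

namespace Groth.Agent.Wt.UnivOpenAn

/-- A surjective vector of functions on an affine scheme defines a closed immersion. -/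
theorem isClosedImmersion_toSpecMvPolyIntEquiv_symm {n : Type u} {X : Scheme.{u}} [IsAffine X]
    (v : n → Γ(X, ⊤)) (hv : Function.Surjective v) :
    IsClosedImmersion ((AffineSpace.toSpecMvPolyIntEquiv n).symm v) := by
  have h2 : IsClosedImmersion (Spec.map (CommRingCat.ofHom
      (MvPolynomial.eval₂Hom ((algebraMap ℤ Γ(X, ⊤)).comp
        (ULift.ringEquiv.{0, u} : ULift.{u} ℤ ≃+* ℤ).toRingHom) v))) := by
    refine IsClosedImmersion.spec_of_surjective _ fun z => ?_
    obtain ⟨r, rfl⟩ := hv z
    exact ⟨MvPolynomial.X r, MvPolynomial.eval₂Hom_X' _ _ r⟩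
  show IsClosedImmersion (X.toSpecΓ ≫ Spec.map (CommRingCat.ofHom _))
  infer_instance

/-- It suffices to test universal openness on affine spaces. -/
theorem universallyOpen_of_affineSpace {X S : Scheme.{u}} (f : X ⟶ S)
    (h : ∀ σ : Type u, IsOpenMap ⇑(AffineSpace.map σ f)) : UniversallyOpen f := by
  refine ⟨MorphismProperty.universally_mk' _ _ fun {S'} g _ => ?_⟩
  -- openness of the base change is local on `S'`
  rw [show topologically @IsOpenMap (pullback.fst g f) ↔ IsOpenMap ⇑(pullback.fst g f) from Iff.rfl]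
  intro W hW
  refine isOpen_iff_forall_mem_open.mpr fun s' hs' => ?_
  obtain ⟨_, ⟨(V : S'.Opens), (hV : IsAffineOpen V), rfl⟩, hsV, -⟩ :=
    S'.isBasis_affineOpens.exists_subset_of_mem_open (Set.mem_univ s') isOpen_univ
  let j : Spec Γ(S', V) ⟶ S' := hV.fromSpec
  let R : CommRingCat.{u} := Γ(S', V)
  let v : R → Γ(Spec R, ⊤) := fun r => (Scheme.ΓSpecIso R).inv r
  let i : Spec R ⟶ 𝔸(R; S) := AffineSpace.homOfVector (j ≫ g) v
  have hi : IsImmersion i := by
    have hcomp : IsClosedImmersion (i ≫ AffineSpace.toSpecMvPoly R S) := by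
      rw [AffineSpace.homOfVector_toSpecMvPoly]
      exact isClosedImmersion_toSpecMvPolyIntEquiv_symm v
        (Scheme.ΓSpecIso R).commRingCatIsoToRingEquiv.symm.surjective
    exact IsImmersion.of_comp i (AffineSpace.toSpecMvPoly R S)
  have hover : i ≫ (𝔸(R; S) ↘ S) = j ≫ g := AffineSpace.homOfVector_over _ _
  have hsq := AffineSpace.isPullback_map (n := R) f
  let Q := pullback (j ≫ g) f
  let a : Q ⟶ 𝔸(R; X) := hsq.flip.lift (pullback.snd (j ≫ g) f) (pullback.fst (j ≫ g) f ≫ i) (by
    rw [Category.assoc, hover, pullback.condition])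
  have hQ : IsPullback a (pullback.fst (j ≫ g) f) (AffineSpace.map R f) i := by
    refine IsPullback.of_right ?_ (hsq.flip.lift_snd _ _ _) hsq.flip
    rw [hsq.flip.lift_fst, hover]
    exact (IsPullback.of_hasPullback (j ≫ g) f).flip
  haveI : IsPreimmersion a := MorphismProperty.of_isPullback hQ.flip inferInstance
  let b : Q ⟶ pullback g f :=
    pullback.lift (pullback.fst (j ≫ g) f ≫ j) (pullback.snd (j ≫ g) f) (by
      rw [Category.assoc, pullback.condition])
  have hb : IsPullback b (pullback.fst (j ≫ g) f) (pullback.fst g f) j := by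
    refine IsPullback.of_right ?_ (pullback.lift_fst _ _ _) (IsPullback.of_hasPullback g f).flip
    rw [pullback.lift_snd]
    exact (IsPullback.of_hasPullback (j ≫ g) f).flip
  obtain ⟨O, hO, hOW⟩ := a.isEmbedding.isInducing.isOpen_iff.mp (hW.preimage b.continuous)
  have himg : ⇑(pullback.fst (j ≫ g) f) '' (⇑a ⁻¹' O) = ⇑i ⁻¹' (⇑(AffineSpace.map R f) '' O) :=
    Scheme.image_preimage_eq_of_isPullback hQ O
  have himg' : ⇑(pullback.fst (j ≫ g) f) '' (⇑b ⁻¹' W) = ⇑j ⁻¹' (⇑(pullback.fst g f) '' W) :=
    Scheme.image_preimage_eq_of_isPullback hb W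
  have hopen : IsOpen (⇑j ⁻¹' (⇑(pullback.fst g f) '' W)) := by
    rw [← himg', ← hOW, himg]
    exact (h R O hO).preimage i.continuous
  obtain ⟨z, hz⟩ : s' ∈ Set.range j := by rw [hV.range_fromSpec]; exact hsV
  exact ⟨_, Set.image_preimage_subset _ _, j.isOpenEmbedding.isOpenMap _ hopen,
    z, by rw [Set.mem_preimage, hz]; exact hs', hz⟩

/-- The reindexing squares are cartesian. -/
theorem isPullback_reindex {n₁ n₂ : Type u} (i : n₁ → n₂) {X S : Scheme.{u}} (f : X ⟶ S) :
    IsPullback (AffineSpace.reindex i X) (AffineSpace.map n₂ f) (AffineSpace.map n₁ f)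
      (AffineSpace.reindex i S) := by
  have h1 := (AffineSpace.isPullback_map (n := n₁) f).flip
  have h2 := (AffineSpace.isPullback_map (n := n₂) f).flip
  refine IsPullback.of_right ?_ (AffineSpace.map_reindex i f).symm h1
  rwa [AffineSpace.reindex_over, AffineSpace.reindex_over]

theorem SpecIso_inv_reindex {n₁ n₂ : Type u} (i : n₁ → n₂) (B : CommRingCat.{u}) :
    (AffineSpace.SpecIso n₂ B).inv ≫ AffineSpace.reindex i (Spec B) =
      Spec.map (CommRingCat.ofHom (MvPolynomial.rename (R := B) i).toRingHom) ≫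
        (AffineSpace.SpecIso n₁ B).inv := by
  refine AffineSpace.hom_ext ?_ fun j => ?_
  · rw [Category.assoc, AffineSpace.reindex_over, AffineSpace.SpecIso_inv_over, Category.assoc,
      AffineSpace.SpecIso_inv_over, ← Spec.map_comp]
    congr 1
    ext x
    simp
  · rw [Scheme.Hom.comp_appTop, CommRingCat.comp_apply, AffineSpace.reindex_appTop_coord,
      AffineSpace.SpecIso_inv_appTop_coord, Scheme.Hom.comp_appTop, CommRingCat.comp_apply,
      AffineSpace.SpecIso_inv_appTop_coord, ← CommRingCat.comp_apply,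
      ← Scheme.ΓSpecIso_inv_naturality, CommRingCat.comp_apply]
    congr 1
    simp

/-- Finitely many variables suffice. -/
theorem isOpenMap_affineSpace_map {X S : Scheme.{u}} (f : X ⟶ S)
    (h : ∀ n : ℕ, IsOpenMap ⇑(AffineSpace.map (ULift.{u} (Fin n)) f)) (σ : Type u) :
    IsOpenMap ⇑(AffineSpace.map σ f) := by
  intro W hW
  refine isOpen_iff_forall_mem_open.mpr ?_
  rintro _ ⟨z, hz, rfl⟩
  obtain ⟨_, ⟨(U : X.Opens), (hU : IsAffineOpen U), rfl⟩, hzU, -⟩ := X.isBasis_affineOpens.exists_subset_of_mem_open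
    (Set.mem_univ ((𝔸(σ; X) ↘ X) z)) isOpen_univ
  let B : CommRingCat.{u} := Γ(X, U)
  let e : ∀ n : Type u, Spec (.of (MvPolynomial n B)) ⟶ 𝔸(n; X) := fun n =>
    (AffineSpace.SpecIso n B).inv ≫ AffineSpace.map n hU.fromSpec
  haveI : ∀ n : Type u, IsOpenImmersion (e n) := fun n => by
    haveI : IsOpenImmersion (AffineSpace.map n hU.fromSpec) :=
      MorphismProperty.of_isPullback (AffineSpace.isPullback_map (n := n) hU.fromSpec).flip inferInstance
    exact inferInstanceAs (IsOpenImmersion (_ ≫ _))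
  obtain ⟨p, hp⟩ : z ∈ Set.range (e σ) := by
    obtain ⟨x, hx⟩ : (𝔸(σ; X) ↘ X) z ∈ Set.range hU.fromSpec := by rw [hU.range_fromSpec]; exact hzU
    obtain ⟨w, -, hw⟩ := Scheme.exists_preimage_of_isPullback
      (AffineSpace.isPullback_map (n := σ) hU.fromSpec).flip x z hx
    refine ⟨(AffineSpace.SpecIso σ B).hom w, ?_⟩
    rw [← hw]
    simp only [e, ← Scheme.Hom.comp_apply, Iso.hom_inv_id_assoc]
  obtain ⟨_, ⟨hpoly, rfl⟩, hpD, hDW⟩ := PrimeSpectrum.isTopologicalBasis_basic_opens.exists_subset_of_mem_open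
    (show p ∈ ⇑(e σ) ⁻¹' W by rw [Set.mem_preimage, hp]; exact hz) (hW.preimage (e σ).continuous)
  obtain ⟨s, q, rfl⟩ := hpoly.exists_finset_rename
  let ν := ULift.{u} (Fin s.card)
  let i : ν → σ := fun k => (s.equivFin.symm k.down : s).1
  let q' : MvPolynomial ν B := MvPolynomial.rename (fun x : s => ULift.up (s.equivFin x)) q
  have hq' : MvPolynomial.rename i q' = MvPolynomial.rename Subtype.val q := by
    rw [MvPolynomial.rename_rename]
    rw [show (i ∘ fun x : s => ULift.up (s.equivFin x)) = Subtype.val from funext fun x => by simp [i]]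
  let W₀ : Set 𝔸(ν; X) := ⇑(e ν) '' (PrimeSpectrum.basicOpen q' : Set (PrimeSpectrum (MvPolynomial ν B)))
  have hW₀ : IsOpen W₀ := (e ν).isOpenEmbedding.isOpenMap _ (PrimeSpectrum.basicOpen q').2
  have hsq : IsPullback (Spec.map (CommRingCat.ofHom (MvPolynomial.rename (R := B) i).toRingHom))
      (e σ) (e ν) (AffineSpace.reindex i X) := by
    have h1 := isPullback_reindex i hU.fromSpec
    refine IsPullback.of_iso h1 (AffineSpace.SpecIso σ B) (AffineSpace.SpecIso ν B)
      (Iso.refl _) (Iso.refl _) ?_ ?_ ?_ ?_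
    · rw [← cancel_epi (AffineSpace.SpecIso σ B).inv, ← cancel_mono (AffineSpace.SpecIso ν B).inv]
      simp only [Category.assoc, Iso.inv_hom_id_assoc, Iso.hom_inv_id, Category.comp_id]
      exact SpecIso_inv_reindex i B
    all_goals simp [e]
  have hpre : ⇑(AffineSpace.reindex i X) ⁻¹' W₀ =
      ⇑(e σ) '' (PrimeSpectrum.basicOpen (MvPolynomial.rename Subtype.val q) : Set (PrimeSpectrum (MvPolynomial σ B))) := by
    refine (Scheme.image_preimage_eq_of_isPullback hsq _).symm.trans ?_
    rw [← hq']
    rfl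
  refine ⟨⇑(AffineSpace.map σ f) '' (⇑(AffineSpace.reindex i X) ⁻¹' W₀), Set.image_mono ?_, ?_, z, ?_, rfl⟩
  · rw [hpre]
    exact Set.image_subset_iff.mpr hDW
  · have := Scheme.image_preimage_eq_of_isPullback (isPullback_reindex i f) W₀
    rw [this]
    exact (h _ W₀ hW₀).preimage (AffineSpace.reindex i S).continuous
  · rw [hpre]
    exact ⟨p, hpD, hp⟩

theorem universallyOpen_iff {X S : Scheme.{u}} (f : X ⟶ S) :
    UniversallyOpen f ↔ ∀ n : ℕ, IsOpenMap ⇑(AffineSpace.map (ULift.{u} (Fin n)) f) := by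
  refine ⟨fun hf n => ?_, fun h => universallyOpen_of_affineSpace f (isOpenMap_affineSpace_map f h)⟩
  haveI : UniversallyOpen (AffineSpace.map (ULift.{u} (Fin n)) f) :=
    MorphismProperty.of_isPullback (AffineSpace.isPullback_map f).flip hf
  exact (AffineSpace.map (ULift.{u} (Fin n)) f).isOpenMap

attribute [local instance] MvPolynomial.algebraMvPolynomial in
/-- The criterion for module-finite algebras with given generators. -/
theorem universallyOpen_finite_iff {A B : Type u} [CommRing A] [CommRing B] [Algebra A B] {d : ℕ}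
    (b : Fin d → B) (hb : Submodule.span A (Set.range b) = ⊤) :
    UniversallyOpen (Spec.map (CommRingCat.ofHom (algebraMap A B))) ↔
      IsOpen (PrimeSpectrum.comap (MvPolynomial.map (σ := Fin d) (algebraMap A B)) ''
        (PrimeSpectrum.basicOpen (∑ i : Fin d, MvPolynomial.X i * MvPolynomial.C (b i)) :
          Set (PrimeSpectrum (MvPolynomial (Fin d) B)))) := by
  classical
  have hbase : ∀ σ : Type, IsPullback
      (Spec.map (CommRingCat.ofHom (algebraMap B (MvPolynomial σ B))))
      (Spec.map (CommRingCat.ofHom (algebraMap (MvPolynomial σ A) (MvPolynomial σ B))))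
      (Spec.map (CommRingCat.ofHom (algebraMap A B)))
      (Spec.map (CommRingCat.ofHom (algebraMap A (MvPolynomial σ A)))) := fun σ =>
    isPullback_SpecMap_of_isPushout _ _ _ _
      (CommRingCat.isPushout_of_isPushout A B (MvPolynomial σ A) (MvPolynomial σ B))
  refine ⟨fun hf => ?_, fun h => ?_⟩
  · haveI : UniversallyOpen
        (Spec.map (CommRingCat.ofHom (algebraMap (MvPolynomial (Fin d) A) (MvPolynomial (Fin d) B)))) :=
      MorphismProperty.of_isPullback (hbase (Fin d)) hf
    exact (Spec.map (CommRingCat.ofHom (algebraMap (MvPolynomial (Fin d) A) (MvPolynomial (Fin d) B)))).isOpenMap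
      _ (PrimeSpectrum.basicOpen _).2
  refine universallyOpen_of_affineSpace _ fun σ => ?_
  have hbase' : IsPullback
      (Spec.map (CommRingCat.ofHom (algebraMap B (MvPolynomial σ B))))
      (Spec.map (CommRingCat.ofHom (algebraMap (MvPolynomial σ A) (MvPolynomial σ B))))
      (Spec.map (CommRingCat.ofHom (algebraMap A B)))
      (Spec.map (CommRingCat.ofHom (algebraMap A (MvPolynomial σ A)))) :=
    isPullback_SpecMap_of_isPushout _ _ _ _
      (CommRingCat.isPushout_of_isPushout A B (MvPolynomial σ A) (MvPolynomial σ B))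
  have hmap : IsOpenMap ⇑(Spec.map (CommRingCat.ofHom (MvPolynomial.map (σ := σ) (algebraMap A B)))) := by
    refine PrimeSpectrum.isTopologicalBasis_basic_opens.isOpenMap_iff.mpr ?_
    rintro _ ⟨z, rfl⟩
    obtain ⟨p, hp⟩ : ∃ p : Fin d → MvPolynomial σ A,
        z = ∑ i, MvPolynomial.map (algebraMap A B) (p i) * MvPolynomial.C (b i) := by
      induction z using MvPolynomial.induction_on' with
      | monomial m c =>
        obtain ⟨a, ha⟩ := Submodule.mem_span_range_iff_exists_fun A |>.mp (hb.ge (Submodule.mem_top : c ∈ _))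
        refine ⟨fun i => MvPolynomial.monomial m (a i), ?_⟩
        simp only [MvPolynomial.map_monomial]
        rw [← ha, map_sum]
        refine Finset.sum_congr rfl fun i _ => ?_
        rw [mul_comm, MvPolynomial.C_mul_monomial, Algebra.smul_def, mul_comm]
      | add x y hx hy =>
        obtain ⟨p, rfl⟩ := hx
        obtain ⟨q, rfl⟩ := hy
        exact ⟨p + q, by simp [add_mul, Finset.sum_add_distrib]⟩
    let τ : MvPolynomial (Fin d) A →+* MvPolynomial σ A := (MvPolynomial.aeval p).toRingHom
    let τB : MvPolynomial (Fin d) B →+* MvPolynomial σ B :=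
      MvPolynomial.eval₂Hom MvPolynomial.C (fun i => MvPolynomial.map (algebraMap A B) (p i))
    have hsq : IsPullback (Spec.map (CommRingCat.ofHom τB))
        (Spec.map (CommRingCat.ofHom (algebraMap (MvPolynomial σ A) (MvPolynomial σ B))))
        (Spec.map (CommRingCat.ofHom (algebraMap (MvPolynomial (Fin d) A) (MvPolynomial (Fin d) B))))
        (Spec.map (CommRingCat.ofHom τ)) := by
      refine IsPullback.of_right ?_ ?_ (hbase (Fin d))
      · rw [← Spec.map_comp, ← Spec.map_comp, ← CommRingCat.ofHom_comp, ← CommRingCat.ofHom_comp,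
          show τB.comp (algebraMap B (MvPolynomial (Fin d) B)) = algebraMap B (MvPolynomial σ B) from
            RingHom.ext fun x => MvPolynomial.eval₂Hom_C _ _ x,
          show τ.comp (algebraMap A (MvPolynomial (Fin d) A)) = algebraMap A (MvPolynomial σ A) from
            (MvPolynomial.aeval p).comp_algebraMap]
        exact hbase'
      · rw [← Spec.map_comp, ← Spec.map_comp, ← CommRingCat.ofHom_comp, ← CommRingCat.ofHom_comp]
        congr 2
        refine MvPolynomial.ringHom_ext (fun a => ?_) fun i => ?_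
        · show τB (MvPolynomial.map (algebraMap A B) (MvPolynomial.C a)) =
            MvPolynomial.map (algebraMap A B) (τ (MvPolynomial.C a))
          simp only [τ, τB, MvPolynomial.map_C, MvPolynomial.eval₂Hom_C, AlgHom.toRingHom_eq_coe,
            RingHom.coe_coe, MvPolynomial.aeval_C, MvPolynomial.algebraMap_eq]
        · show τB (MvPolynomial.map (algebraMap A B) (MvPolynomial.X i)) =
            MvPolynomial.map (algebraMap A B) (τ (MvPolynomial.X i))
          simp only [τ, τB, MvPolynomial.map_X, MvPolynomial.eval₂Hom_X', AlgHom.toRingHom_eq_coe,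
            RingHom.coe_coe, MvPolynomial.aeval_X]
    have hz : τB (∑ i : Fin d, MvPolynomial.X i * MvPolynomial.C (b i)) = z := by
      simp [τB, hp]
    have himg := Scheme.image_preimage_eq_of_isPullback hsq
      (PrimeSpectrum.basicOpen (∑ i : Fin d, MvPolynomial.X i * MvPolynomial.C (b i)) :
        Set (PrimeSpectrum (MvPolynomial (Fin d) B)))
    rw [← hz]
    exact himg.ge.antisymm himg.le ▸ (h.preimage (Spec.map (CommRingCat.ofHom τ)).continuous)
  rw [AffineSpace.map_SpecMap]
  simp only [Scheme.Hom.comp_base, TopCat.coe_comp]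
  exact ((AffineSpace.SpecIso σ _).inv.homeomorph.isOpenMap.comp hmap).comp
    (AffineSpace.SpecIso σ _).hom.homeomorph.isOpenMap

end Groth.Agent.Wt.UnivOpenAn
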