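import Groth.Agent.S0116
import Groth.Agent.CycLib.Residue
import Mathlib.AlgebraicGeometry.Fiber
import Mathlib.RingTheory.EssentialFiniteness

/-!
# Locally Noetherian fibres and flat covers
-/

universe u

open CategoryTheory CategoryTheory.Limits AlgebraicGeometry TopologicalSpace
open scoped TensorProduct

namespace Groth.Agent.Wt.FibNoeth

/-- Base change of a locally Noetherian scheme along an essentially finite type field extension. -/
theorem isLocallyNoetherian_baseChange {K L : CommRingCat.{u}} (φ : K ⟶ L)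
    (hφ : φ.hom.EssFiniteType) {X X' : Scheme.{u}} {p : X ⟶ Spec K} {q : X' ⟶ Spec L}
    {h : X' ⟶ X} (hc : IsPullback h q p (Spec.map φ)) [IsLocallyNoetherian X] :
    IsLocallyNoetherian X' := by
  have h1 : IsLocallyNoetherian (pullback p (Spec.map φ)) := by
    let 𝒱 := Scheme.Pullback.openCoverOfLeft X.affineCover p (Spec.map φ)
    refine (isLocallyNoetherian_iff_openCover 𝒱).mpr fun i => ?_
    show IsLocallyNoetherian (pullback (X.affineCover.f i ≫ p) (Spec.map φ))
    haveI : IsLocallyNoetherian (X.affineCover.X i) :=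
      @isLocallyNoetherian_of_isOpenImmersion _ _ (X.affineCover.f i) (X.affineCover.map_prop i) _
    obtain ⟨A, hA⟩ : ∃ A, X.affineCover.X i = Spec A := ⟨_, rfl⟩
    revert this
    generalize X.affineCover.f i ≫ p = a
    generalize X.affineCover.X i = T at hA a
    subst hA
    intro _
    obtain ⟨ψ, rfl⟩ := Spec.map_surjective a
    algebraize [ψ.hom, φ.hom]
    haveI : Algebra.EssFiniteType K L := hφ
    haveI : IsNoetherianRing Γ(Spec A, ⊤) :=
      IsLocallyNoetherian.component_noetherian ⟨⊤, isAffineOpen_top _⟩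
    haveI : IsNoetherianRing A :=
      isNoetherianRing_of_ringEquiv (Γ(Spec A, ⊤)) (Scheme.ΓSpecIso A).commRingCatIsoToRingEquiv
    haveI : IsNoetherianRing ((A : Type u) ⊗[K] L) :=
      Algebra.EssFiniteType.isNoetherianRing A _
    exact isLocallyNoetherian_of_isOpenImmersion (pullbackSpecIso K A L).hom
  exact isLocallyNoetherian_of_isOpenImmersion hc.isoPullback.hom

theorem isLocallyNoetherian_fiber_iff {X Y X' Y' : Scheme.{u}} (f : X ⟶ Y) (f' : X' ⟶ Y')
    (g' : X' ⟶ X) (g : Y' ⟶ Y) [LocallyOfFiniteType g] (hc : IsPullback g' f' f g) (y' : Y') :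
    IsLocallyNoetherian (f'.fiber y') ↔ IsLocallyNoetherian (f.fiber (g y')) := by
  have hsq := isPullback_fiberToSpecResidueField_of_isPullback hc y'
  refine ⟨fun _ => ?_, fun h => @isLocallyNoetherian_baseChange _ _ (g.residueFieldMap y')
    (CycLib.residueFieldMap_essFiniteType g y') _ _ _ _ _ hsq h⟩
  let s := Spec.map (g.residueFieldMap y')
  haveI : Flat s := (HasRingHomProperty.Spec_iff (P := @Flat)).2 (by
    letI := (g.residueFieldMap y').hom.toAlgebra
    show Module.Flat (Y.residueField (g y')) (Y'.residueField y')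
    infer_instance)
  haveI : Surjective s := ⟨fun x => ⟨IsLocalRing.closedPoint _, Subsingleton.elim (α := PrimeSpectrum _) _ _⟩⟩
  haveI : QuasiCompact s := inferInstance
  let h : f'.fiber y' ⟶ f.fiber (g y') := pullback.map f' (Y'.fromSpecResidueField y') f (Y.fromSpecResidueField (g y')) g' s g
    hc.w.symm (by simp [s])
  haveI : Flat h := MorphismProperty.of_isPullback (P := @Flat) hsq.flip ‹Flat s›
  haveI : Surjective h := MorphismProperty.of_isPullback hsq.flip ‹Surjective s›
  haveI : QuasiCompact h := MorphismProperty.of_isPullback hsq.flip ‹QuasiCompact s›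
  exact @S2492.result (f'.fiber y') (f.fiber (g y')) h ‹Flat h› ‹Surjective h› ‹QuasiCompact h› ‹_›

theorem forall_fiber_iff {X Y X' Y' : Scheme.{u}} (f : X ⟶ Y) (f' : X' ⟶ Y')
    (g' : X' ⟶ X) (g : Y' ⟶ Y) [LocallyOfFiniteType g] [Surjective g]
    (hc : IsPullback g' f' f g) :
    (∀ y : Y, IsLocallyNoetherian (f.fiber y)) ↔ ∀ y' : Y', IsLocallyNoetherian (f'.fiber y') := by
  refine ⟨fun h y' => (isLocallyNoetherian_fiber_iff f f' g' g hc y').2 (h _), fun h y => ?_⟩
  obtain ⟨y', rfl⟩ := g.surjective y
  exact (isLocallyNoetherian_fiber_iff f f' g' g hc y').1 (h y')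

theorem forall_fiber_comp_iff {X X' Y : Scheme.{u}} (f : X ⟶ Y) (a : X' ⟶ X) [Flat a]
    [LocallyOfFinitePresentation a] [Surjective a] :
    (∀ y : Y, IsLocallyNoetherian (f.fiber y)) ↔ ∀ y : Y, IsLocallyNoetherian ((a ≫ f).fiber y) := by
  refine forall_congr' fun y => ?_
  let F := pullback (a ≫ f) (Y.fromSpecResidueField y)
  let b : (a ≫ f).fiber y ⟶ f.fiber y := pullback.map _ _ _ _ a (𝟙 _) (𝟙 _) (by simp) (by simp)
  have hb : IsPullback ((a ≫ f).fiberι y) b a (f.fiberι y) := by
    refine IsPullback.of_bot (v₂₁ := f.fiberToSpecResidueField y) ?_ ?_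
      (IsPullback.of_hasPullback f (Y.fromSpecResidueField y))
    · have : b ≫ f.fiberToSpecResidueField y = (a ≫ f).fiberToSpecResidueField y := by
        exact (pullback.lift_snd _ _ _).trans (Category.comp_id _)
      rw [this]
      exact IsPullback.of_hasPullback _ _
    · exact (pullback.lift_fst _ _ _).symm
  haveI : Flat b := MorphismProperty.of_isPullback hb ‹Flat a›
  haveI : Surjective b := MorphismProperty.of_isPullback hb ‹Surjective a›
  haveI : LocallyOfFinitePresentation b := MorphismProperty.of_isPullback hb ‹LocallyOfFinitePresentation a›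
  exact ⟨fun _ => LocallyOfFiniteType.isLocallyNoetherian b, fun _ => S0116.result b⟩

end Groth.Agent.Wt.FibNoeth
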