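import Groth.Agent.Wt.GenFibReduced
import Mathlib.RingTheory.TensorProduct.DirectLimitFG
import Mathlib.AlgebraicGeometry.Geometrically.Reduced

/-!
# Non geometrically reduced fibres near the generic point
-/

universe u

open CategoryTheory CategoryTheory.Limits AlgebraicGeometry TopologicalSpace
open scoped TensorProduct

namespace Groth.Agent.Wt.GenFib

section Ring

variable {A B : Type u} [CommRing A] [CommRing B] [Algebra A B]

/-- Points of the fibre at `q` of an algebra with nonzero fibre. -/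
theorem exists_field_of_one_ne_zero (D : Type u) [CommRing D] [Algebra A D] (q : PrimeSpectrum A)
    (h : (1 : q.asIdeal.ResidueField) ⊗ₜ[A] (1 : D) ≠ 0) :
    ∃ (κ : Type u) (_ : Field κ) (_ : Algebra A κ),
      RingHom.ker (algebraMap A κ) = q.asIdeal ∧ Nonempty (D →ₐ[A] κ) := by
  haveI : Nontrivial (q.asIdeal.ResidueField ⊗[A] D) := ⟨_, _, h⟩
  obtain ⟨𝔪, h𝔪⟩ := Ideal.exists_maximal (q.asIdeal.ResidueField ⊗[A] D)
  let κ := (q.asIdeal.ResidueField ⊗[A] D) ⧸ 𝔪
  letI : Field κ := Ideal.Quotient.field 𝔪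
  let g₀ : q.asIdeal.ResidueField →ₐ[A] κ :=
    (Ideal.Quotient.mkₐ A 𝔪).comp Algebra.TensorProduct.includeLeft
  refine ⟨κ, inferInstance, inferInstance, ?_,
    ⟨(Ideal.Quotient.mkₐ A 𝔪).comp Algebra.TensorProduct.includeRight⟩⟩
  ext x
  rw [RingHom.mem_ker, ← g₀.commutes, map_eq_zero_iff g₀ g₀.toRingHom.injective,
    Ideal.algebraMap_residueField_eq_zero]

theorem not_isReduced_of_baseChange {A' κ : Type u} [CommRing A'] [Algebra A A'] [CommRing κ]
    [Algebra A κ] [Algebra A' κ] [IsScalarTower A A' κ] (z : A' ⊗[A] B) (hz : IsNilpotent z)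
    (hne : (1 : κ) ⊗ₜ[A'] z ≠ 0) : ¬ _root_.IsReduced (κ ⊗[A] B) := by
  intro hred
  let e := Algebra.TensorProduct.cancelBaseChange A A' κ κ B
  have hnil : IsNilpotent (e ((1 : κ) ⊗ₜ[A'] z)) :=
    (hz.map (Algebra.TensorProduct.includeRight : A' ⊗[A] B →ₐ[A'] κ ⊗[A'] (A' ⊗[A] B))).map e
  exact hne (e.injective ((hred.eq_zero _ hnil).trans (map_zero e).symm))

set_option maxHeartbeats 1000000 in
theorem exists_geom_not_isReduced [IsDomain A] [Algebra.FiniteType A B] [Module.Flat A B]
    (K : Type u) [Field K] [Algebra A K] (hK : Function.Injective (algebraMap A K))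
    (h : ¬ _root_.IsReduced (K ⊗[A] B)) :
    ∃ a : A, a ≠ 0 ∧ ∀ q : PrimeSpectrum A, a ∉ q.asIdeal →
      ∃ (κ : Type u) (_ : Field κ) (_ : Algebra A κ),
        RingHom.ker (algebraMap A κ) = q.asIdeal ∧ ¬ _root_.IsReduced (κ ⊗[A] B) := by
  obtain ⟨z, ⟨m, hm⟩, hz0⟩ : ∃ z : K ⊗[A] B, IsNilpotent z ∧ z ≠ 0 := by
    by_contra hcon
    push Not at hcon
    exact h ⟨hcon⟩
  obtain ⟨A', hA', z', hz'⟩ := TensorProduct.Algebra.exists_of_fg z
  let ι : A' ⊗[A] B →ₐ[A] K ⊗[A] B := Algebra.TensorProduct.map A'.val (AlgHom.id A B)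
  have hιlin : ∀ x, ι x = LinearMap.rTensor B A'.val.toLinearMap x := fun x => rfl
  have hι : Function.Injective ι := fun x y hxy =>
    Module.Flat.rTensor_preserves_injective_linearMap A'.val.toLinearMap Subtype.val_injective
      (by rw [← hιlin, ← hιlin]; exact hxy)
  have hz : ι z' = z := (hιlin z').trans hz'
  have hm' : z' ^ m = 0 := hι (by rw [map_pow, hz, hm, map_zero])
  haveI : Algebra.FiniteType A A' := A'.fg_iff_finiteType.1 hA'
  have htf : ∀ c : A', c ≠ 0 → c • z' ≠ 0 := fun c hc h' => by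
    have h1 : ((c : K) ⊗ₜ[A] (1 : B)) * z = 0 := by
      rw [← hz, show (c : K) ⊗ₜ[A] (1 : B) = ι (c ⊗ₜ[A] 1) from rfl, ← map_mul]
      rw [show (c ⊗ₜ[A] (1 : B)) * z' = c • z' by rw [Algebra.smul_def]; rfl, h', map_zero]
    have hu : IsUnit ((c : K) ⊗ₜ[A] (1 : B)) :=
      ((Ne.isUnit fun h0 => hc (Subtype.ext h0)).map
        (Algebra.TensorProduct.includeLeftRingHom : K →+* K ⊗[A] B))
    exact hz0 (hu.mul_right_eq_zero.1 h1)
  obtain ⟨c, hc, hcne⟩ := exists_ne_zero_forall (A := A') z' htf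
  let A'' := Localization.Away c
  haveI : Algebra.FiniteType A' A'' :=
    haveI := IsLocalization.Away.finitePresentation c (S := A'')
    inferInstance
  haveI : Algebra.FiniteType A A'' := Algebra.FiniteType.trans (S := A') ‹_› ‹_›
  have hinj : Function.Injective (algebraMap A A'') := by
    rw [IsScalarTower.algebraMap_eq A A' A'']
    refine (IsLocalization.injective A'' (powers_le_nonZeroDivisors_of_noZeroDivisors hc)).comp ?_
    intro x y hxy
    exact hK (congrArg Subtype.val hxy)
  obtain ⟨a, ha, hne⟩ := exists_ne_zero_forall (1 : A'') (fun a ha h' => ha (hinj (by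
    rw [map_zero, Algebra.algebraMap_eq_smul_one]; exact h')))
  refine ⟨a, ha, fun q hq => ?_⟩
  obtain ⟨κ, _, _, hker, ⟨g⟩⟩ := exists_field_of_one_ne_zero A'' q
    (hne q.asIdeal.ResidueField fun h => hq (Ideal.algebraMap_residueField_eq_zero.1 h))
  refine ⟨κ, inferInstance, inferInstance, hker, ?_⟩
  let g' : A' →ₐ[A] κ := g.comp (IsScalarTower.toAlgHom A A' A'')
  letI := g'.toRingHom.toAlgebra
  haveI : IsScalarTower A A' κ := IsScalarTower.of_algebraMap_eq fun x => (g'.commutes x).symm
  have hcκ : algebraMap A' κ c ≠ 0 :=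
    ((IsLocalization.Away.algebraMap_isUnit c (S := A'')).map g).ne_zero
  exact not_isReduced_of_baseChange (A' := A') z' ⟨m, hm'⟩ (hcne κ hcκ)

end Ring

theorem isReduced_pullback_Spec_iff (A B K : Type u) [CommRing A] [CommRing B] [CommRing K]
    [Algebra A B] [Algebra A K] :
    IsReduced (pullback (Spec.map (CommRingCat.ofHom (algebraMap A B)))
      (Spec.map (CommRingCat.ofHom (algebraMap A K)))) ↔ _root_.IsReduced (K ⊗[A] B) := by
  let e := pullbackSymmetry (Spec.map (CommRingCat.ofHom (algebraMap A B)))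
      (Spec.map (CommRingCat.ofHom (algebraMap A K))) ≪≫ pullbackSpecIso A K B
  exact ⟨fun _ => affine_isReduced_iff _ |>.1 (isReduced_of_isOpenImmersion e.inv),
    fun _ => isReduced_of_isOpenImmersion e.hom⟩

theorem exists_open_not_geometricallyReduced_model {A : CommRingCat.{u}} [IsDomain A]
    {X : Scheme.{u}} (u : X ⟶ Spec A) [Flat u] [LocallyOfFiniteType u]
    (h : ¬ GeometricallyReduced (u.fiberToSpecResidueField (genericPoint (Spec A)))) :
    ∃ V : (Spec A).Opens, (V : Set (Spec A)).Nonempty ∧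
      ∀ s ∈ V, ¬ GeometricallyReduced (u.fiberToSpecResidueField s) := by
  haveI : ObjectProperty.IsClosedUnderIsomorphisms (C := Scheme.{u}) (fun Z => IsReduced Z) :=
    ⟨fun e _ => isReduced_of_isOpenImmersion e.inv⟩
  have hgen : (genericPoint (Spec A) : PrimeSpectrum A).asIdeal = ⊥ := by
    have h1 : genericPoint (Spec A) ⤳ (⟨⊥, Ideal.isPrime_bot⟩ : PrimeSpectrum A) :=
      (genericPoint_spec (Spec A)).specializes trivial
    exact le_bot_iff.1 ((PrimeSpectrum.le_iff_specializes _ _).2 h1)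
  rw [geometricallyReduced_iff, geometrically_iff_of_isClosedUnderIsomorphisms] at h
  push Not at h
  obtain ⟨K, _, y, hy⟩ := h
  let y' := y ≫ (Spec A).fromSpecResidueField (genericPoint (Spec A))
  let e₀ : pullback (u.fiberToSpecResidueField (genericPoint (Spec A))) y ≅ pullback u y' :=
    pullbackLeftPullbackSndIso u ((Spec A).fromSpecResidueField (genericPoint (Spec A))) y
  have hy' : ¬ IsReduced (pullback u y') := fun _ => hy (isReduced_of_isOpenImmersion e₀.hom)
  let 𝒱 := Scheme.Pullback.openCoverOfLeft X.affineCover u y'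
  obtain ⟨i, hi⟩ : ∃ i, ¬ IsReduced (pullback (X.affineCover.f i ≫ u) y') := by
    by_contra hcon
    push Not at hcon
    haveI : ∀ i, IsReduced (𝒱.X i) := hcon
    exact hy' (IsReduced.of_openCover _ 𝒱)
  haveI : IsOpenImmersion (X.affineCover.f i) := X.affineCover.map_prop i
  haveI hfl : Flat (X.affineCover.f i ≫ u) :=
    MorphismProperty.comp_mem _ _ _ (inferInstanceAs (Flat (X.affineCover.f i))) ‹Flat u›
  haveI hft : LocallyOfFiniteType (X.affineCover.f i ≫ u) :=
    MorphismProperty.comp_mem _ _ _ (inferInstanceAs (LocallyOfFiniteType (X.affineCover.f i)))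
      ‹LocallyOfFiniteType u›
  suffices key : ∀ (B : CommRingCat.{u}) (v : Spec B ⟶ Spec A) [Flat v] [LocallyOfFiniteType v],
      ¬ IsReduced (pullback v y') → ∃ V : (Spec A).Opens, (V : Set (Spec A)).Nonempty ∧
        ∀ s ∈ V, ∃ (κ : Type u) (_ : Field κ) (w : Spec (CommRingCat.of κ) ⟶ Spec A),
          w (IsLocalRing.closedPoint κ) = s ∧ ¬ IsReduced (pullback v w) by
    obtain ⟨V, hV, hVn⟩ := @key _ (X.affineCover.f i ≫ u) hfl hft hi
    refine ⟨V, hV, fun s hs hgr => ?_⟩
    obtain ⟨κ, _, w, rfl, hw⟩ := hVn s hs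
    rw [geometricallyReduced_iff, geometrically_iff_of_isClosedUnderIsomorphisms] at hgr
    have h1 := hgr κ (Spec.map ((Spec A).descResidueField (Scheme.stalkClosedPointTo w)))
    let e₁ : pullback (u.fiberToSpecResidueField (w (IsLocalRing.closedPoint κ)))
        (Spec.map ((Spec A).descResidueField (Scheme.stalkClosedPointTo w))) ≅ pullback u w :=
      pullbackLeftPullbackSndIso u ((Spec A).fromSpecResidueField (w (IsLocalRing.closedPoint κ))) _ ≪≫
        pullback.congrHom rfl (Scheme.descResidueField_stalkClosedPointTo_fromSpecResidueField κ (Spec A) w)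
    haveI : IsReduced (pullback u w) := @isReduced_of_isOpenImmersion _ _ e₁.inv inferInstance h1
    exact hw (@isReduced_of_isOpenImmersion _ _
      ((Scheme.Pullback.openCoverOfLeft X.affineCover u w).f i)
      ((Scheme.Pullback.openCoverOfLeft X.affineCover u w).map_prop i) ‹_›)
  intro B v _ _ hi
  obtain ⟨φ, rfl⟩ := Spec.map_surjective v
  obtain ⟨ψ, hψ⟩ := Spec.map_surjective y'
  rw [← hψ] at hi
  letI := φ.hom.toAlgebra
  letI : Algebra A K := ψ.hom.toAlgebra
  haveI : Algebra.FiniteType A B := (HasRingHomProperty.Spec_iff (P := @LocallyOfFiniteType)).1 ‹_›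
  haveI : Module.Flat A B := (HasRingHomProperty.Spec_iff (P := @Flat)).1 ‹_›
  have hinj : Function.Injective (algebraMap A K) := by
    rw [injective_iff_map_eq_zero]
    intro x hx
    have hpt : y' (IsLocalRing.closedPoint K) = genericPoint (Spec A) := by
      have : y' (IsLocalRing.closedPoint K) ∈
          Set.range ((Spec A).fromSpecResidueField (genericPoint (Spec A))) := ⟨_, rfl⟩
      rwa [Scheme.range_fromSpecResidueField] at this
    rw [← hψ] at hpt
    have : x ∈ (genericPoint (Spec A) : PrimeSpectrum A).asIdeal := by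
      rw [← hpt]
      show ψ.hom x ∈ (IsLocalRing.closedPoint K).asIdeal
      rw [show ψ.hom x = 0 from hx]
      exact zero_mem _
    rwa [hgen] at this
  obtain ⟨a, ha, hq⟩ := exists_geom_not_isReduced (B := B) K hinj
    (fun h' => hi ((isReduced_pullback_Spec_iff A B K).2 h'))
  refine ⟨PrimeSpectrum.basicOpen a, ⟨⟨⊥, Ideal.isPrime_bot⟩, fun h' => ha (by simpa using h')⟩,
    fun s hs => ?_⟩
  obtain ⟨κ, _, _, hker, hnr⟩ := hq s hs
  let w : Spec (CommRingCat.of κ) ⟶ Spec A := Spec.map (CommRingCat.ofHom (algebraMap A κ))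
  refine ⟨κ, inferInstance, w, PrimeSpectrum.ext
    (?_ : ((IsLocalRing.closedPoint κ).asIdeal).comap (algebraMap A κ) = _),
    fun h' => hnr ((isReduced_pullback_Spec_iff A B κ).1 h')⟩
  rw [← hker, show (IsLocalRing.closedPoint κ).asIdeal = ⊥ from IsLocalRing.maximalIdeal_eq_bot,
    ← RingHom.ker_eq_comap_bot]

theorem exists_open_not_geometricallyReduced {X Y : Scheme.{u}} (f : X ⟶ Y) [IrreducibleSpace Y]
    [LocallyOfFiniteType f] [QuasiCompact f]
    (h : ¬ GeometricallyReduced (f.fiberToSpecResidueField (genericPoint Y))) :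
    ∃ V : Y.Opens, (V : Set Y).Nonempty ∧
      ∀ y ∈ V, ¬ GeometricallyReduced (f.fiberToSpecResidueField y) := by
  haveI : MorphismProperty.RespectsIso (@GeometricallyReduced : MorphismProperty Scheme.{u}) := by
    rw [GeometricallyReduced.eq_geometrically]
    exact MorphismProperty.IsStableUnderBaseChange.respectsIso
  exact exists_open_of_model f (fun _ _ g => ¬ GeometricallyReduced g)
    (fun F F' T T' g g' φ ψ hg hn hr => hn
      ((MorphismProperty.cancel_right_of_respectsIso @GeometricallyReduced g' ψ.hom).1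
        (hg ▸ (MorphismProperty.cancel_left_of_respectsIso @GeometricallyReduced φ.hom g).2 hr)))
    fun A _ X' u _ _ _ _ ⟨φ, ψ, hg⟩ => exists_open_not_geometricallyReduced_model u fun hr => h
      ((MorphismProperty.cancel_left_of_respectsIso @GeometricallyReduced φ.hom _).1
        (hg.symm ▸ (MorphismProperty.cancel_right_of_respectsIso @GeometricallyReduced _ ψ.hom).2 hr))

end Groth.Agent.Wt.GenFib
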