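import Groth.Agent.Wt.CMSlice
import Groth.Agent.RelDim.CMLocus

/-!
# Quasi-finite flat slices at Cohen–Macaulay points
-/

set_option autoImplicit false
set_option linter.style.haveILetI false

universe u

open RingTheory.Sequence IsLocalRing TensorProduct

namespace Groth.Agent.Wt.CMSlice

/-- A system of parameters of a Cohen–Macaulay local ring, as a weakly regular sequence. -/
theorem exists_regular_sop (L : Type u) [CommRing L] [h : LocCoh.IsCohenMacaulayLocalRing L] :
    ∃ xs : List L, Ideal.ofList xs ≤ maximalIdeal L ∧ IsWeaklyRegular L xs ∧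
      ∀ P : Ideal L, P.IsPrime → Ideal.ofList xs ≤ P → P = maximalIdeal L := by
  obtain ⟨s, hs, hcard⟩ :=
    (maximalIdeal L).exists_finset_card_eq_height_of_isNoetherianRing
  have hspan : Ideal.ofList s.toList = Ideal.span (s : Set L) := by
    show Ideal.span _ = _
    congr 1
    ext x
    simp
  have hle : Ideal.ofList s.toList ≤ maximalIdeal L := hspan ▸ hs.1.2
  have hmin : ∀ P : Ideal L, P.IsPrime → Ideal.ofList s.toList ≤ P → P = maximalIdeal L :=
    fun P hP hle' => le_antisymm (le_maximalIdeal hP.ne_top)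
      (hs.2 ⟨hP, hspan ▸ hle'⟩ (le_maximalIdeal hP.ne_top))
  refine ⟨s.toList, hle, CMSeq.isWeaklyRegular_of_radical _ L h.supportDim_eq_depth hle ?_ ?_, hmin⟩
  · refine le_trans ?_ (Ideal.radical_mono le_sup_right)
    rw [Ideal.radical_eq_sInf]
    exact le_sInf fun P hP => (hmin P hP.2 hP.1).ge
  · rw [Module.supportDim_self_eq_ringKrullDim, ← maximalIdeal_height_eq_ringKrullDim, ← hcard]
    simp

variable {R S : Type u} [CommRing R] [CommRing S] [Algebra R S]

/-- A point which is closed in its fibre and a minimal point of the fibre is a quasi-finite point. -/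
theorem quasiFiniteAt_of_fibre [Algebra.FiniteType R S] (q : Ideal S) [q.IsPrime]
    (hmax : ∀ P : Ideal S, P.IsPrime → q ≤ P → P.under R = q.under R → P = q)
    (hmin : ∀ P : Ideal S, P.IsPrime → P ≤ q → P.under R = q.under R → P = q) :
    Algebra.QuasiFiniteAt R q := by
  let α := PrimeSpectrum.primesOverOrderIsoFiber R S (q.under R)
  let Q := α ⟨q, ‹_›, ⟨rfl⟩⟩
  have hmax' : IsMax Q := fun Q' hQ' => by
    have h : (⟨q, ‹_›, ⟨rfl⟩⟩ : (q.under R).primesOver S) ≤ α.symm Q' := α.le_symm_apply.mpr hQ'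
    have := hmax (α.symm Q').1 (α.symm Q').2.1 h (α.symm Q').2.2.over.symm
    have e : α.symm Q' = ⟨q, ‹_›, ⟨rfl⟩⟩ := Subtype.ext this
    exact (α.symm_apply_eq.mp e).le
  have hmin' : IsMin Q := fun Q' hQ' => by
    have h : α.symm Q' ≤ (⟨q, ‹_›, ⟨rfl⟩⟩ : (q.under R).primesOver S) := α.symm_apply_le.mpr hQ'
    have := hmin (α.symm Q').1 (α.symm Q').2.1 h (α.symm Q').2.2.over.symm
    have e : α.symm Q' = ⟨q, ‹_›, ⟨rfl⟩⟩ := Subtype.ext this
    exact (α.symm_apply_eq.mp e).ge
  have : IsNoetherianRing ((q.under R).Fiber S) :=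
    Algebra.FiniteType.isNoetherianRing (q.under R).ResidueField _
  have : IsJacobsonRing ((q.under R).Fiber S) :=
    isJacobsonRing_of_finiteType (A := (q.under R).ResidueField)
  have hopen : IsOpen {Q} := by
    refine ((PrimeSpectrum.isOpen_singleton_tfae_of_isNoetherian_of_isJacobsonRing Q).out 0 2 rfl rfl).mpr
      ⟨?_, fun a b hab ha => ?_⟩
    · rw [PrimeSpectrum.isClosed_singleton_iff_isMaximal, ← PrimeSpectrum.isMax_iff]
      exact hmax'
    · rw [Set.mem_singleton_iff] at ha ⊢
      subst ha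
      exact le_antisymm ((PrimeSpectrum.le_iff_specializes b Q).mpr hab)
        (hmin' ((PrimeSpectrum.le_iff_specializes b Q).mpr hab))
  have : Algebra.QuasiFiniteAt (q.under R).ResidueField Q.asIdeal :=
    Algebra.QuasiFiniteAt.of_isOpen_singleton Q hopen
  exact Algebra.QuasiFiniteAt.of_quasiFiniteAt_residueField (q.under R) q Q.asIdeal
    congr($(α.symm_apply_apply ⟨q, ‹_›, ⟨rfl⟩⟩).1)

/-- EGA IV 17.16.1: a quasi-finite flat slice through a Cohen–Macaulay point closed in its fibre. -/
theorem exists_slice_quasiFinite [Algebra.FinitePresentation R S] (q : PrimeSpectrum S)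
    (hflat : FlatCA.FlatAt R q.asIdeal S)
    [hcm : LocCoh.IsCohenMacaulayLocalRing (EGA4.FibLocRing R S q.asIdeal)]
    (hmax : ∀ P : Ideal S, P.IsPrime → q.asIdeal ≤ P →
      P.under R = q.asIdeal.under R → P = q.asIdeal) :
    ∃ g ∉ q.asIdeal, ∃ rs : List S, Ideal.ofList rs ≤ q.asIdeal ∧
      ∀ (C : Type u) [CommRing C] [Algebra S C] [Algebra R C] [IsScalarTower R S C]
        [IsLocalization.Away g C],
        IsWeaklyRegular C (rs.map (algebraMap S C)) ∧
        Module.Flat R (C ⧸ Ideal.ofList (rs.map (algebraMap S C))) ∧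
        Algebra.QuasiFinite R (C ⧸ Ideal.ofList (rs.map (algebraMap S C))) ∧
        ∀ P : Ideal C, P.IsPrime → Ideal.ofList (rs.map (algebraMap S C)) ≤ P →
          P.under R = q.asIdeal.under R → P.comap (algebraMap S C) = q.asIdeal := by
  classical
  let J := (q.asIdeal.comap (algebraMap R S)).map (algebraMap R S)
  let L := EGA4.FibLocRing R S q.asIdeal
  let π : S →+* L := algebraMap S L
  obtain ⟨xs, hxs, hwreg, hxmin⟩ := exists_regular_sop L
  have hJq : J ≤ q.asIdeal := Ideal.map_comap_le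
  have hker : RingHom.ker (Ideal.Quotient.mk ((q.asIdeal.comap (algebraMap R S)).map
      (algebraMap R (Localization.AtPrime q.asIdeal)))) =
      J.map (algebraMap S (Localization.AtPrime q.asIdeal)) := by
    rw [Ideal.mk_ker, Ideal.map_map, ← IsScalarTower.algebraMap_eq]
  -- membership in an extended ideal
  have hmem : ∀ (I : Ideal S) (m : S), π m ∈ I.map π ↔ ∃ s ∉ q.asIdeal, s * m ∈ J ⊔ I := by
    intro I m
    let mk := Ideal.Quotient.mk ((q.asIdeal.comap (algebraMap R S)).map
      (algebraMap R (Localization.AtPrime q.asIdeal)))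
    have hπ : π = mk.comp (algebraMap S (Localization.AtPrime q.asIdeal)) := rfl
    rw [hπ, ← Ideal.map_map, RingHom.comp_apply, ← Ideal.mem_comap,
      Ideal.comap_map_of_surjective' _ Ideal.Quotient.mk_surjective, hker, ← Ideal.map_sup,
      sup_comm, IsLocalization.algebraMap_mem_map_algebraMap_iff q.asIdeal.primeCompl]
    rfl
  -- lift the system of parameters
  have hlift : ∀ y : L, ∃ a : S, ∃ t : Lˣ, π a = t * y := by
    intro y
    obtain ⟨y, rfl⟩ := Ideal.Quotient.mk_surjective y
    obtain ⟨a, t, rfl⟩ := IsLocalization.exists_mk'_eq q.asIdeal.primeCompl y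
    have ht : IsUnit (π t) := (IsLocalization.map_units (M := q.asIdeal.primeCompl)
      (Localization.AtPrime q.asIdeal) t).map (Ideal.Quotient.mk _)
    refine ⟨a, ht.unit, ?_⟩
    show Ideal.Quotient.mk _ _ = Ideal.Quotient.mk _ (algebraMap S _ (t : S)) * Ideal.Quotient.mk _ _
    rw [← map_mul, mul_comm, IsLocalization.mk'_spec]
  choose a t hat using hlift
  let rs : List S := xs.map a
  have hofList : ∀ l : List L, (Ideal.ofList (l.map a)).map π = Ideal.ofList l := by
    intro l
    induction l with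
    | nil => simp
    | cons y l ih =>
      rw [List.map_cons, Ideal.ofList_cons, Ideal.ofList_cons, Ideal.map_sup, ih, Ideal.map_span,
        Set.image_singleton, hat, Ideal.span_singleton_mul_left_unit (t y).isUnit]
  have hπq : ∀ s : S, s ∉ q.asIdeal → IsUnit (π s) := fun s hs =>
    (IsLocalization.map_units (M := q.asIdeal.primeCompl)
      (Localization.AtPrime q.asIdeal) ⟨s, hs⟩).map (Ideal.Quotient.mk _)
  have hrsq : Ideal.ofList rs ≤ q.asIdeal := fun y hy => by_contra fun hyq =>
    (maximalIdeal.isMaximal L).ne_top (Ideal.eq_top_of_isUnit_mem _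
      (hxs (hofList xs ▸ Ideal.mem_map_of_mem π hy)) (hπq y hyq))
  have hreg : ∀ (l₁ : List S) (h : S) (l₂ : List S), rs = l₁ ++ h :: l₂ → ∀ m : S,
      h * m ∈ J ⊔ Ideal.ofList l₁ → ∃ s ∉ q.asIdeal, s * m ∈ J ⊔ Ideal.ofList l₁ := by
    intro l₁ h l₂ he m hm
    obtain ⟨k₁, k₂, rfl, rfl, hk⟩ := List.map_eq_append_iff.mp he
    obtain ⟨y, k₃, rfl, rfl, rfl⟩ := List.map_eq_cons_iff.mp hk
    have hreg' := ((isWeaklyRegular_append_iff L k₁ (y :: k₃)).mp hwreg).2
    rw [isWeaklyRegular_cons_iff] at hreg'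
    rw [← hmem]
    have h1 : π (a y * m) ∈ (Ideal.ofList (k₁.map a)).map π :=
      (hmem _ _).mpr ⟨1, q.asIdeal.one_notMem, by rwa [one_mul]⟩
    rw [hofList, map_mul, hat, mul_assoc, Ideal.unit_mul_mem_iff_mem _ (t y).isUnit] at h1
    rw [hofList]
    have h2 : (Submodule.Quotient.mk (π m) : L ⧸ (Ideal.ofList k₁ • ⊤ : Submodule L L)) = 0 := by
      refine (isSMulRegular_iff_right_eq_zero_of_smul.mp hreg'.1) _ ?_
      rw [← Submodule.Quotient.mk_smul, Submodule.Quotient.mk_eq_zero, smul_eq_mul, smul_eq_mul,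
        Ideal.mul_top]
      exact h1
    rwa [Submodule.Quotient.mk_eq_zero, smul_eq_mul, Ideal.mul_top] at h2
  obtain ⟨g₁, hg₁, hg₁'⟩ := exists_slices q hflat rs hreg
  -- the quotient
  let B₀ := S ⧸ Ideal.ofList rs
  let mk := Ideal.Quotient.mk (Ideal.ofList rs)
  let qB : Ideal B₀ := q.asIdeal.map mk
  have hqB : qB.comap mk = q.asIdeal := by
    rw [Ideal.comap_map_of_surjective' _ Ideal.Quotient.mk_surjective, Ideal.mk_ker,
      sup_eq_left.mpr hrsq]
  have : qB.IsPrime := Ideal.map_isPrime_of_surjective Ideal.Quotient.mk_surjective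
    (by rwa [Ideal.mk_ker])
  have hunder : ∀ P : Ideal B₀, (P.comap mk).under R = P.under R := fun P => by
    rw [Ideal.under, Ideal.comap_comap]
    rfl
  have hqBR : qB.under R = q.asIdeal.under R := by rw [← hunder, hqB]
  have hqfB : Algebra.QuasiFiniteAt R qB := by
    refine quasiFiniteAt_of_fibre qB (fun P hP hle hP' => ?_) (fun P hP hle hP' => ?_)
    · have h1 := hmax (P.comap mk) inferInstance (hqB ▸ Ideal.comap_mono hle)
        (by rw [hunder, hP', hqBR])
      rw [← Ideal.map_comap_of_surjective mk Ideal.Quotient.mk_surjective P, h1]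
    · have hPq : P.comap mk ≤ q.asIdeal := hqB ▸ Ideal.comap_mono hle
      have hJP : J ≤ P.comap mk := Ideal.map_le_iff_le_comap.mpr
        (show q.asIdeal.under R ≤ (P.comap mk).under R by rw [hunder, hP', hqBR])
      have hrP : Ideal.ofList rs ≤ P.comap mk := fun y hy => by
        show mk y ∈ P
        rw [Ideal.Quotient.eq_zero_iff_mem.mpr hy]
        exact P.zero_mem
      -- the prime of `L` under `P`
      have hc : ∀ y, π y ∈ (P.comap mk).map π → y ∈ P.comap mk := fun y hy => by
        obtain ⟨s, hs, hsy⟩ := (hmem _ y).mp hy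
        exact ((inferInstance : (P.comap mk).IsPrime).mem_or_mem
          (sup_le hJP le_rfl hsy)).resolve_left fun h => hs (hPq h)
      have hne : (P.comap mk).map π ≠ ⊤ := fun h => (inferInstance : (P.comap mk).IsPrime).ne_top
        ((Ideal.eq_top_iff_one _).mpr (hc 1 (by rw [h]; trivial)))
      have hprime : ((P.comap mk).map π).IsPrime := by
        refine ⟨hne, fun {x y} hxy => ?_⟩
        obtain ⟨x', t₁, hx'⟩ : ∃ (x' : S) (t₁ : Lˣ), π x' = t₁ * x := ⟨_, _, hat x⟩
        obtain ⟨y', t₂, hy'⟩ : ∃ (y' : S) (t₂ : Lˣ), π y' = t₂ * y := ⟨_, _, hat y⟩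
        have : x' * y' ∈ P.comap mk := hc _ (by
          rw [map_mul, hx', hy', mul_mul_mul_comm]
          exact Ideal.mul_mem_left _ _ hxy)
        refine ((inferInstance : (P.comap mk).IsPrime).mem_or_mem this).imp (fun h => ?_) fun h => ?_
        · exact (Ideal.unit_mul_mem_iff_mem _ t₁.isUnit).mp (hx' ▸ Ideal.mem_map_of_mem π h)
        · exact (Ideal.unit_mul_mem_iff_mem _ t₂.isUnit).mp (hy' ▸ Ideal.mem_map_of_mem π h)
      have heq := hxmin _ hprime (hofList xs ▸ Ideal.map_mono hrP)
      refine le_antisymm hle ?_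
      rw [show qB = q.asIdeal.map mk from rfl, Ideal.map_le_iff_le_comap]
      intro y hy
      refine hc y (heq ▸ ?_)
      rw [mem_maximalIdeal, mem_nonunits_iff]
      intro hu
      have h3 : (algebraMap S (Localization.AtPrime q.asIdeal) y) ∈
          maximalIdeal (Localization.AtPrime q.asIdeal) :=
        (IsLocalization.AtPrime.to_map_mem_maximal_iff _ q.asIdeal y).2 hy
      refine (maximalIdeal.isMaximal L).ne_top (Ideal.eq_top_of_isUnit_mem _ ?_ hu)
      rw [← map_maximalIdeal_of_surjective (Ideal.Quotient.mk ((q.asIdeal.comap (algebraMap R S)).map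
        (algebraMap R (Localization.AtPrime q.asIdeal)))) Ideal.Quotient.mk_surjective]
      exact Ideal.mem_map_of_mem _ h3
  haveI : qB.LiesOver (q.asIdeal.under R) := ⟨hqBR.symm⟩
  obtain ⟨e, he, he'⟩ := Ideal.exists_not_mem_forall_mem_of_ne_of_liesOver (q.asIdeal.under R) qB
  obtain ⟨e, rfl⟩ := Ideal.Quotient.mk_surjective e
  haveI : Algebra.FiniteType R B₀ := inferInstance
  obtain ⟨S', hS', r, hr, hbij⟩ :=
    Algebra.QuasiFiniteAt.exists_fg_and_exists_notMem_and_awayMap_bijective (R := R) qB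
  obtain ⟨b, hb⟩ := Ideal.Quotient.mk_surjective (r : B₀)
  have : Module.Finite R S' := ⟨(Submodule.fg_top _).mpr hS'⟩
  have : Algebra.QuasiFinite R (Localization.Away r) := .trans _ S' _
  have hQFr : Algebra.QuasiFinite R (Localization.Away r.1) :=
    .of_surjective_algHom (Localization.awayMapₐ S'.val r) hbij.2
  have hbq : b ∉ q.asIdeal := fun h => hr (hb ▸ Ideal.mem_map_of_mem mk h)
  have heq : e ∉ q.asIdeal := fun h => he (Ideal.mem_map_of_mem mk h)
  refine ⟨g₁ * b * e, q.isPrime.mul_notMem (q.isPrime.mul_notMem hg₁ hbq) heq, rs, hrsq,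
    fun C _ _ _ _ _ => ?_⟩
  have hu : IsUnit (algebraMap S C (g₁ * b * e)) := IsLocalization.Away.algebraMap_isUnit _
  simp only [map_mul, IsUnit.mul_iff] at hu
  obtain ⟨⟨hug, hub⟩, hue⟩ := hu
  let A := Ideal.ofList (rs.map (algebraMap S C))
  let f : B₀ →ₐ[R] C ⧸ A := Ideal.Quotient.liftₐ _
    ((Ideal.Quotient.mkₐ R A).comp (IsScalarTower.toAlgHom R S C)) fun y hy => by
      refine Ideal.Quotient.eq_zero_iff_mem.mpr ?_
      show algebraMap S C y ∈ A
      show _ ∈ Ideal.ofList (rs.map (algebraMap S C))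
      rw [← Ideal.map_ofList]
      exact Ideal.mem_map_of_mem _ hy
  have hfb : IsUnit (f r.1) := by
    rw [← hb]
    exact hub.map (Ideal.Quotient.mk A)
  let F : Localization.Away r.1 →ₐ[R] C ⧸ A :=
    IsLocalization.liftAlgHom (M := Submonoid.powers r.1) (f := f) fun ⟨y, n, hn⟩ => by
      obtain rfl : r.1 ^ n = y := hn
      rw [map_pow]
      exact hfb.pow n
  refine ⟨?_, ?_, ?_, fun P hP hAP hPq => ?_⟩
  · exact (hg₁' _ ((dvd_mul_right g₁ b).mul_right e) C).1
  · exact (hg₁' _ ((dvd_mul_right g₁ b).mul_right e) C).2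
  · refine Algebra.QuasiFinite.of_forall_exists_mul_mem_range (R := R) F fun y => ?_
    obtain ⟨y, rfl⟩ := Ideal.Quotient.mk_surjective y
    obtain ⟨⟨m, ⟨_, n, rfl⟩⟩, hmn⟩ := IsLocalization.surj (Submonoid.powers (g₁ * b * e)) y
    have hF : ∀ z : S, F (algebraMap B₀ _ (mk z)) = Ideal.Quotient.mk A (algebraMap S C z) :=
      fun z => by
        show IsLocalization.liftAlgHom (M := Submonoid.powers r.1) (f := f) _ _ = _
        simp [f, mk]
        rfl
    refine ⟨algebraMap B₀ _ (mk ((g₁ * b * e) ^ n)), ?_, algebraMap B₀ _ (mk m), ?_⟩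
    · rw [hF, map_pow, map_mul, map_mul]
      exact (((hug.mul hub).mul hue).pow n).map _
    · show F _ = _
      rw [hF, hF, ← map_mul, hmn]
  · have h1 : ((P.comap (algebraMap S C)).map mk).IsPrime := by
      refine Ideal.map_isPrime_of_surjective Ideal.Quotient.mk_surjective ?_
      rw [Ideal.mk_ker, ← Ideal.map_le_iff_le_comap, Ideal.map_ofList]
      exact hAP
    have h2 : ((P.comap (algebraMap S C)).map mk).comap mk = P.comap (algebraMap S C) := by
      rw [Ideal.comap_map_of_surjective' _ Ideal.Quotient.mk_surjective, Ideal.mk_ker, sup_eq_left,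
        ← Ideal.map_le_iff_le_comap, Ideal.map_ofList]
      exact hAP
    by_contra hne
    have h3 := he' _ h1 (fun h => hne (by rw [← h2, h, hqB])) ⟨by
      rw [← hunder, h2, ← hPq, Ideal.under, Ideal.under, Ideal.comap_comap,
        ← IsScalarTower.algebraMap_eq]⟩
    rw [← Ideal.mem_comap, h2] at h3
    exact hP.ne_top (Ideal.eq_top_of_isUnit_mem _ h3 hue)

end Groth.Agent.Wt.CMSlice
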