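import Groth.Agent.Wt.Master

/-!
# Weightings: base change
-/

universe u

open AlgebraicGeometry CategoryTheory Limits

namespace Groth.Agent.Wt.Apply

open GeomPts Parts Master

variable {X Y T P : Scheme.{u}}

/-- Fibre integrals are locally constant when the sums over geometric points are. -/
theorem isLocallyConstant_fibreIntegral (q : P ⟶ T) (U : P.Opens) (hU : IsFinite (U.ι ≫ q))
    (w : P → ℤ) (h : ∀ t : T, ∃ N : T.Opens, t ∈ N ∧ ∃ c : ℤ, ∀ (K : Type u) [Field K]
      [IsAlgClosed K] (y : Spec (CommRingCat.of K) ⟶ T), pt y ∈ N → geomSum q U w y = c) :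
    IsLocallyConstant (MoreMor.fibreIntegral (U.ι ≫ q) fun p => w (U.ι p)) := by
  refine (IsLocallyConstant.iff_exists_open _).mpr fun t => ?_
  obtain ⟨N, htN, c, hc⟩ := h t
  refine ⟨N, N.2, htN, fun t' ht' => ?_⟩
  have key : ∀ s ∈ N, MoreMor.fibreIntegral (U.ι ≫ q) (fun p => w (U.ι p)) s = c := fun s hs => by
    obtain ⟨y, hy⟩ := exists_geomPt s
    conv_lhs => rw [← hy]
    rw [← geomSum_eq_fibreIntegral q U hU, hc _ y (hy.symm ▸ hs)]
  rw [key _ ht', key _ htN]

/-- Sums over geometric points of finite opens in any base change square are locally constant. -/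
theorem exists_nbhd_geomSum' {f : X ⟶ Y} [LocallyOfFiniteType f] [LocallyQuasiFinite f] {w : X → ℤ}
    (hw : MoreMor.IsWeighting f w) {a : P ⟶ X} {q : P ⟶ T} {g : T ⟶ Y} (h : IsPullback a q f g)
    (U : P.Opens) (hU : IsFinite (U.ι ≫ q)) (t : T) :
    ∃ N : T.Opens, t ∈ N ∧ ∃ c : ℤ, ∀ (K : Type u) [Field K] [IsAlgClosed K]
      (y : Spec (CommRingCat.of K) ⟶ T), pt y ∈ N → geomSum q U (fun p => w (a p)) y = c := by
  let e := h.isoPullback
  have hsq : IsPullback e.inv (pullback.snd f g) q (𝟙 T) :=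
    IsPullback.of_horiz_isIso ⟨by rw [h.isoPullback_inv_snd, Category.comp_id]⟩
  obtain ⟨N, htN, c, hc⟩ :=
    exists_nbhd_geomSum hw g (e.inv ⁻¹ᵁ U) (isFinite_preimage _ hsq U hU) t
  refine ⟨N, htN, c, fun K _ _ y hy => ?_⟩
  rw [← hc K y hy]
  conv_lhs => rw [← Category.comp_id y, ← geomSum_preimage _ hsq]
  congr 1
  funext p
  refine congrArg w ?_
  rw [← Scheme.Hom.comp_apply, h.isoPullback_inv_fst]

theorem isWeighting_baseChange {f : X ⟶ Y} [LocallyOfFiniteType f] [LocallyQuasiFinite f]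
    {w : X → ℤ} (hw : MoreMor.IsWeighting f w) {X' Y' : Scheme.{u}} {h : X' ⟶ X} {f' : X' ⟶ Y'}
    {g : Y' ⟶ Y} (hc : IsPullback h f' f g) : MoreMor.IsWeighting f' (w ∘ h) := by
  intro V g' _ U hU
  exact isLocallyConstant_fibreIntegral _ U hU (fun p => w (h (pullback.fst f' g' p)))
    fun t => exists_nbhd_geomSum' hw ((IsPullback.of_hasPullback f' g').flip.paste_vert hc.flip).flip
      U hU t

end Groth.Agent.Wt.Apply
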