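import Groth.Agent.Wt.GenFib
import Groth.Agent.FlatMisc.GenericFreeLoc
import Mathlib.RingTheory.Flat.Stability
import Mathlib.RingTheory.LocalRing.ResidueField.Ideal

/-!
# Non-reduced fibres near the generic point
-/

universe u

open CategoryTheory CategoryTheory.Limits AlgebraicGeometry TopologicalSpace
open scoped TensorProduct

namespace Groth.Agent.Wt.GenFib

section Ring

variable {A B : Type u} [CommRing A] [CommRing B] [Algebra A B]

open FlatMisc.GenericFree in
/-- A torsion free element stays nonzero in the fibres near the generic point. -/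
theorem exists_ne_zero_forall [IsDomain A] [Algebra.FiniteType A B] (b : B)
    (hb : ∀ a : A, a ≠ 0 → a • b ≠ 0) :
    ∃ a : A, a ≠ 0 ∧ ∀ (κ : Type u) [Field κ] [Algebra A κ], algebraMap A κ a ≠ 0 →
      (1 : κ) ⊗ₜ[A] b ≠ 0 := by
  classical
  let N : Submodule B B := Submodule.span B {b}
  haveI : Module.Finite B N := Module.Finite.span_of_finite B (Set.finite_singleton b)
  obtain ⟨f₁, -, hf₁, hN⟩ := genFree (R := A) B N 1 one_ne_zero
  obtain ⟨f, hdvd, hf, hQ⟩ := genFree (R := A) B (B ⧸ N) f₁ hf₁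
  refine ⟨f, hf, fun κ _ _ hκ h0 => ?_⟩
  let R := Localization.Away f
  let i : N →ₗ[A] B := N.subtype.restrictScalars A
  let q : B →ₗ[A] B ⧸ N := N.mkQ.restrictScalars A
  haveI : Module.Free R (R ⊗[A] N) := (hN.of_dvd hdvd).free_tensor
  haveI : Module.Free R (R ⊗[A] (B ⧸ N)) := hQ.free_tensor
  haveI : Module.Flat A R := IsLocalization.flat R (Submonoid.powers f)
  let I := i.baseChange R
  let P := q.baseChange R
  have hI : Function.Injective I := Module.Flat.lTensor_preserves_injective_linearMap i N.subtype_injective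
  have hP : Function.Surjective P := LinearMap.lTensor_surjective R N.mkQ_surjective
  have hex : Function.Exact I P :=
    lTensor_exact R (f := i) (g := q) (LinearMap.exact_subtype_mkQ N) N.mkQ_surjective
  obtain ⟨s, hs⟩ := Module.projective_lifting_property P LinearMap.id hP
  let r : R ⊗[A] B →ₗ[R] R ⊗[A] N := (LinearEquiv.ofInjective I hI).symm.toLinearMap.comp
    ((LinearMap.id - s.comp P).codRestrict (LinearMap.range I) fun x =>
      (LinearMap.exact_iff.1 hex).le (LinearMap.mem_ker.2 (by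
      have : P (s (P x)) = P x := LinearMap.congr_fun hs (P x)
      simp [this])))
  have hr : r.comp I = LinearMap.id := LinearMap.ext fun x => by
    apply hI
    show I ((LinearEquiv.ofInjective I hI).symm _) = I x
    rw [← LinearEquiv.ofInjective_apply (h := hI), LinearEquiv.apply_symm_apply]
    have : P (I x) = 0 := LinearMap.mem_ker.1 ((LinearMap.exact_iff.1 hex).ge ⟨x, rfl⟩)
    simp [this]
  let bN := Module.Free.chooseBasis R (R ⊗[A] N)
  have hne : Nonempty (Module.Free.ChooseBasisIndex R (R ⊗[A] N)) := by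
    by_contra hemp
    rw [not_nonempty_iff] at hemp
    haveI : Subsingleton (R ⊗[A] N) := bN.repr.toEquiv.subsingleton
    obtain ⟨⟨_, k, rfl⟩, hk⟩ := IsLocalizedModule.exists_of_eq (S := Submonoid.powers f)
      (f := TensorProduct.mk A R N 1) (x₁ := ⟨b, Submodule.subset_span rfl⟩) (x₂ := 0)
      (Subsingleton.elim _ _)
    rw [smul_zero, Submonoid.smul_def] at hk
    exact hb (f ^ k) (pow_ne_zero _ hf) (congrArg Subtype.val hk)
  obtain ⟨j⟩ := hne
  let ψ : R ⊗[A] B →ₗ[R] R := (bN.coord j).comp r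
  have hψ : ψ (I (bN j)) = 1 := by
    simp only [ψ, LinearMap.comp_apply]
    rw [show r (I (bN j)) = bN j from LinearMap.congr_fun hr _]
    simp
  have hu : IsUnit (algebraMap A κ f) := Ne.isUnit hκ
  let χ : R →ₐ[A] κ :=
    { IsLocalization.Away.lift (S := R) f hu with commutes' := IsLocalization.Away.lift_eq f hu }
  let L : B →ₗ[A] κ := χ.toLinearMap.comp ((ψ.restrictScalars A).comp (TensorProduct.mk A R B 1))
  let L' : κ ⊗[A] B →ₗ[A] κ := (LinearMap.mul' A κ).comp (L.lTensor κ)
  have hcb : ∀ c : B, L (c * b) = 0 := fun c => by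
    have h1 : (1 : κ) ⊗ₜ[A] (c * b) = 0 := by
      rw [show (1 : κ) ⊗ₜ[A] (c * b) = ((1 : κ) ⊗ₜ[A] c) * ((1 : κ) ⊗ₜ[A] b) by simp, h0, mul_zero]
    have h2 : L' ((1 : κ) ⊗ₜ[A] (c * b)) = 0 := by rw [h1, map_zero]
    simpa [L'] using h2
  have hall : ∀ x : R ⊗[A] N, χ (ψ (I x)) = 0 := fun x => by
    induction x using TensorProduct.induction_on with
    | zero => simp
    | add x y hx hy => rw [map_add, map_add, map_add, hx, hy, add_zero]
    | tmul t n =>
      obtain ⟨c, hc⟩ := Submodule.mem_span_singleton.1 n.2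
      have : I (t ⊗ₜ n) = t • ((1 : R) ⊗ₜ[A] (n : B)) := by
        simp [I, i, TensorProduct.smul_tmul']
      rw [this, map_smul, smul_eq_mul, map_mul]
      have h3 : χ (ψ ((1 : R) ⊗ₜ[A] (n : B))) = 0 := by
        rw [← hc]; exact hcb c
      rw [h3, mul_zero]
  exact one_ne_zero ((map_one χ).symm.trans ((congrArg χ hψ).symm.trans (hall (bN j))))

theorem exists_smul_eq (p : Ideal A) [p.IsPrime] (z : p.ResidueField ⊗[A] B) :
    ∃ a : A, a ∉ p ∧ ∃ b : B, a • z = (1 : p.ResidueField) ⊗ₜ[A] b := by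
  induction z using TensorProduct.induction_on with
  | zero => exact ⟨1, p.primeCompl.one_mem, 0, by simp⟩
  | tmul k m =>
    obtain ⟨c, d, hd, hk⟩ := IsFractionRing.div_surjective (A := A ⧸ p) k
    obtain ⟨c, rfl⟩ := Ideal.Quotient.mk_surjective c
    obtain ⟨d, rfl⟩ := Ideal.Quotient.mk_surjective d
    have hd' : d ∉ p := fun h => nonZeroDivisors.ne_zero hd (Ideal.Quotient.eq_zero_iff_mem.2 h)
    refine ⟨d, hd', c • m, ?_⟩
    have hdk : d • k = algebraMap A p.ResidueField c := by
      have hne : algebraMap A p.ResidueField d ≠ 0 := fun h => hd' (Ideal.algebraMap_residueField_eq_zero.1 h)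
      rw [← hk, Algebra.smul_def, ← Ideal.Quotient.algebraMap_eq, ← IsScalarTower.algebraMap_apply,
        ← IsScalarTower.algebraMap_apply, mul_div_cancel₀ _ hne]
    rw [TensorProduct.smul_tmul', hdk, Algebra.algebraMap_eq_smul_one, TensorProduct.smul_tmul]
  | add x y hx hy =>
    obtain ⟨a, ha, m, hm⟩ := hx
    obtain ⟨a', ha', m', hm'⟩ := hy
    refine ⟨a * a', p.primeCompl.mul_mem ha ha', a' • m + a • m', ?_⟩
    rw [smul_add, TensorProduct.tmul_add]
    congr 1
    · rw [mul_comm, mul_smul, hm, TensorProduct.tmul_smul]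
    · rw [mul_smul, hm', TensorProduct.tmul_smul]

/-- Non-reducedness of fibres spreads out. -/
theorem exists_not_isReduced [IsDomain A] [Algebra.FiniteType A B] [Module.Flat A B]
    (p : Ideal A) [p.IsPrime] (hp : p = ⊥) (h : ¬ _root_.IsReduced (p.ResidueField ⊗[A] B)) :
    ∃ a : A, a ≠ 0 ∧ ∀ (q : Ideal A) [q.IsPrime], a ∉ q → ¬ _root_.IsReduced (q.ResidueField ⊗[A] B) := by
  subst hp
  obtain ⟨z, hz, hz0⟩ : ∃ z : (⊥ : Ideal A).ResidueField ⊗[A] B, IsNilpotent z ∧ z ≠ 0 := by
    by_contra hcon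
    push Not at hcon
    exact h ⟨hcon⟩
  obtain ⟨a, ha, b, hb⟩ := exists_smul_eq ⊥ z
  have hinjK : Function.Injective (algebraMap A (⊥ : Ideal A).ResidueField) := by
    rw [injective_iff_map_eq_zero]
    exact fun x hx => by simpa using Ideal.algebraMap_residueField_eq_zero.1 hx
  have hinj : Function.Injective
      (Algebra.TensorProduct.includeRight : B →ₐ[A] (⊥ : Ideal A).ResidueField ⊗[A] B) := by
    exact Algebra.TensorProduct.includeRight_injective hinjK
  have hu : IsUnit (algebraMap A (⊥ : Ideal A).ResidueField a) :=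
    Ne.isUnit fun h => ha (by simpa using hinjK (h.trans (map_zero _).symm))
  have hb0 : ∀ c : A, c ≠ 0 → c • b ≠ 0 := fun c hc h' => by
    have h1 : (c * a) • z = 0 := by
      rw [mul_smul, hb, ← TensorProduct.tmul_smul, h', TensorProduct.tmul_zero]
    have hu' : IsUnit (algebraMap A (⊥ : Ideal A).ResidueField (c * a)) := by
      rw [map_mul]
      exact (Ne.isUnit fun h => hc (by simpa using hinjK (h.trans (map_zero _).symm))).mul hu
    rw [← algebraMap_smul (⊥ : Ideal A).ResidueField, hu'.smul_eq_zero] at h1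
    exact hz0 h1
  have hbn : IsNilpotent b := by
    obtain ⟨m, hm⟩ := hz
    refine ⟨m, hinj ?_⟩
    rw [map_pow, map_zero]
    show ((1 : (⊥ : Ideal A).ResidueField) ⊗ₜ[A] b) ^ m = 0
    rw [← hb, Algebra.smul_def, mul_pow, hm, mul_zero]
  obtain ⟨c, hc, hne⟩ := exists_ne_zero_forall b hb0
  refine ⟨c, hc, fun q _ hq hred => hne q.ResidueField
    (fun h => hq (Ideal.algebraMap_residueField_eq_zero.1 h)) ?_⟩
  exact hred.eq_zero _ (hbn.map (Algebra.TensorProduct.includeRight : B →ₐ[A] q.ResidueField ⊗[A] B))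

end Ring

theorem isReduced_fiber_iff (A B : Type u) [CommRing A] [CommRing B] [Algebra A B]
    (p : PrimeSpectrum A) :
    IsReduced ((Spec.map (CommRingCat.ofHom (algebraMap A B))).fiber p) ↔
      _root_.IsReduced (p.asIdeal.ResidueField ⊗[A] B) := by
  let e : (Spec.map (CommRingCat.ofHom (algebraMap A B))).fiber p ≅
      Spec (CommRingCat.of (p.asIdeal.ResidueField ⊗[A] B)) :=
    Arrow.leftFunc.mapIso (Spec.fiberToSpecResidueFieldIso A B p)
  exact ⟨fun _ => affine_isReduced_iff _ |>.1 (isReduced_of_isOpenImmersion e.inv),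
    fun _ => isReduced_of_isOpenImmersion e.hom⟩

theorem exists_open_not_isReduced_model {A : CommRingCat.{u}} [IsDomain A] {X : Scheme.{u}}
    (u : X ⟶ Spec A) [Flat u] [LocallyOfFiniteType u]
    (h : ¬ IsReduced (u.fiber (genericPoint (Spec A)))) :
    ∃ V : (Spec A).Opens, (V : Set (Spec A)).Nonempty ∧ ∀ s ∈ V, ¬ IsReduced (u.fiber s) := by
  let 𝒱 := fun s : Spec A =>
    Scheme.Pullback.openCoverOfLeft X.affineCover u ((Spec A).fromSpecResidueField s)
  obtain ⟨i, hi⟩ : ∃ i, ¬ IsReduced ((X.affineCover.f i ≫ u).fiber (genericPoint (Spec A))) := by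
    by_contra hcon
    push Not at hcon
    haveI : ∀ i, IsReduced ((𝒱 (genericPoint (Spec A))).X i) := hcon
    exact h (IsReduced.of_openCover _ (𝒱 (genericPoint (Spec A))))
  suffices key : ∀ (B : CommRingCat.{u}) (v : Spec B ⟶ Spec A) [Flat v] [LocallyOfFiniteType v],
      ¬ IsReduced (v.fiber (genericPoint (Spec A))) →
      ∃ V : (Spec A).Opens, (V : Set (Spec A)).Nonempty ∧ ∀ s ∈ V, ¬ IsReduced (v.fiber s) by
    haveI : IsOpenImmersion (X.affineCover.f i) := X.affineCover.map_prop i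
    haveI : Flat (X.affineCover.f i ≫ u) :=
      MorphismProperty.comp_mem _ _ _ (inferInstanceAs (Flat (X.affineCover.f i))) ‹Flat u›
    haveI : LocallyOfFiniteType (X.affineCover.f i ≫ u) :=
      MorphismProperty.comp_mem _ _ _ (inferInstanceAs (LocallyOfFiniteType (X.affineCover.f i))) ‹LocallyOfFiniteType u›
    obtain ⟨V, hV, hVn⟩ := @key _ (X.affineCover.f i ≫ u) ‹Flat (X.affineCover.f i ≫ u)›
      ‹LocallyOfFiniteType (X.affineCover.f i ≫ u)› hi
    refine ⟨V, hV, fun s hs hred => hVn s hs ?_⟩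
    exact @isReduced_of_isOpenImmersion _ _ ((𝒱 s).f i) ((𝒱 s).map_prop i) hred
  intro B v _ _ hv
  obtain ⟨φ, rfl⟩ := Spec.map_surjective v
  algebraize [φ.hom]
  haveI : Algebra.FiniteType A B := (HasRingHomProperty.Spec_iff (P := @LocallyOfFiniteType)).1 ‹_›
  haveI : Module.Flat A B := (HasRingHomProperty.Spec_iff (P := @Flat)).1 ‹_›
  have hgen : (genericPoint (Spec A) : PrimeSpectrum A).asIdeal = ⊥ := by
    have h1 : genericPoint (Spec A) ⤳ (⟨⊥, Ideal.isPrime_bot⟩ : PrimeSpectrum A) :=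
      (genericPoint_spec (Spec A)).specializes trivial
    exact le_bot_iff.1 ((PrimeSpectrum.le_iff_specializes _ _).2 h1)
  haveI := (genericPoint (Spec A) : PrimeSpectrum A).2
  obtain ⟨a, ha, hq⟩ := exists_not_isReduced (B := B) _ hgen
    (fun h' => hv ((isReduced_fiber_iff A B _).2 h'))
  refine ⟨PrimeSpectrum.basicOpen a, ⟨⟨⊥, Ideal.isPrime_bot⟩, fun h' => ha (by simpa using h')⟩,
    fun s hs h' => @hq s.asIdeal s.isPrime hs ((isReduced_fiber_iff A B s).1 h')⟩

theorem exists_open_not_isReduced {X Y : Scheme.{u}} (f : X ⟶ Y) [IrreducibleSpace Y]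
    [LocallyOfFiniteType f] [QuasiCompact f] (h : ¬ IsReduced (f.fiber (genericPoint Y))) :
    ∃ V : Y.Opens, (V : Set Y).Nonempty ∧ ∀ y ∈ V, ¬ IsReduced (f.fiber y) :=
  exists_open_of_model f (fun F _ _ => ¬ IsReduced F)
    (fun _ _ _ _ _ _ φ _ _ hn _ => hn (isReduced_of_isOpenImmersion φ.hom))
    fun A _ X' u _ _ _ _ ⟨φ, _, _⟩ => exists_open_not_isReduced_model u
      fun _ => h (isReduced_of_isOpenImmersion φ.inv)

end Groth.Agent.Wt.GenFib
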