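import Groth.Agent.Wt.Split

/-!
# Finite parts at several quasi-finite points
-/

universe u

open AlgebraicGeometry CategoryTheory Limits Polynomial

namespace Groth.Agent.Wt.Parts

open EtNbhd

variable {X S U U' : Scheme.{u}} (f : X ⟶ S) {g : U ⟶ S} (b : U' ⟶ U) {g' : U' ⟶ S} (hb : b ≫ g = g')

/-- The map of base changes induced by a refinement of the base. -/
noncomputable def bcMap : pullback f g' ⟶ pullback f g :=
  pullback.lift (pullback.fst f g') (pullback.snd f g' ≫ b)
    (by rw [Category.assoc, hb, pullback.condition])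

theorem bcMap_fst : bcMap f b hb ≫ pullback.fst f g = pullback.fst f g' := pullback.lift_fst _ _ _

theorem bcMap_snd : bcMap f b hb ≫ pullback.snd f g = pullback.snd f g' ≫ b := pullback.lift_snd _ _ _

theorem fst_bcMap (z : ↥(pullback f g')) :
    pullback.fst f g (bcMap f b hb z) = pullback.fst f g' z := by
  rw [← Scheme.Hom.comp_apply, bcMap_fst]

theorem snd_bcMap (z : ↥(pullback f g')) :
    pullback.snd f g (bcMap f b hb z) = b (pullback.snd f g' z) := by
  rw [← Scheme.Hom.comp_apply, bcMap_snd, Scheme.Hom.comp_apply]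

theorem isPullback_bcMap : IsPullback (bcMap f b hb) (pullback.snd f g') (pullback.snd f g) b := by
  subst hb
  refine .of_right ?_ (bcMap_snd f b rfl) (IsPullback.of_hasPullback f g)
  rw [bcMap_fst]
  exact IsPullback.of_hasPullback f (b ≫ g)

/-- The restriction of a base change square to an open of the source. -/
theorem isFinite_preimage {P' P : Scheme.{u}} {a : P' ⟶ P} {q' : P' ⟶ U'} {q : P ⟶ U}
    (h : IsPullback a q' q b) (W : P.Opens) (hW : IsFinite (W.ι ≫ q)) :
    IsFinite ((a ⁻¹ᵁ W).ι ≫ q') :=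
  MorphismProperty.of_isPullback
    ((isPullback_morphismRestrict a W).paste_vert h) hW

omit f in
/-- Unique lift along a square when the base has trivial residue extension. -/
theorem existsUnique_lift_sq {P' P : Scheme.{u}} {a : P' ⟶ P} {q' : P' ⟶ U'} {q : P ⟶ U}
    (h : IsPullback a q' q b) (u' : U') (z : P) (hz : q z = b u')
    (hu : Function.Bijective (b.residueFieldMap u')) :
    ∃ z' : P', (a z' = z ∧ q' z' = u') ∧ ∀ w, a w = z → q' w = u' → w = z' := by
  obtain ⟨w, ⟨h₁, h₂, -⟩, huniq⟩ := existsUnique_lift q b z u' hz hu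
  refine ⟨h.isoPullback.inv w, ⟨?_, ?_⟩, fun v hv hv' => ?_⟩
  · rw [← Scheme.Hom.comp_apply, h.isoPullback_inv_fst, h₁]
  · rw [← Scheme.Hom.comp_apply, h.isoPullback_inv_snd, h₂]
  · rw [← huniq (h.isoPullback.hom v) (by rw [← Scheme.Hom.comp_apply, h.isoPullback_hom_fst, hv])
      (by rw [← Scheme.Hom.comp_apply, h.isoPullback_hom_snd, hv']), ← Scheme.Hom.comp_apply,
      Iso.hom_inv_id]
    rfl

omit f in
/-- Finite parts pull back along a refinement with trivial residue extension. -/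
theorem isFinPart_preimage {P' P : Scheme.{u}} {a : P' ⟶ P} {q' : P' ⟶ U'} {q : P ⟶ U}
    (h : IsPullback a q' q b) (u' : U') (hu : Function.Bijective (b.residueFieldMap u'))
    {W : P.Opens} {z : P} (hW : IsFinPart q (b u') W z) :
    ∃ z' : P', a z' = z ∧ IsFinPart q' u' (a ⁻¹ᵁ W) z' := by
  obtain ⟨z', ⟨h₁, h₂⟩, huniq⟩ := existsUnique_lift_sq b h u' z hW.map_eq hu
  refine ⟨z', h₁, ⟨show a z' ∈ W from h₁ ▸ hW.mem, isFinite_preimage b h W hW.finite, h₂,
    fun w hw hwu => huniq w (hW.unique _ hw ?_) hwu⟩⟩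
  rw [← Scheme.Hom.comp_apply, h.w, Scheme.Hom.comp_apply, hwu]

omit f in
theorem residueFieldMap_bijective_of_comp {Z : Scheme.{u}} (a : U' ⟶ U) (c : U ⟶ Z) (x : U')
    (h : Function.Bijective ((a ≫ c).residueFieldMap x)) :
    Function.Bijective (a.residueFieldMap x) := by
  rw [Scheme.residueFieldMap_comp] at h
  exact ⟨RingHom.injective _, Function.Surjective.of_comp h.2⟩

/-- Finite parts at finitely many quasi-finite points over the same point. -/
theorem exists_finParts [LocallyOfFiniteType f] (s : S) (ι : Type*) [Finite ι] (x : ι → ↑X)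
    (hs : ∀ i, f (x i) = s) (hx : ∀ i, f.QuasiFiniteAt (x i)) :
    ∃ (U : Scheme.{u}) (g : U ⟶ S) (u : U), Hens2.IsEtaleNbhd g u s ∧
      ∃ (W : ι → (pullback f g).Opens) (z : ι → ↑(pullback f g)),
        ∀ i, IsFinPart (pullback.snd f g) u (W i) (z i) ∧ pullback.fst f g (z i) = x i := by
  induction ι using Finite.induction_empty_option with
  | of_equiv e ih =>
    obtain ⟨U, g, u, hn, W, z, h⟩ := ih (x ∘ e) (fun i => hs _) (fun i => hx _)
    refine ⟨U, g, u, hn, W ∘ e.symm, z ∘ e.symm, fun i => ?_⟩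
    simpa using h (e.symm i)
  | h_empty =>
    exact ⟨S, 𝟙 S, s, ⟨inferInstance, rfl, by
      rw [Scheme.residueFieldMap_id]; exact Function.bijective_id⟩,
      fun i => i.elim, fun i => i.elim, fun i => i.elim⟩
  | h_option ih =>
    obtain ⟨U₁, g₁, u₁, hn₁, W₁, z₁, h₁⟩ := ih (fun i => x (some i)) (fun i => hs _) (fun i => hx _)
    obtain ⟨U₂, g₂, u₂, hn₂, W₂, z₂, h₂, h₂'⟩ := exists_finPart f (x none) (hx none)
    have hn₂e := hn₂.base_eq.trans (hs none)
    obtain ⟨u, ⟨hu₁, hu₂, hub⟩, -⟩ := existsUnique_lift g₁ g₂ u₁ u₂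
      (hn₁.base_eq.trans hn₂e.symm) hn₂.residue_bijective
    have hbij : Function.Bijective ((pullback.fst g₁ g₂ ≫ g₁).residueFieldMap u) := by
      refine residueFieldMap_bijective_comp _ _ _ hub ?_
      rw [hu₁]
      exact hn₁.residue_bijective
    have := hn₁.etale
    have := hn₂.etale
    have hsnd : pullback.snd g₁ g₂ ≫ g₂ = pullback.fst g₁ g₂ ≫ g₁ := pullback.condition.symm
    have hub₂ : Function.Bijective ((pullback.snd g₁ g₂).residueFieldMap u) :=
      residueFieldMap_bijective_of_comp _ g₂ u (by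
        rw [Scheme.Hom.residueFieldMap_congr hsnd]
        exact hbij.comp (ConcreteCategory.bijective_of_isIso _))
    let a₁ := bcMap f (pullback.fst g₁ g₂) (g := g₁) rfl
    let a₂ := bcMap f (pullback.snd g₁ g₂) (g := g₂) hsnd
    refine ⟨pullback g₁ g₂, pullback.fst g₁ g₂ ≫ g₁, u, ⟨inferInstance, ?_, hbij⟩, ?_⟩
    · rw [Scheme.Hom.comp_apply, hu₁, hn₁.base_eq]
    have key₁ : ∀ i, ∃ z', a₁ z' = z₁ i ∧
        IsFinPart (pullback.snd f _) u (a₁ ⁻¹ᵁ W₁ i) z' := fun i =>
      isFinPart_preimage _ (isPullback_bcMap f _ rfl) u hub (hu₁.symm ▸ (h₁ i).1)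
    obtain ⟨z₂', hz₂', hp₂⟩ := isFinPart_preimage _ (isPullback_bcMap f _ hsnd) u hub₂
      (hu₂.symm ▸ h₂)
    choose z₁' hz₁' hp₁ using key₁
    refine ⟨fun i => i.elim (a₂ ⁻¹ᵁ W₂) fun j => a₁ ⁻¹ᵁ W₁ j, fun i => i.elim z₂' z₁', ?_⟩
    rintro (_ | i)
    · refine ⟨hp₂, ?_⟩
      change pullback.fst f _ z₂' = x none
      rw [← fst_bcMap f _ hsnd, hz₂', h₂']
    · refine ⟨hp₁ i, ?_⟩
      change pullback.fst f _ (z₁' i) = x (some i)
      rw [← fst_bcMap f (pullback.fst g₁ g₂) (g := g₁) rfl, hz₁', (h₁ i).2]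

end Groth.Agent.Wt.Parts
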