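import Groth.Agent.Wt.RelAssScheme
import Groth.Agent.EtStruct.Scheme

/-!
# Relative associated points near the generic fibre
-/

set_option autoImplicit false

universe u

open AlgebraicGeometry CategoryTheory TopologicalSpace
open Groth.Agent.AssSch.Stalk Groth.Agent.AssSch.Basic Groth.Agent.QCoh Groth.Agent.PullStalk.Sky

namespace Groth.Agent.Wt.RelAssRing

noncomputable section

variable {X Y : Scheme.{u}} (f : X ⟶ Y) (F : X.Modules) [F.IsQuasicoherent]
  {W : Y.Opens} (hW : IsAffineOpen W) {V : X.Opens} (hV : IsAffineOpen V) (hVW : V ≤ f ⁻¹ᵁ W)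

/-- Membership in the relative assassin on an affine chart. -/
theorem mem_relAss_iff (x : X) (hx : x ∈ V) :
    letI := (f.appLE W V hVW).hom.toAlgebra
    x ∈ MoreMor.relAss f F ↔ ∃ m : Γ(F, V),
      primeOf hV x hx ∈ ((pM Γ(X, V) Γ(F, V) (primeOf hW (f x) (hVW hx))).colon {m}).minimalPrimes := by
  let := (f.appLE W V hVW).hom.toAlgebra
  letI : Algebra Γ(X, V) (X.presheaf.stalk x) := (X.presheaf.germ V x hx).hom.toAlgebra
  letI : Module Γ(X, V) (F.presheaf.stalk x) := Module.compHom _ (X.presheaf.germ V x hx).hom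
  have : IsScalarTower Γ(X, V) (X.presheaf.stalk x) (F.presheaf.stalk x) :=
    IsScalarTower.of_algebraMap_smul fun _ _ ↦ rfl
  have : IsLocalization.AtPrime (X.presheaf.stalk x) (primeOf hV x hx) :=
    hV.isLocalization_stalk ⟨x, hx⟩
  have := isLocalizedModule_germLinear F hV x hx
  have hmax : (IsLocalRing.maximalIdeal (Y.presheaf.stalk (f x))).map (f.stalkMap x).hom =
      ((primeOf hW (f x) (hVW hx)).map (algebraMap Γ(Y, W) Γ(X, V))).map
        (algebraMap Γ(X, V) (X.presheaf.stalk x)) := by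
    let : Algebra Γ(Y, W) (Y.presheaf.stalk (f x)) := (Y.presheaf.germ W (f x) (hVW hx)).hom.toAlgebra
    have : IsLocalization.AtPrime (Y.presheaf.stalk (f x)) (primeOf hW (f x) (hVW hx)) :=
      hW.isLocalization_stalk ⟨f x, hVW hx⟩
    rw [← IsLocalization.AtPrime.map_eq_maximalIdeal (primeOf hW (f x) (hVW hx))
      (Y.presheaf.stalk (f x)), Ideal.map_map, Ideal.map_map]
    congr 1
    simp only [RingHom.algebraMap_toAlgebra, ← CommRingCat.hom_comp]
    congr 1
    rw [Scheme.Hom.appLE, Category.assoc, X.presheaf.germ_res]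
    exact f.germ_stalkMap W x (hVW hx)
  show IsAssociatedPrime _ _ ↔ _
  rw [hmax]
  exact isAssociatedPrime_localized_iff (primeOf hV x hx) (germLinear F x hx) _

/-- The prime of the image point. -/
theorem comap_primeOf (x : X) (hx : x ∈ V) :
    letI := (f.appLE W V hVW).hom.toAlgebra
    (primeOf hV x hx).comap (algebraMap Γ(Y, W) Γ(X, V)) = primeOf hW (f x) (hVW hx) :=
  congrArg PrimeSpectrum.asIdeal (IsAffineOpen.comap_primeIdealOf_appLE W hW V hV hVW hx)

variable [IrreducibleSpace Y] [LocallyOfFiniteType f] (hF : Coh.IsCoh F)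

/-- A nonempty open meets the generic point. -/
theorem genericPoint_mem (V : Y.Opens) (h : (V : Set Y).Nonempty) : genericPoint Y ∈ V :=
  ((genericPoint_spec Y).mem_open_set_iff V.2).mpr (by simpa using h)

include hW in
/-- The generic prime is contained in every prime. -/
theorem genericPrime_le (hη : genericPoint Y ∈ W) (p : Ideal Γ(Y, W)) (hp : p.IsPrime) :
    primeOf hW (genericPoint Y) hη ≤ p := by
  obtain ⟨y, hy, rfl⟩ := exists_point hW p
  exact (primeOf_le_iff hW _ _ hη hy).mpr (genericPoint_specializes y)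

/-- The locus where a fixed nonzero section of the base avoids the prime. -/
theorem notMem_of_mem_basicOpen {a : Γ(Y, W)} {y : Y} (hy : y ∈ W) (h : y ∈ Y.basicOpen a) :
    a ∉ primeOf hW y hy :=
  (mem_basicOpen_iff hW y hy a).mp h

include hF hW hV in
/-- Relative associated points avoid a closed set near the generic fibre (one chart). -/
theorem exists_forall_relAss_mem (U : X.Opens)
    (hη : genericPoint Y ∈ W) (h : ∀ x ∈ MoreMor.relAss f F, f x = genericPoint Y → x ∈ U)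
    (hVW : V ≤ f ⁻¹ᵁ W) :
    ∃ a : Γ(Y, W), genericPoint Y ∈ Y.basicOpen a ∧
      ∀ x ∈ V, x ∈ MoreMor.relAss f F → f x ∈ Y.basicOpen a → x ∈ U := by
  classical
  let := (f.appLE W V hVW).hom.toAlgebra
  let p₀ := primeOf hW (genericPoint Y) hη
  have hp₀ : ∀ p : Ideal Γ(Y, W), p.IsPrime → p₀ ≤ p := genericPrime_le hW hη
  let : Module Γ(Y, W) Γ(F, V) := Module.compHom _ (f.appLE W V hVW).hom
  have : IsScalarTower Γ(Y, W) Γ(X, V) Γ(F, V) := IsScalarTower.of_algebraMap_smul fun _ _ ↦ rfl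
  have : Algebra.FiniteType Γ(Y, W) Γ(X, V) := f.finiteType_appLE hW hV hVW
  have : Module.Finite Γ(X, V) Γ(F, V) := CohDev.finite_sections hF hV
  -- a finitely generated ideal generically cutting out the complement of `U`
  let J : Ideal Γ(X, V) := PrimeSpectrum.vanishingIdeal
    ((fun y : V => hV.primeIdealOf y) '' {y : V | (y : X) ∉ U})
  have hJ : ∀ (y : X) (hy : y ∈ V), J ≤ primeOf hV y hy ↔ y ∉ U := by
    intro y hy
    refine ⟨fun hle hyU => ?_, fun hyU a ha => ?_⟩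
    · obtain ⟨g, hg, hyg⟩ := hV.exists_basicOpen_le ⟨y, hyU⟩ hy
      refine (mem_basicOpen_iff hV y hy g).mp hyg (hle ?_)
      rw [PrimeSpectrum.mem_vanishingIdeal]
      rintro _ ⟨z, hz, rfl⟩
      by_contra hne
      exact hz (hg ((mem_basicOpen_iff hV z.1 z.2 g).mpr hne))
    · exact (PrimeSpectrum.mem_vanishingIdeal _ _).mp ha _ ⟨⟨y, hy⟩, hyU, rfl⟩
  let P₀ := p₀.map (algebraMap Γ(Y, W) Γ(X, V))
  let JJ : Submodule (Γ(X, V) ⧸ P₀) (Γ(X, V) ⧸ P₀) := J.map (Ideal.Quotient.mk P₀)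
  have : Algebra.FiniteType Γ(Y, W) (Γ(X, V) ⧸ P₀) :=
    .of_surjective (Ideal.Quotient.mkₐ Γ(Y, W) P₀) Ideal.Quotient.mk_surjective
  have : Algebra.FiniteType (Γ(Y, W) ⧸ p₀) (Γ(X, V) ⧸ P₀) :=
    .of_restrictScalars_finiteType Γ(Y, W) _ _
  obtain ⟨a₁, -, ha₁, G, hGf, hGJ, hG⟩ := FlatMisc.GenericFree.genFG (R := Γ(Y, W) ⧸ p₀)
    (Γ(X, V) ⧸ P₀) (Γ(X, V) ⧸ P₀) JJ 1 one_ne_zero
  obtain ⟨a₁, rfl⟩ := Ideal.Quotient.mk_surjective a₁
  have hlift : ∀ g : hGf.toFinset, ∃ b ∈ J, Ideal.Quotient.mk P₀ b = g.1 := fun g =>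
    (Ideal.mem_map_iff_of_surjective _ Ideal.Quotient.mk_surjective).mp
      (hGJ (hGf.mem_toFinset.mp g.2))
  choose lift hliftJ hlift' using hlift
  let g : Fin hGf.toFinset.card → Γ(X, V) := fun i => lift (hGf.toFinset.equivFin.symm i)
  have hvan : ∀ (y : X) (hy : y ∈ V), a₁ ∉ primeOf hW (f y) (hVW hy) →
      (∀ i, g i ∈ primeOf hV y hy) → y ∉ U := by
    intro y hy ha hgi
    refine (hJ y hy).mp fun b hb => ?_
    have hc := comap_primeOf f hW hV hVW y hy
    have hP : P₀ ≤ primeOf hV y hy :=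
      Ideal.map_le_iff_le_comap.mpr (hc ▸ hp₀ _ inferInstance)
    obtain ⟨k, hk⟩ := hG (Ideal.Quotient.mk P₀ b) (Ideal.mem_map_of_mem _ hb)
    have hspan : Submodule.span (Γ(X, V) ⧸ P₀) G ≤
        (primeOf hV y hy).map (Ideal.Quotient.mk P₀) := by
      refine Submodule.span_le.mpr fun c hc => ?_
      have hmem := Ideal.mem_map_of_mem (Ideal.Quotient.mk P₀)
        (hgi (hGf.toFinset.equivFin ⟨c, hGf.mem_toFinset.mpr hc⟩))
      simp only [g, Equiv.symm_apply_apply, hlift'] at hmem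
      exact hmem
    have h2 := hspan hk
    rw [← map_pow, Algebra.smul_def, Ideal.Quotient.algebraMap_quotient_map_quotient,
      ← map_mul, Ideal.mem_quotient_iff_mem hP, map_pow] at h2
    refine (Ideal.IsPrime.mem_or_mem inferInstance h2).resolve_left fun h3 => ha ?_
    rw [← hc, Ideal.mem_comap]
    exact Ideal.IsPrime.mem_of_pow_mem inferInstance k h3
  obtain ⟨a₂, ha₂, hreg⟩ := regAt_generic (M := Γ(F, V)) p₀ hp₀ g (by
    intro m hm
    by_contra hcon
    push Not at hcon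
    let J₀ := (pM Γ(X, V) Γ(F, V) p₀).colon {m}
    obtain ⟨Q, hQ, hJQ, hd⟩ := Ideal.exists_le_prime_disjoint J₀
      (Algebra.algebraMapSubmonoid Γ(X, V) p₀.primeCompl) (Set.disjoint_right.mpr fun c hc hc' => by
        obtain ⟨s, hs, rfl⟩ := hc
        rw [SetLike.mem_coe, Submodule.mem_colon_singleton, algebraMap_smul] at hc'
        exact hcon s hs hc')
    obtain ⟨q, hq, hqQ⟩ := Ideal.exists_minimalPrimes_le hJQ
    have := hq.isPrime
    obtain ⟨y, hy, rfl⟩ := exists_point hV q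
    have hc := comap_primeOf f hW hV hVW y hy
    have hle : primeOf hW (f y) (hVW hy) = p₀ := by
      refine le_antisymm (fun s hs => ?_) (hp₀ _ inferInstance)
      rw [← hc] at hs
      by_contra hsp
      exact Set.disjoint_left.mp hd (hqQ hs) ⟨s, hsp, rfl⟩
    have hfy : f y = genericPoint Y := eq_of_primeOf_eq hW _ hη hle
    have hy' : y ∈ MoreMor.relAss f F :=
      (mem_relAss_iff f F hW hV hVW y hy).mpr ⟨m, by rw [hle]; exact hq⟩
    refine hvan y hy ?_ (fun i => hq.le (Submodule.mem_colon_singleton.mpr (hm i))) (h y hy' hfy)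
    rw [hle]
    exact fun h0 => ha₁ (Ideal.Quotient.eq_zero_iff_mem.mpr h0))
  refine ⟨a₁ * a₂, ?_, fun x hx hxA hfx => ?_⟩
  · refine (mem_basicOpen_iff hW _ hη _).mpr fun hmem => ?_
    rcases Ideal.IsPrime.mem_or_mem inferInstance hmem with h1 | h1
    · exact ha₁ (Ideal.Quotient.eq_zero_iff_mem.mpr h1)
    · exact ha₂ h1
  · by_contra hxU
    set p := primeOf hW (f x) (hVW hx)
    set q := primeOf hV x hx
    have hp : a₁ * a₂ ∉ p := notMem_of_mem_basicOpen hW (hVW hx) hfx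
    obtain ⟨m, hm⟩ := (mem_relAss_iff f F hW hV hVW x hx).mp hxA
    have hgq : ∀ i, g i ∈ q := fun i => (hJ x hx).mpr hxU (hliftJ _)
    obtain ⟨b, hb, hb'⟩ := exists_multiplier ((pM Γ(X, V) Γ(F, V) p).colon {m})
      (Ideal.span (Set.range g)) q hm (Submodule.fg_span (Set.finite_range g))
      (Ideal.span_le.mpr (by rintro _ ⟨i, rfl⟩; exact hgq i))
    obtain ⟨s, hs, hsm⟩ := hreg p inferInstance (fun h2 => hp (p.mul_mem_left _ h2)) (b • m)
      fun i => by
        rw [← mul_smul]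
        exact Submodule.mem_colon_singleton.mp (hb _ (Ideal.subset_span ⟨i, rfl⟩))
    refine hb' (algebraMap _ _ s) (fun h2 => hs ?_) ?_
    · show s ∈ primeOf hW (f x) (hVW hx)
      rw [← comap_primeOf f hW hV hVW x hx]
      exact h2
    · rw [Submodule.mem_colon_singleton, mul_smul, algebraMap_smul]
      exact hsm

include hF hW hV in
/-- An associated point of the generic fibre outside `U` spreads to nearby fibres. -/
theorem exists_forall_exists_relAss (U : X.Opens) (hη : genericPoint Y ∈ W) (x : X) (hx : x ∈ V)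
    (hfx : f x = genericPoint Y) (hxU : x ∉ U) (h : x ∈ MoreMor.relAss f F)
    (hVW : V ≤ f ⁻¹ᵁ W) :
    ∃ a : Γ(Y, W), genericPoint Y ∈ Y.basicOpen a ∧ ∀ y ∈ Y.basicOpen a,
      ∃ z ∈ MoreMor.relAss f F, f z = y ∧ z ∉ U := by
  let := (f.appLE W V hVW).hom.toAlgebra
  let p₀ := primeOf hW (genericPoint Y) hη
  have hp₀ : ∀ p : Ideal Γ(Y, W), p.IsPrime → p₀ ≤ p := genericPrime_le hW hη
  let : Module Γ(Y, W) Γ(F, V) := Module.compHom _ (f.appLE W V hVW).hom
  have : IsScalarTower Γ(Y, W) Γ(X, V) Γ(F, V) := IsScalarTower.of_algebraMap_smul fun _ _ ↦ rfl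
  have : Algebra.FiniteType Γ(Y, W) Γ(X, V) := f.finiteType_appLE hW hV hVW
  have : Module.Finite Γ(X, V) Γ(F, V) := CohDev.finite_sections hF hV
  have hpe : primeOf hW (f x) (hVW hx) = p₀ := by
    simp only [p₀, primeOf]
    congr 3
  have hc := (comap_primeOf f hW hV hVW x hx).trans hpe
  obtain ⟨m, hm⟩ := (mem_relAss_iff f F hW hV hVW x hx).mp h
  rw [hpe] at hm
  obtain ⟨a, ha, hspread⟩ := exists_fibre_prime p₀ hp₀ (primeOf hV x hx) hc m hm
  refine ⟨a, (mem_basicOpen_iff hW _ hη _).mpr ha, fun y hy => ?_⟩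
  have hyW : y ∈ W := Y.basicOpen_le a hy
  obtain ⟨q', hq', hle, hqp, m', hm'⟩ :=
    hspread (primeOf hW y hyW) inferInstance (notMem_of_mem_basicOpen hW hyW hy)
  obtain ⟨z, hz, rfl⟩ := exists_point hV q'
  rw [comap_primeOf f hW hV hVW z hz] at hqp
  refine ⟨z, (mem_relAss_iff f F hW hV hVW z hz).mpr ⟨m', by rw [hqp]; exact hm'⟩,
    eq_of_primeOf_eq hW _ hyW hqp, fun hzU => hxU ?_⟩
  exact ((primeOf_le_iff hV x z hx hz).mp hle).mem_open U.2 hzU

end

end Groth.Agent.Wt.RelAssRing
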