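import Groth.Agent.Wt.RelAssRing
import Groth.Agent.AssSch.Basic
import Groth.Agent.CohDev.Coh
import Groth.Prelude.Def_MoreMor

/-!
# Relative associated points: charts, and the behaviour near the generic fibre
-/

set_option autoImplicit false

universe u

namespace Groth.Agent.Wt.RelAssRing

/-- Membership of the image in `P M_q`. -/
theorem map_mem_iff {A L : Type u} [CommRing A] [CommRing L] [Algebra A L] (q : Ideal A) [q.IsPrime]
    [IsLocalization.AtPrime L q] {M N : Type u} [AddCommGroup M] [Module A M] [AddCommGroup N]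
    [Module A N] [Module L N] [IsScalarTower A L N] (φ : M →ₗ[A] N)
    [IsLocalizedModule q.primeCompl φ] (P : Ideal A) (m : M) :
    φ m ∈ P.map (algebraMap A L) • (⊤ : Submodule L N) ↔
      ∃ u ∉ q, u • m ∈ P • (⊤ : Submodule A M) := by
  constructor
  · intro h
    have key : ∀ w ∈ P.map (algebraMap A L) • (⊤ : Submodule L N),
        ∃ n ∈ P • (⊤ : Submodule A M), ∃ u ∉ q, u • w = φ n := by
      intro w hw
      refine Submodule.smul_induction_on hw (fun r hr v _ => ?_) ?_
      · obtain ⟨⟨⟨a, ha⟩, ⟨s, hs⟩⟩, he⟩ := (IsLocalization.mem_map_algebraMap_iff q.primeCompl L).mp hr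
        obtain ⟨⟨m', t⟩, ht⟩ := IsLocalizedModule.surj q.primeCompl φ v
        refine ⟨a • m', Submodule.smul_mem_smul ha trivial, s * t, q.primeCompl.mul_mem hs t.2, ?_⟩
        rw [map_smul, ← show t • v = φ m' from ht, Submonoid.smul_def, ← algebraMap_smul L a,
          ← show r * algebraMap A L s = algebraMap A L a from he, mul_smul r, mul_smul,
          algebraMap_smul, smul_comm r s, smul_comm r (t : A)]
      · rintro v₁ v₂ ⟨n₁, hn₁, u₁, hu₁, h₁⟩ ⟨n₂, hn₂, u₂, hu₂, h₂⟩
        refine ⟨u₂ • n₁ + u₁ • n₂, add_mem (Submodule.smul_mem _ _ hn₁) (Submodule.smul_mem _ _ hn₂),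
          u₁ * u₂, q.primeCompl.mul_mem hu₁ hu₂, ?_⟩
        rw [map_add, map_smul, map_smul, ← h₁, ← h₂, smul_add, mul_smul, mul_smul, smul_comm u₂ u₁ v₁]
    obtain ⟨n, hn, u, hu, he⟩ := key _ h
    rw [← map_smul] at he
    obtain ⟨⟨c, hc⟩, he'⟩ := IsLocalizedModule.exists_of_eq (S := q.primeCompl) he
    refine ⟨c * u, q.primeCompl.mul_mem hc hu, ?_⟩
    rw [Submonoid.smul_def, Submonoid.smul_def] at he'
    rw [mul_smul, he']
    exact Submodule.smul_mem _ _ hn
  · rintro ⟨u, hu, h⟩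
    have h1 : φ (u • m) ∈ P.map (algebraMap A L) • (⊤ : Submodule L N) := by
      refine Submodule.smul_induction_on h (fun a ha v _ => ?_) (fun a b ha hb => ?_)
      · rw [map_smul, ← algebraMap_smul L a]
        exact Submodule.smul_mem_smul (Ideal.mem_map_of_mem _ ha) trivial
      · rw [map_add]
        exact add_mem ha hb
    rw [map_smul, ← algebraMap_smul L u] at h1
    exact (Submodule.smul_mem_iff_of_isUnit _ (IsLocalization.map_units L (M := q.primeCompl) ⟨u, hu⟩)).mp h1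

/-- The maximal ideal is associated to `M_q / P M_q` iff `q` is minimal over some `(PM : m)`. -/
theorem isAssociatedPrime_localized_iff {A L : Type u} [CommRing A] [CommRing L] [IsLocalRing L]
    [Algebra A L] (q : Ideal A) [q.IsPrime] [IsLocalization.AtPrime L q] {M N : Type u}
    [AddCommGroup M] [Module A M] [AddCommGroup N] [Module A N] [Module L N] [IsScalarTower A L N]
    (φ : M →ₗ[A] N) [IsLocalizedModule q.primeCompl φ] (P : Ideal A) :
    IsAssociatedPrime (IsLocalRing.maximalIdeal L)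
        (N ⧸ P.map (algebraMap A L) • (⊤ : Submodule L N)) ↔
      ∃ m : M, q ∈ ((P • (⊤ : Submodule A M)).colon {m}).minimalPrimes := by
  have hcolon : ∀ (m : M), (⊥ : Submodule L (N ⧸ P.map (algebraMap A L) • (⊤ : Submodule L N))).colon
      {Submodule.Quotient.mk (φ m)} =
      ((P • (⊤ : Submodule A M)).colon {m}).map (algebraMap A L) := by
    intro m
    ext r
    rw [Submodule.mem_colon_singleton, Submodule.mem_bot, ← Submodule.Quotient.mk_smul,
      Submodule.Quotient.mk_eq_zero]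
    obtain ⟨a, ⟨t, ht⟩, rfl⟩ := IsLocalization.exists_mk'_eq q.primeCompl r
    rw [IsLocalization.mk'_mem_map_algebraMap_iff q.primeCompl,
      ← Submodule.smul_mem_iff_of_isUnit _ (IsLocalization.map_units L (M := q.primeCompl) ⟨t, ht⟩),
      smul_smul, IsLocalization.mk'_spec', algebraMap_smul, ← map_smul, map_mem_iff q φ P]
    simp only [Submodule.mem_colon_singleton, mul_smul]
    rfl
  have hmin : ∀ J : Ideal A, (J.map (algebraMap A L)).radical = IsLocalRing.maximalIdeal L ↔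
      q ∈ J.minimalPrimes := by
    intro J
    refine ⟨fun h => ⟨⟨‹_›, fun a ha => ?_⟩, fun I hI hle => ?_⟩, fun h =>
      (IsLocalization.AtPrime.radical_map_of_mem_minimalPrimes L q J h).trans
        (IsLocalization.AtPrime.map_eq_maximalIdeal q L)⟩
    · rw [← IsLocalization.AtPrime.under_maximalIdeal L q, ← h]
      exact Ideal.le_radical (Ideal.mem_map_of_mem _ ha)
    · have hd : Disjoint (q.primeCompl : Set A) I :=
        Set.disjoint_left.mpr fun a ha haI => ha (hle haI)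
      have hp := IsLocalization.isPrime_of_isPrime_disjoint q.primeCompl L I hI.1 hd
      have hle' : IsLocalRing.maximalIdeal L ≤ I.map (algebraMap A L) :=
        h ▸ (hp.radical_le_iff.mpr (Ideal.map_mono hI.2))
      rw [← IsLocalization.AtPrime.under_maximalIdeal L q,
        ← IsLocalization.under_map_of_isPrime_disjoint q.primeCompl L hI.1 hd]
      exact Ideal.comap_mono hle'
  constructor
  · rintro ⟨-, x, hx⟩
    obtain ⟨w, rfl⟩ := Submodule.Quotient.mk_surjective _ x
    obtain ⟨⟨m, ⟨t, ht⟩⟩, hw⟩ := IsLocalizedModule.surj q.primeCompl φ w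
    refine ⟨m, (hmin _).mp ?_⟩
    rw [← hcolon, hx]
    congr 1
    ext r
    simp only [Submodule.mem_colon_singleton, Submodule.mem_bot, ← Submodule.Quotient.mk_smul,
      Submodule.Quotient.mk_eq_zero]
    rw [← show t • w = φ m from hw, ← algebraMap_smul L t, smul_comm]
    exact Submodule.smul_mem_iff_of_isUnit _ (IsLocalization.map_units L (M := q.primeCompl) ⟨t, ht⟩)
  · rintro ⟨m, hm⟩
    exact ⟨(IsLocalRing.maximalIdeal.isMaximal L).isPrime, Submodule.Quotient.mk (φ m),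
      by rw [hcolon]; exact ((hmin _).mpr hm).symm⟩

variable {R A : Type u} [CommRing R] [CommRing A] [Algebra R A] [Algebra.FiniteType R A]
  {M : Type u} [AddCommGroup M] [Module R M] [Module A M] [IsScalarTower R A M] [Module.Finite A M]

omit [Algebra.FiniteType R A] [Module.Finite A M] in
theorem map_smul_top_mem_iff (S : Type u) [CommRing S] [Algebra R S] {N : Type u} [AddCommGroup N]
    [Module R N] [Module S N] [IsScalarTower R S N] (π : M →ₗ[R] N) (hπ : Function.Surjective π)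
    (p : Ideal R) (m : M) :
    π m ∈ p.map (algebraMap R S) • (⊤ : Submodule S N) ↔
      ∃ y ∈ p • (⊤ : Submodule R M), π y = π m := by
  have h1 : (p.map (algebraMap R S) • (⊤ : Submodule S N)).restrictScalars R =
      (p • (⊤ : Submodule R M)).map π := by
    rw [Ideal.smul_restrictScalars, Submodule.restrictScalars_top, Submodule.map_smul'',
      Submodule.map_top, LinearMap.range_eq_top.mpr hπ]
  rw [← Submodule.restrictScalars_mem R, h1]
  exact Submodule.mem_map

omit [Algebra.FiniteType R A] [Module.Finite A M] in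
theorem mk_mem_iff (S B : Type u) [CommRing S] [Algebra R S] [CommRing B] [Algebra S B]
    {N : Type u} [AddCommGroup N] [Module R N] [Module S N] [Module B N] [IsScalarTower R S N]
    [IsScalarTower S B N] (π : M →ₗ[R] N) (hπ : Function.Surjective π) (p : Ideal R)
    (hker : ∀ y, π y = 0 → y ∈ pM A M p) (m : M) :
    π m ∈ pM B N (p.map (algebraMap R S)) ↔ m ∈ pM A M p := by
  refine (mem_pM_iff (A := B) (M := N) (p := p.map (algebraMap R S))).trans
    ((map_smul_top_mem_iff S π hπ p m).trans ?_)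
  refine ⟨?_, fun h => ⟨m, (mem_pM_iff (A := A) (M := M) (p := p)).mp h, rfl⟩⟩
  rintro ⟨y, hy, he⟩
  have h4 : y - m ∈ pM A M p := hker _ (by rw [map_sub, he, sub_self])
  have h5 : y ∈ pM A M p := (mem_pM_iff (A := A) (M := M) (p := p)).mpr hy
  have h6 := sub_mem h5 h4
  rwa [sub_sub_cancel] at h6

section Reduction

variable (p₀ : Ideal R)

local notation "P₀" => Ideal.map (algebraMap R A) p₀
local notation "M₀" => M ⧸ P₀ • (⊤ : Submodule A M)

/-- Injectivity of a finite family near the generic fibre. -/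
theorem regAt_generic [p₀.IsPrime] (hp₀ : ∀ p : Ideal R, p.IsPrime → p₀ ≤ p) {r : ℕ}
    (g : Fin r → A)
    (h : ∀ m : M, (∀ i, g i • m ∈ pM A M p₀) → ∃ s : R, s ∉ p₀ ∧ s • m ∈ pM A M p₀) :
    ∃ f : R, f ∉ p₀ ∧ ∀ p : Ideal R, p.IsPrime → f ∉ p → ∀ m : M,
      (∀ i, g i • m ∈ pM A M p) → ∃ s : R, s ∉ p ∧ s • m ∈ pM A M p := by
  let : Module (R ⧸ p₀) M₀ := Module.compHom M₀ (algebraMap (R ⧸ p₀) (A ⧸ P₀))
  have : IsScalarTower (R ⧸ p₀) (A ⧸ P₀) M₀ := IsScalarTower.of_algebraMap_smul fun _ _ => rfl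
  have : IsScalarTower R (R ⧸ p₀) M₀ := IsScalarTower.of_algebraMap_smul fun s x => by
    show algebraMap (R ⧸ p₀) (A ⧸ P₀) (algebraMap R (R ⧸ p₀) s) • x = s • x
    rw [← IsScalarTower.algebraMap_apply, IsScalarTower.algebraMap_apply R A (A ⧸ P₀),
      algebraMap_smul, algebraMap_smul]
  have : Algebra.FiniteType R (A ⧸ P₀) := .of_surjective (Ideal.Quotient.mkₐ R P₀)
    Ideal.Quotient.mk_surjective
  have : Algebra.FiniteType (R ⧸ p₀) (A ⧸ P₀) := .of_restrictScalars_finiteType R _ _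
  have : Module.Finite (A ⧸ P₀) M₀ := .of_restrictScalars_finite A _ _
  have key : ∀ p : Ideal R, p.IsPrime → ∀ x : M,
      (Submodule.Quotient.mk x : M₀) ∈ pM (A ⧸ P₀) M₀ (p.map (Ideal.Quotient.mk p₀)) ↔
        x ∈ pM A M p := by
    intro p hp x
    have h1 := mk_mem_iff (A := A) (R ⧸ p₀) (A ⧸ P₀)
      ((P₀ • (⊤ : Submodule A M)).mkQ.restrictScalars R)
      (by rw [LinearMap.coe_restrictScalars]; exact Submodule.Quotient.mk_surjective _) p
      (fun y hy => by
        rw [LinearMap.restrictScalars_apply, Submodule.mkQ_apply,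
          Submodule.Quotient.mk_eq_zero] at hy
        exact Submodule.smul_mono (Ideal.map_mono (hp₀ p hp)) le_rfl hy) x
    rw [Ideal.Quotient.algebraMap_eq, LinearMap.restrictScalars_apply, Submodule.mkQ_apply] at h1
    exact h1
  obtain ⟨f, hf, hf'⟩ := regAt_generic_domain (R := R ⧸ p₀) (M := M₀)
    (fun i => Ideal.Quotient.mk P₀ (g i)) (by
      intro x hx
      obtain ⟨m, rfl⟩ := Submodule.Quotient.mk_surjective _ x
      obtain ⟨s, hs, hsm⟩ := h m fun i => (Submodule.Quotient.mk_eq_zero _).mp (hx i)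
      refine ⟨Ideal.Quotient.mk p₀ s, fun h0 => hs (Ideal.Quotient.eq_zero_iff_mem.mp h0), ?_⟩
      rw [← Ideal.Quotient.algebraMap_eq, algebraMap_smul, ← Submodule.Quotient.mk_smul,
        Submodule.Quotient.mk_eq_zero]
      exact hsm)
  obtain ⟨f, rfl⟩ := Ideal.Quotient.mk_surjective f
  refine ⟨f, fun h0 => hf (Ideal.Quotient.eq_zero_iff_mem.mpr h0), fun p hp hfp m hm => ?_⟩
  have hker : RingHom.ker (Ideal.Quotient.mk p₀) ≤ p := by rw [Ideal.mk_ker]; exact hp₀ p hp
  have hmem : ∀ s : R, Ideal.Quotient.mk p₀ s ∈ p.map (Ideal.Quotient.mk p₀) ↔ s ∈ p := fun s =>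
    Ideal.mem_quotient_iff_mem (hp₀ p hp) (x := s)
  obtain ⟨s, hs, hsm⟩ := hf' (p.map (Ideal.Quotient.mk p₀))
    (Ideal.map_isPrime_of_surjective Ideal.Quotient.mk_surjective hker) (by rwa [hmem])
    (Submodule.Quotient.mk m) (fun i => by
      have := (key p hp (g i • m)).mpr (hm i)
      exact this)
  obtain ⟨s, rfl⟩ := Ideal.Quotient.mk_surjective s
  refine ⟨s, by rwa [hmem] at hs, (key p hp (s • m)).mp ?_⟩
  rwa [← Ideal.Quotient.algebraMap_eq p₀, algebraMap_smul, ← Submodule.Quotient.mk_smul] at hsm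

/-- An embedded point of a fibre spreads to the fibres over nearby specializations: all minimal primes
of `q + pA` over `p` are fibrewise associated. -/
theorem forall_fibre_prime [p₀.IsPrime]
    (q : Ideal A) [q.IsPrime] (hq0 : q.comap (algebraMap R A) = p₀) (m : M)
    (hq : q ∈ ((pM A M p₀).colon {m}).minimalPrimes) :
    ∃ f : R, f ∉ p₀ ∧ ∀ p : Ideal R, p.IsPrime → p₀ ≤ p → f ∉ p →
      (∃ q' ∈ (q ⊔ p.map (algebraMap R A)).minimalPrimes, q'.comap (algebraMap R A) = p) ∧
      ∀ q' ∈ (q ⊔ p.map (algebraMap R A)).minimalPrimes, q'.comap (algebraMap R A) = p →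
        ∃ m' : M, q' ∈ ((pM A M p).colon {m'}).minimalPrimes := by
  let : Module (R ⧸ p₀) M₀ := Module.compHom M₀ (algebraMap (R ⧸ p₀) (A ⧸ P₀))
  have : IsScalarTower (R ⧸ p₀) (A ⧸ P₀) M₀ := IsScalarTower.of_algebraMap_smul fun _ _ => rfl
  have : IsScalarTower R (R ⧸ p₀) M₀ := IsScalarTower.of_algebraMap_smul fun s x => by
    show algebraMap (R ⧸ p₀) (A ⧸ P₀) (algebraMap R (R ⧸ p₀) s) • x = s • x
    rw [← IsScalarTower.algebraMap_apply, IsScalarTower.algebraMap_apply R A (A ⧸ P₀),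
      algebraMap_smul, algebraMap_smul]
  have : Algebra.FiniteType R (A ⧸ P₀) := .of_surjective (Ideal.Quotient.mkₐ R P₀)
    Ideal.Quotient.mk_surjective
  have : Algebra.FiniteType (R ⧸ p₀) (A ⧸ P₀) := .of_restrictScalars_finiteType R _ _
  have : Module.Finite (A ⧸ P₀) M₀ := .of_restrictScalars_finite A _ _
  have key : ∀ p : Ideal R, p.IsPrime → p₀ ≤ p → ∀ x : M,
      (Submodule.Quotient.mk x : M₀) ∈ pM (A ⧸ P₀) M₀ (p.map (Ideal.Quotient.mk p₀)) ↔
        x ∈ pM A M p := by
    intro p hp hle x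
    have h1 := mk_mem_iff (A := A) (R ⧸ p₀) (A ⧸ P₀)
      ((P₀ • (⊤ : Submodule A M)).mkQ.restrictScalars R)
      (by rw [LinearMap.coe_restrictScalars]; exact Submodule.Quotient.mk_surjective _) p
      (fun y hy => by
        rw [LinearMap.restrictScalars_apply, Submodule.mkQ_apply,
          Submodule.Quotient.mk_eq_zero] at hy
        exact Submodule.smul_mono (Ideal.map_mono hle) le_rfl hy) x
    rw [Ideal.Quotient.algebraMap_eq, LinearMap.restrictScalars_apply, Submodule.mkQ_apply] at h1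
    exact h1
  have hPq : P₀ ≤ q := Ideal.map_le_iff_le_comap.mpr hq0.ge
  have hqprime : (q.map (Ideal.Quotient.mk P₀)).IsPrime :=
    Ideal.map_isPrime_of_surjective Ideal.Quotient.mk_surjective (by rwa [Ideal.mk_ker])
  have hcomap : ∀ (I : Ideal A), P₀ ≤ I →
      (I.map (Ideal.Quotient.mk P₀)).comap (Ideal.Quotient.mk P₀) = I := fun I hI =>
    Ideal.comap_map_mk hI
  obtain ⟨f, hf, hf'⟩ := forall_fibre_prime_domain (R := R ⧸ p₀) (q.map (Ideal.Quotient.mk P₀))
    (by
      rw [← le_bot_iff]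
      intro x hx
      obtain ⟨s, rfl⟩ := Ideal.Quotient.mk_surjective x
      rw [Ideal.mem_bot, Ideal.Quotient.eq_zero_iff_mem, ← hq0, Ideal.mem_comap, ← hcomap q hPq]
      exact hx)
    (Submodule.Quotient.mk m : M₀) (by
      have hcol : ((⊥ : Submodule (A ⧸ P₀) M₀).colon {Submodule.Quotient.mk m}).comap
          (Ideal.Quotient.mk P₀) = (pM A M p₀).colon {m} := by
        ext a
        rw [Ideal.mem_comap, Submodule.mem_colon_singleton, Submodule.mem_colon_singleton,
          Submodule.mem_bot, ← Ideal.Quotient.algebraMap_eq, algebraMap_smul,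
          ← Submodule.Quotient.mk_smul, Submodule.Quotient.mk_eq_zero]
      have := hq
      rw [← hcol, Ideal.comap_minimalPrimes_eq_of_surjective Ideal.Quotient.mk_surjective] at this
      obtain ⟨q₁, hq₁, he⟩ := this
      rwa [show q.map (Ideal.Quotient.mk P₀) = q₁ from he ▸
        Ideal.map_comap_of_surjective _ Ideal.Quotient.mk_surjective q₁])
  obtain ⟨f, rfl⟩ := Ideal.Quotient.mk_surjective f
  refine ⟨f, fun h0 => hf (Ideal.Quotient.eq_zero_iff_mem.mpr h0), fun p hp hp₀p hfp => ?_⟩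
  have hker : RingHom.ker (Ideal.Quotient.mk p₀) ≤ p := by rw [Ideal.mk_ker]; exact hp₀p
  have hmem : ∀ s : R, Ideal.Quotient.mk p₀ s ∈ p.map (Ideal.Quotient.mk p₀) ↔ s ∈ p := fun s =>
    Ideal.mem_quotient_iff_mem hp₀p (x := s)
  obtain ⟨hex, hall⟩ := hf' (p.map (Ideal.Quotient.mk p₀))
    (Ideal.map_isPrime_of_surjective Ideal.Quotient.mk_surjective hker) (by rwa [hmem])
  have hsum : (q.map (Ideal.Quotient.mk P₀) ⊔ (p.map (Ideal.Quotient.mk p₀)).map
      (algebraMap (R ⧸ p₀) (A ⧸ P₀))).comap (Ideal.Quotient.mk P₀) = q ⊔ p.map (algebraMap R A) := by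
    have h1 : (p.map (Ideal.Quotient.mk p₀)).map (algebraMap (R ⧸ p₀) (A ⧸ P₀)) =
        (p.map (algebraMap R A)).map (Ideal.Quotient.mk P₀) := by
      rw [Ideal.map_map, Ideal.map_map]
      congr 1
    rw [h1, ← Ideal.map_sup]
    exact hcomap _ (hPq.trans le_sup_left)
  have hmin : ∀ q', q' ∈ (q ⊔ p.map (algebraMap R A)).minimalPrimes ↔ ∃ q₁ ∈ (q.map (Ideal.Quotient.mk P₀) ⊔
      (p.map (Ideal.Quotient.mk p₀)).map (algebraMap (R ⧸ p₀) (A ⧸ P₀))).minimalPrimes,
      q₁.comap (Ideal.Quotient.mk P₀) = q' := by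
    intro q'
    rw [← hsum, Ideal.comap_minimalPrimes_eq_of_surjective Ideal.Quotient.mk_surjective]
    exact Iff.rfl
  have hc' : ∀ q₁ : Ideal (A ⧸ P₀), (q₁.comap (Ideal.Quotient.mk P₀)).comap (algebraMap R A) = p →
      q₁.comap (algebraMap (R ⧸ p₀) (A ⧸ P₀)) = p.map (Ideal.Quotient.mk p₀) := by
    intro q₁ h
    rw [← Ideal.map_comap_of_surjective _ Ideal.Quotient.mk_surjective
      (q₁.comap (algebraMap (R ⧸ p₀) (A ⧸ P₀)))]
    rw [← h]
    rfl
  refine ⟨?_, fun q' hq' hc => ?_⟩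
  · obtain ⟨q₁, hq₁, hc⟩ := hex
    refine ⟨q₁.comap (Ideal.Quotient.mk P₀), (hmin _).mpr ⟨q₁, hq₁, rfl⟩, ?_⟩
    ext s
    rw [Ideal.mem_comap, Ideal.mem_comap, ← hmem, ← hc]
    exact Iff.rfl
  · obtain ⟨q₁, hq₁, rfl⟩ := (hmin q').mp hq'
    obtain ⟨m', hm'⟩ := hall q₁ hq₁ (hc' q₁ hc)
    obtain ⟨m', rfl⟩ := Submodule.Quotient.mk_surjective _ m'
    refine ⟨m', ?_⟩
    have hcol : ((pM (A ⧸ P₀) M₀ (p.map (Ideal.Quotient.mk p₀))).colon
        {Submodule.Quotient.mk m'}).comap (Ideal.Quotient.mk P₀) = (pM A M p).colon {m'} := by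
      ext a
      rw [Ideal.mem_comap, Submodule.mem_colon_singleton, Submodule.mem_colon_singleton,
        show Ideal.Quotient.mk P₀ a • (Submodule.Quotient.mk m' : M₀) = Submodule.Quotient.mk (a • m')
          from rfl]
      exact key p hp hp₀p (a • m')
    rw [← hcol, Ideal.comap_minimalPrimes_eq_of_surjective Ideal.Quotient.mk_surjective]
    exact ⟨q₁, hm', rfl⟩

/-- An embedded point of the generic fibre spreads to nearby fibres. -/
theorem exists_fibre_prime [p₀.IsPrime] (hp₀ : ∀ p : Ideal R, p.IsPrime → p₀ ≤ p)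
    (q : Ideal A) [q.IsPrime] (hq0 : q.comap (algebraMap R A) = p₀) (m : M)
    (hq : q ∈ ((pM A M p₀).colon {m}).minimalPrimes) :
    ∃ f : R, f ∉ p₀ ∧ ∀ p : Ideal R, p.IsPrime → f ∉ p → ∃ q' : Ideal A, q'.IsPrime ∧ q ≤ q' ∧
      q'.comap (algebraMap R A) = p ∧
      ∃ m' : M, q' ∈ ((pM A M p).colon {m'}).minimalPrimes := by
  obtain ⟨f, hf, h⟩ := forall_fibre_prime p₀ q hq0 m hq
  refine ⟨f, hf, fun p hp hfp => ?_⟩
  obtain ⟨⟨q', hq', hc⟩, hall⟩ := h p hp (hp₀ p hp) hfp
  exact ⟨q', hq'.isPrime, le_sup_left.trans hq'.le, hc, hall q' hq' hc⟩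

end Reduction

end Groth.Agent.Wt.RelAssRing
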