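import Groth.Agent.FlatMisc.GenericFreeLoc
import Mathlib.RingTheory.Ideal.Colon
import Mathlib.RingTheory.Ideal.MinimalPrime.Localization
import Mathlib.RingTheory.Ideal.AssociatedPrime.Basic

/-!
# Relative associated primes near the generic fibre
-/

set_option autoImplicit false

universe u

namespace Groth.Agent.Wt.RelAssRing

open FlatMisc.GenericFree

variable {R A : Type u} [CommRing R] [CommRing A] [Algebra R A]
  {M : Type u} [AddCommGroup M] [Module R M] [Module A M] [IsScalarTower R A M]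

/-- The submodule `pM` as an `A`-submodule. -/
abbrev pM (A : Type u) [CommRing A] [Algebra R A] (M : Type u) [AddCommGroup M] [Module A M]
    (p : Ideal R) : Submodule A M :=
  p.map (algebraMap R A) • ⊤

theorem pM_restrictScalars (p : Ideal R) :
    (pM A M p).restrictScalars R = p • (⊤ : Submodule R M) := by
  rw [pM, Ideal.smul_restrictScalars, Submodule.restrictScalars_top]

theorem mem_pM_iff {p : Ideal R} {m : M} : m ∈ pM A M p ↔ m ∈ p • (⊤ : Submodule R M) := by
  rw [← pM_restrictScalars (A := A)]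
  rfl

/-- Elements of `pN` in the image of `T` come, up to a power of `f`, from `pM`. -/
theorem exists_pow_smul_mem [IsReduced R] {N : Type u} [AddCommGroup N] [Module R N]
    (T : M →ₗ[R] N) {f : R} (hC : FreeAt f (N ⧸ LinearMap.range T))
    (hker : ∀ m, T m = 0 → ∃ k : ℕ, f ^ k • m = 0) (p : Ideal R) {m : M}
    (hm : T m ∈ p • (⊤ : Submodule R N)) : ∃ k : ℕ, f ^ k • m ∈ p • (⊤ : Submodule R M) := by
  obtain ⟨ι, b, hb, hs⟩ := hC
  choose w hw using fun i => Submodule.Quotient.mk_surjective _ (b i)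
  -- up to a power of `f`, elements of `pN` are combinations of lifts plus elements of `T(pM)`
  have key : ∀ y ∈ p • (⊤ : Submodule R N), ∃ (k : ℕ) (c : ι →₀ R) (z : M),
      z ∈ p • (⊤ : Submodule R M) ∧ f ^ k • y = Finsupp.linearCombination R w c + T z := by
    intro y hy
    refine Submodule.smul_induction_on hy (fun a ha v _ => ?_) ?_
    · obtain ⟨k, hk⟩ := hs (Submodule.Quotient.mk v)
      obtain ⟨c, hc⟩ := Finsupp.mem_span_range_iff_exists_finsupp.mp hk
      have h0 : f ^ k • v - Finsupp.linearCombination R w c ∈ LinearMap.range T := by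
        rw [← Submodule.Quotient.mk_eq_zero, ← Submodule.mkQ_apply, map_sub, map_smul,
          Finsupp.apply_linearCombination, sub_eq_zero]
        rw [show (LinearMap.range T).mkQ ∘ w = b from funext hw, Finsupp.linearCombination_apply, hc]
        rfl
      obtain ⟨z, hz⟩ := h0
      refine ⟨k, a • c, a • z, Submodule.smul_mem_smul ha trivial, ?_⟩
      rw [map_smul, map_smul, ← smul_add, hz, add_sub_cancel, smul_comm]
    · rintro y₁ y₂ ⟨k₁, c₁, z₁, hz₁, h₁⟩ ⟨k₂, c₂, z₂, hz₂, h₂⟩
      refine ⟨k₁ + k₂, f ^ k₂ • c₁ + f ^ k₁ • c₂, f ^ k₂ • z₁ + f ^ k₁ • z₂,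
        add_mem (Submodule.smul_mem _ _ hz₁) (Submodule.smul_mem _ _ hz₂), ?_⟩
      simp only [map_add, map_smul, smul_add, pow_add, mul_smul, h₂]
      rw [smul_comm (f ^ k₁) (f ^ k₂) y₁, h₁, smul_add]
      abel
  obtain ⟨k, c, z, hz, he⟩ := key _ hm
  have hc : f • c = 0 := hb c (by
    rw [← show (LinearMap.range T).mkQ ∘ w = b from funext hw, ← Finsupp.apply_linearCombination,
      Submodule.mkQ_apply, Submodule.Quotient.mk_eq_zero]
    exact ⟨f ^ k • m - z, by rw [map_sub, map_smul, he, add_sub_cancel_right]⟩)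
  have hT : T (f ^ (k + 1) • m - f • z) = 0 := by
    rw [map_sub, map_smul, map_smul, pow_succ', mul_smul, he, smul_add, ← map_smul, hc, map_zero,
      zero_add, sub_self]
  obtain ⟨l, hl⟩ := hker _ hT
  refine ⟨l + (k + 1), ?_⟩
  rw [pow_add, mul_smul, show f ^ (k + 1) • m = (f ^ (k + 1) • m - f • z) + f • z from
    (sub_add_cancel _ _).symm, smul_add, hl, zero_add]
  exact Submodule.smul_mem _ _ (Submodule.smul_mem _ _ hz)

/-- A finitely generated family of torsion elements is killed by one nonzero element. -/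
theorem exists_uniform_torsion [IsDomain R] {T : Type u} [CommRing T] [Algebra R T]
    [Algebra.FiniteType R T] {N : Type u} [AddCommGroup N] [Module T N] [Module R N]
    [IsScalarTower R T N] [Module.Finite T N] (K : Submodule T N)
    (hK : ∀ x ∈ K, ∃ s : R, s ≠ 0 ∧ s • x = 0) {a : R} (ha : a ≠ 0) :
    ∃ f : R, a ∣ f ∧ f ≠ 0 ∧ ∀ x ∈ K, ∃ k : ℕ, f ^ k • x = 0 := by
  classical
  obtain ⟨f, haf, hf, G, hGf, hGK, hG⟩ := genFG (R := R) T N K a ha
  choose! s hs0 hs using hK
  let t := ∏ g ∈ hGf.toFinset, s g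
  have ht : t ≠ 0 := Finset.prod_ne_zero_iff.mpr fun g hg => hs0 g (hGK (hGf.mem_toFinset.mp hg))
  refine ⟨f * t, haf.trans (dvd_mul_right _ _), mul_ne_zero hf ht, fun x hx => ?_⟩
  obtain ⟨k, hk⟩ := hG x hx
  have hkill : ∀ y ∈ Submodule.span T G, t • y = 0 := by
    intro y hy
    induction hy using Submodule.span_induction with
    | mem g hg =>
      obtain ⟨c, hc⟩ : s g ∣ t := Finset.dvd_prod_of_mem s (hGf.mem_toFinset.mpr hg)
      rw [hc, mul_comm, mul_smul, hs g (hGK hg), smul_zero]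
    | zero => exact smul_zero _
    | add _ _ _ _ h₁ h₂ => rw [smul_add, h₁, h₂, add_zero]
    | smul c y _ h => rw [smul_comm, h, smul_zero]
  exact ⟨k + 1, by
    rw [mul_pow, mul_comm, mul_smul, pow_succ' f, mul_smul, pow_succ, mul_smul,
      smul_comm t f, hkill _ hk, smul_zero, smul_zero]⟩

variable [Algebra.FiniteType R A] [Module.Finite A M]

/-- If multiplication by a finite family is injective on the generic fibre of a finite module, it is
injective on nearby fibres. -/
theorem regAt_generic_domain [IsDomain R] {r : ℕ} (g : Fin r → A)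
    (h : ∀ m : M, (∀ i, g i • m = 0) → ∃ s : R, s ≠ 0 ∧ s • m = 0) :
    ∃ f : R, f ≠ 0 ∧ ∀ p : Ideal R, p.IsPrime → f ∉ p → ∀ m : M,
      (∀ i, g i • m ∈ pM A M p) → ∃ s : R, s ∉ p ∧ s • m ∈ pM A M p := by
  classical
  let T : M →ₗ[A] (Fin r → M) := LinearMap.pi fun i => LinearMap.lsmul A M (g i)
  obtain ⟨f₁, -, hf₁, hker⟩ := exists_uniform_torsion (R := R) (LinearMap.ker T) (fun m hm =>
    h m fun i => congrFun (show T m = 0 from hm) i) one_ne_zero
  obtain ⟨f, hff, hf, hfree⟩ := genFree (R := R) A ((Fin r → M) ⧸ LinearMap.range T) f₁ hf₁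
  refine ⟨f, hf, fun p hp hfp m hm => ?_⟩
  let e := Submodule.Quotient.restrictScalarsEquiv R (LinearMap.range T)
  have hC : FreeAt f ((Fin r → M) ⧸ LinearMap.range (T.restrictScalars R)) := by
    rw [LinearMap.range_restrictScalars]
    exact hfree.of_surjective e.symm.toLinearMap e.symm.surjective
      fun y hy => ⟨0, by rw [pow_zero, one_smul]; exact (LinearEquiv.map_eq_zero_iff _).mp hy⟩
  have hk' : ∀ x, T.restrictScalars R x = 0 → ∃ k : ℕ, f ^ k • x = 0 := by
    intro x hx
    obtain ⟨k, hk⟩ := hker x hx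
    obtain ⟨c, hc⟩ := hff
    exact ⟨k, by rw [hc, mul_pow, mul_comm, mul_smul, hk, smul_zero]⟩
  have hTm : T.restrictScalars R m ∈ p • (⊤ : Submodule R (Fin r → M)) := by
    have : T m = ∑ i, Pi.single i (g i • m) := (Finset.univ_sum_single _).symm
    show T m ∈ _
    rw [this]
    refine sum_mem fun i _ => ?_
    have h1 : LinearMap.single R (fun _ => M) i (g i • m) ∈
        (p • (⊤ : Submodule R M)).map (LinearMap.single R (fun _ => M) i) :=
      Submodule.mem_map_of_mem (mem_pM_iff.mp (hm i))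
    rw [Submodule.map_smul''] at h1
    exact Submodule.smul_mono le_rfl le_top h1
  obtain ⟨k, hk⟩ := exists_pow_smul_mem (T.restrictScalars R) hC hk' p hTm
  exact ⟨f ^ k, fun hmem => hfp (hp.mem_of_pow_mem k hmem), mem_pM_iff.mpr hk⟩

/-- An ideal with a large radical near `q`: a multiplier pushing `J` to `q`. -/
theorem exists_multiplier (J I : Ideal A) (q : Ideal A) [q.IsPrime] (hq : q ∈ J.minimalPrimes)
    (hI : I.FG) (hIq : I ≤ q) :
    ∃ b : A, (∀ i ∈ I, i * b ∈ J) ∧ ∀ u ∉ q, u * b ∉ J := by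
  classical
  have hex : ∃ n : ℕ, ∃ u ∉ q, ∀ b ∈ I ^ n, u * b ∈ J := by
    let L := Localization.AtPrime q
    have hmin : (J.map (algebraMap A L)).radical = IsLocalRing.maximalIdeal L :=
      (IsLocalization.AtPrime.radical_map_of_mem_minimalPrimes L q J hq).trans
        Localization.AtPrime.map_eq_maximalIdeal
    have hle : I.map (algebraMap A L) ≤ (J.map (algebraMap A L)).radical := by
      rw [hmin, ← Localization.AtPrime.map_eq_maximalIdeal]
      exact Ideal.map_mono hIq
    obtain ⟨n, hn⟩ := Ideal.exists_pow_le_of_le_radical_of_fg hle (hI.map _)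
    obtain ⟨G, hG⟩ := Submodule.FG.pow hI n
    have : ∀ b ∈ G, ∃ u ∉ q, u * b ∈ J := by
      intro b hb
      have hb' : b ∈ I ^ n := hG ▸ Submodule.subset_span hb
      have := hn (Ideal.map_pow (algebraMap A L) I n ▸ Ideal.mem_map_of_mem _ hb')
      rw [IsLocalization.algebraMap_mem_map_algebraMap_iff q.primeCompl] at this
      obtain ⟨u, hu, huJ⟩ := this
      exact ⟨u, hu, huJ⟩
    choose! u hu hu' using this
    refine ⟨n, ∏ b ∈ G, u b, q.primeCompl.prod_mem fun b hb => hu b hb, fun b hb => ?_⟩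
    rw [← hG] at hb
    induction hb using Submodule.span_induction with
    | mem b hb =>
      rw [← Finset.prod_erase_mul G u hb, mul_assoc]
      exact J.mul_mem_left _ (hu' b hb)
    | zero => simp
    | add _ _ _ _ h₁ h₂ => rw [mul_add]; exact add_mem h₁ h₂
    | smul c y _ h => rw [smul_eq_mul, mul_left_comm]; exact J.mul_mem_left _ h
  obtain ⟨u₀, hu₀, hspec⟩ := Nat.find_spec hex
  rcases Nat.eq_zero_or_pos (Nat.find hex) with h0 | h0
  · have : u₀ * 1 ∈ J := hspec 1 (by rw [h0, pow_zero]; simp)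
    exact absurd (hq.le (mul_one u₀ ▸ this)) hu₀
  obtain ⟨n, hn⟩ : ∃ n, Nat.find hex = n + 1 := ⟨Nat.find hex - 1, by omega⟩
  have hnot := Nat.find_min hex (show n < Nat.find hex by omega)
  push Not at hnot
  by_contra hcon
  push Not at hcon
  have hall : ∀ b ∈ I ^ n, ∃ u ∉ q, u * b ∈ J := by
    intro b hb
    have h1 : ∀ i ∈ I, i * (u₀ * b) ∈ J := fun i hi => by
      rw [mul_left_comm]
      exact hspec _ (by rw [hn, pow_succ']; exact Ideal.mul_mem_mul hi hb)
    obtain ⟨u, hu, huJ⟩ := hcon _ h1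
    exact ⟨u * u₀, q.primeCompl.mul_mem hu hu₀, by rwa [mul_assoc]⟩
  obtain ⟨G, hG⟩ := Submodule.FG.pow hI n
  choose! v hv hv' using fun b (hb : b ∈ G) => hall b (hG ▸ Submodule.subset_span hb)
  obtain ⟨b, hb, hbJ⟩ := hnot (∏ b ∈ G, v b) (q.primeCompl.prod_mem fun b hb => hv b hb)
  refine hbJ ?_
  clear hbJ
  rw [← hG] at hb
  induction hb using Submodule.span_induction with
  | mem b hb =>
    rw [← Finset.prod_erase_mul G v hb, mul_assoc]
    exact J.mul_mem_left _ (hv' b hb)
  | zero => simp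
  | add _ _ _ _ h₁ h₂ => rw [mul_add]; exact add_mem h₁ h₂
  | smul c y _ h => rw [smul_eq_mul, mul_left_comm]; exact J.mul_mem_left _ h

/-- An embedded point of the generic fibre spreads to all nearby fibres: every minimal prime of `q + pA`
over `p` is a fibrewise associated prime, and there is one. -/
theorem forall_fibre_prime_domain [IsDomain R] (q : Ideal A) [q.IsPrime]
    (hq0 : q.comap (algebraMap R A) = ⊥) (m : M)
    (hq : q ∈ ((⊥ : Submodule A M).colon {m}).minimalPrimes) :
    ∃ f : R, f ≠ 0 ∧ ∀ p : Ideal R, p.IsPrime → f ∉ p →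
      (∃ q' ∈ (q ⊔ p.map (algebraMap R A)).minimalPrimes, q'.comap (algebraMap R A) = p) ∧
      ∀ q' ∈ (q ⊔ p.map (algebraMap R A)).minimalPrimes, q'.comap (algebraMap R A) = p →
        ∃ m' : M, q' ∈ ((pM A M p).colon {m'}).minimalPrimes := by
  classical
  set J := (⊥ : Submodule A M).colon {m}
  obtain ⟨f₁, -, hf₁, G, hGf, hGq, hG⟩ := genFG (R := R) A A q (1 : R) one_ne_zero
  obtain ⟨b, hb, hb'⟩ := exists_multiplier (A := A) J (Ideal.span G) q hq
    (Submodule.fg_span hGf) (Ideal.span_le.mpr hGq)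
  let T : A →ₗ[A] M := LinearMap.toSpanSingleton A M (b • m)
  have hTq : ∀ a, T a = 0 → a ∈ q := fun a ha => by
    by_contra hna
    refine hb' a hna (Submodule.mem_colon_singleton.mpr ?_)
    rw [Submodule.mem_bot, mul_smul]
    exact ha
  have hqT : ∀ a ∈ q, ∃ k : ℕ, T (f₁ ^ k • a) = 0 := fun a ha => by
    obtain ⟨k, hk⟩ := hG a ha
    refine ⟨k, ?_⟩
    have := hb _ hk
    rw [Submodule.mem_colon_singleton, Submodule.mem_bot, mul_smul] at this
    exact this
  let T' : A ⧸ LinearMap.ker T →ₗ[A] M := (LinearMap.ker T).liftQ T le_rfl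
  obtain ⟨f₂, hf₁₂, hf₂, hA⟩ := genFree (R := R) A (A ⧸ q) f₁ hf₁
  obtain ⟨f, hf₂₃, hf, hC⟩ := genFree (R := R) A (M ⧸ LinearMap.range T) f₂ hf₂
  have hfA : algebraMap R A f ∉ q := fun h => hf (by
    rw [← Ideal.mem_bot, ← hq0]; exact h)
  have hdvd : f₁ ∣ f := hf₁₂.trans hf₂₃
  refine ⟨f, hf, fun p hp hfp => ⟨?_, fun q' hq' hq'c => ?_⟩⟩
  · -- `q + pA` lies over `p`
    obtain ⟨ι, v, hv, hs⟩ := hA.of_dvd hf₂₃
    have hover : ∀ s : R, algebraMap R A s ∈ q ⊔ p.map (algebraMap R A) → s ∈ p := by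
      intro s hs'
      have hone : ∃ i : ι, True := by
        by_contra hne
        obtain ⟨k, hk⟩ := hs (Submodule.Quotient.mk 1)
        have : IsEmpty ι := ⟨fun i => hne ⟨i, trivial⟩⟩
        rw [Set.range_eq_empty, Submodule.span_empty, Submodule.mem_bot] at hk
        have hk' : algebraMap R A (f ^ k) ∈ q := by
          rw [← Submodule.Quotient.mk_smul, Submodule.Quotient.mk_eq_zero, Algebra.smul_def,
            mul_one] at hk
          exact hk
        rw [map_pow] at hk'
        exact hfA (Ideal.IsPrime.mem_of_pow_mem ‹_› k hk')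
      obtain ⟨i, -⟩ := hone
      have hsv : s • v i ∈ p • (⊤ : Submodule R (A ⧸ q)) := by
        rw [← mem_pM_iff (A := A)]
        obtain ⟨x, hx, y, hy, hxy⟩ := Submodule.mem_sup.mp hs'
        rw [← algebraMap_smul A s (v i), ← hxy, add_smul]
        have : x • v i = 0 := by
          obtain ⟨a, ha⟩ := Submodule.Quotient.mk_surjective _ (v i)
          rw [← ha, ← Submodule.Quotient.mk_smul, Submodule.Quotient.mk_eq_zero]
          exact q.mul_mem_right a hx
        rw [this, zero_add]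
        exact Submodule.smul_mem_smul hy trivial
      have key : ∀ y ∈ p • (⊤ : Submodule R (A ⧸ q)), ∃ (k : ℕ) (c : ι →₀ R),
          (∀ j, c j ∈ p) ∧ f ^ k • y = Finsupp.linearCombination R v c := by
        intro y hy
        refine Submodule.smul_induction_on hy (fun a ha z _ => ?_) ?_
        · obtain ⟨k, hk⟩ := hs z
          obtain ⟨c, hc⟩ := Finsupp.mem_span_range_iff_exists_finsupp.mp hk
          refine ⟨k, a • c, fun j => p.mul_mem_right _ ha, ?_⟩
          rw [map_smul, smul_comm, Finsupp.linearCombination_apply, hc]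
        · rintro y₁ y₂ ⟨k₁, c₁, hc₁, h₁⟩ ⟨k₂, c₂, hc₂, h₂⟩
          refine ⟨k₁ + k₂, f ^ k₂ • c₁ + f ^ k₁ • c₂, fun j => add_mem (p.mul_mem_left _ (hc₁ j))
            (p.mul_mem_left _ (hc₂ j)), ?_⟩
          simp only [map_add, map_smul, smul_add, pow_add, mul_smul, h₂]
          rw [smul_comm (f ^ k₁) (f ^ k₂) y₁, h₁]
      obtain ⟨k, c, hc, he⟩ := key _ hsv
      have h0 : f • (Finsupp.single i (f ^ k * s) - c) = 0 := hv _ (by
        rw [map_sub, Finsupp.linearCombination_single, mul_smul, he, sub_self])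
      have := DFunLike.congr_fun h0 i
      rw [Finsupp.smul_apply, Finsupp.sub_apply, Finsupp.single_eq_same, smul_eq_mul, Finsupp.zero_apply,
        mul_sub, sub_eq_zero] at this
      have hmem : f * (f ^ k * s) ∈ p := this ▸ p.mul_mem_left f (hc i)
      exact (hp.mem_or_mem ((hp.mem_or_mem hmem).resolve_left hfp)).resolve_left
        fun h => hfp (hp.mem_of_pow_mem k h)
    obtain ⟨Q, hQ, hQle, hQd⟩ := Ideal.exists_le_prime_disjoint (q ⊔ p.map (algebraMap R A))
      (Algebra.algebraMapSubmonoid A p.primeCompl) (Set.disjoint_right.mpr fun a ha hs' => by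
        obtain ⟨s, hs'', rfl⟩ := ha
        exact hs'' (hover s hs'))
    obtain ⟨q', hq', hq'Q⟩ := Ideal.exists_minimalPrimes_le hQle
    have := hq'.isPrime
    have hq'c : q'.comap (algebraMap R A) = p :=
      le_antisymm (fun s hs' => by
        by_contra hsp
        exact Set.disjoint_left.mp hQd (hq'Q hs') ⟨s, hsp, rfl⟩)
        (Ideal.map_le_iff_le_comap.mp (le_sup_right.trans hq'.le))
    exact ⟨q', hq', hq'c⟩
  have := hq'.isPrime
  have hfq' : algebraMap R A f ∉ q' := fun h => hfp (hq'c ▸ h)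
  refine ⟨b • m, ⟨inferInstance, ?_⟩, ?_⟩
  · intro a ha
    rw [Submodule.mem_colon_singleton] at ha
    let eC := Submodule.Quotient.restrictScalarsEquiv R (LinearMap.range T)
    have hC' : FreeAt f (M ⧸ LinearMap.range (T'.restrictScalars R)) := by
      rw [LinearMap.range_restrictScalars, Submodule.range_liftQ]
      exact hC.of_surjective eC.symm.toLinearMap eC.symm.surjective
        fun y hy => ⟨0, by rw [pow_zero, one_smul]; exact (LinearEquiv.map_eq_zero_iff _).mp hy⟩
    obtain ⟨k, hk⟩ := exists_pow_smul_mem (T'.restrictScalars R) hC' (fun x hx => ⟨0, by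
        rw [pow_zero, one_smul]
        obtain ⟨x, rfl⟩ := Submodule.Quotient.mk_surjective _ x
        exact (Submodule.Quotient.mk_eq_zero _).mpr hx⟩) p
      (m := Submodule.Quotient.mk a) (mem_pM_iff.mp ha)
    have h1 : f ^ k • a ∈ LinearMap.ker T ⊔ p.map (algebraMap R A) := by
      rw [← mem_pM_iff (A := A), ← Submodule.Quotient.mk_smul, pM, ← Submodule.range_mkQ,
        ← Submodule.map_top, ← Submodule.map_smul'', Ideal.smul_eq_mul, Ideal.mul_top] at hk
      obtain ⟨y, hy, hy'⟩ := hk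
      rw [Submodule.mkQ_apply, Submodule.Quotient.eq] at hy'
      rw [show f ^ k • a = -(y - f ^ k • a) + y from by abel]
      exact add_mem (Submodule.mem_sup_left (neg_mem hy')) (Submodule.mem_sup_right hy)
    have h2 : f ^ k • a ∈ q' :=
      (sup_le (fun x hx => le_sup_left.trans hq'.le (hTq x hx)) (le_sup_right.trans hq'.le)) h1
    rw [Algebra.smul_def, map_pow] at h2
    exact (Ideal.IsPrime.mem_or_mem ‹_› h2).resolve_left
      fun h => hfq' (Ideal.IsPrime.mem_of_pow_mem ‹_› k h)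
  · intro I hI hle
    refine hq'.2 ⟨hI.1, sup_le (fun a ha => ?_) (fun a ha => ?_)⟩ hle
    · obtain ⟨k, hk⟩ := hqT a ha
      have : f₁ ^ k • a ∈ I := hI.2 (Submodule.mem_colon_singleton.mpr (by
        rw [show (f₁ ^ k • a) • (b • m) = T (f₁ ^ k • a) from rfl, hk]
        exact zero_mem _))
      rw [Algebra.smul_def] at this
      refine (hI.1.mem_or_mem this).resolve_left fun h => hfq' (hle ?_)
      obtain ⟨c, hc⟩ := hdvd
      rw [hc, map_mul]
      exact I.mul_mem_right _ (hI.1.mem_of_pow_mem k (map_pow (algebraMap R A) f₁ k ▸ h))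
    · exact hI.2 (Submodule.mem_colon_singleton.mpr (Submodule.smul_mem_smul ha trivial))

/-- An embedded point of the generic fibre spreads to all nearby fibres. -/
theorem exists_fibre_prime_domain [IsDomain R] (q : Ideal A) [q.IsPrime]
    (hq0 : q.comap (algebraMap R A) = ⊥) (m : M)
    (hq : q ∈ ((⊥ : Submodule A M).colon {m}).minimalPrimes) :
    ∃ f : R, f ≠ 0 ∧ ∀ p : Ideal R, p.IsPrime → f ∉ p → ∃ q' : Ideal A, q'.IsPrime ∧ q ≤ q' ∧
      q'.comap (algebraMap R A) = p ∧
      ∃ m' : M, q' ∈ ((pM A M p).colon {m'}).minimalPrimes := by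
  obtain ⟨f, hf, h⟩ := forall_fibre_prime_domain q hq0 m hq
  refine ⟨f, hf, fun p hp hfp => ?_⟩
  obtain ⟨⟨q', hq', hc⟩, hall⟩ := h p hp hfp
  exact ⟨q', hq'.isPrime, le_sup_left.trans hq'.le, hc, hall q' hq' hc⟩

end Groth.Agent.Wt.RelAssRing
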