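import Groth.Agent.CycLib.PushStalk
import Groth.Agent.CohDev.Coh
import Groth.Agent.Props.AffineCrit
import Mathlib.AlgebraicGeometry.Morphisms.Finite

/-!
# Multiplication by functions on `π_* O`
-/

set_option autoImplicit false
set_option linter.style.haveILetI false

universe u

open CategoryTheory Limits AlgebraicGeometry Opposite TopologicalSpace

noncomputable section

namespace Groth.Agent.Wt.PushFun

open Groth.Agent.PullStalk.Sky Groth.Agent.PullStalk.Exact Groth.Agent.CycLib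

variable {T X : Scheme.{u}} (π : T ⟶ X)

/-- `π_* O`. -/
abbrev P : X.Modules := (Coh.push π).obj (Coh.structureModule T)

/-- A section of `π_* O` as a function upstairs. -/
abbrev sec {V : X.Opens} (m : Γ(P π, V)) : Γ(T, π ⁻¹ᵁ V) := m

/-- Multiplication by a global function. -/
def mulc (c : Γ(T, ⊤)) : P π ⟶ P π := (Coh.push π).map (Props.AffineCrit.mulHom c)

theorem mulc_app (c : Γ(T, ⊤)) (V : X.Opens) (m : Γ(P π, V)) :
    sec π ((mulc π c).app V m) =
      sec π m * T.presheaf.map (homOfLE (le_top : π ⁻¹ᵁ V ≤ ⊤)).op c :=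
  Props.AffineCrit.mulHom_app c (π ⁻¹ᵁ V) (sec π m)

/-- Killed by a function vanishing upstairs. -/
theorem smul_eq_zero {V : X.Opens} {a : Γ(X, V)} (h : π.app V a = 0) (m : Γ(P π, V)) :
    a • m = 0 := by
  change mkPush π (π.app V a * sec π m) = 0
  rw [h, zero_mul]
  rfl

/-- The stalk at an image point is nonzero. -/
theorem nontrivial_stalk (t : T) : ¬ Subsingleton ((P π).presheaf.stalk (π t)) := by
  intro hsub
  have h0 : germM (P π) ⊤ (π t) trivial (mkPush π 1) =
      germM (P π) ⊤ (π t) trivial (mkPush π 0) := @Subsingleton.elim _ hsub _ _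
  obtain ⟨V, hV, i₁, i₂, e⟩ := (P π).presheaf.germ_eq (U := ⊤) (V := ⊤) (π t) trivial trivial _ _ h0
  have e' : T.presheaf.map (homOfLE (π.preimage_mono i₁.le)).op (1 : Γ(T, π ⁻¹ᵁ ⊤)) =
      T.presheaf.map (homOfLE (π.preimage_mono i₂.le)).op (0 : Γ(T, π ⁻¹ᵁ ⊤)) := e
  rw [map_one, map_zero] at e'
  have := congrArg (T.presheaf.germ (π ⁻¹ᵁ V) t hV) e'
  rw [map_one, map_zero] at this
  exact one_ne_zero this

/-- Multiplication by a function invertible over `x` is bijective on the stalk at `x`. -/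
theorem bijective_mulc [UniversallyClosed π] (c : Γ(T, ⊤)) {x : X}
    (hc : ∀ t, π t = x → t ∈ T.basicOpen c) :
    Function.Bijective (stalkLin (mulc π c) x) := by
  let V₁ : X.Opens := ⟨(π '' (T.basicOpen c : Set T)ᶜ)ᶜ,
    (π.isClosedMap _ (T.basicOpen c).2.isClosed_compl).isOpen_compl⟩
  have hxV₁ : x ∈ V₁ := fun ⟨t, ht, htx⟩ => ht (hc t htx)
  have happ : ∀ V ≤ V₁, Function.Bijective ((mulc π c).app V) := fun V hV => by
    have hle : π ⁻¹ᵁ V ≤ T.basicOpen c := fun t ht => by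
      by_contra hn
      exact hV ht ⟨t, hn, rfl⟩
    have hu : IsUnit (T.presheaf.map (homOfLE (le_top : π ⁻¹ᵁ V ≤ ⊤)).op c) := by
      rw [show (homOfLE (le_top : π ⁻¹ᵁ V ≤ ⊤)) = homOfLE hle ≫ homOfLE le_top from rfl, op_comp,
        Functor.map_comp, CommRingCat.comp_apply]
      exact (T.toRingedSpace.isUnit_res_basicOpen c).map (T.presheaf.map (homOfLE hle).op).hom
    obtain ⟨u, hu⟩ := hu
    refine ⟨fun m m' h => ?_, fun m => ⟨mkPush π (sec π m * ↑u⁻¹), ?_⟩⟩
    · have h' := (mulc_app π c V m).symm.trans ((congrArg (sec π) h).trans (mulc_app π c V m'))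
      rw [← hu] at h'
      exact u.isUnit.mul_right_cancel h'
    · refine (mulc_app π c V _).trans ?_
      change sec π m * ↑u⁻¹ * _ = sec π m
      rw [← hu, mul_assoc, u.inv_mul, mul_one]
  refine ⟨(injective_iff_map_eq_zero _).mpr fun t ht => ?_, fun t => ?_⟩
  · obtain ⟨U, hxU, m, rfl⟩ := exists_germM_eq (P π) x t
    rw [stalkLin_germ] at ht
    obtain ⟨V, hxV, i₁, _, e⟩ := (P π).presheaf.germ_eq x hxU hxU _ 0
      (ht.trans (map_zero ((P π).presheaf.germ U x hxU).hom).symm)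
    have hle : V ⊓ V₁ ≤ U := inf_le_left.trans i₁.le
    have hz : QCoh.res (P π) hle m = 0 := (happ _ inf_le_right).1 (by
      rw [QCoh.app_res, map_zero, ← QCoh.res_res (P π) i₁.le inf_le_left]
      exact (congrArg _ (e.trans (map_zero _))).trans (map_zero _))
    have hx' : x ∈ V ⊓ V₁ := ⟨hxV, hxV₁⟩
    exact ((P π).presheaf.germ_res_apply (homOfLE hle) x hx' m).symm.trans
      ((congrArg ((P π).presheaf.germ _ x hx') hz).trans (map_zero _))
  · obtain ⟨U, hxU, m, rfl⟩ := exists_germM_eq (P π) x t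
    obtain ⟨m', hm'⟩ := (happ (U ⊓ V₁) inf_le_right).2 (QCoh.res (P π) inf_le_left m)
    have hx' : x ∈ U ⊓ V₁ := ⟨hxU, hxV₁⟩
    refine ⟨germM (P π) _ x hx' m', ?_⟩
    rw [stalkLin_germ, hm']
    exact (P π).presheaf.germ_res_apply _ x hx' m

/-- A power of a function vanishing over the zero locus of `J ⊆ Ann K` kills `q`. -/
theorem exists_pow_kill [IsAffineHom π] {K : X.Modules} (q : P π ⟶ K) (J : X.IdealSheafData)
    (V : X.affineOpens) (hJ : ∀ j ∈ J.ideal V, ∀ k : Γ(K, V.1), j • k = 0) (c : Γ(T, ⊤))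
    (hc : ∀ t, t ∈ T.basicOpen c → π t ∉ (J.support : Set X)) :
    ∃ N, ∀ m : Γ(P π, V.1), q.app V.1 ((mulc π (c ^ N)).app V.1 m) = 0 := by
  let U := π ⁻¹ᵁ V.1
  have hU : IsAffineOpen U := V.2.preimage π
  let φ : Γ(X, V.1) →+* Γ(T, U) := (π.app V.1).hom
  let J' : Ideal Γ(T, U) := (J.ideal V).map φ
  let cU : Γ(T, U) := T.presheaf.map (homOfLE (le_top : U ≤ ⊤)).op c
  have hrad : cU ∈ J'.radical := by
    rw [Ideal.radical_eq_sInf, Ideal.mem_sInf]
    rintro Q ⟨hJQ, hQ⟩
    by_contra hcQ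
    let p : PrimeSpectrum Γ(T, U) := ⟨Q, hQ⟩
    let t := hU.fromSpec p
    have htU : t ∈ U := by
      rw [← SetLike.mem_coe, ← hU.range_fromSpec]
      exact ⟨p, rfl⟩
    have hb : ∀ f : Γ(T, U), t ∈ T.basicOpen f ↔ f ∉ Q := fun f => by
      have h2 : hU.fromSpec p ∈ T.basicOpen f ↔ p ∈ PrimeSpectrum.basicOpen f :=
        (SetLike.ext_iff.mp (hU.fromSpec_preimage_basicOpen f) p)
      exact h2
    have htc : t ∈ T.basicOpen c := by
      have h1 := (hb cU).mpr hcQ
      rw [Scheme.basicOpen_res] at h1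
      exact h1.2
    refine hc t htc ?_
    have : π t ∈ X.zeroLocus (U := V.1) (J.ideal V : Set Γ(X, V.1)) := by
      rw [Scheme.mem_zeroLocus_iff]
      intro j hj hjt
      have : t ∈ T.basicOpen (φ j) := by
        rw [show T.basicOpen (φ j) = π ⁻¹ᵁ X.basicOpen j from (Scheme.preimage_basicOpen π j).symm]
        exact hjt
      exact (hb (φ j)).mp this (hJQ (Ideal.mem_map_of_mem φ hj))
    exact ((Set.ext_iff.mp (J.coe_support_inter V) (π t)).mpr ⟨this, htU⟩).1
  obtain ⟨N, hN⟩ := hrad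
  refine ⟨N, fun m => ?_⟩
  have hall : ∀ z ∈ J', ∀ m : Γ(T, U), q.app V.1 (mkPush π (z * m)) = 0 := by
    intro z hz
    induction hz using Submodule.span_induction with
    | mem z hz =>
      obtain ⟨j, hj, rfl⟩ := hz
      intro m
      rw [show mkPush π (φ j * m) = j • mkPush π m from (smul_mkPush π j m).symm,
        Scheme.Modules.Hom.app_smul]
      exact hJ j hj _
    | zero => intro m; rw [zero_mul]; exact map_zero _
    | add z z' _ _ hz hz' =>
      intro m
      rw [add_mul]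
      exact (map_add (q.app V.1).hom _ _).trans ((congrArg₂ (· + ·) (hz m) (hz' m)).trans (add_zero _))
    | smul r z _ hz =>
      intro m
      rw [smul_eq_mul, mul_comm r z, mul_assoc]
      exact hz _
  have hN' : (mulc π (c ^ N)).app V.1 m = mkPush π (cU ^ N * sec π m) :=
    (mulc_app π (c ^ N) V.1 m).trans (by rw [map_pow, mul_comm])
  rw [hN']
  exact hall _ hN _

/-- Powers compose. -/
theorem mulc_add (c : Γ(T, ⊤)) (a b : ℕ) (V : X.Opens) (m : Γ(P π, V)) :
    (mulc π (c ^ (a + b))).app V m = (mulc π (c ^ a)).app V ((mulc π (c ^ b)).app V m) := by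
  have e : sec π ((mulc π (c ^ (a + b))).app V m) =
      sec π ((mulc π (c ^ a)).app V ((mulc π (c ^ b)).app V m)) := by
    rw [mulc_app, mulc_app, mulc_app, mul_assoc, ← map_mul, ← pow_add, add_comm b a]
  exact e

end Groth.Agent.Wt.PushFun
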