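import Groth.Agent.CohDev.Gen
import Groth.Agent.Props.AffineCrit
import Groth.Agent.HomShQC.Stalk
import Groth.Agent.Wt.PushFun
import Groth.Agent.LimTop.StalkHom
import Groth.Agent.S0007
import Groth.Agent.S0012

/-!
# Chevalley's theorem on Noetherian schemes

If `π : W ⟶ X` is finite surjective with `W` affine and `X` Noetherian, every coherent module on `X`
has no higher cohomology, so `X` is affine.
-/

set_option autoImplicit false
set_option linter.style.haveILetI false

universe u

open CategoryTheory Limits AlgebraicGeometry Opposite TopologicalSpace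

noncomputable section

namespace Groth.Agent.Wt.ChevalleyNoeth

open Groth.Agent.PullStalk.Sky Groth.Agent.PullStalk.Exact Groth.Agent.Props Groth.Agent.CohDev

variable {X : Scheme.{u}}

/-- No higher cohomology. -/
def Van (F : X.Modules) : Prop := ∀ i : ℕ, Subsingleton (Coh.HH X F (i + 1))

theorem van_of_isZero {F : X.Modules} (h : IsZero F) : Van F := fun i =>
  subsingleton_of_forall_eq 0 fun x => by
    rw [← CohLin.hMap_id F (i + 1) x, h.eq_of_src (𝟙 F) 0]
    change ((Sheaf.functorH _ (i + 1)).map (CohLin.abMap (0 : F ⟶ F))).hom x = 0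
    rw [show CohLin.abMap (0 : F ⟶ F) = 0 from Functor.map_zero _ _ _, Functor.map_zero]
    rfl

theorem van_mid {S : ShortComplex X.Modules} (hS : S.ShortExact) (h₁ : Van S.X₁) (h₃ : Van S.X₃) :
    Van S.X₂ := fun i => by
  haveI := h₁ i
  haveI := h₃ i
  exact CohLin.subsingleton_X₂ hS

theorem van_right {S : ShortComplex X.Modules} (hS : S.ShortExact) (h₁ : Van S.X₁) (h₂ : Van S.X₂) :
    Van S.X₃ := fun i => by
  haveI := h₁ (i + 1)
  haveI := h₂ i
  exact CohLin.subsingleton_X₃ hS

theorem van_retract {A B : X.Modules} (f : A ⟶ B) (g : B ⟶ A) (h : f ≫ g = 𝟙 A) (hB : Van B) :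
    Van A := fun i => subsingleton_of_forall_eq 0 fun x => by
  rw [← CohLin.hMap_id A (i + 1) x, ← h, CohLin.hMap_comp,
    (hB i).elim (CohLin.hMap f (i + 1) x) 0, map_zero]

variable [IsNoetherian X]

/-- Coherent modules inside `closure {x}` avoiding `x` vanish. -/
def Small (x : X) : Prop :=
  ∀ M : X.Modules, Coh.IsCoh M → CohB1.support M ⊆ closure {x} → x ∉ CohB1.support M → Van M

/-- Along a map bijective at `x`, vanishing passes from the source to the image and to the target. -/
theorem van_of_map {x : X} (hsm : Small x) {A B : X.Modules} (f : A ⟶ B) (hA : Coh.IsCoh A)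
    (hB : Coh.IsCoh B) (hAs : CohB1.support A ⊆ closure {x}) (hBs : CohB1.support B ⊆ closure {x})
    (hf : Function.Bijective (stalkLin f x)) (hVA : Van A) : Van B := by
  obtain ⟨I, p, q, w₁, w₂, -, hS₁, hS₂⟩ := exists_image f hA hB
  have hK : Van (kernel f) := hsm _ (isCoh_kernel' f hA hB)
    ((support_subset_of_mono (kernel.ι f)).trans hAs) (not_mem_support_kernel f hf.1)
  have hC : Van (cokernel f) := hsm _ (isCoh_cokernel f hA.1 hB)
    ((support_subset_of_epi (cokernel.π f)).trans hBs) (not_mem_support_cokernel f hf.2)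
  exact van_mid hS₂ (van_right hS₁ hK hVA) hC

/-- Along a map bijective at `x`, vanishing of the image passes to the source. -/
theorem van_of_image {x : X} (hsm : Small x) {A B : X.Modules} (f : A ⟶ B) (hA : Coh.IsCoh A)
    (hB : Coh.IsCoh B) (hAs : CohB1.support A ⊆ closure {x}) (hf : Function.Bijective (stalkLin f x))
    (hVI : Van (Abelian.image f)) : Van A := by
  have hK : Van (kernel f) := hsm _ (isCoh_kernel' f hA hB)
    ((support_subset_of_mono (kernel.ι f)).trans hAs) (not_mem_support_kernel f hf.1)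
  let S := ShortComplex.mk (kernel.ι f) (Abelian.factorThruImage f)
    ((cancel_mono (Abelian.image.ι f)).mp (by simp))
  have hS : S.ShortExact :=
    { exact := ShortComplex.exact_of_f_is_kernel _
        (isKernelOfComp _ _ (kernelIsKernel f) _ (Abelian.image.fac f)) }
  exact van_mid (S := S) hS hK hVI

variable {W : Scheme.{u}} [IsAffine W]

/-- The piece step. -/
theorem van_piece (π : W ⟶ X) [IsFinite π] [Surjective π] {x : X} {J : X.Modules}
    (hJ : IsPiece x J) (hsm : Small x) : Van J := by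
  classical
  obtain ⟨g, hg, hJc, hxJ⟩ := id hJ
  let I := IntMult.ptIdeal x
  let T := pullback π I.subschemeι
  let π' : T ⟶ X := pullback.fst π I.subschemeι ≫ π
  haveI : IsClosedImmersion (pullback.fst π I.subschemeι) :=
    MorphismProperty.of_isPullback (IsPullback.of_hasPullback π I.subschemeι).flip inferInstance
  haveI : IsAffine T := isAffine_of_isAffineHom (pullback.fst π I.subschemeι)
  haveI : IsFinite π' := inferInstance
  haveI : IsLocallyNoetherian T := LocallyOfFiniteType.isLocallyNoetherian π'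
  let O := Coh.structureModule T
  have hOc : Coh.IsCoh O := HomShQC.isCoh_structureModule
  haveI : O.IsQuasicoherent := hOc.1
  let G : X.Modules := (Coh.push π').obj O
  have hGc : Coh.IsCoh G := CycLib.isCoh_push O π' hOc
  haveI : G.IsQuasicoherent := hGc.1
  have hGvan : Van G := fun i => by
    haveI : Coh.IsQCoh O := hOc.1
    haveI := Groth.Agent.S0007.result T O (i + 1) i.succ_pos
    obtain ⟨e⟩ := Groth.Agent.S0012.result π' O (i + 1)
    exact e.symm.injective.subsingleton
  have hrange : ∀ t : T, π' t ∈ closure ({x} : Set X) := fun t => by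
    rw [← coe_support_ptIdeal x, ← I.range_subschemeι]
    refine ⟨pullback.snd π I.subschemeι t, ?_⟩
    rw [← Scheme.Hom.comp_apply, ← pullback.condition]
  have hGs : CohB1.support G ⊆ closure {x} := fun y hy => by
    by_contra hn
    refine hy (ClUnit.subsingleton_stalk_pushforward π' O y
      ⟨(closure {x})ᶜ, isClosed_closure.isOpen_compl⟩ hn ?_)
    exact le_bot_iff.mp fun t ht => ht (hrange t)
  -- `G` is killed by the ideal of `closure {x}`
  have hkill : ∀ (V : X.affineOpens), ∀ a ∈ I.ideal V, π'.app V.1 a = 0 := fun V a ha => by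
    have h0 : I.subschemeι.app V.1 a = 0 := by
      rw [← RingHom.mem_ker, I.ker_subschemeι_app V]
      exact ha
    have key : ∀ φ ψ : T ⟶ X, φ = ψ → φ.app V.1 a = 0 → ψ.app V.1 a = 0 := by
      rintro φ _ rfl h
      exact h
    refine key (pullback.snd π I.subschemeι ≫ I.subschemeι) π' pullback.condition.symm ?_
    rw [Scheme.Hom.comp_app]
    change (pullback.snd π I.subschemeι).app _ (I.subschemeι.app V.1 a) = 0
    rw [h0]
    exact map_zero _
  obtain ⟨V₀, hV₀, hxV₀, -⟩ := exists_isAffineOpen_mem_and_subset (X := X) (Opens.mem_top x)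
  have hmax : ∀ r ∈ IsLocalRing.maximalIdeal (X.presheaf.stalk x), ∀ t : G.presheaf.stalk x,
      r • t = 0 := fun r hr t => by
    refine smul_eq_zero_of_prime hV₀ hxV₀ (fun a ha => ?_) hr
    obtain ⟨m, s, hs, hst⟩ := CycLib.exists_smul_germ_eq G hV₀ hxV₀ t
    have haI : a ∈ I.ideal ⟨V₀, hV₀⟩ := by
      change a ∈ PrimeSpectrum.vanishingIdeal _
      rw [PrimeSpectrum.mem_vanishingIdeal]
      intro p hp
      have hp' : hV₀.fromSpec p ∈ closure ({x} : Set X) := hp
      have hpV : hV₀.fromSpec p ∈ V₀ := by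
        rw [← SetLike.mem_coe, ← hV₀.range_fromSpec]
        exact ⟨p, rfl⟩
      have hle : (hV₀.primeIdealOf ⟨x, hxV₀⟩).asIdeal ≤
          (hV₀.primeIdealOf ⟨_, hpV⟩).asIdeal :=
        (primeIdealOf_le_iff hV₀ hxV₀ hpV).mpr (specializes_iff_mem_closure.mpr hp')
      have : hV₀.primeIdealOf ⟨_, hpV⟩ = p :=
        hV₀.fromSpec.isOpenEmbedding.injective (hV₀.fromSpec_primeIdealOf _)
      rw [this] at hle
      exact hle ha
    have hzero : a • m = 0 := PushFun.smul_eq_zero π' (hkill ⟨V₀, hV₀⟩ a haI) m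
    obtain ⟨u, hu⟩ := hs
    have h1 : X.presheaf.germ V₀ x hxV₀ a • germM G V₀ x hxV₀ m = 0 := by
      rw [← germM_smul, hzero]
      exact map_zero (G.presheaf.germ V₀ x hxV₀).hom
    rw [← hst, ← hu, smul_comm] at h1
    have h2 := congrArg ((↑u⁻¹ : X.presheaf.stalk x) • ·) h1
    simpa [smul_smul] using h2
  haveI : Module.Finite (X.presheaf.stalk x) (G.presheaf.stalk x) := HomShQC.finite_stalk G hGc.2 x
  obtain ⟨d, ⟨θ₀⟩⟩ := exists_equiv_pow_residue (R := X.presheaf.stalk x) hmax
  -- the stalk at `x` is nonzero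
  obtain ⟨t₀, ht₀⟩ : ∃ t : T, π' t = x := by
    obtain ⟨w, hw⟩ := π.surjective x
    obtain ⟨z, hz⟩ : x ∈ Set.range I.subschemeι := by
      rw [I.range_subschemeι, coe_support_ptIdeal]
      exact subset_closure rfl
    obtain ⟨t, ht, -⟩ := Scheme.Pullback.exists_preimage_pullback w z (hw.trans hz.symm)
    exact ⟨t, by rw [Scheme.Hom.comp_apply, ht, hw]⟩
  have hd : d ≠ 0 := by
    rintro rfl
    have hsub : Subsingleton (G.presheaf.stalk x) := θ₀.toEquiv.subsingleton
    refine PushFun.nontrivial_stalk π' t₀ ?_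
    rw [ht₀]
    exact hsub
  obtain ⟨e, rfl⟩ := Nat.exists_eq_succ_of_ne_zero hd
  obtain ⟨θJ⟩ := hJ.stalk_residue
  let M := pow J (e + 1)
  have hMc : Coh.IsCoh M := (isCoh_pow_and_kcl hJc _).1
  have hMs : CohB1.support M ⊆ closure {x} := (support_pow_subset J _).trans hJ.support_subset
  let θ : G.presheaf.stalk x ≃ₗ[X.presheaf.stalk x] M.presheaf.stalk x :=
    θ₀.trans (((powStalkEquiv J (e + 1) x).trans
      (LinearEquiv.piCongrRight fun _ => θJ)).symm)
  obtain ⟨H, a, b, hHc, hm, ha, hb⟩ := exists_roof_at hGc hMc x θ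
  have hHs : CohB1.support H ⊆ closure {x} := (support_subset_of_mono (biprod.lift a b)).trans
    ((support_biprod_subset G M).trans (Set.union_subset hGs hMs))
  -- the cokernel of `a` is small; a function on `T` kills it without killing the stalk at `x`
  let K := cokernel a
  have hKc : Coh.IsCoh K := isCoh_cokernel a hHc.1 hGc
  haveI : K.IsQuasicoherent := hKc.1
  haveI : K.IsFiniteType := hKc.2
  have hxK : x ∉ CohB1.support K := not_mem_support_cokernel a ha.2
  have hKcl : IsClosed (CohB1.support K) := isClosed_support hKc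
  obtain ⟨c, hcx, hcK⟩ : ∃ c : Γ(T, ⊤), (∀ t, π' t = x → t ∈ T.basicOpen c) ∧
      ∀ t, t ∈ T.basicOpen c → π' t ∉ CohB1.support K := by
    let A := Γ(T, ⊤)
    have hA := isAffineOpen_top T
    let Z : Set (PrimeSpectrum A) := hA.fromSpec ⁻¹' (π' ⁻¹' CohB1.support K)
    have hZ : IsClosed Z := (hKcl.preimage π'.continuous).preimage hA.fromSpec.continuous
    have hS : (π' ⁻¹' {x} : Set T).Finite := π'.finite_preimage_singleton x
    let p : T → Ideal A := fun t => (hA.primeIdealOf ⟨t, trivial⟩).asIdeal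
    have hnot : ¬ ((PrimeSpectrum.vanishingIdeal Z : Ideal A) : Set A) ⊆
        ⋃ t ∈ (hS.toFinset : Set T), (p t : Set A) := by
      intro h
      obtain ⟨t, ht, hle⟩ := (Ideal.subset_union_prime (s := hS.toFinset) (f := p) t₀ t₀ fun t _ _ _ => (hA.primeIdealOf ⟨t, trivial⟩).2).mp
        (by exact_mod_cast h)
      have htS : π' t = x := hS.mem_toFinset.mp ht
      have hmem : hA.primeIdealOf ⟨t, trivial⟩ ∈ PrimeSpectrum.zeroLocus
          (PrimeSpectrum.vanishingIdeal Z : Set A) := hle
      rw [PrimeSpectrum.zeroLocus_vanishingIdeal_eq_closure, hZ.closure_eq] at hmem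
      apply hxK
      have : π' (hA.fromSpec (hA.primeIdealOf ⟨t, trivial⟩)) ∈ CohB1.support K := hmem
      rw [hA.fromSpec_primeIdealOf] at this
      rwa [htS] at this
    obtain ⟨c, hc, hc'⟩ := Set.not_subset.mp hnot
    have hpre : ∀ t : T, t ∈ T.basicOpen c ↔ c ∉ p t := fun t => by
      have h3 : hA.fromSpec (hA.primeIdealOf ⟨t, trivial⟩) ∈ T.basicOpen c ↔ c ∉ p t :=
        SetLike.ext_iff.mp (hA.fromSpec_preimage_basicOpen c) (hA.primeIdealOf ⟨t, trivial⟩)
      rwa [hA.fromSpec_primeIdealOf] at h3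
    refine ⟨c, fun t ht => (hpre t).mpr fun hct => hc' (Set.mem_biUnion
      (hS.mem_toFinset.mpr ht : t ∈ (hS.toFinset : Set T)) hct), fun t ht hK => (hpre t).mp ht ?_⟩
    refine (PrimeSpectrum.mem_vanishingIdeal _ _).mp hc (hA.primeIdealOf ⟨t, trivial⟩) ?_
    change π' (hA.fromSpec (hA.primeIdealOf ⟨t, trivial⟩)) ∈ CohB1.support K
    rw [hA.fromSpec_primeIdealOf]
    exact hK
  let μ : ℕ → (G ⟶ G) := fun N => PushFun.mulc π' (c ^ N)
  have hbij : ∀ N, Function.Bijective (stalkLin (μ N) x) := fun N =>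
    PushFun.bijective_mulc π' (c ^ N) fun t ht => by
      rcases N.eq_zero_or_pos with rfl | hN
      · rw [pow_zero, T.basicOpen_of_isUnit isUnit_one]
        trivial
      · rw [T.basicOpen_pow c hN]
        exact hcx t ht
  -- a power kills the cokernel
  have hloc : ∀ V : X.affineOpens, ∃ N, ∀ m : Γ(G, V.1),
      (cokernel.π a).app V.1 ((μ N).app V.1 m) = 0 := fun V =>
    PushFun.exists_pow_kill π' (cokernel.π a) (ScSupp.annIdeal K) V
      (fun j hj k => Module.mem_annihilator.mp hj k) c
      fun t ht => by rw [ScSupp.support_annIdeal]; exact hcK t ht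
  choose Nf hNf using hloc
  obtain ⟨t, ht⟩ := isCompact_univ.elim_finite_subcover (fun V : X.affineOpens => (V.1 : Set X))
    (fun V => V.1.2) fun y _ => by
      obtain ⟨V, hV, hy, -⟩ := exists_isAffineOpen_mem_and_subset (X := X) (Opens.mem_top y)
      exact Set.mem_iUnion.mpr ⟨⟨V, hV⟩, hy⟩
  let N := t.sup Nf
  have hzero : μ N ≫ cokernel.π a = 0 := by
    refine LimTop.hom_ext_stalk _ _ fun y => LinearMap.ext fun s => ?_
    obtain ⟨V, hV, hyV⟩ := Set.mem_iUnion₂.mp (ht (Set.mem_univ y))
    obtain ⟨m, r, hr, hrs⟩ := CycLib.exists_smul_germ_eq G V.2 hyV s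
    have hz : (cokernel.π a).app V.1 ((μ N).app V.1 m) = 0 := by
      have hle := Finset.le_sup (f := Nf) hV
      obtain ⟨k, hk⟩ := Nat.exists_eq_add_of_le hle
      have : (μ N).app V.1 m = (μ (Nf V)).app V.1 ((μ k).app V.1 m) := by
        rw [show N = Nf V + k from hk]
        exact PushFun.mulc_add π' c _ _ V.1 m
      rw [this]
      exact hNf V _
    obtain ⟨u, hu⟩ := hr
    rw [← hu] at hrs
    have h1 : stalkLin (μ N ≫ cokernel.π a) y ((u : X.presheaf.stalk y) • s) = 0 := by
      rw [hrs, stalkLin_germ]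
      change germM K V.1 y hyV ((cokernel.π a).app V.1 ((μ N).app V.1 m)) = 0
      rw [hz]
      exact map_zero (K.presheaf.germ V.1 y hyV).hom
    rw [map_smul] at h1
    rw [stalkLin_zero_apply]
    have h2 := congrArg ((↑u⁻¹ : X.presheaf.stalk y) • ·) h1
    simpa [smul_smul] using h2
  haveI : (Abelian.image a).IsQuasicoherent := (isCoh_image a hHc hGc.1).1
  let ψ : G ⟶ Abelian.image a := kernel.lift _ (μ N) hzero
  have hψ : ψ ≫ Abelian.image.ι a = μ N := kernel.lift_ι _ _ _
  have hψb : Function.Bijective (stalkLin ψ x) := by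
    have hcomp : ∀ s, stalkLin (μ N) x s = stalkLin (Abelian.image.ι a) x (stalkLin ψ x s) := fun s => by
      rw [← stalkLin_comp_apply, hψ]
    refine ⟨fun s s' h => (hbij N).1 (by rw [hcomp, hcomp, h]), fun s => ?_⟩
    obtain ⟨r, hr⟩ := (hbij N).2 (stalkLin (Abelian.image.ι a) x s)
    exact ⟨r, stalk_injective (Abelian.image.ι a) x ((hcomp r).symm.trans hr)⟩
  have hVI : Van (Abelian.image a) := van_of_map hsm ψ hGc (isCoh_image a hHc hGc.1) hGs
    ((support_subset_of_mono (Abelian.image.ι a)).trans hGs) hψb hGvan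
  have hVH : Van H := van_of_image hsm a hHc hGc hHs ha hVI
  have hVM : Van M := van_of_map hsm b hHc hMc hHs hMs hb hVH
  exact van_retract (biproduct.ι (fun _ : Fin (e + 1) => J) 0)
    (biproduct.π (fun _ : Fin (e + 1) => J) 0) (biproduct.ι_π_self _ _) hVM

/-- Coherent modules on `X` have no higher cohomology. -/
theorem van_coh (π : W ⟶ X) [IsFinite π] [Surjective π] {F : X.Modules} (hF : Coh.IsCoh F) :
    Van F := by
  haveI : NoetherianSpace X := inferInstance
  suffices H : ∀ Z : Closeds X, ∀ {M : X.Modules}, Coh.IsCoh M → CohB1.support M ⊆ Z → Van M from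
    H ⊤ hF (Set.subset_univ _)
  intro Z
  induction Z using WellFoundedLT.induction with
  | _ Z IH =>
    intro M hM hs
    refine devissage_on (Z : Set X) Van (fun M h => van_of_isZero h)
      (fun S hS _ _ _ _ p₁ p₃ => van_mid hS p₁ p₃) (fun x hx J hJ _ => ?_) hM hs
    refine van_piece π hJ fun N hN hNs hxN => ?_
    let Z' : Closeds X := ⟨CohB1.support N, isClosed_support hN⟩
    have hle : closure ({x} : Set X) ⊆ Z :=
      closure_minimal (Set.singleton_subset_iff.mpr hx) Z.isClosed
    exact IH Z' (lt_of_le_of_ne (hNs.trans hle)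
      fun e => hxN (show x ∈ (Z' : Set X) by rw [e]; exact hx)) hN subset_rfl

/-- Chevalley. -/
theorem isAffine (π : W ⟶ X) [IsFinite π] [Surjective π] : IsAffine X :=
  AffineCrit.serre fun _ i hi hI =>
    haveI := hi
    van_coh π (isCoh_of_mono i hI HomShQC.isCoh_structureModule) 0

end Groth.Agent.Wt.ChevalleyNoeth
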