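import Groth.Agent.GeomLoc.Regular
import Groth.Agent.GeomLoc.CM
import Groth.Agent.RelDim.CMLocus

/-!
# Cohen–Macaulay fibres under base change
-/

set_option autoImplicit false
set_option linter.style.haveILetI false

universe u

open TensorProduct

namespace Groth.Agent.Wt.CMBase

/-- Cohen–Macaulayness of a local ring of `F` and of a point over it in `F ⊗ K`. -/
theorem cm_tensor_iff (k K F : Type u) [Field k] [Field K] [Algebra k K] [CommRing F] [Algebra k F]
    (Q : Ideal F) [Q.IsPrime] [IsNoetherianRing (Localization.AtPrime Q)]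
    (h : Algebra.EssFiniteType k K ∨ Algebra.EssFiniteType k F)
    (P : Ideal (F ⊗[k] K)) [P.IsPrime] (hP : P.comap (algebraMap F (F ⊗[k] K)) = Q) :
    LocCoh.IsCohenMacaulayLocalRing (Localization.AtPrime Q) ↔
      LocCoh.IsCohenMacaulayLocalRing (Localization.AtPrime P) := by
  let L := Localization.AtPrime Q
  let T := L ⊗[k] K
  let := (FBase.Point.mapK (k := k) (A := F) L K).toRingHom.toAlgebra
  have : IsScalarTower F (F ⊗[k] K) T :=
    IsScalarTower.of_algebraMap_eq (R := F) (S := F ⊗[k] K) (A := T) fun a ↦ by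
      show _ = FBase.Point.mapK L K (algebraMap F (F ⊗[k] K) a)
      rw [FBase.Point.mapK_algebraMap]
      rfl
  have hloc := IsLocalization.tensorProduct_tensorProduct k K Q.primeCompl L
    (by ext x; simp [RingHom.algebraMap_toAlgebra, FBase.Point.mapK])
  have hdisj : Disjoint (Algebra.algebraMapSubmonoid (F ⊗[k] K) Q.primeCompl : Set (F ⊗[k] K))
      (P : Set (F ⊗[k] K)) := Set.disjoint_left.mpr fun x hx hxP => by
    obtain ⟨a, ha, rfl⟩ := hx
    exact ha (hP ▸ hxP : a ∈ Q)
  let P' : Ideal T := P.map (algebraMap (F ⊗[k] K) T)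
  have : P'.IsPrime := IsLocalization.isPrime_of_isPrime_disjoint
    (Algebra.algebraMapSubmonoid (F ⊗[k] K) Q.primeCompl) T P ‹_› hdisj
  have hcomap : P'.comap (algebraMap (F ⊗[k] K) T) = P := IsLocalization.under_map_of_isPrime_disjoint
    (Algebra.algebraMapSubmonoid (F ⊗[k] K) Q.primeCompl) T ‹_› hdisj
  have hP' : P'.comap (algebraMap L T) = IsLocalRing.maximalIdeal L := by
    refine le_antisymm (IsLocalRing.le_maximalIdeal (Ideal.comap_ne_top _ (Ideal.IsPrime.ne_top ‹_›))) ?_
    rw [← Localization.AtPrime.map_eq_maximalIdeal, Ideal.map_le_iff_le_comap, Ideal.comap_comap]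
    intro a ha
    rw [Ideal.mem_comap, RingHom.comp_apply, ← IsScalarTower.algebraMap_apply F L T,
      IsScalarTower.algebraMap_apply F (F ⊗[k] K) T]
    exact Ideal.mem_map_of_mem _ (by rw [← hP] at ha; exact ha)
  have hT : IsNoetherianRing T := by
    rcases h with h | h
    · haveI := h
      exact (GeomLoc.isNoetherianRing_tensor_fg (k := k) (R := L) K).1
    · haveI := h
      haveI : Algebra.EssFiniteType F L := Algebra.EssFiniteType.of_isLocalization _ Q.primeCompl
      haveI : Algebra.EssFiniteType k L := Algebra.EssFiniteType.comp k F L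
      haveI : IsNoetherianRing (K ⊗[k] L) := Algebra.EssFiniteType.isNoetherianRing K (K ⊗[k] L)
      exact isNoetherianRing_of_ringEquiv _ (Algebra.TensorProduct.comm k K L).toRingEquiv
  have hfib : ∀ (q : Ideal (Localization.AtPrime (IsLocalRing.maximalIdeal L))) [q.IsPrime],
      LocCoh.IsCohenMacaulayRing (q.ResidueField ⊗[k] K) := by
    intro q _
    rcases h with h | h
    · haveI := h
      exact GeomFieldLib.isCohenMacaulayRing_of_ringEquiv
        (Algebra.TensorProduct.comm k K q.ResidueField).toRingEquiv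
        (GeomFieldLib.isCohenMacaulayRing_tensor_fg k K q.ResidueField
          (GeomFieldLib.isCohenMacaulayRing_of_isArtinianRing _))
    · haveI := h
      haveI : Algebra.EssFiniteType F L := Algebra.EssFiniteType.of_isLocalization _ Q.primeCompl
      haveI : Algebra.EssFiniteType k L := Algebra.EssFiniteType.comp k F L
      haveI : Algebra.EssFiniteType L (Localization.AtPrime (IsLocalRing.maximalIdeal L)) :=
        Algebra.EssFiniteType.of_isLocalization _ (IsLocalRing.maximalIdeal L).primeCompl
      haveI : Algebra.EssFiniteType k (Localization.AtPrime (IsLocalRing.maximalIdeal L)) :=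
        Algebra.EssFiniteType.comp k L _
      haveI : Algebra.EssFiniteType k q.ResidueField :=
        Algebra.EssFiniteType.comp k (Localization.AtPrime (IsLocalRing.maximalIdeal L)) _
      exact GeomFieldLib.isCohenMacaulayRing_tensor_fg k q.ResidueField K
        (GeomFieldLib.isCohenMacaulayRing_of_isArtinianRing _)
  have key := GeomLoc.cm_over_iff (IsLocalRing.maximalIdeal L) K hfib P' hP'
  have e₁ : Localization.AtPrime (IsLocalRing.maximalIdeal L) ≃+* L :=
    (IsLocalization.atUnits L (IsLocalRing.maximalIdeal L).primeCompl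
      (S := Localization.AtPrime (IsLocalRing.maximalIdeal L))
      (fun a ha => IsLocalRing.notMem_maximalIdeal.1 ha)).symm.toRingEquiv
  have hP'loc : IsLocalization.AtPrime (Localization.AtPrime P') P := by
    have := IsLocalization.isLocalization_isLocalization_atPrime_isLocalization
      (Algebra.algebraMapSubmonoid (F ⊗[k] K) Q.primeCompl) (Localization.AtPrime P') P'
    convert this using 2
    exact hcomap.symm
  let e₂ : Localization.AtPrime P' ≃+* Localization.AtPrime P :=
    (IsLocalization.algEquiv P.primeCompl _ (Localization.AtPrime P)).toRingEquiv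
  exact ⟨fun h' => GeomLoc.isCohenMacaulayLocalRing_congr _ _ e₂
      (key.1 (GeomLoc.isCohenMacaulayLocalRing_congr _ _ e₁.symm h')),
    fun h' => GeomLoc.isCohenMacaulayLocalRing_congr _ _ e₁
      (key.2 (GeomLoc.isCohenMacaulayLocalRing_congr _ _ e₂.symm h'))⟩

variable {R S R' S' : Type u} [CommRing R] [CommRing S] [CommRing R'] [CommRing S'] [Algebra R S]
  [Algebra R R'] [Algebra S S'] [Algebra R' S'] [Algebra R S'] [IsScalarTower R S S']
  [IsScalarTower R R' S'] [Algebra.IsPushout R R' S S']

/-- The fibre local ring as a local ring of the fibre ring. -/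
theorem nonempty_equiv_fibre (p : Ideal R) [p.IsPrime] (q : Ideal S) [q.IsPrime] [q.LiesOver p]
    (Q : Ideal (p.Fiber S)) [Q.IsPrime]
    (hQ : Q.comap Algebra.TensorProduct.includeRight.toRingHom = q) :
    Nonempty (EGA4.FibLocRing R S q ≃+* Localization.AtPrime Q) := by
  obtain ⟨e⟩ := RelDim.exists_localizationEquiv p q Q hQ
  exact ⟨(Ideal.quotEquivOfEq (RelDim.map_fibre_eq p q)).trans e.symm⟩

/-- The fibre ring after base change. -/
theorem exists_fibre_equiv (p : Ideal R) [p.IsPrime] (p' : Ideal R') [p'.IsPrime] [p'.LiesOver p]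
    [Algebra (Localization.AtPrime p) (Localization.AtPrime p')]
    [Localization.AtPrime.IsLiesOverAlgebra p p'] :
    ∃ e : p.Fiber S ⊗[p.ResidueField] p'.ResidueField ≃+* p'.Fiber S',
      ∀ s : S, (1 : p'.ResidueField) ⊗ₜ[R'] algebraMap S S' s =
        e (((1 : p.ResidueField) ⊗ₜ[R] s) ⊗ₜ[p.ResidueField] (1 : p'.ResidueField)) := by
  let e₀ : p'.ResidueField ⊗[R] S ≃ₐ[p'.ResidueField] p'.Fiber S' :=
    (Algebra.TensorProduct.cancelBaseChange R R' p'.ResidueField p'.ResidueField S).symm.trans
      (Algebra.TensorProduct.congr AlgEquiv.refl (Algebra.IsPushout.equiv R R' S S'))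
  let e₁ : p.Fiber S ⊗[p.ResidueField] p'.ResidueField ≃+* p'.ResidueField ⊗[R] S :=
    (Algebra.TensorProduct.comm p.ResidueField (p.Fiber S) p'.ResidueField).toRingEquiv.trans
      (Algebra.TensorProduct.cancelBaseChange R p.ResidueField p'.ResidueField
        p'.ResidueField S).toRingEquiv
  refine ⟨e₁.trans e₀.toRingEquiv, fun s => ?_⟩
  simp [e₁, e₀, Algebra.IsPushout.equiv_tmul]

/-- Local rings along a ring isomorphism. -/
theorem nonempty_localization_equiv {A B : Type u} [CommRing A] [CommRing B] (e : A ≃+* B)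
    (Q : Ideal B) [Q.IsPrime] :
    Nonempty (Localization.AtPrime (Q.comap e.toRingHom) ≃+* Localization.AtPrime Q) := by
  refine ⟨IsLocalization.ringEquivOfRingEquiv (M := (Q.comap e.toRingHom).primeCompl)
    (T := Q.primeCompl) (Localization.AtPrime (Q.comap e.toRingHom)) (Localization.AtPrime Q) e ?_⟩
  ext x
  constructor
  · rintro ⟨y, hy, rfl⟩
    exact hy
  · intro hx
    refine ⟨e.symm x, ?_, e.apply_symm_apply x⟩
    show e (e.symm x) ∉ Q
    rwa [e.apply_symm_apply]

/-- Cohen–Macaulayness of fibre local rings is invariant under base change. -/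
theorem cm_fibLocRing_iff (q : Ideal S) [q.IsPrime] (q' : Ideal S') [q'.IsPrime]
    (hq : q'.comap (algebraMap S S') = q) [IsNoetherianRing (EGA4.FibLocRing R S q)]
    (h : Algebra.FiniteType R S ∨ Algebra.FiniteType R R') :
    LocCoh.IsCohenMacaulayLocalRing (EGA4.FibLocRing R' S' q') ↔
      LocCoh.IsCohenMacaulayLocalRing (EGA4.FibLocRing R S q) := by
  let p := q.under R
  let p' := q'.under R'
  have : p'.LiesOver p := ⟨by
    show (q.comap (algebraMap R S)) = (q'.comap (algebraMap R' S')).comap (algebraMap R R')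
    rw [← hq, Ideal.comap_comap, Ideal.comap_comap, ← IsScalarTower.algebraMap_eq,
      ← IsScalarTower.algebraMap_eq]⟩
  let := Localization.AtPrime.algebraOfLiesOver p p'
  obtain ⟨Q', hQ'⟩ : ∃ Q' : PrimeSpectrum (p'.Fiber S'),
      Q'.asIdeal.comap Algebra.TensorProduct.includeRight.toRingHom = q' :=
    ⟨_, congr($((PrimeSpectrum.preimageEquivFiber R' S' ⟨p', inferInstance⟩).symm_apply_apply
      ⟨⟨q', inferInstance⟩, rfl⟩).1.asIdeal)⟩
  obtain ⟨e, he⟩ := exists_fibre_equiv (R := R) (S := S) (R' := R') (S' := S') p p'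
  let P : Ideal (p.Fiber S ⊗[p.ResidueField] p'.ResidueField) := Q'.asIdeal.comap e.toRingHom
  let Q : Ideal (p.Fiber S) :=
    P.comap (algebraMap (p.Fiber S) (p.Fiber S ⊗[p.ResidueField] p'.ResidueField))
  have hQ : Q.comap Algebra.TensorProduct.includeRight.toRingHom = q := by
    refine Eq.trans ?_ hq
    ext s
    rw [Ideal.mem_comap (f := algebraMap S S'), show algebraMap S S' s ∈ q' ↔ _ from
      (SetLike.ext_iff.mp hQ' (algebraMap S S' s)).symm]
    simp only [Q, P, Ideal.mem_comap]
    exact Iff.of_eq (congrArg (· ∈ Q'.asIdeal) (he s).symm)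
  obtain ⟨g⟩ := nonempty_equiv_fibre p q Q hQ
  obtain ⟨g'⟩ := nonempty_equiv_fibre p' q' Q'.asIdeal hQ'
  have : IsNoetherianRing (Localization.AtPrime Q) := isNoetherianRing_of_ringEquiv _ g
  have hh : Algebra.EssFiniteType p.ResidueField p'.ResidueField ∨
      Algebra.EssFiniteType p.ResidueField (p.Fiber S) := by
    rcases h with h | h
    · haveI := h
      exact Or.inr inferInstance
    · haveI := h
      haveI : Algebra.EssFiniteType R p'.ResidueField := Algebra.EssFiniteType.comp R R' _
      exact Or.inl (Algebra.EssFiniteType.of_comp R p.ResidueField p'.ResidueField)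
  have key := cm_tensor_iff p.ResidueField p'.ResidueField (p.Fiber S) Q hh P rfl
  obtain ⟨eP⟩ := nonempty_localization_equiv (A := p.Fiber S ⊗[p.ResidueField] p'.ResidueField)
    (B := p'.Fiber S') e Q'.asIdeal
  exact ⟨fun h' => GeomLoc.isCohenMacaulayLocalRing_congr _ _ g.symm (key.2
      (GeomLoc.isCohenMacaulayLocalRing_congr _ _ (g'.trans eP.symm) h')),
    fun h' => GeomLoc.isCohenMacaulayLocalRing_congr _ _ (eP.trans g'.symm) (key.1
      (GeomLoc.isCohenMacaulayLocalRing_congr _ _ g h'))⟩

end Groth.Agent.Wt.CMBase
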