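import Groth.Agent.Wt.IndQA
import Groth.Agent.AlgSp.DescentHull
import Mathlib.AlgebraicGeometry.Morphisms.FlatDescent

/-!
# Flat descent of (ind-)quasi-affineness
-/

universe u

open CategoryTheory CategoryTheory.Limits AlgebraicGeometry TopologicalSpace MorphismProperty
open MoreMor

namespace Groth.Agent.Wt.IndQADescent

/-- Quasi-affineness of qcqs schemes over affine bases descends along faithfully flat maps. -/
theorem isQuasiAffine_of_fpqc {X S S' X' : Scheme.{u}} [IsAffine S] [IsAffine S'] (p : X ⟶ S)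
    (q : S' ⟶ S) [Flat q] [Surjective q] [CompactSpace X] [QuasiSeparatedSpace X]
    {g' : X' ⟶ X} {p' : X' ⟶ S'} (hc : IsPullback g' p' p q) [X'.IsQuasiAffine] :
    X.IsQuasiAffine := by
  let c : X ⟶ Spec Γ(X, ⊤) := X.toSpecΓ
  let e : Spec Γ(X, ⊤) ⟶ S := Spec.map p.appTop ≫ S.isoSpec.inv
  have hp : c ≫ e = p := by
    simp only [c, e, ← Scheme.toSpecΓ_naturality_assoc]
    rw [← Scheme.isoSpec_hom, Iso.hom_inv_id, Category.comp_id]
  haveI : IsAffine (pullback e q) := inferInstance
  let d : X' ⟶ pullback e q := pullback.lift (g' ≫ c) p' (by rw [Category.assoc, hp, hc.w])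
  have hd : IsPullback g' d c (pullback.fst e q) := by
    refine IsPullback.of_bot ?_ (pullback.lift_fst _ _ _).symm (IsPullback.of_hasPullback e q)
    rw [pullback.lift_snd, hp]
    exact hc
  haveI : IsIso c.appTop := by
    simp only [c, Scheme.toSpecΓ_appTop]; infer_instance
  haveI : IsIso d.appTop :=
    Groth.Agent.AlgSp.isIso_appTop_of_flat c (pullback.fst e q) hd
  have hd' : IsOpenImmersion d := by
    have : d = X'.toSpecΓ ≫ Spec.map d.appTop ≫ (pullback e q).isoSpec.inv := by
      rw [← Scheme.toSpecΓ_naturality_assoc, ← Scheme.isoSpec_hom, Iso.hom_inv_id, Category.comp_id]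
    rw [this]
    infer_instance
  haveI : IsOpenImmersion c :=
    MorphismProperty.of_isPullback_of_descendsAlong (P := @IsOpenImmersion)
      (Q := (@Surjective ⊓ @Flat ⊓ @QuasiCompact : MorphismProperty Scheme.{u})) hd.flip
      ⟨⟨inferInstance, inferInstance⟩, inferInstance⟩ hd'
  constructor

/-- Ind-quasi-affineness descends along flat surjective quasi-compact morphisms. -/
theorem isIndQuasiAffineHom_of_descent {X S X' S' : Scheme.{u}} (f : X ⟶ S) (f' : X' ⟶ S')
    (g' : X' ⟶ X) (g : S' ⟶ S) [Flat g] [Surjective g] [QuasiCompact g]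
    (hc : IsPullback g' f' f g) (hf' : IsIndQuasiAffineHom f') : IsIndQuasiAffineHom f := by
  rw [IndQA.iff_forall]
  intro V hV U hUV hU
  haveI : IsAffine (V : Scheme.{u}) := hV
  haveI : CompactSpace (g ⁻¹ᵁ V : Scheme.{u}) :=
    isCompact_iff_compactSpace.mp (QuasiCompact.isCompact_preimage (f := g) _ V.2 hV.isCompact)
  haveI : IsZariskiLocalAtSource (@Flat : MorphismProperty Scheme.{u}) :=
    HasRingHomProperty.instIsZariskiLocalAtSource (Q := RingHom.Flat)
  haveI : MorphismProperty.ContainsIdentities (@Flat : MorphismProperty Scheme.{u}) :=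
    ⟨fun X => inferInstanceAs (Flat (𝟙 X))⟩
  obtain ⟨W, p, hps, hpf, hW⟩ :=
    Scheme.exists_hom_isAffine_of_isZariskiLocalAtSource.{u} @Flat (g ⁻¹ᵁ V : Scheme.{u})
  let q : W ⟶ (V : Scheme.{u}) := p ≫ (g ∣_ V)
  haveI : Surjective (g ∣_ V) :=
    MorphismProperty.of_isPullback (isPullback_morphismRestrict g V).flip ‹Surjective g›
  haveI : IsAffineHom q := inferInstance
  haveI : CompactSpace (U : Scheme.{u}) := isCompact_iff_compactSpace.mp hU
  let fU : (U : Scheme.{u}) ⟶ (V : Scheme.{u}) := f.resLE V U hUV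
  let P := pullback fU q
  haveI : IsAffineHom (pullback.fst fU q) :=
    MorphismProperty.of_isPullback (IsPullback.of_hasPullback fU q).flip ‹IsAffineHom q›
  haveI : CompactSpace P := QuasiCompact.compactSpace_of_compactSpace (pullback.fst fU q)
  -- the base change to `W` is ind-quasi-affine
  let qS : W ⟶ S' := p ≫ (g ⁻¹ᵁ V).ι
  let XW := pullback f' qS
  have hXW : IsIndQuasiAffineHom (pullback.snd f' qS) :=
    IndQA.baseChange f' _ _ _ (IsPullback.of_hasPullback f' qS) hf'
  have hbig : IsPullback (pullback.fst f' qS ≫ g') (pullback.snd f' qS) f (q ≫ V.ι) := by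
    have hq : qS ≫ g = q ≫ V.ι := by simp [qS, q]
    rw [← hq]
    exact (IsPullback.of_hasPullback f' qS).paste_horiz hc
  let j : P ⟶ XW := hbig.lift (pullback.fst fU q ≫ U.ι) (pullback.snd fU q) (by
    rw [Category.assoc, ← Scheme.Hom.resLE_comp_ι f hUV, pullback.condition_assoc])
  have hj : IsPullback j (pullback.fst fU q) (pullback.fst f' qS ≫ g') U.ι := by
    refine (IsPullback.of_bot ?_ (hbig.lift_fst _ _ _).symm hbig).flip
    rw [hbig.lift_snd]
    have hUi : U.ι ≫ f = fU ≫ V.ι := (Scheme.Hom.resLE_comp_ι f hUV).symm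
    rw [hUi]
    refine IsPullback.of_isLimit' ⟨?_⟩ ?_
    · rw [← pullback.condition_assoc]
    · refine PullbackCone.IsLimit.mk _ (fun s => pullback.lift s.fst s.snd ?_) ?_ ?_ ?_
      · exact (cancel_mono V.ι).1 (by simpa only [Category.assoc] using s.condition)
      · intro s; exact pullback.lift_fst _ _ _
      · intro s; exact pullback.lift_snd _ _ _
      · intro s m h₁ h₂
        apply pullback.hom_ext
        · rw [h₁]; exact (pullback.lift_fst _ _ _).symm
        · rw [h₂]; exact (pullback.lift_snd _ _ _).symm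
  haveI : IsOpenImmersion j :=
    MorphismProperty.of_isPullback hj.flip (inferInstanceAs (IsOpenImmersion U.ι))
  haveI : P.IsQuasiAffine := by
    have h := (IndQA.iff_forall _).1 hXW ⊤ (isAffineOpen_top W) j.opensRange le_top
      (by rw [Scheme.Hom.coe_opensRange]; exact isCompact_range j.continuous)
    exact Groth.Agent.ConsPairLib.isQuasiAffine_of_iso j.isoOpensRange
  haveI : Surjective q := inferInstance
  haveI : Flat q := inferInstance
  haveI : QuasiSeparatedSpace (U : Scheme.{u}) := by
    refine ⟨fun U₁ U₂ h₁ h₁c h₂ h₂c => ?_⟩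
    have hs : Function.Surjective (pullback.fst fU q) := Surjective.surj
    rw [← Set.image_preimage_eq (U₁ ∩ U₂) hs, Set.preimage_inter]
    exact (QuasiSeparatedSpace.inter_isCompact _ _ (h₁.preimage (pullback.fst fU q).continuous)
      (QuasiCompact.isCompact_preimage (f := pullback.fst fU q) _ h₁ h₁c)
      (h₂.preimage (pullback.fst fU q).continuous)
      (QuasiCompact.isCompact_preimage (f := pullback.fst fU q) _ h₂ h₂c)).image
      (pullback.fst fU q).continuous
  exact isQuasiAffine_of_fpqc fU q (IsPullback.of_hasPullback fU q)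

end Groth.Agent.Wt.IndQADescent
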