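import Mathlib.AlgebraicGeometry.QuasiAffine
import Mathlib.RingTheory.Localization.Away.Basic

/-!
# Global functions with prescribed non-vanishing locus, up to nilpotents

If `U` is an open of a quasi-compact quasi-separated scheme `X` and `u` is a function on `U` which, near
every point of `X`, differs by a nilpotent from a local function cutting out `U`, then `U` is the
non-vanishing locus of a global function (an extension of a power of `u`).
-/

set_option autoImplicit false
set_option linter.style.haveILetI false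

universe u

open CategoryTheory AlgebraicGeometry TopologicalSpace Opposite

noncomputable section

namespace Groth.Agent.Wt.SectionExtend

/-- Powers of a nilpotent perturbation of `t` in `A_t` come from multiples of `t` in `A`. -/
theorem exists_extend_pow {A B : Type*} [CommRing A] [CommRing B] [Algebra A B] (t : A)
    [IsLocalization.Away t B] (u : B) (h : IsNilpotent (u - algebraMap A B t)) :
    ∃ n, ∀ N, n ≤ N → ∃ T : A, algebraMap A B (t * T) = u ^ N := by
  obtain ⟨e, he⟩ := h
  set a := u - algebraMap A B t with ha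
  have hb : ∀ i, ∃ (m : ℕ) (b : A), a ^ i * algebraMap A B t ^ m = algebraMap A B b :=
    fun i => IsLocalization.Away.surj t (a ^ i)
  choose m b hb using hb
  refine ⟨(Finset.range e).sup m + e + 1, fun N hN => ?_⟩
  let M : Submodule A B := LinearMap.range ((Algebra.linearMap A B).comp (LinearMap.mul A A t))
  suffices u ^ N ∈ M by
    obtain ⟨T, hT⟩ := this
    exact ⟨T, hT⟩
  have hu : u = a + algebraMap A B t := by rw [ha]; ring
  rw [hu, add_pow]
  refine M.sum_mem fun i _ => ?_
  by_cases hi : e ≤ i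
  · have : a ^ i = 0 := by
      obtain ⟨j, rfl⟩ := Nat.exists_eq_add_of_le hi
      rw [pow_add, he, zero_mul]
    simp [this]
  · have hm : m i ≤ (Finset.range e).sup m := Finset.le_sup (Finset.mem_range.mpr (by omega))
    obtain ⟨k, hk⟩ := Nat.exists_eq_add_of_le (show m i + 1 ≤ N - i by omega)
    refine ⟨t ^ k * b i * (N.choose i : A), ?_⟩
    show algebraMap A B (t * (t ^ k * b i * (N.choose i : A))) = _
    rw [hk]
    simp only [map_mul, map_pow, map_natCast, ← hb i]
    ring

/-- Two elements whose difference is killed by the `P`-th power of both have equal `2P+1`-th powers. -/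
theorem pow_eq_pow {A : Type*} [CommRing A] (x y : A) (P : ℕ) (hx : x ^ P * (x - y) = 0)
    (hy : y ^ P * (x - y) = 0) : x ^ (2 * P + 1) = y ^ (2 * P + 1) := by
  rw [← sub_eq_zero, ← geom_sum₂_mul x y (2 * P + 1), Finset.sum_mul]
  refine Finset.sum_eq_zero fun i hi => ?_
  rw [Finset.mem_range] at hi
  rcases le_or_gt P i with h | h
  · obtain ⟨j, rfl⟩ := Nat.exists_eq_add_of_le h
    rw [pow_add, show x ^ P * x ^ j * y ^ (2 * P + 1 - 1 - (P + j)) * (x - y) =
      x ^ j * y ^ (2 * P + 1 - 1 - (P + j)) * (x ^ P * (x - y)) by ring, hx, mul_zero]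
  · obtain ⟨j, hj⟩ := Nat.exists_eq_add_of_le (show P ≤ 2 * P + 1 - 1 - i by omega)
    rw [hj, pow_add, show x ^ i * (y ^ P * y ^ j) * (x - y) =
      x ^ i * y ^ j * (y ^ P * (x - y)) by ring, hy, mul_zero]

variable {X : Scheme.{u}}

/-- An open which is locally `D(t)`, with a function differing from `t` by a nilpotent, is the
non-vanishing locus of a global function. -/
theorem exists_basicOpen_eq [CompactSpace X] [QuasiSeparatedSpace X] (U : X.Opens) (u : Γ(X, U))
    (H : ∀ x : X, ∃ V : X.Opens, IsAffineOpen V ∧ x ∈ V ∧ ∃ t : Γ(X, V), ∃ e : X.basicOpen t ≤ U,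
      X.basicOpen t = V ⊓ U ∧
      IsNilpotent (X.presheaf.map (homOfLE e).op u -
        X.presheaf.map (homOfLE (X.basicOpen_le t)).op t)) :
    ∃ f : Γ(X, ⊤), X.basicOpen f = U := by
  classical
  choose V hV hxV t e he hnil using H
  obtain ⟨s, hs⟩ := isCompact_univ.elim_finite_subcover (fun x : X => (V x : Set X))
    (fun x => (V x).2) fun x _ => Set.mem_iUnion.mpr ⟨x, hxV x⟩
  have hext : ∀ x : X, ∃ n, ∀ N, n ≤ N → ∃ T : Γ(X, V x),
      X.presheaf.map (homOfLE (X.basicOpen_le (t x))).op (t x * T) =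
        X.presheaf.map (homOfLE (e x)).op u ^ N := fun x => by
    have := (hV x).isLocalization_basicOpen (t x)
    exact exists_extend_pow (A := Γ(X, V x)) (B := Γ(X, X.basicOpen (t x))) (t x) _ (hnil x)
  choose n hn using hext
  choose T hT using fun x : s => hn x.1 (s.sup n + 1) (by
    have := Finset.le_sup (f := n) x.2; omega)
  let g : ∀ x : s, Γ(X, V x.1) := fun x => t x.1 * T x
  have hbo : ∀ x : s, X.basicOpen (g x) = V x.1 ⊓ U := fun x => by
    refine le_antisymm ?_ ?_
    · rw [show g x = t x.1 * T x from rfl, Scheme.basicOpen_mul, ← he x.1]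
      exact inf_le_left
    · rw [← he x.1]
      have h1 : X.basicOpen (X.presheaf.map (homOfLE (X.basicOpen_le (t x.1))).op (t x.1)) =
          X.basicOpen (t x.1) := by
        rw [Scheme.basicOpen_res, inf_idem]
      have hunit : IsUnit (X.presheaf.map (homOfLE (e x.1)).op u) := by
        have ht : IsUnit (X.presheaf.map (homOfLE (X.basicOpen_le (t x.1))).op (t x.1)) :=
          RingedSpace.isUnit_res_basicOpen _ _
        have := IsNilpotent.isUnit_add_left_of_commute (hnil x.1) ht (Commute.all _ _)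
        simpa using this
      have h2 := X.basicOpen_of_isUnit (hunit.pow (s.sup n + 1))
      rw [← hT x, Scheme.basicOpen_res] at h2
      exact inf_eq_left.mp h2
  have hpair : ∀ x y : s, ∃ P, ∀ Q, P ≤ Q →
      X.presheaf.map (homOfLE (inf_le_left : V x.1 ⊓ V y.1 ≤ V x.1)).op (g x) ^ (2 * Q + 1) =
        X.presheaf.map (homOfLE (inf_le_right : V x.1 ⊓ V y.1 ≤ V y.1)).op (g y) ^ (2 * Q + 1) := by
    intro x y
    have hWc : IsCompact ((V x.1 ⊓ V y.1 : X.Opens) : Set X) :=
      QuasiSeparatedSpace.inter_isCompact _ _ (V x.1).2 (hV x.1).isCompact (V y.1).2 (hV y.1).isCompact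
    set a := X.presheaf.map (homOfLE (inf_le_left : V x.1 ⊓ V y.1 ≤ V x.1)).op (g x) with ha
    set b := X.presheaf.map (homOfLE (inf_le_right : V x.1 ⊓ V y.1 ≤ V y.1)).op (g y) with hb
    have hzero : ∀ D : X.Opens, ∀ hD : D ≤ V x.1 ⊓ V y.1, D ≤ U →
        X.presheaf.map (homOfLE hD).op (a - b) = 0 := by
      intro D hD hDU
      have key : ∀ z : s, ∀ hz : D ≤ V z.1, X.presheaf.map (homOfLE hz).op (g z) =
          X.presheaf.map (homOfLE hDU).op u ^ (s.sup n + 1) := by
        intro z hz
        have hDt : D ≤ X.basicOpen (t z.1) := by rw [he z.1]; exact le_inf hz hDU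
        have := congrArg (X.presheaf.map (homOfLE hDt).op) (hT z)
        rw [map_pow] at this
        simp only [← CommRingCat.comp_apply, ← Functor.map_comp] at this
        exact this
      rw [map_sub, sub_eq_zero, ha, hb]
      simp only [← CommRingCat.comp_apply, ← Functor.map_comp, ← op_comp, homOfLE_comp]
      rw [key x, key y]
    have hax : X.basicOpen a ≤ U := by
      rw [ha, Scheme.basicOpen_res, hbo]; exact inf_le_right.trans inf_le_right
    have hby : X.basicOpen b ≤ U := by
      rw [hb, Scheme.basicOpen_res, hbo]; exact inf_le_right.trans inf_le_right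
    obtain ⟨P, hP⟩ := exists_pow_mul_eq_zero_of_res_basicOpen_eq_zero_of_isCompact X hWc (a - b) a
      (hzero _ (X.basicOpen_le a) hax)
    obtain ⟨P', hP'⟩ := exists_pow_mul_eq_zero_of_res_basicOpen_eq_zero_of_isCompact X hWc (a - b) b
      (hzero _ (X.basicOpen_le b) hby)
    refine ⟨P + P', fun Q hQ => pow_eq_pow a b Q ?_ ?_⟩
    · obtain ⟨j, rfl⟩ := Nat.exists_eq_add_of_le (show P ≤ Q by omega)
      rw [add_comm, pow_add, mul_assoc, hP, mul_zero]
    · obtain ⟨j, rfl⟩ := Nat.exists_eq_add_of_le (show P' ≤ Q by omega)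
      rw [add_comm, pow_add, mul_assoc, hP', mul_zero]
  choose P hP using hpair
  let Q := Finset.univ.sup fun p : s × s => P p.1 p.2
  have hcover : (⊤ : X.Opens) ≤ iSup (fun x : s => V x.1) := fun z _ => by
    obtain ⟨x, hx, hzx⟩ := Set.mem_iUnion₂.mp (hs (Set.mem_univ z))
    exact Opens.mem_iSup.mpr ⟨⟨x, hx⟩, hzx⟩
  obtain ⟨f, hf, -⟩ := X.sheaf.existsUnique_gluing' (fun x : s => V x.1) ⊤ (fun x => homOfLE le_top)
    hcover (fun x => g x ^ (2 * Q + 1)) (fun x y => by
      have := hP x y Q (Finset.le_sup (f := fun p : s × s => P p.1 p.2) (Finset.mem_univ (x, y)))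
      rw [← map_pow, ← map_pow] at this
      exact this)
  refine ⟨f, ?_⟩
  have hres : ∀ x : s, V x.1 ⊓ X.basicOpen f = V x.1 ⊓ U := fun x => by
    have h1 : X.presheaf.map (homOfLE (le_top : V x.1 ≤ ⊤)).op f = g x ^ (2 * Q + 1) := hf x
    rw [← Scheme.basicOpen_res X f (homOfLE (le_top : V x.1 ≤ ⊤)).op, h1,
      X.basicOpen_pow (g x) (by omega), hbo x]
  ext z
  obtain ⟨x, hzx⟩ := Opens.mem_iSup.mp (hcover (Opens.mem_top z))
  constructor
  · intro hz
    have : z ∈ V x.1 ⊓ X.basicOpen f := ⟨hzx, hz⟩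
    rw [hres x] at this
    exact this.2
  · intro hz
    have : z ∈ V x.1 ⊓ U := ⟨hzx, hz⟩
    rw [← hres x] at this
    exact this.2

end Groth.Agent.Wt.SectionExtend
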