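import Groth.Agent.Wt.ChevalleyGeneral
import Groth.Agent.Wt.SectionExtend

/-!
# Quasi-affineness passes through surjective closed immersions

`isQuasiAffine i`: if `i : Z ⟶ X` is a surjective closed immersion and `Z` is quasi-affine, so is `X`.
-/

set_option autoImplicit false
set_option linter.style.haveILetI false

universe u

open CategoryTheory AlgebraicGeometry TopologicalSpace Opposite

noncomputable section

namespace Groth.Agent.Wt.QAThick

variable {Z X : Scheme.{u}}

/-- A function on an open which vanishes on a surjective closed subscheme is nilpotent (affine case). -/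
theorem isNilpotent_of_app_eq_zero (i : Z ⟶ X) [Surjective i] {W : X.Opens}
    (hW : IsAffineOpen W) (c : Γ(X, W)) (hc : i.app W c = 0) : IsNilpotent c := by
  rw [Scheme.isNilpotent_iff_basicOpen_eq_bot_of_isCompact hW.isCompact]
  have h : i ⁻¹ᵁ X.basicOpen c = ⊥ := by
    rw [Scheme.preimage_basicOpen, hc, Scheme.basicOpen_zero]
  ext x
  obtain ⟨z, rfl⟩ := i.surjective x
  constructor
  · intro hx
    have hz : z ∈ i ⁻¹ᵁ X.basicOpen c := hx
    rw [h] at hz
    exact hz.elim
  · intro hx
    exact hx.elim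

/-- Preimage of opens along a surjective map is injective. -/
theorem preimage_inj (i : Z ⟶ X) [Surjective i] {A B : X.Opens} (h : i ⁻¹ᵁ A = i ⁻¹ᵁ B) :
    A = B := by
  ext x
  obtain ⟨z, rfl⟩ := i.surjective x
  exact SetLike.ext_iff.mp h z

/-- Quasi-affineness of a scheme with the same space as a quasi-affine closed subscheme. -/
theorem isQuasiAffine (i : Z ⟶ X) [IsClosedImmersion i] [Surjective i] [Z.IsQuasiAffine] :
    X.IsQuasiAffine := by
  have : CompactSpace X := i.surjective.compactSpace i.continuous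
  have := Chevalley.isSeparated_target i
  refine Scheme.IsQuasiAffine.of_forall_exists_mem_basicOpen X fun x => ?_
  obtain ⟨z, rfl⟩ := i.surjective x
  obtain ⟨_, ⟨_, ⟨r, hr, rfl⟩, rfl⟩, hzr, -⟩ := (Scheme.IsQuasiAffine.isBasis_basicOpen
    Z).exists_subset_of_mem_open (Set.mem_univ z) isOpen_univ
  obtain ⟨U, hU⟩ : ∃ U : X.Opens, i ⁻¹ᵁ U = Z.basicOpen r := by
    obtain ⟨A, hA, hAe⟩ := i.isClosedEmbedding.isInducing.isOpen_iff.mp (Z.basicOpen r).2
    exact ⟨⟨A, hA⟩, Opens.ext hAe⟩
  have hUaff : IsAffineOpen U := by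
    have : IsAffine ((i ⁻¹ᵁ U : Z.Opens) : Scheme.{u}) := by rw [hU]; exact hr
    have : IsClosedImmersion (i ∣_ U) := IsZariskiLocalAtTarget.restrict ‹IsClosedImmersion i› _
    have : Surjective (i ∣_ U) := IsZariskiLocalAtTarget.restrict ‹Surjective i› _
    exact Chevalley.isAffine (i ∣_ U)
  obtain ⟨u, hu⟩ := i.app_surjective U hUaff (Z.presheaf.map (homOfLE le_top).op r)
  obtain ⟨f, hf⟩ := SectionExtend.exists_basicOpen_eq U u fun y => by
    obtain ⟨_, ⟨V, hV, rfl⟩, hyV, -⟩ := X.isBasis_affineOpens.exists_subset_of_mem_open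
      (Set.mem_univ y) isOpen_univ
    obtain ⟨t, ht⟩ := i.app_surjective V hV (Z.presheaf.map (homOfLE le_top).op r)
    have htU : X.basicOpen t = V ⊓ U := preimage_inj i (by
      rw [Scheme.preimage_basicOpen, ht, Scheme.basicOpen_res, Scheme.Hom.preimage_inf, hU])
    refine ⟨V, hV, hyV, t, htU.le.trans inf_le_right, htU, ?_⟩
    refine isNilpotent_of_app_eq_zero i (hV.basicOpen t) _ ?_
    rw [map_sub, sub_eq_zero]
    simp only [← CommRingCat.comp_apply, Scheme.Hom.naturality]
    simp only [CommRingCat.comp_apply, hu, ht]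
    simp only [← CommRingCat.comp_apply, ← Functor.map_comp]
    rfl
  refine ⟨f, hf ▸ hUaff, ?_⟩
  rw [hf]
  have : z ∈ i ⁻¹ᵁ U := by rw [hU]; exact hzr
  exact this

end Groth.Agent.Wt.QAThick
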