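import Groth.Agent.Wt.Apply

/-!
# Weightings near a point: parts with one geometric point and constant sums
-/

universe u

open AlgebraicGeometry CategoryTheory Limits
open scoped Topology

namespace Groth.Agent.Wt.Local

open GeomPts EtNbhd Split Parts Master

variable {X Y T P : Scheme.{u}}

theorem geomSum_single (q : P ⟶ T) [LocallyQuasiFinite q] {W : P.Opens} {z : P} {u : T}
    (hW : IsFinPart q u W z) (hz : IsGeomSingle q z) (w : P → ℤ) {K : Type u} [Field K]
    [IsAlgClosed K] (y : Spec (CommRingCat.of K) ⟶ T) (hy : pt y = u) : geomSum q W w y = w z := by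
  obtain ⟨c, hc⟩ := surjective_pt q y ⟨z, hW.map_eq.trans hy.symm⟩
  have hc' : pt c.1 = z := congrArg Subtype.val hc
  have : {x : GeomFib q y | pt x.1 ∈ (W : Set P)} = {c} := by
    ext x
    constructor
    · intro hx
      have hxz : pt x.1 = z := hW.unique _ hx ((apply_pt q y x).trans hy)
      exact Subtype.ext (hz K x.1 c.1 hxz hc' (x.2.trans c.2.symm))
    · rintro rfl
      show pt x.1 ∈ W
      rw [hc']
      exact hW.mem
  unfold geomSum
  rw [this, finsum_mem_singleton, hc']

/-- Near a point, finitely many points of the fibre acquire parts with constant geometric sums. -/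
theorem exists_single (f : X ⟶ Y) [LocallyOfFiniteType f] [LocallyQuasiFinite f] {w : X → ℤ}
    (hw : MoreMor.IsWeighting f w) (y : Y) (A : Set X) (hA : A.Finite) (hs : ∀ x ∈ A, f x = y) :
    ∃ (V : Scheme.{u}) (g : V ⟶ Y) (u : V), Etale g ∧ g u = y ∧
      ∃ (J : Set ↥(pullback f g)) (W : ↥(pullback f g) → (pullback f g).Opens), J.Finite ∧
        (∀ z ∈ J, IsFinPart (pullback.snd f g) u (W z) z ∧ IsGeomSingle (pullback.snd f g) z ∧
          pullback.fst f g z ∈ A) ∧
        (∀ v, pullback.snd f g v = u → pullback.fst f g v ∈ A → v ∈ J) ∧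
        ∀ᶠ n in 𝓝 u, ∀ z ∈ J, ∀ (K : Type u) [Field K] [IsAlgClosed K]
          (yb : Spec (CommRingCat.of K) ⟶ V), pt yb = n →
            geomSum (pullback.snd f g) (W z) (fun p => w (pullback.fst f g p)) yb =
              w (pullback.fst f g z) := by
  obtain ⟨V, g, u, hg, hu, J, W, hJ, hJW, hmem⟩ :=
    Groth.Agent.Wt.Pure.exists_pureParts f y A hA hs (fun x _ => f.quasiFiniteAt x)
  refine ⟨V, g, u, hg, hu, J, W, hJ, hJW, hmem, hJ.eventually_all.mpr fun z hz => ?_⟩
  obtain ⟨N, huN, c, hc⟩ := geomSum_eventually_const hw g (W z) (hJW z hz).1.finite u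
  filter_upwards [N.2.mem_nhds huN] with n hn K _ _ yb hyb
  obtain ⟨yb₀, hyb₀⟩ := exists_geomPt u
  rw [hc K yb (hyb ▸ hn), ← hc _ yb₀ (hyb₀.symm ▸ huN),
    geomSum_single _ (hJW z hz).1 (hJW z hz).2.1 _ yb₀ hyb₀]

variable (q : P ⟶ T) (w : P → ℤ) {K : Type u} [Field K] (y : Spec (CommRingCat.of K) ⟶ T)

theorem le_geomSum {A : Set P} (hA : {x : GeomFib q y | pt x.1 ∈ A}.Finite) (hw : ∀ p, 0 < w p)
    (x : GeomFib q y) (hx : pt x.1 ∈ A) : w (pt x.1) ≤ geomSum q A w y := by
  unfold geomSum
  rw [finsum_mem_eq_finite_toFinset_sum _ hA]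
  exact Finset.single_le_sum (f := fun a : GeomFib q y => w (pt a.1)) (fun a _ => (hw _).le)
    (hA.mem_toFinset.mpr hx)

theorem exists_of_geomSum_ne_zero {A : Set P} (h : geomSum q A w y ≠ 0) :
    ∃ x : GeomFib q y, pt x.1 ∈ A := by
  by_contra h'
  push Not at h'
  refine h (finsum_mem_eq_zero_of_forall_eq_zero fun x hx => absurd hx (h' x))

theorem geomSum_univ : geomSum q Set.univ w y = geomInt q y w := by
  unfold geomSum geomInt
  exact (finsum_mem_congr (by simp) fun _ _ => rfl).trans (finsum_mem_univ _)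

/-- Finitely many finite parts of a separated morphism with distinct base points are disjoint near
the base point. -/
theorem eventually_disjoint [IsSeparated q] {u : T} {J : Set P} {W : P → P.Opens} (hJ : J.Finite)
    (hW : ∀ z ∈ J, IsFinPart q u (W z) z) :
    ∀ᶠ n in 𝓝 u, ∀ z ∈ J, ∀ z' ∈ J, z ≠ z' → ∀ x ∈ W z, q x = n → x ∉ W z' := by
  refine hJ.eventually_all.mpr fun z hz => hJ.eventually_all.mpr fun z' hz' => ?_
  by_cases hne : z = z'
  · exact .of_forall fun n h => absurd hne h
  have hfin := (hW z' hz').finite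
  have : IsFinite (W z').ι := IsFinite.of_comp (W z').ι q
  have hcl : IsClosed ((W z' : Set P)) := by
    rw [← Scheme.Opens.range_ι]
    exact (W z').ι.isClosedMap.isClosed_range
  obtain ⟨N, huN, hN⟩ := exists_nbhd_avoid q (W z) (hW z hz).finite _ hcl u fun x hx hxu hx' =>
    hne (((hW z hz).unique x hx hxu).symm.trans ((hW z' hz').unique x hx' hxu))
  filter_upwards [N.2.mem_nhds huN] with n hn _ x hx hxn
  exact hN x hx (show q x ∈ N from hxn ▸ hn)

end Groth.Agent.Wt.Local
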