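import Groth.Agent.Wt.QFPoly
import Mathlib.RingTheory.KrullDimension.NonZeroDivisors
import Mathlib.RingTheory.KrullDimension.Polynomial

/-!
# Fibre dimensions of `a ^ n + b` for large `n`
-/

set_option autoImplicit false

universe u

open MvPolynomial

namespace Groth.Agent.Wt.QFShift

open QFPoly

/-- Quasi-finite maps do not increase the dimension. -/
theorem ringKrullDim_le_of_quasiFinite {R S : Type u} [CommRing R] [CommRing S] [Algebra R S]
    [Algebra.QuasiFinite R S] : ringKrullDim S ≤ ringKrullDim R := by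
  refine Order.krullDim_le_of_strictMono (PrimeSpectrum.comap (algebraMap R S)) fun Q Q' h => ?_
  refine lt_of_le_of_ne (Ideal.comap_mono h.le) fun e => h.ne (PrimeSpectrum.ext ?_)
  exact Algebra.QuasiFinite.eq_of_le_of_under_eq (R := R) Q.asIdeal Q'.asIdeal h.le
    (congrArg PrimeSpectrum.asIdeal e)

/-- A hypersurface in affine `(m + 1)`-space has dimension at most `m`. -/
theorem ringKrullDim_hypersurface_le {k : Type u} [Field k] {m : ℕ}
    (h : MvPolynomial (Fin (m + 1)) k) (h0 : h ≠ 0) :
    ringKrullDim (MvPolynomial (Fin (m + 1)) k ⧸ Ideal.span {h}) ≤ (m : WithBot ℕ∞) := by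
  have h1 := ringKrullDim_quotient_succ_le_of_nonZeroDivisor (r := h)
    (mem_nonZeroDivisors_of_ne_zero h0)
  rw [MvPolynomial.ringKrullDim_of_isNoetherianRing, ringKrullDim_eq_zero_of_field] at h1
  simp only [zero_add, Nat.card_eq_fintype_card, Fintype.card_fin] at h1
  generalize ringKrullDim (MvPolynomial (Fin (m + 1)) k ⧸ Ideal.span {h}) = x at h1 ⊢
  induction x with
  | bot => exact bot_le
  | coe y =>
    induction y with
    | top =>
      have h2 : (((⊤ : ℕ∞) + 1 : ℕ∞) : WithBot ℕ∞) ≤ ((((m : ℕ∞)) + 1 : ℕ∞) : WithBot ℕ∞) := by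
        exact_mod_cast h1
      rw [WithBot.coe_le_coe, top_add, top_le_iff] at h2
      exact absurd h2 (by exact_mod_cast ENat.coe_ne_top (m + 1))
    | coe y =>
      have h2 : ((y + 1 : ℕ) : WithBot ℕ∞) ≤ ((m + 1 : ℕ) : WithBot ℕ∞) := by
        push_cast; exact h1
      have h3 : y + 1 ≤ m + 1 := by exact_mod_cast h2
      have h4 : (y : WithBot ℕ∞) ≤ (m : WithBot ℕ∞) := by exact_mod_cast (by omega : y ≤ m)
      exact h4

/-- Substituting `z = u₀ - T ^ n` into a nonzero polynomial of small degree gives a nonzero one. -/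
theorem exists_substituted_relation {L A : Type u} [Field L] [CommRing A] [Algebra L A] {d : ℕ}
    (g : MvPolynomial (Fin (d + 2)) L) (hg : g ≠ 0) (n : ℕ) (hdeg : g.totalDegree < n) (u₀ : L)
    (c : Fin (d + 1) → A) (z : A) (hz : z = algebraMap L A u₀ - c 0 ^ n)
    (ha : aeval (Fin.cons z c) g = 0) :
    ∃ h : MvPolynomial (Fin (d + 1)) L, h ≠ 0 ∧ aeval c h = 0 := by
  classical
  let T : Fin (d + 1) → MvPolynomial (Fin (d + 1)) L := X
  let s : Fin (d + 2) → MvPolynomial (Fin (d + 1)) L := Fin.cons (C u₀ - X 0 ^ n) X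
  refine ⟨aeval s g, fun hzero => hg ?_, ?_⟩
  swap
  · rw [← AlgHom.comp_apply, comp_aeval, ← ha]
    congr 2
    funext i
    refine Fin.cases ?_ ?_ i
    · simp [s, hz]
    · intro i; simp [s]
  by_contra hne
  let W : (Fin (d + 2) →₀ ℕ) → ℕ := fun v => n * v 0 + v 1
  obtain ⟨v₀, hv₀, hmax⟩ := Finset.exists_max_image g.support W (support_nonempty.mpr hg)
  let E := finSuccEquiv L d
  let Ys : (Fin (d + 2) →₀ ℕ) → MvPolynomial (Fin d) L := fun v => ∏ i : Fin d, X i ^ v i.succ.succ
  let term : (Fin (d + 2) →₀ ℕ) → Polynomial (MvPolynomial (Fin d) L) := fun v =>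
    Polynomial.C (C (g.coeff v) * Ys v) *
      ((Polynomial.C (C u₀) - Polynomial.X ^ n) ^ v 0 * Polynomial.X ^ v 1)
  have hE : E (aeval s g) = ∑ v ∈ g.support, term v := by
    rw [aeval_def, eval₂_eq', map_sum]
    refine Finset.sum_congr rfl fun v _ => ?_
    rw [map_mul, map_prod, Fin.prod_univ_succ, Fin.prod_univ_succ]
    simp only [E, s, term, Ys, map_pow, Fin.cons_zero, Fin.cons_succ, map_sub, finSuccEquiv_X_zero,
      finSuccEquiv_X_succ, MvPolynomial.algebraMap_eq, map_mul, map_prod]
    simp only [finSuccEquiv_apply, eval₂Hom_C, RingHom.coe_comp, Function.comp_apply, Fin.succ_zero_eq_one]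
    ring
  have hdegterm : ∀ v, (term v).natDegree ≤ W v := fun v => by
    refine (Polynomial.natDegree_C_mul_le _ _).trans (Polynomial.natDegree_mul_le.trans ?_)
    refine add_le_add (Polynomial.natDegree_pow_le.trans ?_) (Polynomial.natDegree_X_pow_le _)
    rw [mul_comm n]
    refine Nat.mul_le_mul le_rfl ?_
    exact (Polynomial.natDegree_sub_le _ _).trans
      (max_le (by simp) (Polynomial.natDegree_X_pow_le _))
  have hcoef : ∀ v, (term v).coeff (W v) = C ((-1) ^ v 0 * g.coeff v) * Ys v := fun v => by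
    have h1 : (Polynomial.C (C u₀) - Polynomial.X ^ n : Polynomial (MvPolynomial (Fin d) L)
        ).coeff n = -1 := by
      rw [Polynomial.coeff_sub, Polynomial.coeff_C, Polynomial.coeff_X_pow, if_neg (by omega),
        if_pos rfl, zero_sub]
    have h2 : (Polynomial.C (C u₀) - Polynomial.X ^ n : Polynomial (MvPolynomial (Fin d) L)
        ).natDegree ≤ n :=
      (Polynomial.natDegree_sub_le _ _).trans (max_le (by simp) (Polynomial.natDegree_X_pow_le _))
    rw [Polynomial.coeff_C_mul, Polynomial.coeff_mul_X_pow, mul_comm n (v 0),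
      Polynomial.coeff_pow_of_natDegree_le h2, h1, map_mul, map_pow, map_neg, map_one]
    ring
  have hinj : ∀ v ∈ g.support, W v = W v₀ → v 0 = v₀ 0 ∧ v 1 = v₀ 1 := by
    intro v hv e
    have b1 : v 1 < n := ((monomial_le_degreeOf 1 hv).trans (degreeOf_le_totalDegree g 1)).trans_lt hdeg
    have b2 : v₀ 1 < n :=
      ((monomial_le_degreeOf 1 hv₀).trans (degreeOf_le_totalDegree g 1)).trans_lt hdeg
    have e' : n * v 0 + v 1 = n * v₀ 0 + v₀ 1 := e
    have e1 := congrArg (fun x => x % n) e'
    simp only [Nat.mul_add_mod, Nat.mod_eq_of_lt b1, Nat.mod_eq_of_lt b2] at e1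
    refine ⟨?_, e1⟩
    rw [e1] at e'
    exact Nat.eq_of_mul_eq_mul_left (by omega) (Nat.add_right_cancel e')
  -- look at the monomial of `Ys v₀` in the top coefficient
  let w : Fin d →₀ ℕ := Finsupp.equivFunOnFinite.symm fun i => v₀ i.succ.succ
  have hYs : ∀ v, Ys v = monomial (Finsupp.equivFunOnFinite.symm fun i : Fin d => v i.succ.succ) 1 := by
    intro v
    simp only [Ys]
    rw [monomial_eq, map_one, one_mul, Finsupp.prod_fintype _ _ (fun i => pow_zero _)]
    exact Finset.prod_congr rfl fun i _ => by simp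
  have h0 := congrArg (fun P => (Polynomial.coeff P (W v₀)).coeff w) hE
  simp only [hzero, map_zero, Polynomial.coeff_zero, coeff_zero, Polynomial.finsetSum_coeff,
    MvPolynomial.coeff_sum] at h0
  rw [Finset.sum_eq_single v₀ (fun v hv hne' => ?_) (fun h => absurd hv₀ h)] at h0
  · rw [hcoef, hYs, C_mul_monomial, coeff_monomial, if_pos rfl, mul_one] at h0
    exact mem_support_iff.mp hv₀ ((mul_eq_zero.mp h0.symm).resolve_left
      (pow_ne_zero _ (neg_ne_zero.mpr one_ne_zero)))
  · rcases (hmax v hv).lt_or_eq with hlt | heq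
    · rw [Polynomial.coeff_eq_zero_of_natDegree_lt ((hdegterm v).trans_lt hlt), coeff_zero]
    · rw [← heq, hcoef, hYs, C_mul_monomial, coeff_monomial, if_neg]
      intro e
      refine hne' (Finsupp.ext fun i => ?_)
      obtain ⟨e0, e1⟩ := hinj v hv heq
      refine Fin.cases e0 (fun j => ?_) i
      refine Fin.cases ?_ (fun j => ?_) j
      · exact e1
      · exact DFunLike.congr_fun e j

variable {R S : Type u} [CommRing R] [CommRing S] [Algebra R S] [Algebra.FiniteType R S]

/-- The fibre dimensions of `a ^ n + b` are bounded by those of `a` for `n` large. -/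
theorem exists_bound (d : ℕ) (a b : S)
    (ha : ∀ P : PrimeSpectrum (Polynomial R), letI := (Polynomial.aeval (R := R) a).toRingHom.toAlgebra
      ringKrullDim (P.asIdeal.Fiber S) ≤ d) :
    ∃ n₀ : ℕ, ∀ n ≥ n₀, ∀ P : PrimeSpectrum (Polynomial R),
      letI := (Polynomial.aeval (R := R) (a ^ n + b)).toRingHom.toAlgebra
      ringKrullDim (P.asIdeal.Fiber S) ≤ d := by
  classical
  obtain ⟨y, hy⟩ : ∃ y : Fin d → S, (aeval (R := R) (Fin.cons a y)).toRingHom.QuasiFinite := by
    let := (Polynomial.aeval (R := R) a).toRingHom.toAlgebra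
    have : IsScalarTower R (Polynomial R) S :=
      .of_algebraMap_eq fun x => ((Polynomial.aeval (R := R) a).commutes x).symm
    have : Algebra.FiniteType (Polynomial R) S := .of_restrictScalars_finiteType R _ _
    obtain ⟨φ, hφ⟩ := exists_quasiFinite (R := Polynomial R) (S := S) d fun p hp => ha ⟨p, hp⟩
    refine ⟨fun i => φ (X i), RingHom.QuasiFinite.of_comp
      (g := MvPolynomial.eval₂Hom (Polynomial.eval₂RingHom C (X 0)) (fun i : Fin d => X i.succ)) ?_⟩
    convert hφ using 1
    refine MvPolynomial.ringHom_ext' (Polynomial.ringHom_ext (fun r => ?_) ?_) (fun i => ?_)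
    · simp only [RingHom.comp_apply, eval₂Hom_C, Polynomial.coe_eval₂RingHom, Polynomial.eval₂_C]
      show aeval _ (C r) = φ (C (Polynomial.C r))
      rw [aeval_C, ← MvPolynomial.algebraMap_eq, φ.commutes, RingHom.algebraMap_toAlgebra]
      exact (Polynomial.aeval_C a r).symm
    · simp only [RingHom.comp_apply, eval₂Hom_C, Polynomial.coe_eval₂RingHom, Polynomial.eval₂_X]
      show aeval _ (X 0) = φ (C Polynomial.X)
      rw [aeval_X, ← MvPolynomial.algebraMap_eq, φ.commutes, RingHom.algebraMap_toAlgebra]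
      exact (Polynomial.aeval_X a).symm
    · simp
  let e : Fin (d + 1) → S := Fin.cons a y
  have hdim : ∀ (p : Ideal R) [p.IsPrime], ringKrullDim (p.Fiber S) < ((d + 2 : ℕ) : WithBot ℕ∞) := by
    intro p _
    let := (fibEval e p).toRingHom.toAlgebra
    have : Algebra.QuasiFinite (MvPolynomial (Fin (d + 1)) p.ResidueField) (p.Fiber S) :=
      (quasiFinite_iff e).mp hy p
    refine lt_of_le_of_lt (ringKrullDim_le_of_quasiFinite
      (R := MvPolynomial (Fin (d + 1)) p.ResidueField)) ?_
    rw [MvPolynomial.ringKrullDim_of_isNoetherianRing, ringKrullDim_eq_zero_of_field, zero_add,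
      Nat.card_eq_fintype_card, Fintype.card_fin]
    exact_mod_cast (by omega : d + 1 < d + 2)
  obtain ⟨T, hT⟩ := exists_uniform_relation (Fin.cons b e) hdim
  refine ⟨T.sup (fun g => g.totalDegree) + 1, fun n hn P => ?_⟩
  let := (Polynomial.aeval (R := R) (a ^ n + b)).toRingHom.toAlgebra
  have : IsScalarTower R (Polynomial R) S :=
    .of_algebraMap_eq fun x => ((Polynomial.aeval (R := R) (a ^ n + b)).commutes x).symm
  have : Algebra.FiniteType (Polynomial R) S := .of_restrictScalars_finiteType R _ _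
  have hyP : (aeval (R := Polynomial R) e).toRingHom.QuasiFinite := by
    refine RingHom.QuasiFinite.of_comp (g := MvPolynomial.map (Polynomial.C : R →+* Polynomial R)) ?_
    convert hy using 1
    refine MvPolynomial.ringHom_ext (fun r => ?_) (fun i => ?_)
    · simp only [RingHom.comp_apply, map_C]
      show aeval e (C (Polynomial.C r)) = aeval _ (C r)
      rw [aeval_C, aeval_C, RingHom.algebraMap_toAlgebra]
      exact Polynomial.aeval_C _ r
    · simp [e]
  have hqf : (fibEval e P.asIdeal).toRingHom.QuasiFinite := (quasiFinite_iff e).mp hyP P.asIdeal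
  -- the residue fields
  let q : Ideal R := P.asIdeal.under R
  have : P.asIdeal.LiesOver q := ⟨rfl⟩
  let := Localization.AtPrime.algebraOfLiesOver q P.asIdeal
  obtain ⟨g, hgT, hg0, hgv⟩ := hT q
  let L := P.asIdeal.ResidueField
  let A := P.asIdeal.Fiber S
  let ι : q.ResidueField →+* L := algebraMap _ _
  have hιR : ι.comp (algebraMap R q.ResidueField) = algebraMap R L :=
    (IsScalarTower.algebraMap_eq R q.ResidueField L).symm
  let g' : MvPolynomial (Fin (d + 2)) L := g.map (algebraMap R L)
  have hg' : g' ≠ 0 := by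
    intro h
    refine hg0 (map_injective ι ι.injective ?_)
    rw [map_map, hιR, map_zero]
    exact h
  let j : q.Fiber S →ₐ[R] A := Algebra.TensorProduct.lift
    ((Algebra.TensorProduct.includeLeft : L →ₐ[R] A).comp (IsScalarTower.toAlgHom R q.ResidueField L))
    ((Algebra.TensorProduct.includeRight : S →ₐ[Polynomial R] A).restrictScalars R) (fun _ _ => .all _ _)
  have hrel : aeval (fun i => (1 : L) ⊗ₜ[Polynomial R] (Fin.cons b e : Fin (d + 2) → S) i) g' = (0 : A) := by
    have h1 := congrArg j hgv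
    rw [map_zero, fibEval, aeval_map_algebraMap, ← AlgHom.comp_apply, comp_aeval] at h1
    rw [aeval_map_algebraMap]
    refine Eq.trans ?_ h1
    congr 2
    funext i
    show _ = j _
    rw [Algebra.TensorProduct.lift_tmul, map_one]
    exact (one_mul _).symm
  let c : Fin (d + 1) → A := fun i => (1 : L) ⊗ₜ[Polynomial R] e i
  obtain ⟨h, h0, hh⟩ := exists_substituted_relation g' hg' n (by
      have h1 : g'.totalDegree ≤ g.totalDegree :=
        Finset.sup_mono fun v hv => by
          rw [mem_support_iff] at hv ⊢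
          intro e'
          exact hv (by rw [coeff_map, e', map_zero])
      have h2 : g.totalDegree ≤ T.sup (fun g => g.totalDegree) :=
        Finset.le_sup (f := fun g => g.totalDegree) hgT
      omega)
    (algebraMap (Polynomial R) L Polynomial.X) c ((1 : L) ⊗ₜ[Polynomial R] b) (by
      have h1 : algebraMap (Polynomial R) A Polynomial.X = (1 : L) ⊗ₜ[Polynomial R] (a ^ n + b) := by
        rw [show a ^ n + b = algebraMap (Polynomial R) S Polynomial.X from by
          rw [RingHom.algebraMap_toAlgebra]; exact (Polynomial.aeval_X _).symm]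
        exact ((Algebra.TensorProduct.includeRight : S →ₐ[Polynomial R] A).commutes Polynomial.X).symm
      rw [← IsScalarTower.algebraMap_apply, h1, TensorProduct.tmul_add]
      show _ = _ - ((1 : L) ⊗ₜ[Polynomial R] a) ^ n
      rw [Algebra.TensorProduct.tmul_pow, one_pow, add_sub_cancel_left]) (by
      refine Eq.trans ?_ hrel
      congr 2
      funext i
      refine Fin.cases ?_ ?_ i <;> simp [c])
  let ψ : MvPolynomial (Fin (d + 1)) L ⧸ Ideal.span {h} →ₐ[L] A :=
    Ideal.Quotient.liftₐ _ (aeval c) fun x hx => by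
      obtain ⟨z, rfl⟩ := Ideal.mem_span_singleton'.mp hx
      rw [map_mul, hh, mul_zero]
  have hψ : ψ.toRingHom.QuasiFinite :=
    RingHom.QuasiFinite.of_comp (g := Ideal.Quotient.mk (Ideal.span {h})) (by
      convert hqf using 1
      exact RingHom.ext fun x => rfl)
  let := ψ.toRingHom.toAlgebra
  have : Algebra.QuasiFinite (MvPolynomial (Fin (d + 1)) L ⧸ Ideal.span {h}) A := hψ
  exact (ringKrullDim_le_of_quasiFinite (R := MvPolynomial (Fin (d + 1)) L ⧸ Ideal.span {h})).trans
    (ringKrullDim_hypersurface_le h h0)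

end Groth.Agent.Wt.QFShift
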