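import Groth.Agent.Wt.Master
import Mathlib.LinearAlgebra.FreeModule.Finite.Matrix
import Mathlib.RingTheory.ZariskisMainTheorem
import Mathlib.Data.Set.Card.Arithmetic

/-!
# Bounding the number of geometric points of fibres
-/

universe u

open AlgebraicGeometry CategoryTheory Limits TensorProduct

namespace Groth.Agent.Wt.Bound

open GeomPts

/-- A module-finite algebra has boundedly many maps to fields. -/
theorem exists_bound_finite (A C : Type u) [CommRing A] [CommRing C] [Algebra A C] [Module.Finite A C] :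
    ∃ d : ℕ, ∀ (K : Type u) [Field K] [Algebra A K],
      Finite (C →ₐ[A] K) ∧ Nat.card (C →ₐ[A] K) ≤ d := by
  obtain ⟨n, π, hπ⟩ := Module.Finite.exists_fin' A C
  refine ⟨n, fun K _ _ => ?_⟩
  let e : (C →ₐ[A] K) ↪ (K ⊗[A] C →ₐ[K] K) :=
    ⟨fun φ => Algebra.TensorProduct.lift (AlgHom.id K K) φ (fun _ _ => Commute.all _ _),
      fun φ ψ h => AlgHom.ext fun c => by
        simpa using DFunLike.congr_fun h ((1 : K) ⊗ₜ[A] c)⟩
  have : Module.Finite K (K ⊗[A] C) := inferInstance
  refine ⟨Finite.of_injective e e.injective, (Nat.card_le_card_of_injective e e.injective).trans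
    ((card_algHom_le_finrank K (K ⊗[A] C) K).trans ?_)⟩
  have hsurj : Function.Surjective (π.baseChange K) := by
    intro t
    induction t using TensorProduct.induction_on with
    | zero => exact ⟨0, map_zero _⟩
    | tmul k c =>
      obtain ⟨v, rfl⟩ := hπ c
      exact ⟨k ⊗ₜ v, rfl⟩
    | add a b ha hb =>
      obtain ⟨x, rfl⟩ := ha
      obtain ⟨y, rfl⟩ := hb
      exact ⟨x + y, map_add _ _ _⟩
  have := (algebraMap A K).domain_nontrivial
  rw [← finrank_top K (K ⊗[A] C), ← LinearMap.range_eq_top.mpr hsurj]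
  refine (LinearMap.finrank_range_le _).trans_eq ?_
  rw [Module.finrank_baseChange, Module.finrank_fin_fun]

/-- A quasi-finite algebra of finite type has boundedly many maps to fields. -/
theorem exists_bound (A B : Type u) [CommRing A] [CommRing B] [Algebra A B]
    [Algebra.QuasiFinite A B] [Algebra.FiniteType A B] :
    ∃ d : ℕ, ∀ (K : Type u) [Field K] [Algebra A K],
      Finite (B →ₐ[A] K) ∧ Nat.card (B →ₐ[A] K) ≤ d := by
  have h := fun p : PrimeSpectrum B =>
    Algebra.QuasiFiniteAt.exists_fg_and_exists_notMem_and_awayMap_bijective (R := A) p.asIdeal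
  choose S hS r hr hbij using h
  obtain ⟨s, hs⟩ := isCompact_univ.elim_finite_subcover
    (fun p : PrimeSpectrum B => (PrimeSpectrum.basicOpen (r p).1 : Set (PrimeSpectrum B)))
    (fun p => (PrimeSpectrum.basicOpen _).2) fun p _ => Set.mem_iUnion.mpr ⟨p, hr p⟩
  have hfin : ∀ p, Module.Finite A (S p) := fun p => Module.Finite.iff_fg.mpr (hS p)
  choose d hd using fun p => exists_bound_finite A (S p)
  refine ⟨∑ p ∈ s, d p, fun K _ _ => ?_⟩
  have hex : ∀ φ : B →ₐ[A] K, ∃ p : s, φ (r p.1).1 ≠ 0 := fun φ => by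
    obtain ⟨p, hp, hpk⟩ := Set.mem_iUnion₂.mp (hs (Set.mem_univ
      (⟨RingHom.ker φ.toRingHom, RingHom.ker_isPrime _⟩ : PrimeSpectrum B)))
    exact ⟨⟨p, hp⟩, hpk⟩
  choose j hj using hex
  let ι : (B →ₐ[A] K) → Σ p : s, (S p.1 →ₐ[A] K) := fun φ => ⟨j φ, φ.comp (S (j φ).1).val⟩
  have hι : Function.Injective ι := by
    intro φ ψ h
    have key : ∀ (p : s) (φ ψ : B →ₐ[A] K), φ (r p.1).1 ≠ 0 → ψ (r p.1).1 ≠ 0 →
        φ.comp (S p.1).val = ψ.comp (S p.1).val → φ = ψ := by
      intro p φ ψ hφ hψ h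
      let r' := (S p.1).val.toRingHom (r p.1)
      let L := fun (χ : B →ₐ[A] K) (hχ : χ (r p.1).1 ≠ 0) =>
        IsLocalization.Away.lift (S := Localization.Away r') r' (g := χ.toRingHom) (isUnit_iff_ne_zero.mpr hχ)
      have hL : L φ hφ = L ψ hψ := by
        refine RingHom.cancel_right (hbij p.1).2 |>.mp ?_
        refine IsLocalization.ringHom_ext (Submonoid.powers (r p.1)) (RingHom.ext fun c => ?_)
        simp only [L, RingHom.comp_apply, Localization.awayMap, IsLocalization.Away.map,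
          IsLocalization.map_eq, IsLocalization.Away.lift, IsLocalization.lift_eq]
        exact DFunLike.congr_fun h c
      ext b
      have := DFunLike.congr_fun hL (algebraMap B (Localization.Away r') b)
      simpa [L, IsLocalization.Away.lift] using this
    obtain ⟨h₁, h₂⟩ := Sigma.ext_iff.mp h
    refine key (j φ) φ ψ (hj φ) (by change j φ = j ψ at h₁; rw [h₁]; exact hj ψ) ?_
    change j φ = j ψ at h₁
    change HEq (φ.comp (S (j φ).1).val) (ψ.comp (S (j ψ).1).val) at h₂
    rw [← h₁] at h₂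
    exact eq_of_heq h₂
  have := fun p : s => (hd p.1 K).1
  refine ⟨Finite.of_injective ι hι, (Nat.card_le_card_of_injective ι hι).trans ?_⟩
  rw [Nat.card_sigma]
  exact (Finset.sum_le_sum fun p _ => (hd p.1 K).2).trans (Finset.sum_coe_sort s d).le

variable {X Y : Scheme.{u}} (f : X ⟶ Y) [LocallyOfFiniteType f] [LocallyQuasiFinite f]

/-- Bound on the lifts in an affine open over an affine open. -/
theorem exists_bound_affine (U : X.Opens) (hU : IsAffineOpen U) (V : Y.Opens) (hV : IsAffineOpen V)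
    (e : U ≤ f ⁻¹ᵁ V) :
    ∃ d : ℕ, ∀ (K : Type u) [Field K] (y : Spec (CommRingCat.of K) ⟶ Y),
      {x : GeomFib f y | pt x.1 ∈ U}.Finite ∧ {x : GeomFib f y | pt x.1 ∈ U}.ncard ≤ d := by
  let k := f.resLE V U e
  have : IsAffine U.toScheme := hU
  have : IsAffine V.toScheme := hV
  have h₁ : k.appTop.hom.FiniteType :=
    HasRingHomProperty.appTop (P := @LocallyOfFiniteType) k inferInstance
  have h₂ : k.appTop.hom.QuasiFinite :=
    HasRingHomProperty.appTop (P := @LocallyQuasiFinite) k inferInstance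
  algebraize [k.appTop.hom]
  obtain ⟨d, hd⟩ := exists_bound Γ(V.toScheme, ⊤) Γ(U.toScheme, ⊤)
  refine ⟨d, fun K _ y => ?_⟩
  by_cases hy : pt y ∈ V
  swap
  · have : {x : GeomFib f y | pt x.1 ∈ U} = ∅ := by
      refine Set.eq_empty_of_forall_notMem fun x hx => hy ?_
      rw [← apply_pt f y x]
      exact e hx
    rw [this]
    simp
  have hry : Set.range y ⊆ Set.range V.ι := by
    rintro _ ⟨s, rfl⟩
    rw [eq_pt, Scheme.Opens.range_ι]
    exact hy
  let y' := IsOpenImmersion.lift V.ι y hry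
  let ψ := y'.appTop ≫ (Scheme.ΓSpecIso (CommRingCat.of K)).hom
  letI := ψ.hom.toAlgebra
  obtain ⟨hfinK, hcard⟩ := hd K
  have hr : ∀ x : {x : GeomFib f y // pt x.1 ∈ U}, Set.range x.1.1 ⊆ Set.range U.ι := fun x => by
    rintro _ ⟨s, rfl⟩
    rw [eq_pt, Scheme.Opens.range_ι]
    exact x.2
  let x' := fun x : {x : GeomFib f y // pt x.1 ∈ U} => IsOpenImmersion.lift U.ι x.1.1 (hr x)
  have hx' : ∀ x, x' x ≫ k = y' := fun x => by
    rw [← cancel_mono V.ι, Category.assoc, Scheme.Hom.resLE_comp_ι, IsOpenImmersion.lift_fac_assoc,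
      IsOpenImmersion.lift_fac]
    exact x.1.2
  let Φ : {x : GeomFib f y // pt x.1 ∈ U} → (Γ(U.toScheme, ⊤) →ₐ[Γ(V.toScheme, ⊤)] K) := fun x =>
    { ((x' x).appTop ≫ (Scheme.ΓSpecIso (CommRingCat.of K)).hom).hom with
      commutes' := fun a => by
        show ((k.appTop ≫ (x' x).appTop) ≫ (Scheme.ΓSpecIso (CommRingCat.of K)).hom).hom a = ψ.hom a
        rw [← Scheme.Hom.comp_appTop, hx'] }
  have hΦ : Function.Injective Φ := by
    intro a b h
    have h' : (x' a).appTop ≫ (Scheme.ΓSpecIso (CommRingCat.of K)).hom =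
        (x' b).appTop ≫ (Scheme.ΓSpecIso (CommRingCat.of K)).hom :=
      CommRingCat.hom_ext (RingHom.ext fun r => DFunLike.congr_fun h r)
    have hh : x' a = x' b := ext_of_isAffine ((cancel_mono _).mp h')
    refine Subtype.ext (Subtype.ext ?_)
    rw [← IsOpenImmersion.lift_fac U.ι a.1.1 (hr a), ← IsOpenImmersion.lift_fac U.ι b.1.1 (hr b)]
    exact congrArg (· ≫ U.ι) hh
  exact ⟨Set.finite_coe_iff.mp (Finite.of_injective Φ hΦ),
    (Nat.card_le_card_of_injective Φ hΦ).trans hcard⟩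

/-- The numbers of geometric points of fibres are bounded for quasi-compact source. -/
theorem exists_bound_geomFib [CompactSpace X] :
    ∃ d : ℕ, ∀ (K : Type u) [Field K] (y : Spec (CommRingCat.of K) ⟶ Y),
      Finite (GeomFib f y) ∧ Nat.card (GeomFib f y) ≤ d := by
  have h : ∀ x : X, ∃ U : X.Opens, x ∈ U ∧ ∃ d : ℕ, ∀ (K : Type u) [Field K]
      (y : Spec (CommRingCat.of K) ⟶ Y),
      {x : GeomFib f y | pt x.1 ∈ U}.Finite ∧ {x : GeomFib f y | pt x.1 ∈ U}.ncard ≤ d := fun x => by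
    obtain ⟨V, hV, hxV, -⟩ :=
      exists_isAffineOpen_mem_and_subset (TopologicalSpace.Opens.mem_top (f x))
    obtain ⟨U, hU, hxU, hUV⟩ := exists_isAffineOpen_mem_and_subset (x := x) (U := f ⁻¹ᵁ V) hxV
    exact ⟨U, hxU, exists_bound_affine f U hU V hV hUV⟩
  choose U hxU d hd using h
  obtain ⟨s, hs⟩ := isCompact_univ.elim_finite_subcover (fun x => (U x : Set X))
    (fun x => (U x).2) fun x _ => Set.mem_iUnion.mpr ⟨x, hxU x⟩
  refine ⟨∑ x ∈ s, d x, fun K _ y => ?_⟩
  have hcov : (Set.univ : Set (GeomFib f y)) = ⋃ x ∈ s, {a : GeomFib f y | pt a.1 ∈ U x} := by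
    refine (Set.eq_univ_of_forall fun a => ?_).symm
    obtain ⟨x, hx, ha⟩ := Set.mem_iUnion₂.mp (hs (Set.mem_univ (pt a.1)))
    exact Set.mem_iUnion₂.mpr ⟨x, hx, ha⟩
  refine ⟨Set.finite_univ_iff.mp (hcov ▸ s.finite_toSet.biUnion fun x _ => (hd x K y).1), ?_⟩
  rw [← Set.ncard_univ, hcov]
  exact (s.set_ncard_biUnion_le _).trans (Finset.sum_le_sum fun x _ => (hd x K y).2)

end Groth.Agent.Wt.Bound
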