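import Groth.Agent.Wt.SplitRing
import Groth.Agent.QCAlgLib.OfSite
import Mathlib.AlgebraicGeometry.Normalization

/-!
# An integral surjective cover by split affine schemes
-/

set_option autoImplicit false

universe u

open CategoryTheory Limits AlgebraicGeometry TopologicalSpace Opposite

namespace Groth.Agent.Wt.SplitRing

variable (S : Scheme.{u})

/-- An algebraic closure of the residue field. -/
abbrev K (s : S) : Type u := AlgebraicClosure (S.residueField s)

/-- The product of the geometric points over an open. -/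
abbrev M (U : S.Opens) : Type u := Π s : U, K S s.1

/-- Evaluation at geometric points. -/
noncomputable def ev (U : S.Opens) : Γ(S, U) →+* M S U :=
  RingHom.pi fun s => (algebraMap (S.residueField s.1) (K S s.1)).comp (S.evaluation U s.1 s.2).hom

noncomputable instance (U : S.Opens) : Algebra Γ(S, U) (M S U) := (ev S U).toAlgebra

/-- The value of the algebra on an open. -/
noncomputable abbrev A (U : S.Opens) : Type u := integralClosure Γ(S, U) (M S U)

/-- Restriction of tuples of geometric points. -/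
noncomputable def resM {U V : S.Opens} (h : V ≤ U) : M S U →+* M S V :=
  RingHom.pi fun s => Pi.evalRingHom (fun t : U => K S t.1) ⟨s.1, h s.2⟩

theorem resM_ev {U V : S.Opens} (h : V ≤ U) (r : Γ(S, U)) :
    resM S h (ev S U r) = ev S V (S.presheaf.map (homOfLE h).op r) := by
  funext s
  show algebraMap _ (K S s.1) (S.evaluation U s.1 _ r) =
    algebraMap _ _ (S.evaluation V s.1 s.2 _)
  congr 1
  show S.residue s.1 (S.presheaf.germ U s.1 _ r) = S.residue s.1 (S.presheaf.germ V s.1 s.2 _)
  rw [S.presheaf.germ_res_apply]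

theorem resM_mem {U V : S.Opens} (h : V ≤ U) (x : M S U) (hx : x ∈ integralClosure Γ(S, U) (M S U)) :
    resM S h x ∈ integralClosure Γ(S, V) (M S V) := by
  obtain ⟨P, hP, hPx⟩ := hx
  refine ⟨P.map (S.presheaf.map (homOfLE h).op).hom, hP.map _, ?_⟩
  have e : (ev S V).comp (S.presheaf.map (homOfLE h).op).hom = (resM S h).comp (ev S U) :=
    RingHom.ext fun r => (resM_ev S h r).symm
  rw [Polynomial.eval₂_map]
  show Polynomial.eval₂ ((ev S V).comp _) _ P = 0
  rw [e, ← Polynomial.hom_eval₂]
  show resM S h (Polynomial.eval₂ (ev S U) x P) = 0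
  rw [show Polynomial.eval₂ (ev S U) x P = 0 from hPx, map_zero]

/-- Restriction. -/
noncomputable def resA {U V : S.Opens} (h : V ≤ U) : A S U →+* A S V :=
  (resM S h).restrict (integralClosure Γ(S, U) (M S U)) (integralClosure Γ(S, V) (M S V))
    (resM_mem S h)

/-- The algebra on the affine site. -/
noncomputable def functor : S.AffineZariskiSiteᵒᵖ ⥤ CommRingCat.{u} where
  obj U := .of (A S U.unop.1)
  map {U V} i := CommRingCat.ofHom (resA S (Scheme.AffineZariskiSite.toOpens_mono i.unop.le))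
  map_id U := rfl
  map_comp i j := rfl

/-- The structure map. -/
noncomputable def nat :
    (Scheme.AffineZariskiSite.toOpensFunctor S).op ⋙ S.presheaf ⟶ functor S where
  app U := CommRingCat.ofHom (algebraMap Γ(S, U.unop.1) (A S U.unop.1))
  naturality {U V} i := CommRingCat.hom_ext (RingHom.ext fun r => Subtype.ext
    (resM_ev S (Scheme.AffineZariskiSite.toOpens_mono i.unop.le) r).symm)

theorem ev_eq_zero {U : S.Opens} (r : Γ(S, U)) (s : U) (hs : s.1 ∉ S.basicOpen r) :
    ev S U r s = 0 := by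
  show algebraMap _ (K S s.1) (S.evaluation U s.1 s.2 r) = 0
  rw [(S.evaluation_eq_zero_iff_notMem_basicOpen _ _ _).mpr hs, map_zero]

theorem coequifibered_nat : (nat S).Coequifibered := by
  classical
  refine Scheme.AffineZariskiSite.coequifibered_iff_forall_isLocalizationAway.mpr fun U r => ?_
  have : IsLocalization.Away r Γ(S, S.basicOpen r) := U.2.isLocalization_basicOpen r
  let := (resA S (S.basicOpen_le r)).toAlgebra
  change IsLocalization.Away (algebraMap Γ(S, U.1) (A S U.1) r) (A S (S.basicOpen r))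
  have hev : ∀ a : Γ(S, U.1), ((algebraMap (A S U.1) (A S (S.basicOpen r))
      (algebraMap Γ(S, U.1) (A S U.1) a)) : M S (S.basicOpen r)) =
      ev S _ (S.presheaf.map (homOfLE (S.basicOpen_le r)).op a) := fun a => resM_ev S _ a
  refine IsLocalization.Away.mk _ ?_ (fun z => ?_) (fun a b hab => ?_)
  · have hu : IsUnit (S.presheaf.map (homOfLE (S.basicOpen_le r)).op r) :=
      RingedSpace.isUnit_res_basicOpen S.toLocallyRingedSpace.toRingedSpace r
    convert hu.map (algebraMap Γ(S, S.basicOpen r) (A S (S.basicOpen r))) using 1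
    exact Subtype.ext (hev r)
  · let := (S.presheaf.map (homOfLE (S.basicOpen_le r)).op).hom.toAlgebra
    let : Algebra Γ(S, U.1) (M S (S.basicOpen r)) := ((ev S _).comp
      (S.presheaf.map (homOfLE (S.basicOpen_le r)).op).hom).toAlgebra
    have : IsScalarTower Γ(S, U.1) Γ(S, S.basicOpen r) (M S (S.basicOpen r)) :=
      IsScalarTower.of_algebraMap_eq fun _ => rfl
    obtain ⟨⟨_, n, rfl⟩, hn⟩ := IsIntegral.exists_multiple_integral_of_isLocalization
      (Submonoid.powers r) (Rₘ := Γ(S, S.basicOpen r)) z.1 z.2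
    rw [Submonoid.smul_def, Algebra.smul_def, map_pow] at hn
    let w : M S (S.basicOpen r) := ev S _ (S.presheaf.map (homOfLE (S.basicOpen_le r)).op r) ^ n * z.1
    obtain ⟨P, hP, hPx⟩ := hn
    let y : M S U.1 := fun s => if h : s.1 ∈ S.basicOpen r then w ⟨s.1, h⟩ else 0
    have hy : y ∈ integralClosure Γ(S, U.1) (M S U.1) := by
      refine ⟨Polynomial.X * P, Polynomial.monic_X.mul hP, funext fun s => ?_⟩
      rw [Polynomial.eval₂_mul, Polynomial.eval₂_X, Pi.mul_apply, Pi.zero_apply]
      by_cases hs : s.1 ∈ S.basicOpen r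
      · rw [show (Polynomial.eval₂ (algebraMap Γ(S, U.1) (M S U.1)) y P) s =
            Polynomial.eval₂ ((Pi.evalRingHom (fun t : U.1 => K S t.1) s).comp (ev S U.1)) (y s) P
          from Polynomial.hom_eval₂ P (ev S U.1) (Pi.evalRingHom (fun t : U.1 => K S t.1) s) y]
        have h2 : Polynomial.eval₂ ((Pi.evalRingHom (fun t : U.1 => K S t.1) s).comp (ev S U.1))
            (y s) P = 0 := by
          refine Eq.trans ?_ (((Polynomial.hom_eval₂ P _
            (Pi.evalRingHom (fun t : S.basicOpen r => K S t.1) ⟨s.1, hs⟩) _).symm).trans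
              (congrFun hPx ⟨s.1, hs⟩))
          have e : (Pi.evalRingHom (fun t : U.1 => K S t.1) s).comp (ev S U.1) =
              (Pi.evalRingHom (fun t : S.basicOpen r => K S t.1) ⟨s.1, hs⟩).comp
                (algebraMap Γ(S, U.1) (M S (S.basicOpen r))) :=
            RingHom.ext fun a => congrFun (resM_ev S (S.basicOpen_le r) a) ⟨s.1, hs⟩
          rw [e, show y s = w ⟨s.1, hs⟩ from dif_pos hs]
          rfl
        rw [h2, mul_zero]
      · rw [show y s = 0 from dif_neg hs, zero_mul]
    refine ⟨n, ⟨y, hy⟩, Subtype.ext (funext fun s => ?_)⟩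
    show z.1 s * (((algebraMap (A S U.1) (A S (S.basicOpen r)) (algebraMap Γ(S, U.1) (A S U.1) r) ^ n
      : A S (S.basicOpen r))) : M S (S.basicOpen r)) s = y ⟨s.1, S.basicOpen_le r s.2⟩
    rw [SubmonoidClass.coe_pow, hev, show y ⟨s.1, S.basicOpen_le r s.2⟩ = w s from dif_pos s.2]
    simp only [w, Pi.mul_apply, Pi.pow_apply]
    ring
  · refine ⟨1, Subtype.ext (funext fun s => ?_)⟩
    rw [pow_one]
    show ev S U.1 r s * a.1 s = ev S U.1 r s * b.1 s
    by_cases hs : s.1 ∈ S.basicOpen r
    · rw [show a.1 s = b.1 s from congrFun (congrArg Subtype.val hab) ⟨s.1, hs⟩]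
    · rw [ev_eq_zero S r s hs, zero_mul, zero_mul]

set_option backward.isDefEq.respectTransparency false in
instance : IsIntegralHom (QCAlgLib.π (coequifibered_nat S)) := by
  rw [IsZariskiLocalAtTarget.iff_of_iSup_eq_top (P := @AlgebraicGeometry.IsIntegralHom.{u}) _
    (iSup_affineOpens_eq_top _)]
  intro U
  let H := coequifibered_nat S
  let e := IsOpenImmersion.isoOfRangeEq (QCAlgLib.π H ⁻¹ᵁ U).ι (QCAlgLib.ι H U.1 U.2)
      (by simpa using congr($(QCAlgLib.π_preimage H U.1 U.2).1))
  rw [← MorphismProperty.cancel_left_of_respectsIso @IsIntegralHom e.inv,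
    ← MorphismProperty.cancel_right_of_respectsIso @IsIntegralHom _ U.2.isoSpec.hom]
  have : (QCAlgLib.strAff (nat S) U.1 U.2).hom.IsIntegral :=
    show (algebraMap Γ(S, U.1) (A S U.1)).IsIntegral from algebraMap_isIntegral_iff.mpr inferInstance
  convert! IsIntegralHom.SpecMap_iff.mpr this
  rw [← cancel_mono U.2.fromSpec]
  simp [IsAffineOpen.isoSpec_hom, e, QCAlgLib.ι_π]

instance : Surjective (QCAlgLib.π (coequifibered_nat S)) := by
  refine ⟨fun s => ?_⟩
  obtain ⟨_, ⟨U, hU, rfl⟩, hsU, -⟩ := S.isBasis_affineOpens.exists_subset_of_mem_open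
    (Set.mem_univ s) isOpen_univ
  let χ : A S U →+* K S s :=
    (Pi.evalRingHom (fun t : U => K S t.1) ⟨s, hsU⟩).comp (integralClosure Γ(S, U) (M S U)).val.toRingHom
  let z : PrimeSpectrum (A S U) := ⟨RingHom.ker χ, RingHom.ker_isPrime χ⟩
  refine ⟨QCAlgLib.ι (coequifibered_nat S) U hU z, ?_⟩
  have h := congr($(QCAlgLib.ι_π (coequifibered_nat S) U hU) z)
  refine ((Scheme.Hom.comp_apply _ _ _).symm.trans h).trans ((Scheme.Hom.comp_apply _ _ _).trans ?_)
  have : PrimeSpectrum.comap (algebraMap Γ(S, U) (A S U)) z = hU.primeIdealOf ⟨s, hsU⟩ := by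
    refine PrimeSpectrum.ext (Ideal.ext fun a => ?_)
    show algebraMap (S.residueField s) (K S s) (S.evaluation U s hsU a) = 0 ↔ _
    rw [map_eq_zero, S.evaluation_eq_zero_iff_notMem_basicOpen]
    constructor
    · intro h
      by_contra ha
      refine h ?_
      have h' : hU.primeIdealOf ⟨s, hsU⟩ ∈ hU.fromSpec ⁻¹ᵁ S.basicOpen a := by
        rw [hU.fromSpec_preimage_basicOpen]; exact ha
      have h'' : hU.fromSpec (hU.primeIdealOf ⟨s, hsU⟩) ∈ S.basicOpen a := h'
      rw [hU.fromSpec_primeIdealOf] at h''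
      exact h''
    · intro ha hs
      have h' : hU.primeIdealOf ⟨s, hsU⟩ ∈ hU.fromSpec ⁻¹ᵁ S.basicOpen a := by
        show hU.fromSpec (hU.primeIdealOf ⟨s, hsU⟩) ∈ S.basicOpen a
        exact (hU.fromSpec_primeIdealOf ⟨s, hsU⟩).symm ▸ hs
      rw [hU.fromSpec_preimage_basicOpen] at h'
      exact h' ha
  exact (congrArg hU.fromSpec this).trans (hU.fromSpec_primeIdealOf ⟨s, hsU⟩)

/-- Every scheme has an integral surjective cover which is locally the spectrum of a split ring. -/
theorem exists_split_cover : ∃ (T : Scheme.{u}) (π : T ⟶ S), Surjective π ∧ IsIntegralHom π ∧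
    ∀ t : T, ∃ (A : CommRingCat.{u}) (j : Spec A ⟶ T), IsOpenImmersion j ∧ t ∈ Set.range j ∧
      IsSplitRing A := by
  refine ⟨_, QCAlgLib.π (coequifibered_nat S), inferInstance, inferInstance, fun t => ?_⟩
  obtain ⟨(U : S.AffineZariskiSite), z, rfl⟩ :=
    (QCAlgLib.glueData (coequifibered_nat S)).cover.exists_eq t
  exact ⟨_, QCAlgLib.ι (coequifibered_nat S) U.1 U.2, inferInstance, ⟨z, rfl⟩,
    show IsSplitRing (A S U.1) from ⟨U.1, fun s => K S s.1, inferInstance, inferInstance,
      (integralClosure Γ(S, U.1) (M S U.1)).val.toRingHom, Subtype.val_injective, fun x hx =>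
        ⟨⟨x, @isIntegral_trans _ (A S U.1) (M S U.1) _ _ _ _ _ _ _ _ x hx⟩, rfl⟩⟩⟩

end Groth.Agent.Wt.SplitRing
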