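import Groth.Agent.Wt.EtNbhd
import Groth.Agent.S9435
import Mathlib.FieldTheory.SeparableClosure
import Mathlib.FieldTheory.IsSepClosed

/-!
# Splitting quasi-finite points purely inseparably after an étale neighbourhood
-/

universe u

open AlgebraicGeometry CategoryTheory Limits Polynomial

namespace Groth.Agent.Wt.Split

variable {X Y Z U U' S : Scheme.{u}}

/-- A point is geometrically isolated over its image: at most one geometric point over each geometric
point of the base. -/
def IsGeomSingle (q : X ⟶ U) (z : X) : Prop :=
  ∀ (K : Type u) [Field K] [IsAlgClosed K] (a b : Spec (CommRingCat.of K) ⟶ X),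
    GeomPts.pt a = z → GeomPts.pt b = z → a ≫ q = b ≫ q → a = b

theorem residueFieldMap_finite_of_quasiFiniteAt (f : X ⟶ S) (x : X) (hx : f.QuasiFiniteAt x) :
    (f.residueFieldMap x).hom.Finite := by
  have h1 : (f.stalkMap x ≫ X.residue x).hom.QuasiFinite := by
    rw [CommRingCat.hom_comp]
    exact RingHom.QuasiFinite.stableUnderComposition _ _ hx
      (.of_finite (RingHom.Finite.of_surjective _ Ideal.Quotient.mk_surjective))
  rw [← Scheme.residue_residueFieldMap] at h1
  algebraize [(f.residueFieldMap x).hom]
  let _ : Algebra (S.presheaf.stalk (f x)) (X.residueField x) :=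
    (S.residue (f x) ≫ f.residueFieldMap x).hom.toAlgebra
  let _ : Algebra (S.presheaf.stalk (f x)) (S.residueField (f x)) := (S.residue (f x)).hom.toAlgebra
  have : IsScalarTower (S.presheaf.stalk (f x)) (S.residueField (f x)) (X.residueField x) :=
    .of_algebraMap_eq' rfl
  have : Algebra.QuasiFinite (S.presheaf.stalk (f x)) (X.residueField x) := h1
  have : Algebra.QuasiFinite (S.residueField (f x)) (X.residueField x) :=
    Algebra.QuasiFinite.of_restrictScalars (S.presheaf.stalk (f x)) _ _
  exact Module.Finite.of_quasiFinite

set_option backward.isDefEq.respectTransparency.types false in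
set_option backward.isDefEq.respectTransparency false in
theorem residueFieldMap_SpecMap' {R R' : CommRingCat.{u}} (φ : R ⟶ R') (x : Spec R') (q : Spec R)
    (h : Spec.map φ x = q) (r : (Spec R).residueField q) :
    (Scheme.Spec.residueFieldIso R' x).hom
      (((Spec R).residueFieldCongr h).inv ≫ (Spec.map φ).residueFieldMap x <| r) =
    Ideal.ResidueField.map q.asIdeal x.asIdeal φ.hom (by subst h; rfl)
      ((Scheme.Spec.residueFieldIso R q).hom r) := by
  subst h
  have e2 := congr(($(EtNbhd.residueFieldMap_SpecMap φ x)).hom
    ((Scheme.Spec.residueFieldIso R (Spec.map φ x)).hom.hom r))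
  simp only [CommRingCat.hom_comp, RingHom.comp_apply, Iso.hom_inv_id_apply] at e2
  simpa using e2

/-- A finite separable extension splitting finitely many separable polynomials. -/
theorem exists_splitField (k : Type u) [Field k] {ι : Type*} [Finite ι] (Q : ι → k[X])
    (hQ : ∀ i, (Q i).Separable) :
    ∃ (L : Type u) (_ : Field L) (_ : Algebra k L), Module.Finite k L ∧ Algebra.IsSeparable k L ∧
      ∀ i, ((Q i).map (algebraMap k L)).Splits := by
  classical
  let Ω := SeparableClosure k
  let Rts : Set Ω := ⋃ i, ((Q i).rootSet Ω)
  have hRts : Rts.Finite := Set.finite_iUnion fun i => (Q i).rootSet_finite Ω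
  let L := IntermediateField.adjoin k Rts
  have : Finite Rts := hRts.to_subtype
  have : FiniteDimensional k L :=
    IntermediateField.finiteDimensional_adjoin fun x _ => Algebra.IsIntegral.isIntegral x
  exact ⟨L, inferInstance, inferInstance, this, inferInstance, fun i =>
    IntermediateField.splits_of_splits (IsSepClosed.splits_of_separable _ ((hQ i).map)) fun x hx =>
      IntermediateField.subset_adjoin k Rts (Set.mem_iUnion.mpr ⟨i, hx⟩)⟩

set_option backward.isDefEq.respectTransparency.types false in
set_option backward.isDefEq.respectTransparency false in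
/-- An étale neighbourhood of a point of an affine scheme with prescribed separable residue field. -/
theorem exists_etale_affine (R : CommRingCat.{u}) (p : Spec R) (L : Type u) [Field L]
    [Algebra p.asIdeal.ResidueField L] [Module.Finite p.asIdeal.ResidueField L]
    [Algebra.IsSeparable p.asIdeal.ResidueField L] :
    ∃ (R' : CommRingCat.{u}) (φ : R ⟶ R') (u : Spec R') (_ : Etale (Spec.map φ))
      (h : Spec.map φ u = p) (χ : L →+* (Spec R').residueField u),
      (((Spec R).residueFieldCongr h).inv ≫ (Spec.map φ).residueFieldMap u).hom =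
        χ.comp ((algebraMap p.asIdeal.ResidueField L).comp
          (Scheme.Spec.residueFieldIso R p).hom.hom) := by
  let _ : Algebra R L :=
    ((algebraMap p.asIdeal.ResidueField L).comp (algebraMap R p.asIdeal.ResidueField)).toAlgebra
  have : IsScalarTower R p.asIdeal.ResidueField L := .of_algebraMap_eq' rfl
  obtain ⟨R', _, _, _, ψ, hψ⟩ := Groth.Agent.S9435.result R p.asIdeal L
  let φ : R ⟶ CommRingCat.of R' := CommRingCat.ofHom (algebraMap R R')
  have hφ : φ.hom.Etale := RingHom.etale_algebraMap.mpr ‹_›
  have : Etale (Spec.map φ) := HasRingHomProperty.Spec_iff.mpr hφ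
  have hker : (RingHom.ker ψ.toRingHom).IsPrime := RingHom.ker_isPrime _
  let u : Spec (CommRingCat.of R') := ⟨RingHom.ker ψ.toRingHom, hker⟩
  have hu : Spec.map φ u = p := PrimeSpectrum.ext <| by
    ext r
    change ψ (algebraMap R R' r) = 0 ↔ _
    rw [ψ.commutes, IsScalarTower.algebraMap_apply R p.asIdeal.ResidueField L,
      map_eq_zero_iff _ (algebraMap p.asIdeal.ResidueField L).injective,
      Ideal.algebraMap_residueField_eq_zero]
  let ψb : (RingHom.ker ψ.toRingHom).ResidueField →+* L :=
    Ideal.ResidueField.lift (RingHom.ker ψ.toRingHom) ψ.toRingHom le_rfl (by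
      intro r hr
      simp only [Submonoid.mem_comap]
      exact IsUnit.mem_submonoid_iff _ |>.mpr (isUnit_iff_ne_zero.mpr hr))
  have hψb : Function.Bijective ψb := by
    refine ⟨ψb.injective, ?_⟩
    have : ψb.fieldRange = ⊤ := by
      rw [eq_top_iff, ← hψ, Subfield.closure_le]
      rintro _ ⟨r, rfl⟩
      exact ⟨algebraMap R' _ r, Ideal.ResidueField.lift_algebraMap ..⟩
    exact RingHom.fieldRange_eq_top_iff.mp this
  refine ⟨_, φ, u, ‹_›, hu,
    (Scheme.Spec.residueFieldIso (CommRingCat.of R') u).inv.hom.comp
      (RingEquiv.ofBijective ψb hψb).symm.toRingHom, ?_⟩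
  have hcomap : p.asIdeal = (RingHom.ker ψ.toRingHom).comap φ.hom :=
    congrArg PrimeSpectrum.asIdeal hu.symm
  have e : (algebraMap p.asIdeal.ResidueField L) =
      ψb.comp (Ideal.ResidueField.map p.asIdeal (RingHom.ker ψ.toRingHom) φ.hom hcomap) := by
    refine Ideal.ResidueField.ringHom_ext ?_
    ext r
    simp only [RingHom.comp_apply, Ideal.ResidueField.map_algebraMap]
    rw [Ideal.ResidueField.lift_algebraMap]
    exact (ψ.commutes r).symm
  rw [e]
  ext x
  simp only [RingHom.comp_apply]
  apply (ConcreteCategory.bijective_of_isIso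
    (Scheme.Spec.residueFieldIso (CommRingCat.of R') u).hom).1
  simp only [Iso.inv_hom_id_apply]
  exact (residueFieldMap_SpecMap' φ u p hu x).trans
    ((RingEquiv.ofBijective ψb hψb).symm_apply_apply _).symm

/-- There is an étale neighbourhood splitting finitely many given separable polynomials over the residue field. -/
theorem exists_split (s : S) {ι : Type*} [Finite ι] (P : ι → (S.residueField s)[X])
    (hP : ∀ i, (P i).Separable) :
    ∃ (U : Scheme.{u}) (g : U ⟶ S) (u : U) (hu : g u = s), Etale g ∧
      ∀ i, ((P i).map ((S.residueFieldCongr hu).inv ≫ g.residueFieldMap u).hom).Splits := by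
  obtain ⟨V, hV, hsV, -⟩ := exists_isAffineOpen_mem_and_subset (U := (⊤ : S.Opens)) (x := s) trivial
  obtain ⟨p, rfl⟩ : s ∈ Set.range hV.fromSpec := by rw [hV.range_fromSpec]; exact hsV
  let c : S.residueField (hV.fromSpec p) ⟶ _ :=
    hV.fromSpec.residueFieldMap p ≫ (Scheme.Spec.residueFieldIso Γ(S, V) p).hom
  obtain ⟨L, _, _, _, _, hL⟩ := exists_splitField _ (fun i => (P i).map c.hom) fun i => (hP i).map
  obtain ⟨R', φ, u, _, hu, χ, hχ⟩ := exists_etale_affine Γ(S, V) p L
  subst hu
  refine ⟨Spec R', Spec.map φ ≫ hV.fromSpec, u, rfl, inferInstance, fun i => ?_⟩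
  have h := (hL i).map χ
  rw [Polynomial.map_map, Polynomial.map_map] at h
  convert h using 2
  rw [Scheme.residueFieldMap_comp]
  simp only [Scheme.residueFieldCongr_refl, Iso.refl_inv, Category.id_comp] at hχ
  exact congrArg (fun r => r.comp (hV.fromSpec.residueFieldMap (Spec.map φ u)).hom) hχ

/-- The key lemma: where the minimal polynomials of the separable elements split, points are geometrically single. -/
theorem isGeomSingle_of_splits (f : X ⟶ S) (g : U ⟶ S) (z : ↥(pullback f g))
    (hfin : (f.residueFieldMap (pullback.fst f g z)).hom.Finite)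
    (hsplit : letI := (f.residueFieldMap (pullback.fst f g z)).hom.toAlgebra
      ∃ B : Set (X.residueField (pullback.fst f g z)),
        separableClosure (S.residueField (f (pullback.fst f g z))) (X.residueField (pullback.fst f g z)) ≤
          IntermediateField.adjoin (S.residueField (f (pullback.fst f g z))) B ∧
      ∀ a ∈ B, ∃ (h : g (pullback.snd f g z) = f (pullback.fst f g z)),
        ((minpoly (S.residueField (f (pullback.fst f g z))) a).map
          ((S.residueFieldCongr h).inv ≫ g.residueFieldMap (pullback.snd f g z)).hom).Splits) :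
    IsGeomSingle (pullback.snd f g) z := by
  intro K _ _ a b ha hb hab
  let x := pullback.fst f g z
  let u := pullback.snd f g z
  let _ := (f.residueFieldMap x).hom.toAlgebra
  have : Module.Finite (S.residueField (f x)) (X.residueField x) := hfin
  have rep : ∀ c : Spec (CommRingCat.of K) ⟶ pullback f g, GeomPts.pt c = z →
      ∃ ψ : (pullback f g).residueField z ⟶ CommRingCat.of K,
        c = Spec.map ψ ≫ (pullback f g).fromSpecResidueField z := by
    rintro c rfl
    exact ⟨_, (((pullback f g).SpecToEquivOfField K).symm_apply_apply c).symm⟩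
  obtain ⟨ψa, rfl⟩ := rep a ha
  obtain ⟨ψb, rfl⟩ := rep b hb
  have hsnd : (pullback.snd f g).residueFieldMap z ≫ ψa =
      (pullback.snd f g).residueFieldMap z ≫ ψb := by
    simp only [Category.assoc, ← Scheme.Hom.SpecMap_residueFieldMap_fromSpecResidueField,
      ← Spec.map_comp_assoc, cancel_mono, Spec.map_inj] at hab
    exact hab
  -- both composites to `S` agree
  have hS : ∀ ψ : (pullback f g).residueField z ⟶ CommRingCat.of K, ∀ (h : g u = f x),
      f.residueFieldMap x ≫ (pullback.fst f g).residueFieldMap z ≫ ψ =
      (S.residueFieldCongr h).inv ≫ g.residueFieldMap u ≫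
        (pullback.snd f g).residueFieldMap z ≫ ψ := by
    intro ψ h
    rw [← Spec.map_inj, ← cancel_mono (S.fromSpecResidueField (f x))]
    have e := congrArg (fun q => (Spec.map ψ ≫ (pullback f g).fromSpecResidueField z) ≫ q)
      (pullback.condition (f := f) (g := g))
    simp only [Spec.map_comp, Scheme.residueFieldCongr_inv, ← Category.assoc] at e ⊢
    simp only [Category.assoc, Scheme.residueFieldCongr_fromSpecResidueField,
      Scheme.Hom.SpecMap_residueFieldMap_fromSpecResidueField,
      Scheme.Hom.SpecMap_residueFieldMap_fromSpecResidueField_assoc, x, u] at e ⊢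
    exact e
  obtain ⟨B, hB, hsplit⟩ := hsplit
  have hsep : ∀ t ∈ B,
      ((pullback.fst f g).residueFieldMap z ≫ ψa).hom t =
        ((pullback.fst f g).residueFieldMap z ≫ ψb).hom t := by
    intro t ht
    obtain ⟨h, hs⟩ := hsplit t ht
    let t' := (pullback.fst f g).residueFieldMap z t
    have hroot : (((minpoly (S.residueField (f x)) t).map
        ((S.residueFieldCongr h).inv ≫ g.residueFieldMap u).hom).map
          ((pullback.snd f g).residueFieldMap z).hom).IsRoot t' := by
      apply Polynomial.IsRoot.of_map (f := ψa.hom) ?_ ψa.hom.injective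
      rw [Polynomial.map_map, Polynomial.map_map]
      have : ψa.hom.comp (((pullback.snd f g).residueFieldMap z).hom.comp
          ((S.residueFieldCongr h).inv ≫ g.residueFieldMap u).hom) =
          (ψa.hom.comp ((pullback.fst f g).residueFieldMap z).hom).comp
            (algebraMap (S.residueField (f x)) (X.residueField x)) :=
        congr(($(hS ψa h)).hom).symm
      rw [RingHom.comp_assoc, this, ← Polynomial.map_map]
      have h0 : ((minpoly (S.residueField (f x)) t).map
          (algebraMap (S.residueField (f x)) (X.residueField x))).IsRoot t := by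
        rw [Polynomial.IsRoot.def, Polynomial.eval_map_algebraMap, minpoly.aeval]
      exact h0.map (f := ψa.hom.comp ((pullback.fst f g).residueFieldMap z).hom)
    obtain ⟨r, hr⟩ := hs.mem_range_of_isRoot
      ((minpoly.monic (Algebra.IsIntegral.isIntegral t)).map _).ne_zero hroot
    change ψa.hom t' = ψb.hom t'
    rw [← hr]
    exact congr($(hsnd).hom r)
  have hfst : (pullback.fst f g).residueFieldMap z ≫ ψa =
      (pullback.fst f g).residueFieldMap z ≫ ψb := by
    ext1
    refine IsPurelyInseparable.injective_comp_algebraMap
      (separableClosure (S.residueField (f x)) (X.residueField x)) (X.residueField x) K ?_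
    ext t
    change ((pullback.fst f g).residueFieldMap z ≫ ψa).hom t.1 =
      ((pullback.fst f g).residueFieldMap z ≫ ψb).hom t.1
    obtain ⟨t0, ht0⟩ := t
    change ((pullback.fst f g).residueFieldMap z ≫ ψa).hom t0 =
      ((pullback.fst f g).residueFieldMap z ≫ ψb).hom t0
    have hm := hB ht0
    clear ht0
    induction hm using IntermediateField.adjoin_induction with
    | mem y hy => exact hsep y hy
    | algebraMap c =>
      have h : g u = f x := by rw [← Scheme.Hom.comp_apply, ← Scheme.Hom.comp_apply, pullback.condition]
      have e1 := congr(($(hS ψa h)).hom c)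
      have e2 := congr(($(hS ψb h)).hom c)
      refine e1.trans (Eq.trans ?_ e2.symm)
      exact congr(($hsnd).hom (((S.residueFieldCongr h).inv ≫ g.residueFieldMap u) c))
    | add y z _ _ hy hz => simp only [map_add, hy, hz]
    | inv y _ hy => simp only [map_inv₀, hy]
    | mul y z _ _ hy hz => simp only [map_mul, hy, hz]
  apply pullback.hom_ext
  · simp only [Category.assoc, ← Scheme.Hom.SpecMap_residueFieldMap_fromSpecResidueField,
      ← Spec.map_comp_assoc, hfst]
  · exact hab

end Groth.Agent.Wt.Split
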