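import Groth.Agent.LocFlat.Basic
import Groth.Agent.EtStruct.SmoothSource
import Groth.Agent.EtStruct.Scheme
import Mathlib.AlgebraicGeometry.IdealSheaf.Subscheme

/-!
# Smoothness and étaleness from all infinitesimal thickenings
-/

set_option autoImplicit false
set_option linter.style.haveILetI false

universe u

open TensorProduct Function

namespace Groth.Agent.Wt.ThickLift

variable {A B : Type u} [CommRing A] [CommRing B] [Algebra A B]

/-- If `B/JB` is flat over `A/J` then tensoring with a flat `B`-module preserves injections of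
modules killed by `J`. -/
theorem rTensor_injective_of_thick (J : Ideal A) [Module.Flat (A ⧸ J) ((A ⧸ J) ⊗[A] B)]
    (M : Type u) [AddCommGroup M] [Module A M] [Module B M] [IsScalarTower A B M]
    [Module.Flat B M] {A' B' : Type u} [AddCommGroup A'] [Module A A'] [AddCommGroup B']
    [Module A B'] (a : A' →ₗ[A] B') (ha : Injective a)
    (hB : J • (⊤ : Submodule A B') = ⊥) : Injective (a.rTensor M) := by
  have hB' : Module.IsTorsionBySet A B' (J : Set A) := by
    intro x r
    rw [← Submodule.mem_bot A, ← hB]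
    exact Submodule.smul_mem_smul r.2 trivial
  have hA' : Module.IsTorsionBySet A A' (J : Set A) := by
    intro x r
    apply ha
    rw [map_smul, map_zero]
    exact hB' (x := a x) (a := r)
  letI := hA'.module
  letI := hB'.module
  haveI : IsScalarTower A (A ⧸ J) A' := hA'.isScalarTower
  haveI : IsScalarTower A (A ⧸ J) B' := hB'.isScalarTower
  let a' : A' →ₗ[A ⧸ J] B' :=
    LinearMap.extendScalarsOfSurjective (Ideal.Quotient.mk_surjective) a
  have h1 : Injective (a'.rTensor ((A ⧸ J) ⊗[A] B)) :=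
    Module.Flat.rTensor_preserves_injective_linearMap a' ha
  let eA : A' ⊗[A ⧸ J] ((A ⧸ J) ⊗[A] B) ≃ₗ[A ⧸ J] A' ⊗[A] B :=
    AlgebraTensorModule.cancelBaseChange A (A ⧸ J) (A ⧸ J) A' B
  let eB : B' ⊗[A ⧸ J] ((A ⧸ J) ⊗[A] B) ≃ₗ[A ⧸ J] B' ⊗[A] B :=
    AlgebraTensorModule.cancelBaseChange A (A ⧸ J) (A ⧸ J) B' B
  have hnat : ∀ x, eB (a'.rTensor _ x) = a.rTensor B (eA x) := by
    intro x
    induction x with
    | zero => simp
    | add x y hx hy => simp [hx, hy]
    | tmul m y =>
      induction y with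
      | zero => simp
      | add x y hx hy => simp only [tmul_add, map_add, hx, hy]
      | tmul c b =>
        simp only [eA, eB, LinearMap.rTensor_tmul, AlgebraTensorModule.cancelBaseChange_tmul]
        rw [← map_smul a']
        rfl
  have h2 : Injective (a.rTensor B) := by
    intro x y h
    obtain ⟨x, rfl⟩ := eA.surjective x
    obtain ⟨y, rfl⟩ := eA.surjective y
    rw [← hnat, ← hnat] at h
    exact congrArg eA (h1 (eB.injective h))
  have h3 : Injective (a.baseChange B) :=
    (LinearMap.lTensor_inj_iff_rTensor_inj B a).mpr h2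
  have h4 : Injective ((a.baseChange B).lTensor M) :=
    Module.Flat.lTensor_preserves_injective_linearMap _ h3
  let fA : M ⊗[B] (B ⊗[A] A') ≃ₗ[B] M ⊗[A] A' := AlgebraTensorModule.cancelBaseChange A B B M A'
  let fB : M ⊗[B] (B ⊗[A] B') ≃ₗ[B] M ⊗[A] B' := AlgebraTensorModule.cancelBaseChange A B B M B'
  have hnat' : ∀ x, fB ((a.baseChange B).lTensor M x) = a.lTensor M (fA x) := by
    intro x
    induction x with
    | zero => simp
    | add x y hx hy => simp [hx, hy]
    | tmul m y =>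
      induction y with
      | zero => simp
      | add x y hx hy => simp only [tmul_add, map_add, hx, hy]
      | tmul c b =>
        simp only [fA, fB, LinearMap.lTensor_tmul, LinearMap.baseChange_tmul,
          AlgebraTensorModule.cancelBaseChange_tmul]
  apply (LinearMap.lTensor_inj_iff_rTensor_inj M a).mp
  intro x y h
  obtain ⟨x, rfl⟩ := fA.surjective x
  obtain ⟨y, rfl⟩ := fA.surjective y
  rw [← hnat', ← hnat'] at h
  exact congrArg fA (h4 (fB.injective h))

/-- Flatness of all thickenings gives flatness at the primes over the centre. -/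
theorem flatAt_of_forall [IsNoetherianRing A] [Algebra.FiniteType A B] (I : Ideal A)
    (q : Ideal B) [q.IsPrime] (hI : I.map (algebraMap A B) ≤ q)
    (h : ∀ n, Module.Flat (A ⧸ I ^ (n + 1)) ((A ⧸ I ^ (n + 1)) ⊗[A] B)) :
    Module.Flat A (Localization.AtPrime q) := by
  have : IsNoetherianRing B := Algebra.FiniteType.isNoetherianRing A B
  have : IsNoetherianRing (Localization.AtPrime q) :=
    IsLocalization.isNoetherianRing q.primeCompl _ ‹_›
  have : Module.Flat B (Localization.AtPrime q) := IsLocalization.flat _ q.primeCompl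
  refine LocFlat.flat_of_forall_pow (S := Localization.AtPrime q) (Localization.AtPrime q) I ?_ ?_
  · rw [IsLocalRing.jacobson_eq_maximalIdeal ⊥ bot_ne_top,
      IsScalarTower.algebraMap_eq A B (Localization.AtPrime q), ← Ideal.map_map,
      ← Localization.AtPrime.map_eq_maximalIdeal]
    exact Ideal.map_mono hI
  · intro n A' B' _ _ _ _ a ha hB
    have hB' : I ^ (n + 1) • (⊤ : Submodule A B') = ⊥ :=
      le_bot_iff.mp (hB ▸ Submodule.smul_mono_left (Ideal.pow_le_pow_right (Nat.le_succ n)))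
    have := h n
    exact rTensor_injective_of_thick (B := B) (I ^ (n + 1)) (Localization.AtPrime q) a ha hB'

/-- A fibre over a prime containing `J` is formally smooth if the reduction modulo `J` is. -/
theorem formallySmooth_fiber (J : Ideal A) (p : Ideal A) [p.IsPrime] (hJ : J ≤ p)
    [Algebra.FormallySmooth (A ⧸ J) ((A ⧸ J) ⊗[A] B)] :
    Algebra.FormallySmooth p.ResidueField (p.Fiber B) := by
  letI : Algebra (A ⧸ J) p.ResidueField :=
    (Ideal.Quotient.lift J (algebraMap A p.ResidueField) fun a ha ↦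
      Ideal.algebraMap_residueField_eq_zero.mpr (hJ ha)).toAlgebra
  haveI : IsScalarTower A (A ⧸ J) p.ResidueField := .of_algebraMap_eq fun a ↦ rfl
  exact .of_equiv (Algebra.TensorProduct.cancelBaseChange A (A ⧸ J) p.ResidueField
    p.ResidueField B)

/-- Smoothness of all thickenings gives smoothness at the primes over the centre. -/
theorem isSmoothAt_of_forall [IsNoetherianRing A] [Algebra.FiniteType A B] (I : Ideal A)
    (q : Ideal B) [q.IsPrime] (hI : I.map (algebraMap A B) ≤ q)
    (h : ∀ n, Algebra.Smooth (A ⧸ I ^ (n + 1)) ((A ⧸ I ^ (n + 1)) ⊗[A] B)) :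
    Algebra.IsSmoothAt A q := by
  have : Algebra.FinitePresentation A B := Algebra.FinitePresentation.of_finiteType.mp ‹_›
  have hflat : Module.Flat A (Localization.AtPrime q) := flatAt_of_forall I q hI fun n ↦ by
    have := h n; infer_instance
  have := h 0
  have hle : I ^ (0 + 1) ≤ q.under A := by
    rw [zero_add, pow_one]
    exact Ideal.le_comap_of_map_le hI
  have : Algebra.FormallySmooth (q.under A).ResidueField ((q.under A).Fiber B) :=
    formallySmooth_fiber _ _ hle
  exact EtStruct.isSmoothAt_of_formallySmooth_fiber_of_flat (q.under A) q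

attribute [local instance] Algebra.TensorProduct.rightAlgebra in
/-- Unramifiedness of the reduction modulo `J` gives unramifiedness at primes over it. -/
theorem isUnramifiedAt_of_thick [Algebra.FiniteType A B] (J : Ideal A)
    (q : Ideal B) [q.IsPrime] (hJ : J.map (algebraMap A B) ≤ q)
    [Algebra.FormallyUnramified (A ⧸ J) ((A ⧸ J) ⊗[A] B)] :
    Algebra.IsUnramifiedAt A q := by
  have h0 : Subsingleton (Ω[((A ⧸ J) ⊗[A] B)⁄(A ⧸ J)]) := inferInstance
  have h1 : Subsingleton ((A ⧸ J) ⊗[A] Ω[B⁄A]) :=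
    (KaehlerDifferential.tensorKaehlerEquivBase A (A ⧸ J) B ((A ⧸ J) ⊗[A] B)).subsingleton
  have h2 : Subsingleton (Ω[B⁄A] ⧸ J • (⊤ : Submodule A Ω[B⁄A])) :=
    (TensorProduct.quotTensorEquivQuotSMul _ J).symm.subsingleton
  have h3 : J • (⊤ : Submodule A Ω[B⁄A]) = ⊤ :=
    Submodule.Quotient.subsingleton_iff.mp h2
  have h4 : J.map (algebraMap A B) • (⊤ : Submodule B Ω[B⁄A]) = ⊤ := by
    apply Submodule.restrictScalars_injective A
    rw [Ideal.smul_restrictScalars] at *
    simpa using h3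
  obtain ⟨r, hr, hr'⟩ := Submodule.exists_sub_one_mem_and_smul_eq_zero_of_fg_of_le_smul
    (J.map (algebraMap A B)) (⊤ : Submodule B Ω[B⁄A]) Module.Finite.fg_top h4.ge
  show (⟨q, ‹_›⟩ : PrimeSpectrum B) ∈ Algebra.unramifiedLocus A B
  rw [Algebra.unramifiedLocus_eq_compl_support, Set.mem_compl_iff, Module.notMem_support_iff']
  refine fun m ↦ ⟨r, fun hrq ↦ ?_, hr' m trivial⟩
  have h1q : (r - (r - 1)) ∈ q := sub_mem hrq (hJ hr)
  rw [sub_sub_cancel] at h1q
  exact Ideal.IsPrime.ne_top ‹_› ((Ideal.eq_top_iff_one q).mpr h1q)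

section Scheme

open AlgebraicGeometry CategoryTheory Limits

variable {X S : Scheme.{u}} (f : X ⟶ S) (K : S.IdealSheafData)

set_option backward.isDefEq.respectTransparency false in
/-- A chart of the base change to a closed subscheme. -/
theorem chart_property (P : MorphismProperty Scheme.{u}) [P.IsStableUnderBaseChange]
    (hP : ∀ {W₁ W₂ W₃ : Scheme.{u}} (j : W₁ ⟶ W₂) (g : W₂ ⟶ W₃),
      IsOpenImmersion j → P g → P (j ≫ g))
    (h : P (pullback.snd f K.subschemeι)) {U : S.Opens} (hU : IsAffineOpen U) {V : X.Opens}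
    (hV : IsAffineOpen V) (hVU : V ≤ f ⁻¹ᵁ U) :
    letI := (f.appLE U V hVU).hom.toAlgebra
    P (Spec.map (CommRingCat.ofHom (algebraMap (Γ(S, U) ⧸ K.ideal ⟨U, hU⟩)
      ((Γ(S, U) ⧸ K.ideal ⟨U, hU⟩) ⊗[Γ(S, U)] Γ(X, V))))) := by
  let := (f.appLE U V hVU).hom.toAlgebra
  have : P.RespectsIso := MorphismProperty.IsStableUnderBaseChange.respectsIso
  let U' : S.affineOpens := ⟨U, hU⟩
  let m : Spec (.of (Γ(S, U) ⧸ K.ideal U')) ⟶ S :=
    Spec.map (CommRingCat.ofHom (algebraMap Γ(S, U) (Γ(S, U) ⧸ K.ideal U'))) ≫ hU.fromSpec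
  let g : Spec (.of (Γ(S, U) ⧸ K.ideal U')) ⟶ K.subscheme := K.subschemeCover.f U'
  have hg : g ≫ K.subschemeι = m := by
    show K.subschemeCover.f U' ≫ _ = _
    rw [K.subschemeCover_map_subschemeι]
    simp only [Scheme.IdealSheafData.glueDataObjι, Category.assoc, IsAffineOpen.isoSpec_inv_ι,
      m, U', Ideal.Quotient.algebraMap_eq]
  have h1 : P (pullback.snd f m) := by
    rw [← hg, ← pullbackLeftPullbackSndIso_inv_snd_snd f K.subschemeι g, P.cancel_left_of_respectsIso]
    exact MorphismProperty.pullback_snd _ _ h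
  have hVf : hV.fromSpec ≫ f =
      Spec.map (CommRingCat.ofHom (algebraMap Γ(S, U) Γ(X, V))) ≫ hU.fromSpec :=
    (hU.SpecMap_appLE_fromSpec f hV hVU).symm
  let q := CommRingCat.ofHom (algebraMap Γ(S, U) (Γ(S, U) ⧸ K.ideal U'))
  let φ := CommRingCat.ofHom (algebraMap Γ(S, U) Γ(X, V))
  let a : pullback (Spec.map q) (Spec.map φ) ⟶
      pullback (hV.fromSpec ≫ f) m :=
    pullback.lift (pullback.snd _ _) (pullback.fst _ _) (by
      rw [hVf]; exact (congrArg (· ≫ hU.fromSpec) pullback.condition.symm).trans (by simp [φ, m, q]) |>.trans rfl)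
  have ha : IsIso a := by
    refine ⟨pullback.lift (pullback.snd _ _) (pullback.fst _ _) ?_, ?_, ?_⟩
    · rw [← cancel_mono hU.fromSpec, Category.assoc, Category.assoc, ← hVf]
      exact pullback.condition.symm
    · ext <;> simp [a]
    · ext <;> simp [a]
  let b : pullback (hV.fromSpec ≫ f) m ⟶ pullback f m :=
    pullback.map (hV.fromSpec ≫ f) m f m hV.fromSpec (𝟙 _) (𝟙 _) (by simp) (by simp)
  have hb : IsOpenImmersion b := by
    have : IsPullback b (pullback.fst (hV.fromSpec ≫ f) m) (pullback.fst f m) hV.fromSpec :=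
      IsPullback.of_right (h₁₂ := pullback.snd f m) (h₂₂ := f)
        (by convert (IsPullback.of_hasPullback (hV.fromSpec ≫ f) m).flip using 1; simp [b])
        (by simp [b]) (IsPullback.of_hasPullback f m).flip
    exact MorphismProperty.of_isPullback this.flip inferInstance
  have h2 := hP ((pullbackSpecIso Γ(S, U) (Γ(S, U) ⧸ K.ideal U') Γ(X, V)).inv ≫ a ≫ b)
    (pullback.snd f m) inferInstance h1
  have e : ((pullbackSpecIso Γ(S, U) (Γ(S, U) ⧸ K.ideal U') Γ(X, V)).inv ≫ a ≫ b) ≫
      pullback.snd f m = Spec.map (CommRingCat.ofHom (algebraMap (Γ(S, U) ⧸ K.ideal U')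
      ((Γ(S, U) ⧸ K.ideal U') ⊗[Γ(S, U)] Γ(X, V)))) := by
    rw [← pullbackSpecIso_inv_fst']
    simp only [Category.assoc]
    congr 1
    simp [a, b, q, φ]
  rwa [e] at h2

/-- The prime of a point of the support contains the ideal. -/
theorem map_le_primeIdealOf (x : X) (hx : f x ∈ K.support) {U : S.Opens} (hU : IsAffineOpen U)
    {V : X.Opens} (hV : IsAffineOpen V) (hVU : V ≤ f ⁻¹ᵁ U) (hxV : x ∈ V) :
    letI := (f.appLE U V hVU).hom.toAlgebra
    (K.ideal ⟨U, hU⟩).map (algebraMap Γ(S, U) Γ(X, V)) ≤ (hV.primeIdealOf ⟨x, hxV⟩).asIdeal := by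
  let := (f.appLE U V hVU).hom.toAlgebra
  rw [Ideal.map_le_iff_le_comap]
  intro g hg
  rw [RingHom.algebraMap_toAlgebra]
  show g ∈ ((hV.primeIdealOf ⟨x, hxV⟩).comap (f.appLE U V hVU).hom).asIdeal
  rw [IsAffineOpen.comap_primeIdealOf_appLE U hU V hV hVU hxV]
  have h := (Scheme.mem_zeroLocus_iff S _ _).mp
    ((K.mem_support_iff_of_mem (U := ⟨U, hU⟩) (hVU hxV)).mp hx) g hg
  by_contra hn
  refine h ?_
  have h' : hU.primeIdealOf ⟨f x, hVU hxV⟩ ∈ hU.fromSpec ⁻¹ᵁ S.basicOpen g := by
    rw [hU.fromSpec_preimage_basicOpen]; exact hn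
  have h'' : hU.fromSpec (hU.primeIdealOf ⟨f x, hVU hxV⟩) ∈ S.basicOpen g := h'
  rwa [hU.fromSpec_primeIdealOf] at h''

/-- Charts of smooth thickenings are smooth. -/
theorem smooth_chart (n : ℕ) (h : Smooth (pullback.snd f (K ^ (n + 1)).subschemeι)) {U : S.Opens}
    (hU : IsAffineOpen U) {V : X.Opens} (hV : IsAffineOpen V) (hVU : V ≤ f ⁻¹ᵁ U) :
    letI := (f.appLE U V hVU).hom.toAlgebra
    Algebra.Smooth (Γ(S, U) ⧸ K.ideal ⟨U, hU⟩ ^ (n + 1))
      ((Γ(S, U) ⧸ K.ideal ⟨U, hU⟩ ^ (n + 1)) ⊗[Γ(S, U)] Γ(X, V)) := by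
  let := (f.appLE U V hVU).hom.toAlgebra
  have key : ∀ J : Ideal Γ(S, U), J = (K ^ (n + 1)).ideal ⟨U, hU⟩ →
      Algebra.Smooth (Γ(S, U) ⧸ J) ((Γ(S, U) ⧸ J) ⊗[Γ(S, U)] Γ(X, V)) := by
    rintro _ rfl
    have := chart_property f (K ^ (n + 1)) @Smooth (fun j g _ hg ↦
      MorphismProperty.comp_mem @Smooth _ _ inferInstance hg) h hU hV hVU
    rw [HasRingHomProperty.Spec_iff (P := @Smooth)] at this
    exact RingHom.smooth_algebraMap.mp this
  exact key _ (by simp)

/-- Charts of étale thickenings are formally unramified. -/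
theorem unramified_chart (n : ℕ) (h : Etale (pullback.snd f (K ^ (n + 1)).subschemeι)) {U : S.Opens}
    (hU : IsAffineOpen U) {V : X.Opens} (hV : IsAffineOpen V) (hVU : V ≤ f ⁻¹ᵁ U) :
    letI := (f.appLE U V hVU).hom.toAlgebra
    Algebra.FormallyUnramified (Γ(S, U) ⧸ K.ideal ⟨U, hU⟩ ^ (n + 1))
      ((Γ(S, U) ⧸ K.ideal ⟨U, hU⟩ ^ (n + 1)) ⊗[Γ(S, U)] Γ(X, V)) := by
  let := (f.appLE U V hVU).hom.toAlgebra
  have key : ∀ J : Ideal Γ(S, U), J = (K ^ (n + 1)).ideal ⟨U, hU⟩ →
      Algebra.FormallyUnramified (Γ(S, U) ⧸ J) ((Γ(S, U) ⧸ J) ⊗[Γ(S, U)] Γ(X, V)) := by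
    rintro _ rfl
    have := chart_property f (K ^ (n + 1)) @FormallyUnramified (fun j g _ hg ↦
      MorphismProperty.comp_mem @FormallyUnramified _ _ inferInstance hg) inferInstance hU hV hVU
    rw [HasRingHomProperty.Spec_iff (P := @FormallyUnramified)] at this
    exact RingHom.formallyUnramified_algebraMap.mp this
  exact key _ (by simp)

/-- Smooth thickenings give smoothness along the support. -/
theorem mem_smoothLocus [IsLocallyNoetherian S] [LocallyOfFinitePresentation f]
    (h : ∀ n : ℕ, Smooth (pullback.snd f (K ^ (n + 1)).subschemeι)) (x : X)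
    (hx : f x ∈ K.support) : x ∈ f.smoothLocus := by
  obtain ⟨U, hU, V, hV, hVU, hxV⟩ := EtStruct.exists_chart f x
  let := (f.appLE U V hVU).hom.toAlgebra
  have : IsNoetherianRing Γ(S, U) := IsLocallyNoetherian.component_noetherian ⟨U, hU⟩
  have : Algebra.FiniteType Γ(S, U) Γ(X, V) := f.finiteType_appLE hU hV hVU
  rw [Scheme.Hom.mem_smoothLocus, formallySmooth_stalkMap_iff U hU V hV hVU hxV]
  exact isSmoothAt_of_forall _ _ (map_le_primeIdealOf f K x hx hU hV hVU hxV)
    fun n ↦ smooth_chart f K n (h n) hU hV hVU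

/-- Étale thickenings give étaleness along the support. -/
theorem exists_etale [IsLocallyNoetherian S] [LocallyOfFinitePresentation f]
    (h : ∀ n : ℕ, Etale (pullback.snd f (K ^ (n + 1)).subschemeι)) (x : X)
    (hx : f x ∈ K.support) : ∃ W : X.Opens, x ∈ W ∧ Etale (W.ι ≫ f) := by
  obtain ⟨U, hU, V, hV, hVU, hxV⟩ := EtStruct.exists_chart f x
  let := (f.appLE U V hVU).hom.toAlgebra
  have : IsNoetherianRing Γ(S, U) := IsLocallyNoetherian.component_noetherian ⟨U, hU⟩
  have : Algebra.FiniteType Γ(S, U) Γ(X, V) := f.finiteType_appLE hU hV hVU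
  have hle := map_le_primeIdealOf f K x hx hU hV hVU hxV
  rw [EtStruct.etale_nhd_iff, EtStruct.formallyUnramified_stalkMap_iff f hU hV hVU hxV,
    EtStruct.flat_stalkMap_iff f hU hV hVU hxV]
  constructor
  · have := unramified_chart f K 0 (h 0) hU hV hVU
    exact isUnramifiedAt_of_thick (K.ideal ⟨U, hU⟩ ^ (0 + 1)) _ (by rwa [zero_add, pow_one])
  · exact flatAt_of_forall _ _ hle fun n ↦ by
      have : Smooth (pullback.snd f (K ^ (n + 1)).subschemeι) := by
        have := h n; infer_instance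
      have := smooth_chart f K n this hU hV hVU
      infer_instance

end Scheme

end Groth.Agent.Wt.ThickLift
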