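import Groth.Agent.VarDim.Algebra
import Mathlib.RingTheory.QuasiFinite.Basic
import Mathlib.RingTheory.RingHom.QuasiFinite
import Mathlib.Topology.Spectral.ConstructibleTopology
import Mathlib.RingTheory.Spectrum.Prime.Topology
import Mathlib.RingTheory.Spectrum.Prime.Noetherian

/-!
# Quasi-finite maps from polynomial rings
-/

set_option autoImplicit false

universe u

open MvPolynomial Topology

namespace Groth.Agent.Wt.QFPoly

/-- An element killed in the fibre at `p` is, up to a multiplier outside `p`, in `pS`. -/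
theorem exists_smul_mem_of_one_tmul_eq_zero {R S : Type u} [CommRing R] [CommRing S] [Algebra R S]
    (p : Ideal R) [p.IsPrime] (x : S) (h : (1 : p.ResidueField) ⊗ₜ[R] x = 0) :
    ∃ s ∉ p, s • x ∈ p.map (algebraMap R S) := by
  let : Algebra S (p.Fiber S) := Algebra.TensorProduct.rightAlgebra
  have h0 : algebraMap S (p.Fiber S) x = 0 := h
  have h1 := congrArg (Ideal.Fiber.algEquivAux₁ (S := S) p) h0
  rw [map_zero, AlgEquiv.commutes, IsScalarTower.algebraMap_apply S
    (Localization (Algebra.algebraMapSubmonoid S p.primeCompl)), Ideal.Quotient.algebraMap_eq,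
    Ideal.Quotient.eq_zero_iff_mem,
    IsLocalization.algebraMap_mem_map_algebraMap_iff (Algebra.algebraMapSubmonoid S p.primeCompl)] at h1
  obtain ⟨_, ⟨s, hs, rfl⟩, hm⟩ := h1
  exact ⟨s, hs, by rw [Algebra.smul_def]; exact hm⟩

/-- A lift of a relation in the fibre at `p`, valid on a constructible neighbourhood of `p`. -/
theorem exists_relation {R S : Type u} [CommRing R] [CommRing S] [Algebra R S] {n : ℕ}
    (a : Fin n → S) (p : Ideal R) [p.IsPrime] (h : MvPolynomial (Fin n) p.ResidueField)
    (h0 : h ≠ 0) (ha : aeval (fun i => (1 : p.ResidueField) ⊗ₜ[R] a i) h = 0) :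
    ∃ (g : MvPolynomial (Fin n) R) (c : R) (G : Finset R), c ∉ p ∧ (G : Set R) ⊆ p ∧
      ∀ q : Ideal R, [q.IsPrime] → c ∉ q → (G : Set R) ⊆ q →
        g.map (algebraMap R q.ResidueField) ≠ 0 ∧
          aeval (fun i => (1 : q.ResidueField) ⊗ₜ[R] a i)
            (g.map (algebraMap R q.ResidueField)) = 0 := by
  classical
  obtain ⟨⟨b, hb⟩, hint⟩ := IsLocalization.exist_integer_multiples (nonZeroDivisors (R ⧸ p))
    h.support h.coeff
  choose r hr using hint
  replace hr : ∀ v (hv : v ∈ h.support),
      algebraMap (R ⧸ p) p.ResidueField (r v hv) = b • h.coeff v := hr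
  choose r' hr' using fun v hv => Ideal.Quotient.mk_surjective (r v hv)
  let g : MvPolynomial (Fin n) R :=
    ∑ v ∈ h.support.attach, monomial v.1 (r' v.1 v.2)
  have hb0 : algebraMap (R ⧸ p) p.ResidueField b ≠ 0 := fun e =>
    nonZeroDivisors.ne_zero hb ((map_eq_zero_iff _ (IsFractionRing.injective _ _)).mp e)
  have hg : g.map (algebraMap R p.ResidueField) = algebraMap (R ⧸ p) p.ResidueField b • h := by
    conv_rhs => rw [← h.support_sum_monomial_coeff, ← Finset.sum_attach, Finset.smul_sum]
    simp only [g, map_sum, map_monomial, smul_monomial]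
    refine Finset.sum_congr rfl fun v _ => ?_
    rw [← Ideal.algebraMap_quotient_residueField_mk, hr', hr, Algebra.smul_def, smul_eq_mul]
  have hne : g.map (algebraMap R p.ResidueField) ≠ 0 := by rw [hg]; exact smul_ne_zero hb0 h0
  obtain ⟨v, hv⟩ := exists_coeff_ne_zero hne
  rw [coeff_map] at hv
  have hev : ∀ (q : Ideal R) [q.IsPrime],
      aeval (fun i => (1 : q.ResidueField) ⊗ₜ[R] a i) (g.map (algebraMap R q.ResidueField)) =
        (1 : q.ResidueField) ⊗ₜ[R] aeval a g := by
    intro q _
    rw [aeval_map_algebraMap]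
    show aeval (fun i => (Algebra.TensorProduct.includeRight : S →ₐ[R] q.Fiber S) (a i)) g =
      (Algebra.TensorProduct.includeRight : S →ₐ[R] q.Fiber S) (aeval a g)
    rw [← AlgHom.comp_apply, comp_aeval]
  obtain ⟨s, hs, hsm⟩ := exists_smul_mem_of_one_tmul_eq_zero p (aeval a g) (by
    rw [← hev, hg, map_smul, ha, smul_zero])
  rw [Ideal.map] at hsm
  obtain ⟨T, hT, hsT⟩ := Submodule.mem_span_finite_of_mem_span hsm
  choose! w hwp hw using fun t (ht : t ∈ T) => hT ht
  refine ⟨g, g.coeff v * s, T.image w, fun hm => ?_, ?_, fun q _ hc hG => ⟨fun e => ?_, ?_⟩⟩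
  · rcases Ideal.IsPrime.mem_or_mem ‹_› hm with h1 | h1
    · exact hv (Ideal.algebraMap_residueField_eq_zero.mpr h1)
    · exact hs h1
  · rw [Finset.coe_image]
    rintro _ ⟨t, ht, rfl⟩
    exact hwp t ht
  · have := congrArg (coeff v) e
    rw [coeff_map, coeff_zero, Ideal.algebraMap_residueField_eq_zero] at this
    exact hc (q.mul_mem_right _ this)
  · rw [hev]
    have h1 : (Algebra.TensorProduct.includeRight : S →ₐ[R] q.Fiber S) (s • aeval a g) = 0 := by
      clear hev
      generalize s • aeval a g = x at hsT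
      induction hsT using Submodule.span_induction with
      | mem t ht =>
        rw [← hw t ht, AlgHom.commutes]
        refine (IsScalarTower.algebraMap_apply R q.ResidueField (q.Fiber S) _).trans ?_
        rw [Ideal.algebraMap_residueField_eq_zero.mpr (hG (Finset.mem_image_of_mem w ht)), map_zero]
      | zero => rw [map_zero]
      | add _ _ _ _ h₁ h₂ => rw [map_add, h₁, h₂, add_zero]
      | smul c y _ hy => rw [smul_eq_mul, map_mul, hy, mul_zero]
    rw [map_smul] at h1
    have hs' : algebraMap R q.ResidueField s ≠ 0 := fun e =>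
      hc (q.mul_mem_left _ (Ideal.algebraMap_residueField_eq_zero.mp e))
    rw [← algebraMap_smul q.ResidueField s] at h1
    exact (smul_eq_zero.mp h1).resolve_left hs'

/-- An injective map from a polynomial ring bounds the dimension from below. -/
theorem le_ringKrullDim_of_injective {k A : Type u} [Field k] [CommRing A] [Algebra k A]
    [Algebra.FiniteType k A] {n : ℕ} (φ : MvPolynomial (Fin n) k →ₐ[k] A)
    (hφ : Function.Injective φ) : (n : WithBot ℕ∞) ≤ ringKrullDim A := by
  obtain ⟨Q, hQ, -, hQc⟩ := Ideal.exists_comap_eq_of_mem_minimalPrimes φ.toRingHom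
    (I := (⊥ : Ideal A)) (⊥ : Ideal (MvPolynomial (Fin n) k))
    (by
      rw [← RingHom.ker_eq_comap_bot,
        show RingHom.ker φ.toRingHom = ⊥ from (RingHom.injective_iff_ker_eq_bot _).mp hφ]
      show (⊥ : Ideal (MvPolynomial (Fin n) k)) ∈ minimalPrimes (MvPolynomial (Fin n) k)
      rw [IsDomain.minimalPrimes_eq_singleton_bot]
      exact Set.mem_singleton _)
  let ψ : MvPolynomial (Fin n) k →ₐ[k] A ⧸ Q := (Ideal.Quotient.mkₐ k Q).comp φ
  have hψ : Function.Injective ψ := by
    rw [injective_iff_map_eq_zero]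
    intro x hx
    rw [← Ideal.mem_bot, ← hQc, Ideal.mem_comap]
    exact Ideal.Quotient.eq_zero_iff_mem.mp (show Ideal.Quotient.mk Q (φ x) = 0 from hx)
  have hind : AlgebraicIndependent k (fun i => ψ (X i)) := by
    rw [algebraicIndependent_iff_injective_aeval]
    rwa [show aeval (fun i => ψ (X i)) = ψ from (aeval_unique ψ).symm]
  obtain ⟨m, hm, hm', -⟩ := VarDim.exists_ringKrullDim_eq_trdeg k (A ⧸ Q)
  have hle := hind.lift_cardinalMk_le_trdeg
  simp only [hm', Cardinal.mk_fin, Cardinal.lift_natCast] at hle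
  calc (n : WithBot ℕ∞) ≤ (m : ℕ) := by exact_mod_cast (Nat.cast_le.mp hle)
    _ = ringKrullDim (A ⧸ Q) := hm.symm
    _ ≤ ringKrullDim A := ringKrullDim_quotient_le Q

/-- Nagata's substitution makes the first coordinate integral. -/
theorem isIntegral_of_relation {k A B : Type u} [Field k] [CommRing A] [Algebra k A] [CommRing B]
    [Algebra k B] [Algebra B A] [IsScalarTower k B A] {n : ℕ} (a : Fin (n + 1) → A)
    (h : MvPolynomial (Fin (n + 1)) k) (h0 : h ≠ 0) (ha : aeval a h = 0) (N : ℕ) (hN : 2 ≤ N)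
    (hdeg : ∀ v ∈ h.support, ∀ i, v i < N) (b : Fin n → B)
    (hb : ∀ i, algebraMap B A (b i) = a i.succ - a 0 ^ N ^ (i.1 + 1)) : IsIntegral B (a 0) := by
  classical
  rcases subsingleton_or_nontrivial B with hB | hB
  · have : Subsingleton A := (algebraMap B A).codomain_trivial
    exact ⟨1, Polynomial.monic_one, Subsingleton.elim _ _⟩
  let L : Fin (n + 1) → Polynomial B :=
    Fin.cons Polynomial.X (fun i => Polynomial.X ^ N ^ (i.1 + 1) + Polynomial.C (b i))
  have hLm : ∀ i, (L i).Monic := Fin.cases (by simpa [L] using Polynomial.monic_X)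
    (fun i => by simpa [L] using Polynomial.monic_X_pow_add_C (b i) (pow_ne_zero _ (by omega)))
  have hLd : ∀ i, (L i).natDegree = N ^ i.1 := Fin.cases (by simp [L])
    (fun i => by simp [L, Polynomial.natDegree_X_pow_add_C])
  let D : (Fin (n + 1) →₀ ℕ) → ℕ := fun v => ∑ i : Fin (n + 1), v i * N ^ i.1
  have hmon : ∀ v : Fin (n + 1) →₀ ℕ, (∏ i, L i ^ v i).Monic :=
    fun v => Polynomial.monic_prod_of_monic _ _ fun i _ => (hLm i).pow _
  have hD : ∀ v : Fin (n + 1) →₀ ℕ, (∏ i, L i ^ v i).natDegree = D v := by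
    intro v
    rw [Polynomial.natDegree_prod_of_monic _ _ fun i _ => (hLm i).pow _]
    exact Finset.sum_congr rfl fun i _ => by rw [(hLm i).natDegree_pow, hLd]
  have hinj : ∀ v ∈ h.support, ∀ w ∈ h.support, D v = D w → v = w := by
    intro v hv w hw e
    refine Finsupp.ext (congrFun (List.ofFn_inj.mp ?_))
    refine Nat.ofDigits_inj_of_len_eq (b := N) (by omega) (by simp)
      (fun x hx => by obtain ⟨i, rfl⟩ := List.mem_ofFn.mp hx; exact hdeg v hv i)
      (fun x hx => by obtain ⟨i, rfl⟩ := List.mem_ofFn.mp hx; exact hdeg w hw i) ?_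
    simpa [Nat.ofDigits_eq_sum_mapIdx, List.mapIdx_eq_ofFn, List.sum_ofFn, D, Fin.sum_univ_succ] using e
  obtain ⟨v₀, hv₀, hmax⟩ := Finset.exists_max_image h.support D (support_nonempty.mpr h0)
  let c : (Fin (n + 1) →₀ ℕ) → B := fun v => algebraMap k B ((h.coeff v₀)⁻¹ * h.coeff v)
  let P : Polynomial B := ∑ v ∈ h.support, Polynomial.C (c v) * ∏ i, L i ^ v i
  have hc₀ : c v₀ = 1 := by
    simp only [c]
    rw [inv_mul_cancel₀ (mem_support_iff.mp hv₀), map_one]
  have hP : P.Monic := by
    refine Polynomial.monic_of_natDegree_le_of_coeff_eq_one (D v₀) ?_ ?_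
    · refine Polynomial.natDegree_sum_le_of_forall_le _ _ fun v hv => ?_
      exact (Polynomial.natDegree_C_mul_le _ _).trans ((hD v).le.trans (hmax v hv))
    · rw [Polynomial.finset_sum_coeff, Finset.sum_eq_single v₀]
      · rw [Polynomial.coeff_C_mul, hc₀, one_mul, ← hD, (hmon v₀).coeff_natDegree]
      · intro v hv hne
        rw [Polynomial.coeff_C_mul, Polynomial.coeff_eq_zero_of_natDegree_lt, mul_zero]
        rw [hD]
        exact lt_of_le_of_ne (hmax v hv) fun e => hne (hinj v hv v₀ hv₀ e)
      · exact fun hv => absurd hv₀ hv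
  refine ⟨P, hP, ?_⟩
  have hL : ∀ i, Polynomial.eval₂ (algebraMap B A) (a 0) (L i) = a i := Fin.cases (by simp [L])
    (fun i => by simp [L, hb])
  have : Polynomial.eval₂ (algebraMap B A) (a 0) P =
      algebraMap k A (h.coeff v₀)⁻¹ * aeval a h := by
    rw [aeval_def, eval₂_eq', Finset.mul_sum, Polynomial.eval₂_finset_sum]
    refine Finset.sum_congr rfl fun v _ => ?_
    rw [Polynomial.eval₂_mul, Polynomial.eval₂_C, Polynomial.eval₂_finsetProd]
    simp only [Polynomial.eval₂_pow, hL, c, ← IsScalarTower.algebraMap_apply, map_mul]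
    rw [mul_assoc]
  rw [this, ha, mul_zero]

/-- One step of the elimination over a field. -/
theorem quasiFinite_eliminate {k A : Type u} [Field k] [CommRing A] [Algebra k A] {n : ℕ}
    (a : Fin (n + 1) → A) (hqf : (aeval (R := k) a).toRingHom.QuasiFinite)
    (h : MvPolynomial (Fin (n + 1)) k) (h0 : h ≠ 0) (ha : aeval a h = 0) (N : ℕ) (hN : 2 ≤ N)
    (hdeg : ∀ v ∈ h.support, ∀ i, v i < N) :
    (aeval (R := k) fun i : Fin n => a i.succ - a 0 ^ N ^ (i.1 + 1)).toRingHom.QuasiFinite := by
  let φ : MvPolynomial (Fin n) k →ₐ[k] MvPolynomial (Fin (n + 1)) k ⧸ Ideal.span {h} :=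
    (Ideal.Quotient.mkₐ k _).comp (aeval fun i : Fin n => X i.succ - X 0 ^ N ^ (i.1 + 1))
  let ψ : MvPolynomial (Fin (n + 1)) k ⧸ Ideal.span {h} →ₐ[k] A :=
    Ideal.Quotient.liftₐ _ (aeval a) fun x hx => by
      obtain ⟨y, rfl⟩ := Ideal.mem_span_singleton'.mp hx
      rw [map_mul, ha, mul_zero]
  have hψmk : ∀ x, ψ (Ideal.Quotient.mk _ x) = aeval a x := fun x => rfl
  have hfac : (aeval (R := k) fun i : Fin n => a i.succ - a 0 ^ N ^ (i.1 + 1)) = ψ.comp φ := by
    ext i
    simp only [φ, AlgHom.comp_apply, aeval_X, map_sub, map_pow, Ideal.Quotient.mkₐ_eq_mk, hψmk]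
  have hψ : ψ.toRingHom.QuasiFinite :=
    RingHom.QuasiFinite.of_comp (g := Ideal.Quotient.mk (Ideal.span {h})) (by
      convert hqf using 1
      exact RingHom.ext hψmk)
  have hφ : φ.toRingHom.Finite := by
    let := φ.toRingHom.toAlgebra
    have : IsScalarTower k (MvPolynomial (Fin n) k) (MvPolynomial (Fin (n + 1)) k ⧸ Ideal.span {h}) :=
      .of_algebraMap_eq fun x => (φ.commutes x).symm
    let e : Fin (n + 1) → MvPolynomial (Fin (n + 1)) k ⧸ Ideal.span {h} :=
      fun i => Ideal.Quotient.mk _ (X i)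
    have hb : ∀ i : Fin n, algebraMap (MvPolynomial (Fin n) k) _ (X i) =
        e i.succ - e 0 ^ N ^ (i.1 + 1) := fun i => by
      show φ (X i) = _
      simp [φ, e]
    have hrel : aeval e h = 0 := by
      have : ∀ p, aeval e p = Ideal.Quotient.mkₐ k (Ideal.span {h}) p := fun p => by
        rw [show Ideal.Quotient.mkₐ k (Ideal.span {h}) = aeval e from aeval_unique _]
      rw [this, Ideal.Quotient.mkₐ_eq_mk, Ideal.Quotient.eq_zero_iff_mem]
      exact Ideal.subset_span rfl
    have h1 := isIntegral_of_relation (B := MvPolynomial (Fin n) k) e h h0 hrel N hN hdeg X hb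
    have hall : ∀ i, IsIntegral (MvPolynomial (Fin n) k) (e i) := Fin.cases h1 fun i => by
      rw [show e i.succ = algebraMap (MvPolynomial (Fin n) k) _ (X i) + e 0 ^ N ^ (i.1 + 1) from by
        rw [hb, sub_add_cancel]]
      exact isIntegral_algebraMap.add (h1.pow _)
    have hint : Algebra.IsIntegral (MvPolynomial (Fin n) k)
        (MvPolynomial (Fin (n + 1)) k ⧸ Ideal.span {h}) := by
      refine ⟨fun x => ?_⟩
      obtain ⟨p, rfl⟩ := Ideal.Quotient.mk_surjective x
      induction p using MvPolynomial.induction_on with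
      | C c =>
        rw [← MvPolynomial.algebraMap_eq, Ideal.Quotient.mk_algebraMap,
          IsScalarTower.algebraMap_apply k (MvPolynomial (Fin n) k)]
        exact isIntegral_algebraMap
      | add p q hp hq => rw [map_add]; exact hp.add hq
      | mul_X p i hp => rw [map_mul]; exact hp.mul (hall i)
    have : Algebra.FiniteType (MvPolynomial (Fin n) k)
        (MvPolynomial (Fin (n + 1)) k ⧸ Ideal.span {h}) := .of_restrictScalars_finiteType k _ _
    exact Algebra.IsIntegral.finite
  rw [hfac]
  exact hψ.comp (RingHom.QuasiFinite.of_finite hφ)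

variable {R S : Type u} [CommRing R] [CommRing S] [Algebra R S]

/-- The evaluation map on the fibre at `p`. -/
noncomputable abbrev fibEval {n : ℕ} (a : Fin n → S) (p : Ideal R) [p.IsPrime] :
    MvPolynomial (Fin n) p.ResidueField →ₐ[p.ResidueField] p.Fiber S :=
  aeval fun i => (1 : p.ResidueField) ⊗ₜ[R] a i

/-- The reduction of polynomials to a residue field. -/
noncomputable abbrev red (n : ℕ) (p : Ideal R) [p.IsPrime] :
    MvPolynomial (Fin n) R →+* MvPolynomial (Fin n) p.ResidueField :=
  MvPolynomial.map (algebraMap R p.ResidueField)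

theorem fibEval_red {n : ℕ} (a : Fin n → S) (p : Ideal R) [p.IsPrime]
    (g : MvPolynomial (Fin n) R) :
    fibEval a p (red n p g) = (1 : p.ResidueField) ⊗ₜ[R] aeval a g := by
  rw [aeval_map_algebraMap]
  show aeval (fun i => (Algebra.TensorProduct.includeRight : S →ₐ[R] p.Fiber S) (a i)) g =
    (Algebra.TensorProduct.includeRight : S →ₐ[R] p.Fiber S) (aeval a g)
  rw [← AlgHom.comp_apply, comp_aeval]

theorem comap_red_injective (n : ℕ) (p : Ideal R) [p.IsPrime] :
    Function.Injective (PrimeSpectrum.comap (red n p)) := by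
  classical
  intro P P' h
  have key : ∀ F : MvPolynomial (Fin n) p.ResidueField, ∃ (c : p.ResidueField), c ≠ 0 ∧
      ∃ G, red n p G = c • F := by
    intro F
    obtain ⟨⟨b, hb⟩, hint⟩ := IsLocalization.exist_integer_multiples (nonZeroDivisors (R ⧸ p))
      F.support F.coeff
    choose r hr using hint
    replace hr : ∀ v (hv : v ∈ F.support),
        algebraMap (R ⧸ p) p.ResidueField (r v hv) = b • F.coeff v := hr
    choose r' hr' using fun v hv => Ideal.Quotient.mk_surjective (r v hv)
    refine ⟨algebraMap (R ⧸ p) p.ResidueField b,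
      fun e => nonZeroDivisors.ne_zero hb ((map_eq_zero_iff _ (IsFractionRing.injective _ _)).mp e),
      ∑ v ∈ F.support.attach, monomial v.1 (r' v.1 v.2), ?_⟩
    conv_rhs => rw [← F.support_sum_monomial_coeff, ← Finset.sum_attach, Finset.smul_sum]
    simp only [map_sum, map_monomial, smul_monomial]
    refine Finset.sum_congr rfl fun v _ => ?_
    rw [← Ideal.algebraMap_quotient_residueField_mk, hr', hr, Algebra.smul_def, smul_eq_mul]
  refine PrimeSpectrum.ext (SetLike.ext fun F => ?_)
  obtain ⟨c, hc, G, hG⟩ := key F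
  have h' : G ∈ (PrimeSpectrum.comap (red n p) P).asIdeal ↔
      G ∈ (PrimeSpectrum.comap (red n p) P').asIdeal := by rw [h]
  simp only [PrimeSpectrum.comap_asIdeal, Ideal.mem_comap, hG, Algebra.smul_def] at h'
  rwa [Ideal.unit_mul_mem_iff_mem _ ((Ne.isUnit hc).map _),
    Ideal.unit_mul_mem_iff_mem _ ((Ne.isUnit hc).map _)] at h'

/-- The prime spectrum of a fibre inside that of the ring. -/
theorem comap_includeRight_injective (p : Ideal R) [p.IsPrime] :
    Function.Injective (PrimeSpectrum.comap
      (Algebra.TensorProduct.includeRight : S →ₐ[R] p.Fiber S).toRingHom) := by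
  intro Q Q' h
  exact (PrimeSpectrum.preimageEquivFiber R S ⟨p, ‹_›⟩).symm.injective (Subtype.ext h)

variable [Algebra.FiniteType R S]

/-- Quasi-finiteness is checked on the fibres over the base. -/
theorem quasiFinite_iff {n : ℕ} (a : Fin n → S) :
    (aeval (R := R) a).toRingHom.QuasiFinite ↔
      ∀ (p : Ideal R) [p.IsPrime], (fibEval a p).toRingHom.QuasiFinite := by
  let := (aeval (R := R) a).toRingHom.toAlgebra
  have htow : IsScalarTower R (MvPolynomial (Fin n) R) S :=
    .of_algebraMap_eq fun x => ((aeval (R := R) a).commutes x).symm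
  have : Algebra.FiniteType (MvPolynomial (Fin n) R) S := .of_restrictScalars_finiteType R _ _
  have hsq : ∀ (p : Ideal R) [p.IsPrime] (Q : PrimeSpectrum (p.Fiber S)),
      PrimeSpectrum.comap (aeval (R := R) a).toRingHom (PrimeSpectrum.comap
        (Algebra.TensorProduct.includeRight : S →ₐ[R] p.Fiber S).toRingHom Q) =
      PrimeSpectrum.comap (red n p) (PrimeSpectrum.comap (fibEval a p).toRingHom Q) := by
    intro p _ Q
    refine PrimeSpectrum.ext (Ideal.ext fun g => ?_)
    simp only [PrimeSpectrum.comap_asIdeal, Ideal.mem_comap]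
    show Algebra.TensorProduct.includeRight (aeval a g) ∈ _ ↔ fibEval a p (red n p g) ∈ _
    rw [fibEval_red]
    rfl
  constructor
  · intro h p _
    let := (fibEval a p).toRingHom.toAlgebra
    have : IsScalarTower p.ResidueField (MvPolynomial (Fin n) p.ResidueField) (p.Fiber S) :=
      .of_algebraMap_eq fun x => ((fibEval a p).commutes x).symm
    have : Algebra.FiniteType (MvPolynomial (Fin n) p.ResidueField) (p.Fiber S) :=
      .of_restrictScalars_finiteType p.ResidueField _ _
    show Algebra.QuasiFinite _ _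
    rw [Algebra.QuasiFinite.iff_finite_comap_preimage_singleton]
    intro P
    have hQF : Algebra.QuasiFinite (MvPolynomial (Fin n) R) S := h
    refine ((Algebra.QuasiFinite.finite_comap_preimage_singleton (R := MvPolynomial (Fin n) R)
      (S := S) (PrimeSpectrum.comap (red n p) P)).preimage
      (comap_includeRight_injective p).injOn).subset fun Q hQ => ?_
    exact (hsq p Q).trans (congrArg (PrimeSpectrum.comap (red n p)) hQ)
  · intro h
    show Algebra.QuasiFinite _ _
    rw [Algebra.QuasiFinite.iff_finite_comap_preimage_singleton]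
    intro P
    let p : Ideal R := P.asIdeal.comap MvPolynomial.C
    let := (fibEval a p).toRingHom.toAlgebra
    have hQF : Algebra.QuasiFinite (MvPolynomial (Fin n) p.ResidueField) (p.Fiber S) := h p
    have hsub : (PrimeSpectrum.comap (red n p) ⁻¹' {P}).Subsingleton :=
      Set.subsingleton_singleton.preimage (comap_red_injective n p)
    refine (((Algebra.QuasiFinite.finite_comap_preimage (R := MvPolynomial (Fin n) p.ResidueField)
      (S := p.Fiber S) hsub.finite)).image (PrimeSpectrum.comap
        (Algebra.TensorProduct.includeRight : S →ₐ[R] p.Fiber S).toRingHom)).subset fun Q hQ => ?_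
    have hQp : PrimeSpectrum.comap (algebraMap R S) Q = ⟨p, inferInstance⟩ := by
      rw [IsScalarTower.algebraMap_eq R (MvPolynomial (Fin n) R) S,
        PrimeSpectrum.comap_comp_apply, show PrimeSpectrum.comap _ Q = P from hQ]
      rfl
    let Q' := PrimeSpectrum.preimageEquivFiber R S ⟨p, inferInstance⟩ ⟨Q, hQp⟩
    have hQ' : PrimeSpectrum.comap
        (Algebra.TensorProduct.includeRight : S →ₐ[R] p.Fiber S).toRingHom Q' = Q :=
      congrArg Subtype.val
        ((PrimeSpectrum.preimageEquivFiber R S ⟨p, inferInstance⟩).symm_apply_apply ⟨Q, hQp⟩)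
    refine ⟨Q', ?_, hQ'⟩
    show PrimeSpectrum.comap (red n p) (PrimeSpectrum.comap (fibEval a p).toRingHom Q') = P
    rw [← hsq, hQ']
    exact hQ

/-- Finitely many polynomials give a relation in every fibre. -/
theorem exists_uniform_relation {n : ℕ} (a : Fin n → S) (hd : ∀ (p : Ideal R) [p.IsPrime],
      ringKrullDim (p.Fiber S) < (n : WithBot ℕ∞)) :
    ∃ T : Finset (MvPolynomial (Fin n) R), ∀ (q : Ideal R) [q.IsPrime], ∃ g ∈ T,
      g.map (algebraMap R q.ResidueField) ≠ 0 ∧
        fibEval a q (g.map (algebraMap R q.ResidueField)) = 0 := by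
  classical
  have key : ∀ p : PrimeSpectrum R, ∃ (g : MvPolynomial (Fin n) R) (c : R) (G : Finset R),
      c ∉ p.asIdeal ∧ (G : Set R) ⊆ p.asIdeal ∧
      ∀ q : Ideal R, [q.IsPrime] → c ∉ q → (G : Set R) ⊆ q →
        g.map (algebraMap R q.ResidueField) ≠ 0 ∧
          fibEval a q (g.map (algebraMap R q.ResidueField)) = 0 := by
    intro p
    have hni : ¬ Function.Injective (fibEval a p.asIdeal) := fun hinj =>
      absurd (le_ringKrullDim_of_injective _ hinj) (not_le.mpr (hd p.asIdeal))
    rw [injective_iff_map_eq_zero] at hni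
    push Not at hni
    obtain ⟨h, h0, hne⟩ := hni
    exact exists_relation a p.asIdeal h hne h0
  choose g c G hc hG hgood using key
  -- the constructible topology is quasi-compact
  let W : PrimeSpectrum R → Set (PrimeSpectrum R) := fun p =>
    (PrimeSpectrum.basicOpen (c p) : Set (PrimeSpectrum R)) ∩ PrimeSpectrum.zeroLocus (G p)
  have hW : ∀ p, IsOpen[constructibleTopology (PrimeSpectrum R)] (W p) := by
    intro p
    refine @IsOpen.inter _ (_) _ _ ((PrimeSpectrum.isCompact_basicOpen (c p)
      ).isOpen_constructibleTopology_of_isOpen (PrimeSpectrum.basicOpen (c p)).2) ?_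
    refine IsCompact.isOpen_constructibleTopology_of_isClosed ?_ (PrimeSpectrum.isClosed_zeroLocus _)
    rw [show (PrimeSpectrum.zeroLocus (G p : Set R))ᶜ =
      ⋃ x ∈ G p, (PrimeSpectrum.basicOpen x : Set (PrimeSpectrum R)) from by
        ext q; simp [PrimeSpectrum.mem_zeroLocus, Set.subset_def]]
    exact (G p).isCompact_biUnion fun x _ => PrimeSpectrum.isCompact_basicOpen x
  let e : PrimeSpectrum R → WithConstructibleTopology (PrimeSpectrum R) :=
    WithTopology.toTopology (constructibleTopology (PrimeSpectrum R))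
  obtain ⟨t, ht⟩ := isCompact_univ.elim_finite_subcover
    (fun p => (WithTopology.ofTopology ⁻¹' W p :
      Set (WithConstructibleTopology (PrimeSpectrum R))))
    (fun p => WithConstructibleTopology.isOpen_iff.mpr (by exact hW p))
    (fun q _ => Set.mem_iUnion.mpr ⟨q.ofTopology, hc _, hG _⟩)
  refine ⟨t.image g, fun q hq => ?_⟩
  obtain ⟨p, hpt, hq1, hq2⟩ := Set.mem_iUnion₂.mp (ht (Set.mem_univ (e ⟨q, hq⟩)))
  exact ⟨g p, Finset.mem_image_of_mem g hpt, hgood p q hq1 hq2⟩

/-- One step of the elimination. -/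
theorem exists_eliminate {n d : ℕ} (hd : ∀ (p : Ideal R) [p.IsPrime],
      ringKrullDim (p.Fiber S) ≤ (d : WithBot ℕ∞)) (hn : d < n + 1) (a : Fin (n + 1) → S)
    (hqf : (aeval (R := R) a).toRingHom.QuasiFinite) :
    ∃ b : Fin n → S, (aeval (R := R) b).toRingHom.QuasiFinite := by
  classical
  obtain ⟨T, hT⟩ := exists_uniform_relation a fun p _ =>
    (hd p).trans_lt (by exact_mod_cast hn)
  let N := T.sup (fun g => g.totalDegree) + 2
  refine ⟨fun i => a i.succ - a 0 ^ N ^ (i.1 + 1), (quasiFinite_iff _).mpr fun q hq => ?_⟩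
  obtain ⟨g, hgT, hne, h0⟩ := hT q
  have := quasiFinite_eliminate (fun i => (1 : q.ResidueField) ⊗ₜ[R] a i)
    ((quasiFinite_iff a).mp hqf q) _ hne h0 N (by omega) (fun v hv i => by
      have h1 : v ∈ g.support := by
        rw [mem_support_iff] at hv ⊢
        intro e
        exact hv (by rw [coeff_map, e, map_zero])
      have h2 := (monomial_le_degreeOf i h1).trans (degreeOf_le_totalDegree g i)
      have h3 : g.totalDegree ≤ T.sup (fun g => g.totalDegree) :=
        Finset.le_sup (f := fun g => g.totalDegree) hgT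
      omega)
  have hb : (fun i : Fin n => (1 : q.ResidueField) ⊗ₜ[R] (a i.succ - a 0 ^ N ^ (i.1 + 1))) =
      fun i => (1 : q.ResidueField) ⊗ₜ[R] a i.succ -
        ((1 : q.ResidueField) ⊗ₜ[R] a 0) ^ N ^ (i.1 + 1) := by
    funext i
    rw [TensorProduct.tmul_sub, Algebra.TensorProduct.tmul_pow, one_pow]
  show (aeval (R := q.ResidueField) _).toRingHom.QuasiFinite
  rw [hb]
  exact this

/-- A quasi-finite map from a polynomial ring in `d` variables, `d` bounding the fibre dimensions. -/
theorem exists_quasiFinite (d : ℕ) (hd : ∀ (p : Ideal R) [p.IsPrime],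
      ringKrullDim (p.Fiber S) ≤ (d : WithBot ℕ∞)) :
    ∃ φ : MvPolynomial (Fin d) R →ₐ[R] S, φ.toRingHom.QuasiFinite := by
  have key : ∀ n, (∃ a : Fin n → S, (aeval (R := R) a).toRingHom.QuasiFinite) →
      ∃ m ≤ d, ∃ a : Fin m → S, (aeval (R := R) a).toRingHom.QuasiFinite := by
    intro n
    induction n with
    | zero => exact fun h => ⟨0, Nat.zero_le d, h⟩
    | succ n ih =>
      intro ⟨a, ha⟩
      by_cases hn : n + 1 ≤ d
      · exact ⟨n + 1, hn, a, ha⟩
      · exact ih (exists_eliminate hd (by omega) a ha)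
  obtain ⟨n, π, hπ⟩ := Algebra.FiniteType.iff_quotient_mvPolynomial''.mp ‹Algebra.FiniteType R S›
  obtain ⟨m, hm, a, ha⟩ := key n ⟨fun i => π (X i), by
    rw [show aeval (fun i => π (X i)) = π from (aeval_unique π).symm]
    exact RingHom.QuasiFinite.of_finite (RingHom.Finite.of_surjective _ hπ)⟩
  let b : Fin d → S := fun i => if h : i.1 < m then a ⟨i.1, h⟩ else 0
  refine ⟨aeval b, RingHom.QuasiFinite.of_comp
    (g := (rename (R := R) (Fin.castLE hm)).toRingHom) ?_⟩
  convert ha using 1
  ext i <;> simp [b]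

end Groth.Agent.Wt.QFPoly
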