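import Groth.Agent.FlatMisc.GenericFreeLoc

/-!
# Generic freeness of the cokernel of a semilinear map (Hochster–Roberts)

`B` is a finite type `A`-algebra, `A` of finite type over a reduced ring `R`, `N` a finite
`B`-module and `G` a finite subset of `N`: then `N / A·G` is generically free over `R`.
-/

set_option autoImplicit false

universe u

open MvPolynomial

namespace Groth.Agent.Wt.HochsterRoberts

open FlatMisc.GenericFree

variable {R : Type u} [CommRing R]

/-- Freeness of an extension. -/
theorem freeAt_extension [IsReduced R] {f : R} {M₁ M₂ M₃ : Type u} [AddCommGroup M₁] [Module R M₁]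
    [AddCommGroup M₂] [Module R M₂] [AddCommGroup M₃] [Module R M₃] (h₁ : FreeAt f M₁)
    (h₃ : FreeAt f M₃) (j : M₁ →ₗ[R] M₂) (π : M₂ →ₗ[R] M₃) (hj : Function.Injective j)
    (hπ : Function.Surjective π) (hex : Function.Exact j π) : FreeAt f M₂ := by
  classical
  obtain ⟨ι₁, v₁, hv₁, hs₁⟩ := h₁
  obtain ⟨ι₃, v₃, hv₃, hs₃⟩ := h₃
  choose w hw using fun i => hπ (v₃ i)
  refine ⟨ι₁ ⊕ ι₃, Sum.elim (j ∘ v₁) w, fun c hc => ?_, fun m => ?_⟩
  · obtain ⟨⟨a, b⟩, rfl⟩ := (Finsupp.sumFinsuppEquivProdFinsupp).symm.surjective c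
    have hsplit : Finsupp.linearCombination R (Sum.elim (j ∘ v₁) w)
        (Finsupp.sumFinsuppEquivProdFinsupp.symm (a, b)) =
        j (Finsupp.linearCombination R v₁ a) + Finsupp.linearCombination R w b := by
      rw [Finsupp.apply_linearCombination]
      simp [Finsupp.linearCombination_apply, Finsupp.sum_sumElim, Function.comp_def]
    rw [hsplit] at hc
    have hb : f • b = 0 := by
      refine hv₃ b ?_
      have := congrArg π hc
      rw [map_add, hex.apply_apply_eq_zero, zero_add, map_zero, Finsupp.apply_linearCombination,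
        show π ∘ w = v₃ from funext hw] at this
      exact this
    have ha : f • f • a = 0 := by
      refine hv₁ _ (hj ?_)
      have h : f • (j (Finsupp.linearCombination R v₁ a) + Finsupp.linearCombination R w b) = 0 := by
        rw [hc, smul_zero]
      rw [smul_add, ← map_smul, ← map_smul, ← map_smul, hb, map_zero, add_zero] at h
      rw [map_zero]
      exact h
    have ha' : f • a = 0 := smul_eq_zero_of_pow (k := 2) (by rw [pow_two, mul_smul]; exact ha)
    ext (i | i)
    · simpa using DFunLike.congr_fun ha' i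
    · simpa using DFunLike.congr_fun hb i
  · obtain ⟨k, hk⟩ := hs₃ (π m)
    obtain ⟨c, hc⟩ := Finsupp.mem_span_range_iff_exists_finsupp.mp hk
    have hcw : π (f ^ k • m - c.sum fun i r => r • w i) = 0 := by
      rw [map_sub, map_smul, map_finsuppSum]
      simp only [map_smul, hw, hc, sub_self]
    obtain ⟨m₁, hm₁⟩ := (hex _).mp hcw
    obtain ⟨l, hl⟩ := hs₁ m₁
    have h1 : j (f ^ l • m₁) ∈ Submodule.span R (Set.range (Sum.elim (j ∘ v₁) w)) := by
      have := Submodule.mem_map_of_mem (f := j) hl
      rw [Submodule.map_span, ← Set.range_comp] at this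
      exact Submodule.span_mono (by rintro _ ⟨i, rfl⟩; exact ⟨Sum.inl i, rfl⟩) this
    have h2 : (c.sum fun i r => r • w i) ∈ Submodule.span R (Set.range (Sum.elim (j ∘ v₁) w)) :=
      sum_mem fun i _ => Submodule.smul_mem _ _ (Submodule.subset_span ⟨Sum.inr i, rfl⟩)
    refine ⟨l + k, ?_⟩
    rw [pow_add, mul_smul, show f ^ k • m = (f ^ k • m - c.sum fun i r => r • w i) +
      c.sum fun i r => r • w i from (sub_add_cancel _ _).symm, smul_add, ← hm₁, ← map_smul]
    exact add_mem h1 (Submodule.smul_mem _ _ h2)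

section Step

variable {T : Type u} [CommRing T] [Algebra R T] {N : Type u} [AddCommGroup N] [Module T N]
  (x : N →ₗ[T] N) (N₀ : Submodule T N) [Module R N] [IsScalarTower R T N]

/-- Generic freeness: the inductive step, relative to the first layer. -/
theorem exists_free_step_quot [IsReduced R] (hT : GenFG R T) (hF : GenFree R T) [Module.Finite T N₀]
    (hgen : ∀ U : Submodule T N, N₀ ≤ U → (∀ m ∈ U, x m ∈ U) → U = ⊤) {a : R} (ha : a ≠ 0) :
    ∃ f : R, a ∣ f ∧ f ≠ 0 ∧ FreeAt f (N ⧸ N₀.restrictScalars R) := by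
  classical
  let K : ℕ → Submodule T N₀ := lead x N₀ ⊥
  have hK : Monotone K := lead_mono x N₀ (fun m hm => by
    rw [Submodule.mem_bot] at hm ⊢; rw [hm, map_zero])
  have hKmem : ∀ i (u : N₀), u ∈ K i ↔ (x ^ i) u ∈ low x N₀ i := fun i u => by
    simp only [K, lead, bot_sup_eq, Submodule.mem_comap, LinearMap.comp_apply, Submodule.subtype_apply]
  obtain ⟨f₀, haf, hf₀, i₀, G₀, -, hG₀, hstab⟩ := exists_bound N₀ hT K hK ha
  have key : ∀ n, ∃ f, f₀ ∣ f ∧ f ≠ 0 ∧ ∀ i < n, FreeAt f (N₀ ⧸ K i) := by
    intro n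
    induction n with
    | zero => exact ⟨f₀, dvd_rfl, hf₀, fun i hi => absurd hi (Nat.not_lt_zero i)⟩
    | succ n ih =>
      obtain ⟨f, hdvd, hf, h⟩ := ih
      obtain ⟨g, hfg, hg, hg'⟩ := hF (N₀ ⧸ K n) f hf
      refine ⟨g, hdvd.trans hfg, hg, fun i hi => ?_⟩
      rcases Nat.lt_succ_iff_lt_or_eq.mp hi with hi | rfl
      · exact (h i hi).of_dvd hfg
      · exact hg'
  obtain ⟨f, hdvd, hf, hlow⟩ := key (i₀ + 1)
  have hfree : ∀ i, FreeAt f (N₀ ⧸ K i) := by
    intro i
    rcases Nat.lt_or_ge i (i₀ + 1) with h | h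
    · exact hlow i h
    · refine (hlow i₀ (by omega)).of_surjective
        ((Submodule.factor (hK (by omega : i₀ ≤ i))).restrictScalars R)
        (Submodule.factor_surjective (hK (by omega : i₀ ≤ i))) fun m hm => ?_
      obtain ⟨u, rfl⟩ := Submodule.Quotient.mk_surjective _ m
      obtain ⟨k, hk⟩ := hstab i u ((Submodule.Quotient.mk_eq_zero _).mp hm)
      obtain ⟨c, hc⟩ := hdvd
      refine ⟨k, ?_⟩
      rw [← Submodule.Quotient.mk_smul, Submodule.Quotient.mk_eq_zero, hc, mul_pow, mul_comm,
        mul_smul]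
      exact Submodule.smul_of_tower_mem _ _ ((Submodule.span_le.mpr hG₀) hk)
  choose ι v hv hspan using hfree
  choose w hw using fun i (l : ι i) => Submodule.Quotient.mk_surjective (K i) (v i l)
  let V : (Σ i, ι i) → N := fun p => (x ^ p.1) (w p.1 p.2)
  have hsp : ∀ n, ∀ m ∈ low x N₀ n, ∃ k, f ^ k • m ∈ Submodule.span R (V '' {p | p.1 < n}) := by
    intro n
    induction n with
    | zero =>
      intro m hm
      rw [low_zero, Submodule.mem_bot] at hm
      exact ⟨0, by simp [hm]⟩
    | succ n ih =>
      intro m hm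
      rw [low_succ, Submodule.mem_sup] at hm
      obtain ⟨m₁, hm₁, _, ⟨u, hu, rfl⟩, rfl⟩ := hm
      obtain ⟨k, hk⟩ := hspan n (Submodule.Quotient.mk ⟨u, hu⟩)
      obtain ⟨c, hc⟩ := Finsupp.mem_span_range_iff_exists_finsupp.mp hk
      let d : N₀ := f ^ k • (⟨u, hu⟩ : N₀) - c.sum fun l r => r • w n l
      have hd : d ∈ K n := by
        rw [← Submodule.Quotient.mk_eq_zero (K n)]
        change (K n).mkQ.restrictScalars R (f ^ k • (⟨u, hu⟩ : N₀) - c.sum fun l r => r • w n l) = 0
        rw [map_sub, map_smul, map_finsuppSum]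
        simp only [map_smul, LinearMap.coe_restrictScalars, Submodule.mkQ_apply, hw, hc, sub_self]
      obtain ⟨k₁, hk₁⟩ := ih m₁ hm₁
      obtain ⟨k₂, hk₂⟩ := ih _ ((hKmem n d).mp hd)
      let L : N₀ →ₗ[R] N := ((x ^ n).comp N₀.subtype).restrictScalars R
      have hle : Submodule.span R (V '' {p | p.1 < n}) ≤ Submodule.span R (V '' {p | p.1 < n + 1}) :=
        Submodule.span_mono (Set.image_mono fun p (hp : p.1 < n) => Nat.lt_succ_of_lt hp)
      have hsum : L (c.sum fun l r => r • w n l) ∈ Submodule.span R (V '' {p | p.1 < n + 1}) := by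
        rw [map_finsuppSum]
        refine sum_mem fun l _ => ?_
        simp only [map_smul]
        exact Submodule.smul_mem _ _ (Submodule.subset_span ⟨⟨n, l⟩, Nat.lt_succ_self n, rfl⟩)
      refine ⟨k₁ + (k + k₂), ?_⟩
      rw [smul_add]
      refine add_mem ?_ ?_
      · rw [pow_add, mul_comm, mul_smul]; exact Submodule.smul_mem _ _ (hle hk₁)
      · rw [pow_add, mul_smul]
        refine Submodule.smul_mem _ _ ?_
        have e : f ^ (k + k₂) • (x ^ n) u = f ^ k₂ • L d + f ^ k₂ • L (c.sum fun l r => r • w n l) := by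
          rw [← smul_add, ← map_add]
          simp only [d, sub_add_cancel, map_smul]
          rw [pow_add, mul_comm, mul_smul]
          rfl
        rw [e]
        exact add_mem (hle hk₂) (Submodule.smul_mem _ _ hsum)
  have hVfree : ∀ c : (Σ i, ι i) →₀ R, Finsupp.linearCombination R V c = 0 → f • c = 0 := by
    intro c hc
    let I : Finset ℕ := c.support.image Sigma.fst
    let F : (i : ℕ) → Finset (ι i) := fun i =>
      c.support.preimage (fun l => ⟨i, l⟩) sigma_mk_injective.injOn
    have hterm : ∀ n, ∀ d : (Σ i, ι i) → R,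
        ∑ i ∈ Finset.range n, (x ^ i) (∑ l ∈ F i, d ⟨i, l⟩ • w i l : N₀) = 0 →
        ∀ i < n, ∀ l ∈ F i, f * d ⟨i, l⟩ = 0 := by
      intro n
      induction n with
      | zero => exact fun _ _ i hi => absurd hi (Nat.not_lt_zero i)
      | succ n ih =>
        intro d h0
        rw [Finset.sum_range_succ, add_comm, add_eq_zero_iff_eq_neg] at h0
        have hmemN : (∑ l ∈ F n, d ⟨n, l⟩ • w n l : N₀) ∈ K n := by
          rw [hKmem, h0]
          exact neg_mem (sum_mem fun i hi => mem_low x N₀ (Finset.mem_range.mp hi) (Subtype.prop _))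
        have hzero : ∑ l ∈ F n, d ⟨n, l⟩ • v n l = 0 := by
          rw [← Submodule.Quotient.mk_eq_zero (K n)] at hmemN
          change (K n).mkQ.restrictScalars R (∑ l ∈ F n, d ⟨n, l⟩ • w n l) = 0 at hmemN
          rw [map_sum] at hmemN
          simpa only [map_smul, LinearMap.coe_restrictScalars, Submodule.mkQ_apply, hw] using hmemN
        have hn : ∀ l ∈ F n, f * d ⟨n, l⟩ = 0 := by
          intro l hl
          have := hv n (Finsupp.onFinset (F n) (fun l => if l ∈ F n then d ⟨n, l⟩ else 0)
            (fun l hl => by by_contra h; exact hl (if_neg h))) (by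
              rw [Finsupp.linearCombination_apply, Finsupp.onFinset_sum]
              rotate_left
              · exact fun _ => zero_smul _ _
              rw [← hzero]
              exact Finset.sum_congr rfl fun l hl => by rw [if_pos hl])
          simpa [if_pos hl] using DFunLike.congr_fun this l
        intro i hi
        rcases Nat.lt_succ_iff_lt_or_eq.mp hi with hi | rfl
        · intro l hl
          have h1 : ∑ i ∈ Finset.range n, (x ^ i) (∑ l ∈ F i, (f * d ⟨i, l⟩) • w i l : N₀) = 0 := by
            have h2 : f • ((x ^ n) ((∑ l ∈ F n, d ⟨n, l⟩ • w n l : N₀) : N)) = 0 := by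
              have : f • (∑ l ∈ F n, d ⟨n, l⟩ • w n l : N₀) = 0 := by
                rw [Finset.smul_sum]
                exact Finset.sum_eq_zero fun l hl => by rw [smul_smul, hn l hl, zero_smul]
              rw [← LinearMap.map_smul_of_tower, ← Submodule.coe_smul_of_tower, this,
                ZeroMemClass.coe_zero, map_zero]
            rw [h0, smul_neg, neg_eq_zero, Finset.smul_sum] at h2
            rw [← h2]
            refine Finset.sum_congr rfl fun i _ => ?_
            rw [← LinearMap.map_smul_of_tower, ← Submodule.coe_smul_of_tower, Finset.smul_sum]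
            simp only [smul_smul]
          have := ih (fun p => f * d p) h1 i hi l hl
          refine IsReduced.eq_zero _ ⟨2, ?_⟩
          calc (f * d ⟨i, l⟩) ^ 2 = f * (f * d ⟨i, l⟩) * d ⟨i, l⟩ := by ring
            _ = 0 := by rw [this, zero_mul]
        · exact hn
    obtain ⟨n, hn⟩ : ∃ n, I ⊆ Finset.range n :=
      ⟨I.sup id + 1, fun i hi => Finset.mem_range.mpr (Nat.lt_succ_of_le (Finset.le_sup (f := id) hi))⟩
    have hs' : c.support = (Finset.range n).sigma F := by
      ext ⟨i, l⟩
      simp only [F, Finset.mem_sigma, Finset.mem_preimage, Finset.mem_range, iff_and_self]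
      exact fun h => Finset.mem_range.mp (hn (Finset.mem_image_of_mem _ h))
    have h0 : ∑ i ∈ Finset.range n, (x ^ i) (∑ l ∈ F i, c ⟨i, l⟩ • w i l : N₀) = 0 := by
      rw [← hc, Finsupp.linearCombination_apply, Finsupp.sum, hs', Finset.sum_sigma]
      refine Finset.sum_congr rfl fun i _ => ?_
      rw [Submodule.coe_sum, map_sum]
      exact Finset.sum_congr rfl fun l _ => by
        rw [Submodule.coe_smul_of_tower, LinearMap.map_smul_of_tower]
    ext p
    obtain ⟨i, l⟩ := p
    simp only [Finsupp.coe_smul, Pi.smul_apply, smul_eq_mul, Finsupp.coe_zero, Pi.zero_apply]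
    by_cases hp : (⟨i, l⟩ : Σ i, ι i) ∈ c.support
    · exact hterm n c h0 i (Finset.mem_range.mp (hn (Finset.mem_image_of_mem _ hp))) l
        (Finset.mem_preimage.mpr hp)
    · rw [Finsupp.notMem_support_iff.mp hp, mul_zero]
  have hV0 : ∀ p : Σ i, ι i, p.1 = 0 → V p ∈ N₀ := by
    rintro ⟨_, l⟩ rfl
    simp [V]
  let emb : {p : Σ i, ι i // p.1 ≠ 0} ↪ (Σ i, ι i) := Function.Embedding.subtype _
  refine ⟨f, haf.trans hdvd, hf, {p : Σ i, ι i // p.1 ≠ 0},
    fun p => (N₀.restrictScalars R).mkQ (V p.1), fun c hc => ?_, fun m => ?_⟩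
  · let c₁ := Finsupp.embDomain emb c
    have hmem : Finsupp.linearCombination R V c₁ ∈ N₀.restrictScalars R := by
      rw [← Submodule.Quotient.mk_eq_zero, ← Submodule.mkQ_apply, ← hc,
        Finsupp.apply_linearCombination, Finsupp.linearCombination_embDomain]
      rfl
    have h1 : Finsupp.linearCombination R V c₁ ∈ low x N₀ 1 := by
      simpa using mem_low x N₀ (j := 0) one_pos hmem
    obtain ⟨k, hk⟩ := hsp 1 _ h1
    obtain ⟨d, hd, hd'⟩ := (Finsupp.mem_span_image_iff_linearCombination R).mp hk
    have h0 : f • (f ^ k • c₁ - d) = 0 := hVfree _ (by rw [map_sub, map_smul, hd', sub_self])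
    refine smul_eq_zero_of_pow (k := k + 1) (Finsupp.ext fun q => ?_)
    have hq : d (emb q) = 0 := by
      by_contra h
      have hlt : q.1.1 < 1 := (Finsupp.mem_supported R d).mp hd (Finsupp.mem_support_iff.mpr h)
      have := q.2
      omega
    have := DFunLike.congr_fun h0 (emb q)
    simp only [c₁, Finsupp.coe_smul, Pi.smul_apply, Finsupp.sub_apply, Finsupp.embDomain_apply_self,
      hq, sub_zero, Finsupp.coe_zero, Pi.zero_apply] at this
    rw [Finsupp.coe_smul, Pi.smul_apply, pow_succ', mul_smul]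
    exact this
  · obtain ⟨m, rfl⟩ := Submodule.mkQ_surjective _ m
    obtain ⟨i, hi⟩ := exists_mem_low x N₀ hgen m
    obtain ⟨k, hk⟩ := hsp i m hi
    refine ⟨k, ?_⟩
    rw [← map_smul]
    have := Submodule.mem_map_of_mem (f := (N₀.restrictScalars R).mkQ) hk
    rw [Submodule.map_span] at this
    refine (Submodule.span_le.mpr ?_) this
    rintro _ ⟨_, ⟨p, -, rfl⟩, rfl⟩
    by_cases hp : p.1 = 0
    · have h0 : (N₀.restrictScalars R).mkQ (V p) = 0 :=
        (Submodule.Quotient.mk_eq_zero _).mpr (hV0 p hp)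
      rw [h0]
      exact zero_mem _
    · exact Submodule.subset_span ⟨⟨p, hp⟩, rfl⟩

end Step

/-- Generic freeness of `N / A·G`. -/
theorem exists_freeAt [IsReduced R] (A : Type u) [CommRing A] [Algebra R A]
    [Algebra.FiniteType R A] (n : ℕ) : ∀ (N : Type u) [AddCommGroup N]
    [Module (MvPolynomial (Fin n) A) N] [Module A N] [Module R N]
    [IsScalarTower A (MvPolynomial (Fin n) A) N] [IsScalarTower R A N]
    [Module.Finite (MvPolynomial (Fin n) A) N] (G : Finset N) (a : R), a ≠ 0 →
    ∃ f : R, a ∣ f ∧ f ≠ 0 ∧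
      FreeAt f (N ⧸ (Submodule.span A (G : Set N)).restrictScalars R) := by
  induction n with
  | zero =>
    intro N _ _ _ _ _ _ hfin G a ha
    have : Module.Finite A (MvPolynomial (Fin 0) A) :=
      Module.Finite.equiv (isEmptyAlgEquiv A (Fin 0)).symm.toLinearEquiv
    have : Module.Finite A N := Module.Finite.trans (MvPolynomial (Fin 0) A) N
    obtain ⟨f, haf, hf, h⟩ := genFree (R := R) A (N ⧸ Submodule.span A (G : Set N)) a ha
    exact ⟨f, haf, hf, h.of_surjective
      (Submodule.Quotient.restrictScalarsEquiv R (Submodule.span A (G : Set N))).symm.toLinearMap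
      (LinearEquiv.surjective _) fun m hm => ⟨0, by
        rw [pow_zero, one_smul]; exact (LinearEquiv.map_eq_zero_iff _).mp hm⟩⟩
  | succ n ih =>
    intro Q _ _ _ _ _ _ hfin G a ha
    let φ : MvPolynomial (Fin n) A →ₐ[A] MvPolynomial (Fin (n + 1)) A := rename Fin.succ
    let : Module (MvPolynomial (Fin n) A) Q := Module.compHom Q φ.toRingHom
    have hsmul : ∀ (t : MvPolynomial (Fin n) A) (m : Q), t • m = φ t • m := fun _ _ => rfl
    have htowA : IsScalarTower A (MvPolynomial (Fin n) A) Q := ⟨fun r t m => by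
      rw [hsmul, hsmul, map_smul, smul_assoc]⟩
    have htowR : IsScalarTower R (MvPolynomial (Fin n) A) Q := ⟨fun r t m => by
      rw [← algebraMap_smul A r t, smul_assoc, algebraMap_smul]⟩
    have : Algebra.FiniteType R (MvPolynomial (Fin n) A) :=
      Algebra.FiniteType.trans (S := A) ‹_› inferInstance
    let x : Q →ₗ[MvPolynomial (Fin n) A] Q :=
      { toFun := fun m => (X 0 : MvPolynomial (Fin (n + 1)) A) • m
        map_add' := smul_add _
        map_smul' := fun t m => by simp only [RingHom.id_apply, hsmul]; rw [smul_comm] }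
    obtain ⟨G₀, hG₀⟩ := hfin.fg_top
    let N₀ : Submodule (MvPolynomial (Fin n) A) Q := Submodule.span _ ((G₀ : Set Q) ∪ G)
    have : Module.Finite (MvPolynomial (Fin n) A) N₀ :=
      .span_of_finite _ (G₀.finite_toSet.union G.finite_toSet)
    have hgen : ∀ U : Submodule (MvPolynomial (Fin n) A) Q, N₀ ≤ U → (∀ m ∈ U, x m ∈ U) → U = ⊤ := by
      intro U hGU hxU
      have hp : ∀ (p : MvPolynomial (Fin (n + 1)) A), ∀ m ∈ U, p • m ∈ U := by
        intro p
        induction p using MvPolynomial.induction_on with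
        | C c =>
          intro m hm
          have : (C c : MvPolynomial (Fin (n + 1)) A) • m = (C c : MvPolynomial (Fin n) A) • m := by
            rw [hsmul, show φ (C c) = C c from rename_C _ _]
          rw [this]
          exact U.smul_mem _ hm
        | add p q hp hq => intro m hm; rw [add_smul]; exact add_mem (hp m hm) (hq m hm)
        | mul_X p i hp =>
          intro m hm
          rw [mul_smul]
          refine hp _ ?_
          induction i using Fin.cases with
          | zero => exact hxU m hm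
          | succ i =>
            have : (X i.succ : MvPolynomial (Fin (n + 1)) A) • m =
                (X i : MvPolynomial (Fin n) A) • m := by
              rw [hsmul, show φ (X i) = X i.succ from rename_X _ _]
            rw [this]
            exact U.smul_mem _ hm
      let U' : Submodule (MvPolynomial (Fin (n + 1)) A) Q :=
        { carrier := U, zero_mem' := U.zero_mem, add_mem' := U.add_mem, smul_mem' := hp }
      refine eq_top_iff.mpr fun m _ => ?_
      have : Submodule.span (MvPolynomial (Fin (n + 1)) A) (G₀ : Set Q) ≤ U' :=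
        Submodule.span_le.mpr fun g hg => hGU (Submodule.subset_span (Or.inl hg))
      rw [hG₀] at this
      exact this (trivial : m ∈ (⊤ : Submodule (MvPolynomial (Fin (n + 1)) A) Q))
    obtain ⟨f₁, haf₁, hf₁, h₁⟩ := exists_free_step_quot x N₀ (genFG (R := R) (MvPolynomial (Fin n) A))
      (genFree (R := R) (MvPolynomial (Fin n) A)) hgen ha
    classical
    have hG : ∀ g ∈ G, g ∈ N₀ := fun g hg => Submodule.subset_span (Or.inr hg)
    let G' : Finset N₀ := G.attach.image fun g => ⟨g.1, hG g.1 g.2⟩
    obtain ⟨f, hf₁f, hf, h₀⟩ := ih N₀ G' f₁ hf₁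
    refine ⟨f, haf₁.trans hf₁f, hf, ?_⟩
    let P' : Submodule R N₀ := (Submodule.span A (G' : Set N₀)).restrictScalars R
    let P : Submodule R Q := (Submodule.span A (G : Set Q)).restrictScalars R
    let ι₀ : N₀ →ₗ[A] Q := N₀.subtype.restrictScalars A
    have hmap : (Submodule.span A (G' : Set N₀)).map ι₀ = Submodule.span A (G : Set Q) := by
      rw [Submodule.map_span]
      congr 1
      ext q
      simp only [G', Finset.coe_image, Set.mem_image, Finset.mem_coe, Finset.mem_attach, true_and]
      exact ⟨fun ⟨_, ⟨g, rfl⟩, hq⟩ => hq ▸ g.2, fun hq => ⟨_, ⟨⟨q, hq⟩, rfl⟩, rfl⟩⟩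
    have hP : P'.map (ι₀.restrictScalars R) = P := by
      rw [show P = _ from congrArg (Submodule.restrictScalars R) hmap.symm,
        Submodule.restrictScalars_map]
    have hPN : P ≤ N₀.restrictScalars R := by
      rw [← hP]
      rintro _ ⟨y, -, rfl⟩
      exact y.2
    refine freeAt_extension h₀ (h₁.of_dvd hf₁f) (P'.mapQ P (ι₀.restrictScalars R)
        (Submodule.map_le_iff_le_comap.mp hP.le)) (Submodule.factor hPN) ?_
        (Submodule.factor_surjective hPN) ?_
    · rw [← LinearMap.ker_eq_bot]
      refine (Submodule.ker_mapQ _ _ _ _).trans ?_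
      rw [← hP, Submodule.comap_map_eq_of_injective (f := ι₀.restrictScalars R) N₀.subtype_injective, Submodule.mkQ_map_self]
    · intro y
      obtain ⟨y, rfl⟩ := Submodule.Quotient.mk_surjective _ y
      simp only [Submodule.factor, Submodule.mapQ_apply, LinearMap.id_apply,
        Submodule.Quotient.mk_eq_zero, Set.mem_range]
      constructor
      · exact fun hy => ⟨Submodule.Quotient.mk ⟨y, hy⟩, rfl⟩
      · rintro ⟨z, hz⟩
        obtain ⟨z, rfl⟩ := Submodule.Quotient.mk_surjective _ z
        rw [Submodule.mapQ_apply, Submodule.Quotient.eq] at hz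
        have : y = ι₀ z - (ι₀ z - y) := (sub_sub_cancel _ _).symm
        rw [this]
        exact sub_mem z.2 (hPN hz)

end Groth.Agent.Wt.HochsterRoberts
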