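import Groth.Agent.QSect.Core
import Mathlib

/-!
A parameter which stays nonzero on the generic fibre: going down from a normal polynomial ring.
-/

set_option autoImplicit false
set_option linter.style.haveILetI false

universe u

open MvPolynomial

namespace Groth.Agent.Wt.HorizontalElt

/-- Going down from a normal domain to an integral closure inside a valuation ring. -/
theorem mem_of_mul_eq {R L : Type u} [CommRing R] [IsDomain R] [IsIntegrallyClosed R] [Field L] [Algebra R L]
    (hRL : Function.Injective (algebraMap R L)) (V : ValuationSubring L)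
    (hR : ∀ x, algebraMap R L x ∈ V) (p : Ideal R) [p.IsPrime]
    (hp : ∀ x ∈ p, (⟨algebraMap R L x, hR x⟩ : V) ∈ IsLocalRing.maximalIdeal V)
    (a x : R) (hx : x ∈ p) (T U : L) (hT : IsIntegral R T) (hU : IsIntegral R U)
    (hTV : ∀ h : T ∈ V, (⟨T, h⟩ : V) ∉ IsLocalRing.maximalIdeal V)
    (heq : algebraMap R L a * T = algebraMap R L x * U) : a ∈ p := by
  have hCV : ∀ y ∈ integralClosure R L, y ∈ V := by
    rintro y ⟨f, hf, hfy⟩
    have h1 : IsIntegral V y := ⟨f.map ((algebraMap R L).codRestrict V.toSubring hR), hf.map _, by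
      rw [Polynomial.eval₂_map]; exact hfy⟩
    obtain ⟨v, hv⟩ := IsIntegrallyClosed.isIntegral_iff.mp h1
    rw [← hv]; exact v.2
  let jV : integralClosure R L →+* V :=
    (integralClosure R L).val.toRingHom.codRestrict V.toSubring fun y => hCV _ y.2
  let q : Ideal (integralClosure R L) := (IsLocalRing.maximalIdeal V).comap jV
  haveI : q.IsPrime := Ideal.comap_isPrime _ _
  haveI : FaithfulSMul R (integralClosure R L) :=
    (faithfulSMul_iff_algebraMap_injective _ _).mpr fun u v huv => hRL (congrArg Subtype.val huv)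
  haveI : q.LiesOver (q.comap (algebraMap R (integralClosure R L))) := ⟨rfl⟩
  have hle : p ≤ q.comap (algebraMap R (integralClosure R L)) := fun y hy => hp y hy
  obtain ⟨Q, hQle, hQp, hQover⟩ := Ideal.exists_ideal_le_liesOver_of_le q hle
  have hmem : algebraMap R (integralClosure R L) a * (⟨T, hT⟩ : integralClosure R L) ∈ Q := by
    rw [show algebraMap R (integralClosure R L) a * (⟨T, hT⟩ : integralClosure R L) =
      algebraMap R (integralClosure R L) x * ⟨U, hU⟩ from Subtype.ext heq]
    exact Ideal.mul_mem_right _ _ ((Ideal.mem_of_liesOver Q p _).mp hx)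
  exact (Ideal.mem_of_liesOver Q p _).mpr
    ((hQp.mem_or_mem hmem).resolve_right fun h => hTV _ (hQle h))

/-- If `B` is a local domain which up to units is integral over a polynomial ring `A[z]` inside it,
then no nonzero element of `A` is divisible in `B` by the coordinate `z 0` when this is not a unit. -/
theorem eq_zero_of_dvd {A B : Type u} [CommRing A] [IsDomain A] [CommRing B] [IsDomain B] [IsLocalRing B]
    [Algebra A B] [FaithfulSMul A B] {N : ℕ} (z : Fin (N + 1) → B) (hz : AlgebraicIndependent A z)
    (hz0 : z 0 ∈ IsLocalRing.maximalIdeal B)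
    (hint : letI := (aeval (R := A) z).toRingHom.toAlgebra
      ∀ b : B, ∃ u : B, IsUnit u ∧ IsIntegral (MvPolynomial (Fin (N + 1)) A) u ∧
        IsIntegral (MvPolynomial (Fin (N + 1)) A) (u * b))
    (a : A) (hdvd : z 0 ∣ algebraMap A B a) : a = 0 := by
  classical
  letI algPB : Algebra (MvPolynomial (Fin (N + 1)) A) B := (aeval (R := A) z).toRingHom.toAlgebra
  let K := FractionRing A
  let L := FractionRing B
  let A' := integralClosure A K
  let P := MvPolynomial (Fin (N + 1)) A
  let P' := MvPolynomial (Fin (N + 1)) A'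
  have hBL : Function.Injective (algebraMap B L) := IsFractionRing.injective B L
  have hAL : Function.Injective (algebraMap A L) := by
    rw [IsScalarTower.algebraMap_eq A B L]
    exact hBL.comp (FaithfulSMul.algebraMap_injective A B)
  let κ : K →+* L := IsFractionRing.lift hAL
  let θ : P' →+* L := eval₂Hom (κ.comp A'.val.toRingHom) fun j => algebraMap B L (z j)
  let ι₀ : P →+* P' := MvPolynomial.map (algebraMap A A')
  have hθι : θ.comp ι₀ = (algebraMap B L).comp (algebraMap P B) := by
    refine MvPolynomial.ringHom_ext (fun c => ?_) (fun j => ?_)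
    · show θ (MvPolynomial.map _ (C c)) = algebraMap B L (aeval z (C c))
      rw [map_C, aeval_C]
      show eval₂ _ _ (C (algebraMap A A' c)) = _
      rw [eval₂_C]
      show κ (algebraMap A K c) = _
      rw [IsFractionRing.lift_algebraMap, ← IsScalarTower.algebraMap_apply A B L]
    · show θ (MvPolynomial.map _ (X j)) = algebraMap B L (aeval z (X j))
      rw [map_X, aeval_X]
      exact eval₂_X _ _ _
  letI algPP' : Algebra P P' := MvPolynomial.algebraMvPolynomial
  letI algP'L : Algebra P' L := θ.toAlgebra
  haveI : IsScalarTower P P' L := IsScalarTower.of_algebraMap_eq fun x => by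
    rw [IsScalarTower.algebraMap_apply P B L]
    exact (RingHom.congr_fun hθι x).symm
  haveI : IsIntegrallyClosed A' := integralClosure.isIntegrallyClosedOfFiniteExtension (K := K) (L := K)
  haveI : IsIntegrallyClosed P' := QSect.isIntegrallyClosed_mvPolynomial A' (N + 1)
  have hPL : Function.Injective (θ.comp ι₀) := by
    rw [hθι]
    exact hBL.comp hz
  have hP'L : Function.Injective (algebraMap P' L) := by
    rw [RingHom.injective_iff_ker_eq_bot]
    haveI : (RingHom.ker (algebraMap P' L)).IsPrime := RingHom.ker_isPrime _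
    refine Ideal.eq_bot_of_comap_eq_bot (R := P) (S := P') ?_
    rw [RingHom.comap_ker, ← RingHom.injective_iff_ker_eq_bot]
    exact hPL
  -- a valuation ring dominating `B`
  obtain ⟨V, hV, hloc⟩ := IsLocalRing.exists_factor_valuationRing (algebraMap B L)
  haveI := hloc
  let ψ : B →+* V := (algebraMap B L).codRestrict V.toSubring hV
  have hAV : ∀ c : A', κ (c : K) ∈ V := by
    intro c
    let φ : A →+* V := ψ.comp (algebraMap A B)
    obtain ⟨f, hf, hfc⟩ := c.2
    have h1 : IsIntegral V (κ (c : K)) := ⟨f.map φ, hf.map _, by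
      rw [Polynomial.eval₂_map, show (algebraMap V L).comp φ = κ.comp (algebraMap A K) from RingHom.ext fun y => by
        show algebraMap B L (algebraMap A B y) = κ (algebraMap A K y)
        rw [IsFractionRing.lift_algebraMap, ← IsScalarTower.algebraMap_apply A B L],
        ← Polynomial.hom_eval₂, hfc, map_zero]⟩
    obtain ⟨v, hv⟩ := IsIntegrallyClosed.isIntegral_iff.mp h1
    rw [← hv]; exact v.2
  have hθV : ∀ x, θ x ∈ V := by
    intro x
    induction x using MvPolynomial.induction_on with
    | C c => show eval₂ _ _ (C c) ∈ V; rw [eval₂_C]; exact hAV c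
    | add p q hp hq => rw [map_add]; exact add_mem hp hq
    | mul_X p j hp =>
      rw [map_mul]
      refine mul_mem hp ?_
      show eval₂ _ _ (X j) ∈ V
      rw [eval₂_X]; exact hV _
  let Qp : Ideal P' := Ideal.span {X 0}
  haveI : Qp.IsPrime := (Ideal.span_singleton_prime (MvPolynomial.X_ne_zero 0)).mpr MvPolynomial.X_prime
  have hX : θ (X 0) = algebraMap B L (z 0) := eval₂_X _ _ _
  obtain ⟨b, hb⟩ := hdvd
  obtain ⟨u, hu, hui, hubi⟩ := hint b
  have toC : ∀ y : B, IsIntegral P y → IsIntegral P' (algebraMap B L y) := fun y hy =>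
    (hy.map (IsScalarTower.toAlgHom P B L)).tower_top
  have h1 : θ (C (algebraMap A A' a)) = algebraMap B L (algebraMap A B a) := by
    show eval₂ _ _ _ = _
    rw [eval₂_C]
    show κ (algebraMap A K a) = _
    rw [IsFractionRing.lift_algebraMap, ← IsScalarTower.algebraMap_apply A B L]
  have hp : ∀ x ∈ Qp, (⟨θ x, hθV x⟩ : V) ∈ IsLocalRing.maximalIdeal V := by
    intro x hx
    obtain ⟨w, rfl⟩ := Ideal.mem_span_singleton.mp hx
    have h2 : (⟨θ (X 0 * w), hθV _⟩ : V) = ψ (z 0) * ⟨θ w, hθV w⟩ := Subtype.ext (by
      show θ (X 0 * w) = algebraMap B L (z 0) * θ w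
      rw [map_mul, hX])
    rw [h2]
    exact Ideal.mul_mem_right _ _ fun hu => hz0 (hloc.map_nonunit _ hu)
  have ha : C (algebraMap A A' a) ∈ Qp := mem_of_mul_eq (R := P') hP'L V hθV Qp hp _ (X 0)
    (Ideal.mem_span_singleton_self _) _ _ (toC u hui) (toC _ hubi)
    (fun h hm => hm (hu.map ψ)) (by
      show θ (C (algebraMap A A' a)) * algebraMap B L u = θ (X 0) * algebraMap B L (u * b)
      rw [h1, hX, hb, map_mul, map_mul]
      ring)
  obtain ⟨w, hw⟩ := Ideal.mem_span_singleton.mp ha
  have h0 := congrArg MvPolynomial.constantCoeff hw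
  rw [map_mul, MvPolynomial.constantCoeff_C, MvPolynomial.constantCoeff_X, zero_mul] at h0
  exact IsFractionRing.injective A K ((congrArg Subtype.val h0).trans (map_zero (algebraMap A K)).symm)

end Groth.Agent.Wt.HorizontalElt
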