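import Groth.Agent.FlatFibres.Basic
import Groth.Agent.Nagata.Normalization
import Mathlib

/-!
Parameters at the closed point of a local domain essentially of finite type, one of them prescribed.
-/

set_option autoImplicit false
set_option linter.style.haveILetI false

universe u

open IsLocalRing MvPolynomial

namespace Groth.Agent.Wt.HorizontalElt

/-- A system of parameters of the closed fibre which starts with `g`. -/
theorem exists_fibre_params {A B : Type u} [CommRing A] [CommRing B] [IsLocalRing A] [IsLocalRing B]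
    [Algebra A B] [IsLocalHom (algebraMap A B)] [Algebra.EssFiniteType A B]
    (g : B) (hg : g ∈ maximalIdeal B)
    (hmin : ∀ q ∈ (Ideal.map (algebraMap A B) (maximalIdeal A)).minimalPrimes, g ∉ q)
    (d : ℕ) (hd : ringKrullDim (B ⧸ Ideal.map (algebraMap A B) (maximalIdeal A)) = d) :
    ∃ (n : ℕ) (x : Fin n → B), n + 1 ≤ d ∧ (∀ i, x i ∈ maximalIdeal B) ∧
      ∀ Q : Ideal B, Q.IsPrime → Ideal.map (algebraMap A B) (maximalIdeal A) ≤ Q → g ∈ Q → (∀ i, x i ∈ Q) →
        Q = maximalIdeal B := by
  classical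
  let J := Ideal.map (algebraMap A B) (maximalIdeal A)
  have hJ : J ≤ maximalIdeal B := Ideal.map_le_iff_le_comap.mpr fun a ha hu => ha (IsUnit.of_map _ a hu)
  haveI : Nontrivial (B ⧸ J) :=
    Ideal.Quotient.nontrivial_iff.mpr fun h => (maximalIdeal.isMaximal B).ne_top (top_le_iff.mp (h ▸ hJ))
  haveI : IsLocalRing (B ⧸ J) := IsLocalRing.of_surjective' (Ideal.Quotient.mk J) Ideal.Quotient.mk_surjective
  haveI : IsNoetherianRing (B ⧸ J) := by
    let k := A ⧸ maximalIdeal A
    letI : Field k := Ideal.Quotient.field _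
    letI : Algebra k (B ⧸ J) := (Ideal.quotientMap J (algebraMap A B) Ideal.le_comap_map).toAlgebra
    haveI : IsScalarTower A k (B ⧸ J) := IsScalarTower.of_algebraMap_eq fun _ => rfl
    haveI : Algebra.EssFiniteType k (B ⧸ J) := Algebra.EssFiniteType.of_comp A k (B ⧸ J)
    exact Algebra.EssFiniteType.isNoetherianRing k (B ⧸ J)
  let gb : B ⧸ J := Ideal.Quotient.mk J g
  have hgm : gb ∈ maximalIdeal (B ⧸ J) := fun hu => by
    haveI : IsLocalHom (Ideal.Quotient.mk J) := IsLocalHom.of_surjective _ Ideal.Quotient.mk_surjective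
    exact hg (IsUnit.of_map _ g hu)
  have hne : Ideal.span {gb} ≠ ⊤ := fun h =>
    (maximalIdeal.isMaximal (B ⧸ J)).ne_top (top_le_iff.mp (h ▸ (Ideal.span_singleton_le_iff_mem _).mpr hgm))
  have hall : ∀ p ∈ minimalPrimes (B ⧸ J), gb ∉ p := fun p hp h => by
    refine hmin (p.comap (Ideal.Quotient.mk J)) ?_ h
    rw [Ideal.minimalPrimes_eq_comap]
    exact ⟨p, hp, rfl⟩
  haveI : Nontrivial ((B ⧸ J) ⧸ Ideal.span {gb}) := Ideal.Quotient.nontrivial_iff.mpr hne
  haveI : IsLocalRing ((B ⧸ J) ⧸ Ideal.span {gb}) :=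
    IsLocalRing.of_surjective' (Ideal.Quotient.mk _) Ideal.Quotient.mk_surjective
  obtain ⟨n, b, hb, hdim, hart⟩ := Nagata.Normalization.exists_sop ((B ⧸ J) ⧸ Ideal.span {gb})
  have hn : n + 1 ≤ d := by
    have h := FlatFibres.dim_quotient_succ_le hall hne
    rw [hdim, hd] at h
    exact_mod_cast h
  choose x hx using fun i => (Ideal.Quotient.mk_surjective.comp Ideal.Quotient.mk_surjective :
    Function.Surjective ((Ideal.Quotient.mk (Ideal.span {gb})).comp (Ideal.Quotient.mk J))) (b i)
  let π : B →+* (B ⧸ J) ⧸ Ideal.span {gb} := (Ideal.Quotient.mk _).comp (Ideal.Quotient.mk J)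
  have hπsurj : Function.Surjective π := Ideal.Quotient.mk_surjective.comp Ideal.Quotient.mk_surjective
  haveI : IsLocalHom π := IsLocalHom.of_surjective _ hπsurj
  refine ⟨n, x, hn, fun i hu => hb i (hx i ▸ hu.map π), fun Q hQ hJQ hgQ hxQ => ?_⟩
  let π' : B →+* ((B ⧸ J) ⧸ Ideal.span {gb}) ⧸ Ideal.span (Set.range b) := (Ideal.Quotient.mk _).comp π
  have hπ' : Function.Surjective π' :=
    Ideal.Quotient.mk_surjective.comp (Ideal.Quotient.mk_surjective.comp Ideal.Quotient.mk_surjective)
  have hker : RingHom.ker π' ≤ Q := by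
    intro y hy
    have h1 : π y ∈ Ideal.span (Set.range b) := Ideal.Quotient.eq_zero_iff_mem.mp hy
    have h2 : Set.range b = π '' Set.range x := by
      ext w; simp only [Set.mem_range, Set.mem_image]
      exact ⟨fun ⟨i, hi⟩ => ⟨x i, ⟨i, rfl⟩, (hx i).trans hi⟩, fun ⟨_, ⟨i, rfl⟩, hw⟩ => ⟨i, (hx i).symm.trans hw⟩⟩
    rw [h2, ← Ideal.map_span, ← Ideal.mem_comap,
      Ideal.comap_map_of_surjective' π hπsurj] at h1
    have hle : Ideal.span (Set.range x) ⊔ RingHom.ker π ≤ Q := by
      refine sup_le ?_ ?_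
      · rw [Ideal.span_le]; rintro _ ⟨i, rfl⟩; exact hxQ i
      · intro w hw
        have h3 : Ideal.Quotient.mk J w ∈ Ideal.span {gb} := Ideal.Quotient.eq_zero_iff_mem.mp hw
        rw [show Ideal.span {gb} = (Ideal.span {g}).map (Ideal.Quotient.mk J) by rw [Ideal.map_span, Set.image_singleton],
          ← Ideal.mem_comap, Ideal.comap_map_of_surjective' _ Ideal.Quotient.mk_surjective, Ideal.mk_ker] at h3
        have hle' : Ideal.span {g} ⊔ J ≤ Q := sup_le ((Ideal.span_singleton_le_iff_mem _).mpr hgQ) hJQ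
        exact hle' h3
    exact hle h1
  haveI := hQ
  haveI : (Q.map π').IsPrime := Ideal.map_isPrime_of_surjective hπ' hker
  haveI := hart
  have hmax : (Q.map π').IsMaximal := @IsArtinianRing.isMaximal_of_isPrime (((B ⧸ J) ⧸ Ideal.span {gb}) ⧸ Ideal.span (Set.range b)) _ (Q.map π') inferInstance hart
  have h4 := Ideal.comap_isMaximal_of_surjective π' hπ' (K := Q.map π')
  rw [Ideal.comap_map_of_surjective' π' hπ', sup_eq_left.2 hker] at h4
  exact IsLocalRing.eq_maximalIdeal h4

/-- The extension of residue fields is algebraic over polynomials in lifts of a transcendence basis. -/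
theorem exists_residue_params {A B : Type u} [CommRing A] [CommRing B] [IsLocalRing A] [IsLocalRing B]
    [Algebra A B] [IsLocalHom (algebraMap A B)] (e : ℕ) (he : Algebra.trdeg (ResidueField A) (ResidueField B) = e) :
    ∃ y : Fin e → B, ∀ w : ResidueField B, w ≠ 0 → ∃ (f : Polynomial (MvPolynomial (Fin e) A)),
      Polynomial.eval₂ ((residue B).comp (aeval (R := A) y).toRingHom) w f = 0 ∧
        residue B (aeval y (f.coeff 0)) ≠ 0 := by
  classical
  haveI : FaithfulSMul (ResidueField A) (ResidueField B) :=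
    (faithfulSMul_iff_algebraMap_injective _ _).mpr (algebraMap (ResidueField A) (ResidueField B)).injective
  obtain ⟨T, hT⟩ := exists_isTranscendenceBasis (ResidueField A) (ResidueField B)
  obtain ⟨φ⟩ := Cardinal.mk_eq_nat_iff.mp (hT.cardinalMk_eq_trdeg.trans he)
  choose y hy using fun i => residue_surjective ((φ.symm i : T) : ResidueField B)
  refine ⟨y, fun w hw => ?_⟩
  have hT' : IsTranscendenceBasis (ResidueField A) fun i => residue B (y i) := by
    have h := hT.comp_equiv φ.symm
    rwa [show (Subtype.val ∘ φ.symm : Fin e → ResidueField B) = fun i => residue B (y i) from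
      funext fun i => (hy i).symm] at h
  let D := Algebra.adjoin (ResidueField A) (Set.range fun i => residue B (y i))
  haveI : Algebra.IsAlgebraic D (ResidueField B) := hT'.isAlgebraic
  obtain ⟨q, hq0, hqw⟩ := (Algebra.IsAlgebraic.isAlgebraic (R := D) w).exists_nonzero_coeff_and_aeval_eq_zero
    (mem_nonZeroDivisors_of_ne_zero hw)
  have hlift : ∀ v : D, ∃ p : MvPolynomial (Fin e) A, residue B (aeval y p) = (v : ResidueField B) := by
    rintro ⟨v, hv⟩
    rw [show D = _ from Algebra.adjoin_range_eq_range_aeval _ _] at hv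
    obtain ⟨p, hp⟩ := hv
    obtain ⟨p', rfl⟩ := MvPolynomial.map_surjective (residue A) residue_surjective p
    refine ⟨p', Eq.trans ?_ hp⟩
    show residue B (aeval y p') = aeval (fun i => residue B (y i)) (MvPolynomial.map (residue A) p')
    rw [show residue A = algebraMap A (ResidueField A) from rfl, MvPolynomial.aeval_map_algebraMap]
    exact congrFun (congrArg DFunLike.coe (MvPolynomial.comp_aeval y (IsScalarTower.toAlgHom A B (ResidueField B)))) p'
  obtain ⟨f, hf⟩ : ∃ f : Polynomial (MvPolynomial (Fin e) A),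
      f.map ((residue B).comp (aeval (R := A) y).toRingHom) = q.map (algebraMap D (ResidueField B)) := by
    refine (Polynomial.mem_lifts _).mp ((Polynomial.lifts_iff_coeff_lifts _).mpr fun n => ?_)
    obtain ⟨p, hp⟩ := hlift (q.coeff n)
    exact ⟨p, by rw [Polynomial.coeff_map]; exact hp⟩
  refine ⟨f, ?_, fun h => hq0 ?_⟩
  · rw [← Polynomial.eval_map, hf, Polynomial.eval_map, ← Polynomial.aeval_def, hqw]
  · have h1 := congrArg (fun p => Polynomial.coeff p 0) hf
    simp only [Polynomial.coeff_map] at h1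
    exact Subtype.ext (h1.symm.trans h)

end Groth.Agent.Wt.HorizontalElt
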