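import Groth.Agent.Wt.EftDims
import Groth.Agent.S1404

/-!
An element without zeros on the generic fibre contains a component of a fibre of no bigger dimension.
-/

set_option autoImplicit false
set_option linter.style.haveILetI false

universe u

namespace Groth.Agent.Wt.VerticalPrime

set_option maxHeartbeats 1000000 in
theorem exists_minimal_over {A R : Type u} [CommRing A] [CommRing R] [IsDomain A] [IsDomain R] [Algebra A R]
    [FaithfulSMul A R] [Algebra.FiniteType A R] (p : PrimeSpectrum A) (q : PrimeSpectrum R)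
    (hq : q.comap (algebraMap A R) = p) (g : R) (hgq : g ∈ q.asIdeal)
    (hgen : ∀ w : PrimeSpectrum R, w.asIdeal.comap (algebraMap A R) = ⊥ → g ∉ w.asIdeal)
    (hdim : ∀ l : LTSeries (PrimeSpectrum R), (∀ i, (l i).comap (algebraMap A R) = p) →
      (l.length : Cardinal.{u}) ≤ Algebra.trdeg A R) :
    ∃ w : PrimeSpectrum R, w ≤ q ∧ w.comap (algebraMap A R) = p ∧ g ∈ w.asIdeal ∧
      ∀ w' : PrimeSpectrum R, w' ≤ w → w'.comap (algebraMap A R) = p → w' = w := by
  classical
  haveI : q.asIdeal.LiesOver p.asIdeal := ⟨(congrArg PrimeSpectrum.asIdeal hq).symm⟩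
  let Ap := Localization.AtPrime p.asIdeal
  let B := Localization.AtPrime q.asIdeal
  letI : Algebra Ap B := Localization.AtPrime.algebraOfLiesOver p.asIdeal q.asIdeal
  haveI : IsScalarTower A Ap B := IsScalarTower.of_algebraMap_eq fun a => by
    show algebraMap A B a = Localization.localRingHom _ _ (algebraMap A R) _ (algebraMap A Ap a)
    rw [Localization.localRingHom_to_map, ← IsScalarTower.algebraMap_apply A R B]
  haveI : IsDomain Ap := IsLocalization.isDomain_localization p.asIdeal.primeCompl_le_nonZeroDivisors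
  haveI : IsDomain B := IsLocalization.isDomain_localization q.asIdeal.primeCompl_le_nonZeroDivisors
  haveI : FaithfulSMul R B := (faithfulSMul_iff_algebraMap_injective _ _).mpr
    (IsLocalization.injective B q.asIdeal.primeCompl_le_nonZeroDivisors)
  haveI : FaithfulSMul A Ap := (faithfulSMul_iff_algebraMap_injective _ _).mpr
    (IsLocalization.injective Ap p.asIdeal.primeCompl_le_nonZeroDivisors)
  have hAB : Function.Injective (algebraMap A B) := by
    rw [IsScalarTower.algebraMap_eq A R B]
    exact (FaithfulSMul.algebraMap_injective R B).comp (FaithfulSMul.algebraMap_injective A R)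
  haveI : FaithfulSMul Ap B := (faithfulSMul_iff_algebraMap_injective _ _).mpr (by
    rw [injective_iff_map_eq_zero]
    intro z hz
    obtain ⟨⟨a, t⟩, hat⟩ := IsLocalization.surj p.asIdeal.primeCompl z
    have h1 := congrArg (algebraMap Ap B) hat
    rw [map_mul, hz, zero_mul, ← IsScalarTower.algebraMap_apply] at h1
    have h2 : a = 0 := hAB (h1.symm.trans (map_zero _).symm)
    subst h2
    rw [map_zero] at hat
    exact (IsLocalization.map_units Ap t).mul_left_eq_zero.mp hat)
  haveI : Algebra.EssFiniteType R B := .of_isLocalization B q.asIdeal.primeCompl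
  haveI : Algebra.EssFiniteType A B := Algebra.EssFiniteType.comp A R B
  haveI : Algebra.EssFiniteType Ap B := Algebra.EssFiniteType.of_comp A Ap B
  have hmap : (IsLocalRing.maximalIdeal Ap).map (algebraMap Ap B) =
      (p.asIdeal.map (algebraMap A R)).map (algebraMap R B) := by
    rw [← Localization.AtPrime.map_eq_maximalIdeal, Ideal.map_map, Ideal.map_map,
      ← IsScalarTower.algebraMap_eq, ← IsScalarTower.algebraMap_eq]
  by_cases hmin : ∀ Q ∈ (Ideal.map (algebraMap Ap B) (IsLocalRing.maximalIdeal Ap)).minimalPrimes,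
      algebraMap R B g ∉ Q
  · exfalso
    obtain ⟨d, e, hd, he, hle, l, hlen, hl⟩ := EftDims.exists_dims p.asIdeal q hq
    have htr : Algebra.trdeg Ap B = Algebra.trdeg A R := by
      haveI : Algebra.IsAlgebraic R B := IsLocalization.isAlgebraic B q.asIdeal.primeCompl
      haveI : Algebra.IsAlgebraic A Ap := IsLocalization.isAlgebraic Ap p.asIdeal.primeCompl
      have h1 : Algebra.trdeg A R = Algebra.trdeg A B := by
        rw [← trdeg_add_eq A R (A := B), trdeg_eq_zero (R := R), add_zero]
      rw [h1, ← trdeg_add_eq A Ap (A := B), trdeg_eq_zero (R := A) (A := Ap), zero_add]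
    have hsum : Algebra.trdeg Ap B = (d + e : ℕ) := by
      rw [htr]
      exact le_antisymm hle (hlen ▸ hdim l hl)
    have hd' : ringKrullDim (B ⧸ Ideal.map (algebraMap Ap B) (IsLocalRing.maximalIdeal Ap)) = d := by
      rw [ringKrullDim_eq_of_ringEquiv (Ideal.quotEquivOfEq hmap), hd]
    have hgm : algebraMap R B g ∈ IsLocalRing.maximalIdeal B :=
      (IsLocalization.AtPrime.to_map_mem_maximal_iff B q.asIdeal g).mpr hgq
    have hinj := Groth.Agent.S1404.result (A := Ap) (B := B) (algebraMap R B g) hgm hmin d e hd' he hsum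
    let J : Ideal B := Ideal.span {algebraMap R B g}
    obtain ⟨Q, hQ, hJQ, hQd⟩ := Ideal.exists_le_prime_disjoint J
      ((nonZeroDivisors A).map (algebraMap A B).toMonoidHom) (by
        rw [Set.disjoint_left]
        rintro _ hJ ⟨a, ha, rfl⟩
        have h1 : algebraMap Ap (B ⧸ J) (algebraMap A Ap a) = 0 := by
          rw [IsScalarTower.algebraMap_apply Ap B (B ⧸ J), ← IsScalarTower.algebraMap_apply A Ap B]
          exact Ideal.Quotient.eq_zero_iff_mem.mpr hJ
        have h2 := hinj (h1.trans (map_zero _).symm)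
        exact nonZeroDivisors.ne_zero ha (FaithfulSMul.algebraMap_injective A Ap (h2.trans (map_zero _).symm)))
    haveI := hQ
    refine hgen ⟨Q.comap (algebraMap R B), Ideal.comap_isPrime _ _⟩ ?_ (hJQ (Ideal.mem_span_singleton_self _))
    refine eq_bot_iff.mpr fun a ha => ?_
    rw [Submodule.mem_bot]
    by_contra hne
    refine Set.disjoint_left.mp hQd (?_ : algebraMap A B a ∈ (Q : Set B)) ⟨a, mem_nonZeroDivisors_of_ne_zero hne, rfl⟩
    rw [IsScalarTower.algebraMap_apply A R B]
    exact ha
  · push Not at hmin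
    obtain ⟨Q, hQ, hgQ⟩ := hmin
    haveI := hQ.1.1
    have hcomap : ∀ P : PrimeSpectrum B, Ideal.map (algebraMap Ap B) (IsLocalRing.maximalIdeal Ap) ≤ P.asIdeal →
        (P.comap (algebraMap R B)).comap (algebraMap A R) = p := fun P hP => by
      refine PrimeSpectrum.ext ?_
      show ((P.asIdeal.comap (algebraMap R B)).comap (algebraMap A R)) = p.asIdeal
      rw [Ideal.comap_comap, ← IsScalarTower.algebraMap_eq, IsScalarTower.algebraMap_eq A Ap B, ← Ideal.comap_comap,
        ← (IsLocalRing.maximalIdeal.isMaximal Ap).eq_of_le (Ideal.comap_ne_top _ P.isPrime.ne_top)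
          (Ideal.map_le_iff_le_comap.mp hP)]
      exact Localization.AtPrime.under_maximalIdeal
    refine ⟨(⟨Q, hQ.1.1⟩ : PrimeSpectrum B).comap (algebraMap R B), ?_, hcomap _ hQ.1.2, hgQ, fun w' hw' hw'p => ?_⟩
    · intro x hx
      exact (IsLocalization.AtPrime.to_map_mem_maximal_iff B q.asIdeal x).mp
        (IsLocalRing.le_maximalIdeal hQ.1.1.ne_top hx)
    · haveI := w'.isPrime
      have hwq : w'.asIdeal ≤ q.asIdeal := fun x hx =>
        (IsLocalization.AtPrime.to_map_mem_maximal_iff B q.asIdeal x).mp
          (IsLocalRing.le_maximalIdeal hQ.1.1.ne_top (hw' hx))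
      have hdisj : Disjoint (q.asIdeal.primeCompl : Set R) (w'.asIdeal : Set R) :=
        Set.disjoint_left.mpr fun v hv hv' => hv (hwq hv')
      have hP := IsLocalization.isPrime_of_isPrime_disjoint q.asIdeal.primeCompl B _ inferInstance hdisj
      have hle1 : w'.asIdeal.map (algebraMap R B) ≤ Q := Ideal.map_le_iff_le_comap.mpr hw'
      have hle2 : Ideal.map (algebraMap Ap B) (IsLocalRing.maximalIdeal Ap) ≤ w'.asIdeal.map (algebraMap R B) := by
        rw [hmap]
        exact Ideal.map_mono (Ideal.map_le_iff_le_comap.mpr (congrArg PrimeSpectrum.asIdeal hw'p).ge)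
      have h2 := le_antisymm hle1 (hQ.2 ⟨hP, hle2⟩ hle1)
      refine PrimeSpectrum.ext ?_
      show w'.asIdeal = Q.comap (algebraMap R B)
      rw [← h2]
      exact (IsLocalization.under_map_of_isPrime_disjoint q.asIdeal.primeCompl B inferInstance hdisj).symm

end Groth.Agent.Wt.VerticalPrime
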