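import Mathlib.RingTheory.ZariskisMainTheorem
import Mathlib.RingTheory.Ideal.KrullsHeightTheorem
import Mathlib.RingTheory.Ideal.MinimalPrime.Noetherian
import Mathlib.RingTheory.EssentialFiniteness
import Mathlib.RingTheory.HopkinsLevitzki
import Mathlib.RingTheory.Spectrum.Prime.Topology

/-!
# Quasi-finite curves through a point with finite residue extension

For a Noetherian local ring `A` and `A → B` local, essentially of finite type with finite residue
extension, every open of `Spec B` meeting the part not over the closed point contains a prime `q` there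
with `B ⧸ q` quasi-finite over `A`.
-/

set_option autoImplicit false
set_option linter.style.haveILetI false

universe u

open IsLocalRing

namespace Groth.Agent.Wt.CurvePoint

/-- In a Noetherian local domain, if all non-zero primes contain `h ≠ 0`, they are maximal. -/
theorem eq_maximalIdeal_of_forall_mem {T : Type u} [CommRing T] [IsDomain T] [IsLocalRing T]
    [IsNoetherianRing T] {h : T} (h0 : h ≠ 0)
    (hh : ∀ P : Ideal T, P.IsPrime → P ≠ ⊥ → h ∈ P) (P : Ideal T) [P.IsPrime] (hP : P ≠ ⊥) :
    P = maximalIdeal T := by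
  classical
  obtain ⟨G, hG, hGP⟩ := Ideal.exists_minimalPrimes_le
    (show Ideal.span {h} ≤ P from (Ideal.span_singleton_le_iff_mem _).mpr (hh P ‹_› hP))
  by_cases hm : maximalIdeal T ∈ (Ideal.span {h}).minimalPrimes
  · refine le_antisymm (le_maximalIdeal_of_isPrime P) ((hm.2 ⟨hG.isPrime, hG.le⟩ ?_).trans hGP)
    exact le_maximalIdeal (hG.isPrime.ne_top)
  exfalso
  have hfin := Ideal.finite_minimalPrimes_of_isNoetherianRing T (Ideal.span {h})
  obtain ⟨x, hx, hxF⟩ : ∃ x ∈ maximalIdeal T, ∀ F ∈ (Ideal.span {h}).minimalPrimes, x ∉ F := by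
    by_contra hc
    push Not at hc
    have hsub : ((maximalIdeal T : Ideal T) : Set T) ⊆
        ⋃ F ∈ (hfin.toFinset : Set (Ideal T)), (id F : Ideal T) := fun x hx => by
      obtain ⟨F, hF, hxF⟩ := hc x hx
      exact Set.mem_iUnion₂.mpr ⟨F, by simpa using hF, hxF⟩
    obtain ⟨F, hF, hle⟩ := (Ideal.subset_union_prime (f := id) ⊥ ⊥ (fun F hF _ _ => by
      simp only [Set.Finite.mem_toFinset] at hF; exact hF.isPrime)).mp hsub
    simp only [Set.Finite.mem_toFinset, id] at hF hle
    have := hF.isPrime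
    exact hm ((le_antisymm hle (le_maximalIdeal this.ne_top)).symm ▸ hF)
  obtain ⟨Q, hQ, -⟩ := Ideal.exists_minimalPrimes_le
    (show Ideal.span {x} ≤ maximalIdeal T from (Ideal.span_singleton_le_iff_mem _).mpr hx)
  have := hQ.isPrime
  have hxQ : x ∈ Q := hQ.le (Ideal.mem_span_singleton_self x)
  have hx0 : x ≠ 0 := fun e => hxF G hG (e ▸ G.zero_mem)
  have hQ0 : Q ≠ ⊥ := fun e => hx0 (by simpa [e] using hxQ)
  obtain ⟨F, hF, hFQ⟩ := Ideal.exists_minimalPrimes_le
    (show Ideal.span {h} ≤ Q from (Ideal.span_singleton_le_iff_mem _).mpr (hh Q ‹_› hQ0))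
  have := hF.isPrime
  have hlt : F < Q := lt_of_le_of_ne hFQ fun e => hxF F hF (e ▸ hxQ)
  have h1 : Q.height ≤ 1 := Ideal.height_le_one_of_isPrincipal_of_mem_minimalPrimes _ _ hQ
  have : Q.FiniteHeight := Q.finiteHeight_iff.mpr (Or.inr (ne_top_of_le_ne_top ENat.one_ne_top h1))
  have h2 := (Ideal.height_strict_mono_of_isPrime_of_isPrime hlt).trans_le h1
  have hbot : (⊥ : Ideal T) < F := bot_lt_iff_ne_bot.mpr fun e => h0 (by
    have := hF.le (Ideal.mem_span_singleton_self h)
    simpa [e] using this)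
  have : F.FiniteHeight := F.finiteHeight_iff.mpr (Or.inr h2.ne_top)
  have h3 := (Ideal.height_strict_mono_of_isPrime_of_isPrime hbot).trans_le (le_refl _)
  rw [Order.lt_one_iff] at h2
  rw [h2] at h3
  exact not_lt_zero h3

/-- A local algebra whose only prime over the closed point is the maximal ideal is quasi-finite. -/
theorem quasiFinite_of_forall_eq {A T : Type u} [CommRing A] [CommRing T] [IsLocalRing A]
    [IsLocalRing T] [IsNoetherianRing T] [Algebra A T] [IsLocalHom (algebraMap A T)]
    [Algebra.EssFiniteType A T] [Module.Finite (ResidueField A) (ResidueField T)]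
    (h : ∀ P : Ideal T, P.IsPrime → P.comap (algebraMap A T) = maximalIdeal A →
      P = maximalIdeal T) :
    Algebra.QuasiFinite A T := by
  let C := Algebra.EssFiniteType.subalgebra A T
  let n : Ideal C := (maximalIdeal T).comap (algebraMap C T)
  have : n.IsPrime := Ideal.comap_isPrime _ _
  have hM : Algebra.EssFiniteType.submonoid A T = n.primeCompl := by
    ext c
    show IsUnit (algebraMap C T c) ↔ ¬ (algebraMap C T c) ∈ maximalIdeal T
    rw [mem_maximalIdeal, mem_nonunits_iff, not_not]
  have : IsLocalization.AtPrime T n := by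
    show IsLocalization n.primeCompl T
    rw [← hM]
    infer_instance
  let e : Localization.AtPrime n ≃ₐ[C] T := IsLocalization.algEquiv n.primeCompl _ _
  let e' : Localization.AtPrime n ≃ₐ[A] T := e.restrictScalars A
  have hu : n.under A = maximalIdeal A := by
    show ((maximalIdeal T).comap (algebraMap C T)).comap (algebraMap A C) = _
    rw [Ideal.comap_comap, ← IsScalarTower.algebraMap_eq]
    exact ((IsLocalRing.local_hom_TFAE (algebraMap A T)).out 0 4).mp ‹_›
  suffices Algebra.WeaklyQuasiFiniteAt A n by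
    have : Algebra.QuasiFiniteAt A n := .of_weaklyQuasiFiniteAt n
    exact (Algebra.QuasiFinite.iff_of_algEquiv e').mp ‹_›
  rw [Algebra.weaklyQuasiFiniteAt_iff, hu]
  let J := (maximalIdeal A).map (algebraMap A T)
  have eJ : J = ((maximalIdeal A).map (algebraMap A (Localization.AtPrime n))).map
      (e' : Localization.AtPrime n →+* T) := by
    rw [Ideal.map_map]
    exact congrArg (fun φ : A →+* T => (maximalIdeal A).map φ)
      (RingHom.ext fun a => (e'.commutes a).symm)
  refine (Algebra.QuasiFinite.iff_of_algEquiv (Ideal.quotientEquivAlg _ J e' eJ)).mpr ?_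
  -- `T ⧸ J` has the maximal ideal as its only prime
  have hJm : J ≤ maximalIdeal T := Ideal.map_le_iff_le_comap.mpr fun a ha => by
    exact (map_mem_nonunits_iff (algebraMap A T) a).mpr ha
  have hrad : maximalIdeal T ≤ J.radical := by
    rw [Ideal.radical_eq_sInf]
    refine le_sInf fun P hP => ?_
    obtain ⟨hJP, hPp⟩ := hP
    refine (h P hPp (le_antisymm (le_maximalIdeal (Ideal.comap_ne_top _ hPp.ne_top)) ?_)).ge
    exact fun a ha => hJP (Ideal.mem_map_of_mem _ ha)
  have hfinres : Module.Finite A (ResidueField T) := Module.Finite.trans (ResidueField A) _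
  let q : T ⧸ J →ₐ[A] ResidueField T :=
    Ideal.Quotient.liftₐ J (IsScalarTower.toAlgHom A T (ResidueField T)) fun x hx =>
      (IsLocalRing.residue_eq_zero_iff x).mpr (hJm hx)
  have hker : RingHom.ker q = (maximalIdeal T).map (Ideal.Quotient.mk J) := by
    ext z
    obtain ⟨x, rfl⟩ := Ideal.Quotient.mk_surjective z
    rw [RingHom.mem_ker, Ideal.mem_map_iff_of_surjective _ Ideal.Quotient.mk_surjective]
    constructor
    · intro hz
      exact ⟨x, (IsLocalRing.residue_eq_zero_iff x).mp hz, rfl⟩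
    · rintro ⟨y, hy, hyx⟩
      rw [← hyx]
      exact (IsLocalRing.residue_eq_zero_iff y).mpr hy
  have : Module.Finite A (T ⧸ J) := by
    refine Module.finite_of_surjective_of_ker_le_nilradical q
      (fun z => ?_) ?_ ?_
    · obtain ⟨x, rfl⟩ := IsLocalRing.residue_surjective z
      exact ⟨Ideal.Quotient.mk J x, rfl⟩
    · rw [hker, Ideal.map_le_iff_le_comap]
      intro x hx
      obtain ⟨k, hk⟩ := hrad hx
      exact ⟨k, by rw [← map_pow]; exact Ideal.Quotient.eq_zero_iff_mem.mpr hk⟩
    · rw [← RingHom.ker_coe_toRingHom, show RingHom.ker (q : T ⧸ J →+* ResidueField T) =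
        RingHom.ker q from rfl, hker]
      exact Ideal.FG.map (IsNoetherian.noetherian _) _
  infer_instance

variable {A B : Type u} [CommRing A] [CommRing B] [IsLocalRing A] [IsLocalRing B]
  [IsNoetherianRing A] [Algebra A B] [IsLocalHom (algebraMap A B)] [Algebra.EssFiniteType A B]
  [Module.Finite (ResidueField A) (ResidueField B)]

/-- Quasi-finite curves meeting a given open. -/
theorem exists_prime (V : Set (PrimeSpectrum B)) (hV : IsOpen V)
    (hne : ∃ q ∈ V, q.asIdeal.comap (algebraMap A B) ≠ maximalIdeal A) :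
    ∃ q ∈ V, q.asIdeal.comap (algebraMap A B) ≠ maximalIdeal A ∧
      Algebra.QuasiFinite A (B ⧸ q.asIdeal) := by
  classical
  have : IsNoetherianRing B := Algebra.EssFiniteType.isNoetherianRing A B
  let S : Set (Ideal B) := {I | ∃ q ∈ V, q.asIdeal = I ∧ I.comap (algebraMap A B) ≠ maximalIdeal A}
  obtain ⟨I, ⟨q, hqV, rfl, hq⟩, hmax⟩ := set_has_maximal_iff_noetherian.mpr inferInstance S
    (let ⟨q, h1, h2⟩ := hne; ⟨q.asIdeal, q, h1, rfl, h2⟩)
  refine ⟨q, hqV, hq, ?_⟩
  -- a function vanishing off `V` and over the closed point, not at `q`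
  obtain ⟨J₀, hJ₀⟩ := (PrimeSpectrum.isClosed_iff_zeroLocus_ideal Vᶜ).mp hV.isClosed_compl
  let J₁ : Ideal B := (maximalIdeal A).map (algebraMap A B)
  have hqJ₀ : ¬ J₀ ≤ q.asIdeal := fun hle =>
    (show q ∉ Vᶜ from fun h => h hqV) (by rw [hJ₀]; exact hle)
  have hqJ₁ : ¬ J₁ ≤ q.asIdeal := fun hle => hq (le_antisymm
    (le_maximalIdeal (Ideal.comap_ne_top _ q.isPrime.ne_top)) (Ideal.map_le_iff_le_comap.mp hle))
  obtain ⟨a, ha, haq⟩ := SetLike.not_le_iff_exists.mp hqJ₀
  obtain ⟨b, hb, hbq⟩ := SetLike.not_le_iff_exists.mp hqJ₁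
  let h : B ⧸ q.asIdeal := Ideal.Quotient.mk _ (a * b)
  have h0 : h ≠ 0 := fun e => by
    rcases q.isPrime.mem_or_mem (Ideal.Quotient.eq_zero_iff_mem.mp e) with e | e
    exacts [haq e, hbq e]
  have hh : ∀ P : Ideal (B ⧸ q.asIdeal), P.IsPrime → P ≠ ⊥ → h ∈ P := by
    intro P hP hP0
    have hlt : q.asIdeal < P.comap (Ideal.Quotient.mk q.asIdeal) := by
      refine lt_of_le_of_ne (fun x hx => ?_) fun e => hP0 ?_
      · show Ideal.Quotient.mk _ x ∈ P
        rw [Ideal.Quotient.eq_zero_iff_mem.mpr hx]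
        exact P.zero_mem
      · rw [← Ideal.map_comap_of_surjective _ Ideal.Quotient.mk_surjective P, ← e,
          Ideal.map_quotient_self]
    have hPp : (P.comap (Ideal.Quotient.mk q.asIdeal)).IsPrime := Ideal.comap_isPrime _ _
    by_cases hV' : (⟨_, hPp⟩ : PrimeSpectrum B) ∈ V
    · have hb' : b ∈ P.comap (Ideal.Quotient.mk q.asIdeal) := by
        have : (P.comap (Ideal.Quotient.mk q.asIdeal)).comap (algebraMap A B) = maximalIdeal A := by
          by_contra hne'
          exact hmax _ ⟨⟨_, hPp⟩, hV', rfl, hne'⟩ hlt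
        exact Ideal.map_le_iff_le_comap.mpr this.ge hb
      exact Ideal.mul_mem_left (P.comap (Ideal.Quotient.mk q.asIdeal)) a hb'
    · have : (⟨_, hPp⟩ : PrimeSpectrum B) ∈ PrimeSpectrum.zeroLocus (J₀ : Set B) := hJ₀ ▸ hV'
      exact Ideal.mul_mem_right b (P.comap (Ideal.Quotient.mk q.asIdeal)) (this ha)
  have : IsLocalRing (B ⧸ q.asIdeal) :=
    IsLocalRing.of_surjective' (Ideal.Quotient.mk q.asIdeal) Ideal.Quotient.mk_surjective
  have : IsLocalHom (algebraMap A (B ⧸ q.asIdeal)) := by
    refine ⟨fun x hx => ?_⟩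
    have : Function.Surjective (Ideal.Quotient.mk q.asIdeal) := Ideal.Quotient.mk_surjective
    have := IsLocalHom.of_surjective (Ideal.Quotient.mk q.asIdeal) this
    exact isUnit_of_map_unit (algebraMap A B) x
      (isUnit_of_map_unit (Ideal.Quotient.mk q.asIdeal) _ hx)
  have hlh : IsLocalHom (Ideal.Quotient.mk q.asIdeal) :=
    IsLocalHom.of_surjective _ Ideal.Quotient.mk_surjective
  have : Module.Finite (ResidueField A) (ResidueField (B ⧸ q.asIdeal)) := by
    let m := IsLocalRing.ResidueField.map (Ideal.Quotient.mk q.asIdeal)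
    let l : ResidueField B →ₗ[ResidueField A] ResidueField (B ⧸ q.asIdeal) :=
      { toFun := m
        map_add' := map_add m
        map_smul' := fun c x => by
          obtain ⟨a, rfl⟩ := IsLocalRing.residue_surjective c
          rw [Algebra.smul_def, map_mul, RingHom.id_apply, Algebra.smul_def]
          rfl }
    refine Module.Finite.of_surjective l fun z => ?_
    obtain ⟨y, rfl⟩ := IsLocalRing.residue_surjective z
    obtain ⟨x, rfl⟩ := Ideal.Quotient.mk_surjective y
    exact ⟨IsLocalRing.residue B x, rfl⟩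
  refine quasiFinite_of_forall_eq fun P hP hPm => ?_
  refine eq_maximalIdeal_of_forall_mem h0 hh P fun e => hq ?_
  rw [← hPm, e, IsScalarTower.algebraMap_eq A B (B ⧸ q.asIdeal), ← Ideal.comap_comap]
  congr 1
  exact (Ideal.mk_ker (I := q.asIdeal)).symm

end Groth.Agent.Wt.CurvePoint
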