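import Groth.Agent.PicThick.Root
import Mathlib.Dynamics.Newton
import Mathlib.AlgebraicGeometry.Morphisms.QuasiCompact

/-!
# Roots of invertible modules along thickenings

For a surjective closed immersion `i : X' ⟶ X` and `n` invertible on `X`, an `n`-th root of `i^* L`
lifts to an `n`-th root of `L`, compatibly with `i^*` (`exists_root`).
-/

set_option autoImplicit false
set_option linter.style.haveILetI false
set_option backward.isDefEq.respectTransparency false
set_option backward.isDefEq.respectTransparency.types false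

universe u

open CategoryTheory CategoryTheory.Limits AlgebraicGeometry Opposite TopologicalSpace

noncomputable section

namespace Groth.Agent.Wt.TorsionLift

open Groth.Agent.QCoh Groth.Agent.Props.GenLocus Groth.Agent.Props.GenTensor
open Groth.Agent.PicThick (app_rres isUnit_of_app isUnit_cast Rel)

variable {X X' : Scheme.{u}} (i : X' ⟶ X)

/-- Sections killed by a surjective morphism are nilpotent on affine opens. -/
theorem isNilpotent_of_app [Surjective i] {U : X.Opens} (hU : IsAffineOpen U) {a : Γ(X, U)}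
    (ha : i.app U a = 0) : IsNilpotent a := by
  refine (Scheme.isNilpotent_iff_basicOpen_eq_bot_of_isCompact hU.isCompact a).mpr ?_
  refine bot_unique fun x hx => ?_
  obtain ⟨y, rfl⟩ := i.surjective x
  have hy : y ∈ i ⁻¹ᵁ X.basicOpen a := hx
  rw [Scheme.preimage_basicOpen, ha, Scheme.basicOpen_zero] at hy
  exact hy

variable {m : ℕ} (hn : IsUnit ((m + 1 : ℕ) : Γ(X, ⊤)))

open Polynomial in
/-- Hensel's lemma for roots. -/
theorem existsUnique_root {A : Type*} [CommRing A] {n : ℕ} (hn : IsUnit ((n + 1 : ℕ) : A))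
    {g₀ l : A} (hu : IsUnit g₀) (h : IsNilpotent (g₀ ^ (n + 1) - l)) :
    ∃! g : A, IsNilpotent (g₀ - g) ∧ g ^ (n + 1) = l := by
  have h' : IsUnit (aeval g₀ (derivative (Polynomial.X ^ (n + 1) - C l : A[X]))) := by
    simpa using hn.mul (hu.pow n)
  have key := existsUnique_nilpotent_sub_and_aeval_eq_zero
    (P := (Polynomial.X ^ (n + 1) - C l : A[X])) (x := g₀) (by simpa using h) h'
  simpa [sub_eq_zero] using key

include hn in
theorem pow_inj [Surjective i] {U : X.Opens} {a b : Γ(X, U)} (ha : IsUnit a)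
    (h1 : i.app U a = i.app U b) (h2 : a ^ (m + 1) = b ^ (m + 1)) : a = b := by
  refine TopCat.Presheaf.section_ext X.sheaf U a b fun x hx => ?_
  obtain ⟨_, ⟨V, hV, rfl⟩, hxV, hVU⟩ := X.isBasis_affineOpens.exists_subset_of_mem_open hx U.2
  replace hVU : V ≤ U := hVU
  suffices rres hVU a = rres hVU b by
    change X.presheaf.germ U x hx a = X.presheaf.germ U x hx b
    rw [← X.presheaf.germ_res_apply (homOfLE hVU) x hxV a,
      ← X.presheaf.germ_res_apply (homOfLE hVU) x hxV b]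
    exact congrArg _ this
  have hd : IsNilpotent (rres hVU a - rres hVU b) :=
    isNilpotent_of_app i hV (by simp only [map_sub, app_rres, h1, sub_self])
  exact (existsUnique_root (isUnit_cast hn V) (ha.map (rres hVU).hom) (l := rres hVU a ^ (m + 1))
    (by simp)).unique ⟨by simp, rfl⟩ ⟨hd, by rw [← map_pow, ← map_pow, h2]⟩

include hn in
theorem exists_pow_lift [IsClosedImmersion i] [Surjective i] {U : X.Opens} (hU : IsAffineOpen U)
    {g' : Γ(X', i ⁻¹ᵁ U)} {l : Γ(X, U)} (hg' : IsUnit g') (h : g' ^ (m + 1) = i.app U l) :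
    ∃ g : Γ(X, U), IsUnit g ∧ i.app U g = g' ∧ g ^ (m + 1) = l := by
  obtain ⟨g₀, hg₀⟩ := i.app_surjective _ hU g'
  have hu₀ : IsUnit g₀ := isUnit_of_app i (hg₀ ▸ hg')
  obtain ⟨g, ⟨hg, hgl⟩, -⟩ := existsUnique_root (isUnit_cast hn U) hu₀ (l := l)
    (isNilpotent_of_app i hU (by simp only [map_sub, map_pow, hg₀, h, sub_self]))
  have hgu : IsUnit g := by
    have := hg.neg.isUnit_add_left_of_commute hu₀ (Commute.all _ _)
    simpa [sub_eq_add_neg, ← add_assoc] using this
  refine ⟨g, hgu, ?_, hgl⟩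
  have hpow : (i.app U g) ^ (m + 1) = g' ^ (m + 1) := by rw [← map_pow, hgl, h]
  have hn' : IsUnit ((m + 1 : ℕ) : Γ(X', i ⁻¹ᵁ U)) := by
    have := (isUnit_cast hn U).map (i.app U).hom
    rwa [map_natCast] at this
  have hnil : IsNilpotent (g' - i.app U g) := by
    rw [← hg₀, ← map_sub]; exact hg.map _
  exact (existsUnique_root hn' hg' (l := g' ^ (m + 1)) (by simp)).unique ⟨hnil, hpow⟩
    ⟨by simp, rfl⟩

variable (L : X.Modules) (L' : X'.Modules)

include hn in
theorem exists_root [IsClosedImmersion i] [Surjective i] (hL : PicF.IsInvertible L)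
    (hL' : PicF.IsInvertible L')
    (φ : CohB1.tensorPow L' (m + 1) ≅ (Scheme.Modules.pullback i).obj L) :
    ∃ M : X.Modules, PicF.IsInvertible M ∧ Nonempty (CohB1.tensorPow M (m + 1) ≅ L) ∧
      Nonempty ((Scheme.Modules.pullback i).obj M ≅ L') := by
  have hloc : ∀ x : X, ∃ (U : X.Opens) (e : Γ(L, U)) (e' : Γ(L', i ⁻¹ᵁ U)), x ∈ U ∧
      IsGen L U e ∧ IsGen L' (i ⁻¹ᵁ U) e' ∧
      φ.hom.app (i ⁻¹ᵁ U) (pw L' e' (m + 1)) = LFFrame.unitSec i L U e := by
    intro x
    obtain ⟨U₁, e₁, hx₁, he₁⟩ := exists_isGen hL x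
    obtain ⟨x', rfl⟩ := i.surjective x
    obtain ⟨W', e', hx', he'⟩ := exists_isGen hL' x'
    obtain ⟨W, hW, hWW'⟩ := i.isEmbedding.isInducing.isOpen_iff.mp W'.2
    have hxW : i x' ∈ W := by
      change x' ∈ ⇑i ⁻¹' W
      rw [hWW']
      exact hx'
    obtain ⟨_, ⟨U, hU, rfl⟩, hxU, hUsub⟩ := X.isBasis_affineOpens.exists_subset_of_mem_open
      (show i x' ∈ (U₁ : Set X) ∩ W from ⟨hx₁, hxW⟩) (U₁.2.inter hW)
    have hU₁ : U ≤ U₁ := fun y hy => (hUsub hy).1
    have hUW' : i ⁻¹ᵁ U ≤ W' := fun y hy => by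
      have : y ∈ ⇑i ⁻¹' W := (hUsub hy).2
      rwa [hWW'] at this
    have he := he₁.restrict hU₁
    have he'' := he'.restrict hUW'
    have hη : IsGen ((Scheme.Modules.pullback i).obj L) (i ⁻¹ᵁ U)
        (LFFrame.unitSec i L U (res L hU₁ e₁)) :=
      (isGen_iff_isFrame _).2 (((isGen_iff_isFrame _).1 he).pullback i)
    obtain ⟨c, hc, -⟩ := hη.exists_eq le_rfl (φ.hom.app (i ⁻¹ᵁ U) (pw L' (res L' hUW' e') (m + 1)))
    rw [res_self] at hc
    obtain ⟨d, hd, -⟩ := (isGen_pw he'' (m + 1)).exists_eq le_rfl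
      (φ.inv.app (i ⁻¹ᵁ U) (LFFrame.unitSec i L U (res L hU₁ e₁)))
    rw [res_self] at hd
    have hcu : IsUnit c := by
      have h1 := congrArg (φ.hom.app (i ⁻¹ᵁ U)) hd
      rw [Scheme.Modules.Hom.app_smul, hc, ← ConcreteCategory.comp_apply, ← Scheme.Modules.Hom.comp_app,
        Iso.inv_hom_id, smul_smul] at h1
      refine IsUnit.of_mul_eq_one_right d (hη.injective le_rfl ?_)
      rw [res_self, ← h1, one_smul]
      rfl
    obtain ⟨c₀, hc₀⟩ := i.app_surjective _ hU c
    refine ⟨U, c₀ • res L hU₁ e₁, res L' hUW' e', hxU, he.smul_unit (isUnit_of_app i (hc₀ ▸ hcu)),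
      he'', ?_⟩
    rw [hc, LFFrame.unitSec_smul, hc₀]
  choose U e e' hxU he he' hφ using hloc
  have huniq : ∀ (x y : X) (V : X.Opens) (h₁ : V ≤ U x) (h₂ : V ≤ U y) (g g₁ : Γ(X, V)),
      Rel i (m := m) L L' (e x) (e y) (e' x) (e' y) V h₁ h₂ g →
      Rel i (m := m) L L' (e x) (e y) (e' x) (e' y) V h₁ h₂ g₁ → g = g₁ :=
    fun x y V h₁ h₂ g g₁ h h' => pow_inj i hn h.1
      ((he' x).injective (i.preimage_mono h₁) (h.2.2.symm.trans h'.2.2))
      ((he x).injective h₁ (h.2.1.symm.trans h'.2.1))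
  have hex : ∀ (x y : X) (V : X.Opens) (hV : IsAffineOpen V) (h₁ : V ≤ U x) (h₂ : V ≤ U y),
      ∃ g, Rel i (m := m) L L' (e x) (e y) (e' x) (e' y) V h₁ h₂ g := by
    intro x y V hV h₁ h₂
    obtain ⟨l, hl, -⟩ := (he x).exists_eq h₁ (res L h₂ (e y))
    obtain ⟨g', hg', -⟩ := (he' x).exists_eq (i.preimage_mono h₁) (res L' (i.preimage_mono h₂) (e' y))
    obtain ⟨g'', hg'', -⟩ := (he' y).exists_eq (i.preimage_mono h₂) (res L' (i.preimage_mono h₁) (e' x))
    have hu' : IsUnit g' := by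
      refine IsUnit.of_mul_eq_one_right g'' ((he' x).injective (i.preimage_mono h₁) ?_)
      rw [one_smul, mul_smul, ← hg', ← hg'']
    have hrel : g' ^ (m + 1) = i.app V l := by
      have hη : IsGen ((Scheme.Modules.pullback i).obj L) (i ⁻¹ᵁ U x)
          (LFFrame.unitSec i L (U x) (e x)) :=
        (isGen_iff_isFrame _).2 (((isGen_iff_isFrame _).1 (he x)).pullback i)
      refine hη.injective (i.preimage_mono h₁) ?_
      have hy : res _ (i.preimage_mono h₂) (φ.hom.app _ (pw L' (e' y) (m + 1))) =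
          res _ (i.preimage_mono h₂) (LFFrame.unitSec i L (U y) (e y)) := congrArg _ (hφ y)
      rw [← app_res, res_pw, hg', pw_smul, ← res_pw, Scheme.Modules.Hom.app_smul, app_res, hφ x] at hy
      refine hy.trans ?_
      have h1 : res ((Scheme.Modules.pullback i).obj L) (i.preimage_mono h₂)
          (LFFrame.unitSec i L (U y) (e y)) = LFFrame.unitSec i L V (res L h₂ (e y)) :=
        (LFFrame.unitSec_res i L h₂ (e y)).symm
      rw [h1, hl, LFFrame.unitSec_smul]
      exact congrArg _ (LFFrame.unitSec_res i L h₁ (e x))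
    obtain ⟨g, hgu, hgi, hgp⟩ := exists_pow_lift i hn hV hu' hrel
    exact ⟨g, hgu, by rw [hgp, ← hl], by rw [hgi, ← hg']⟩
  have hexW : ∀ x y : X,
      ∃ g, Rel i (m := m) L L' (e x) (e y) (e' x) (e' y) (U x ⊓ U y) inf_le_left inf_le_right g := by
    intro x y
    have hcov : ∀ z : (U x ⊓ U y : X.Opens), ∃ V : X.Opens,
        IsAffineOpen V ∧ z.1 ∈ V ∧ V ≤ U x ⊓ U y := fun z => by
      obtain ⟨_, ⟨V, hV, rfl⟩, hzV, hVle⟩ :=
        X.isBasis_affineOpens.exists_subset_of_mem_open z.2 (U x ⊓ U y).2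
      exact ⟨V, hV, hzV, hVle⟩
    choose V hV hzV hVle using hcov
    choose g hg using fun z => hex x y (V z) (hV z) ((hVle z).trans inf_le_left)
      ((hVle z).trans inf_le_right)
    have hcomp : TopCat.Presheaf.IsCompatible X.sheaf.1 V g := fun a b =>
      huniq x y _ _ _ _ _ ((hg a).res' i L L' inf_le_left) ((hg b).res' i L L' inf_le_right)
    obtain ⟨G, hG, -⟩ := X.sheaf.existsUnique_gluing' V (U x ⊓ U y) (fun z => homOfLE (hVle z))
      (fun z hz => Opens.mem_iSup.2 ⟨⟨z, hz⟩, hzV ⟨z, hz⟩⟩) g hcomp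
    refine ⟨G, X.toRingedSpace.isUnit_of_isUnit_germ _ G fun z hz => ?_, ?_, ?_⟩
    · have h1 := ((hg ⟨z, hz⟩).1.map (X.presheaf.germ (V ⟨z, hz⟩) z (hzV _)).hom)
      rw [← hG ⟨z, hz⟩] at h1
      exact (X.presheaf.germ_res_apply (homOfLE (hVle ⟨z, hz⟩)) z (hzV ⟨z, hz⟩) G) ▸ h1
    · refine eq_of_locally_eq L hVle (fun z hz => Opens.mem_iSup.2 ⟨⟨z, hz⟩, hzV ⟨z, hz⟩⟩) _ _ fun z => ?_
      rw [res_res, (hg z).2.1, res_smul, res_res, map_pow]
      exact congrArg (fun t => t ^ (m + 1) • _) (hG z).symm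
    · refine eq_of_locally_eq L' (fun z => i.preimage_mono (hVle z))
        (fun z hz => Opens.mem_iSup.2 ⟨⟨i z, hz⟩, hzV ⟨i z, hz⟩⟩) _ _ fun z => ?_
      rw [res_res, (hg z).2.2, res_smul, res_res, ← app_rres i (hVle z)]
      exact congrArg (fun t => i.app _ t • _) (hG z).symm
  choose a ha using hexW
  let C : LineCoc.Cocycle X :=
    { ι := X
      W := U
      a := a
      cover := fun x _ => Opens.mem_iSup.2 ⟨x, hxU x⟩
      self := fun x => huniq x x _ _ _ _ _ (ha x x) ⟨isUnit_one, by simp, by simp⟩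
      coc := fun x y z V h₁ h₂ h₃ => by
        have p := (ha x y).res' i L L' h₁
        have q := (ha y z).res' i L L' h₂
        refine huniq x z V (h₃.trans inf_le_left) (h₃.trans inf_le_right) _ _ ⟨p.1.mul q.1, ?_, ?_⟩
          ((ha x z).res' i L L' h₃)
        · rw [q.2.1, p.2.1, smul_smul, mul_pow, mul_comm]
        · rw [q.2.2, p.2.2, smul_smul, map_mul, mul_comm] }
  refine ⟨LineCoc.mod C, LineCoc.isInvertible C, ?_, ?_⟩
  rotate_left
  · have hgen : ∀ x, IsGen ((Scheme.Modules.pullback i).obj (LineCoc.mod C)) (i ⁻¹ᵁ U x)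
        (LFFrame.unitSec i (LineCoc.mod C) (U x) (LineCoc.gen C x)) := fun x =>
      (isGen_iff_isFrame _).2 (((isGen_iff_isFrame _).1 (LineCoc.isGen_gen C x)).pullback i)
    obtain ⟨ψ, -⟩ := AmpleLib.exists_iso_of_gen
      (M := (Scheme.Modules.pullback i).obj (LineCoc.mod C)) (N := L')
      (fun x => i ⁻¹ᵁ U x) (fun y _ => Opens.mem_iSup.2 ⟨i y, hxU (i y)⟩) _ hgen e' he'
      (fun x y V hx hy u hu => by
        have h1 := congrArg (LFFrame.unitSec i (LineCoc.mod C) (U x ⊓ U y)) (LineCoc.res_gen_eq C x y)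
        rw [LFFrame.unitSec_smul] at h1
        have h2 := congrArg (res _ (le_inf hx hy : V ≤ i ⁻¹ᵁ (U x ⊓ U y))) h1
        rw [res_smul] at h2
        have e₁ : res _ (le_inf hx hy : V ≤ i ⁻¹ᵁ (U x ⊓ U y)) (LFFrame.unitSec i (LineCoc.mod C)
            (U x ⊓ U y) (res (LineCoc.mod C) inf_le_right (LineCoc.gen C y))) =
            res _ hy (LFFrame.unitSec i (LineCoc.mod C) (U y) (LineCoc.gen C y)) :=
          (congrArg (res _ (le_inf hx hy : V ≤ i ⁻¹ᵁ (U x ⊓ U y))) (LFFrame.unitSec_res i _ inf_le_right _)).trans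
            (res_res _ _ _ _)
        have e₂ : res _ (le_inf hx hy : V ≤ i ⁻¹ᵁ (U x ⊓ U y)) (LFFrame.unitSec i (LineCoc.mod C)
            (U x ⊓ U y) (res (LineCoc.mod C) inf_le_left (LineCoc.gen C x))) =
            res _ hx (LFFrame.unitSec i (LineCoc.mod C) (U x) (LineCoc.gen C x)) :=
          (congrArg (res _ (le_inf hx hy : V ≤ i ⁻¹ᵁ (U x ⊓ U y))) (LFFrame.unitSec_res i _ inf_le_left _)).trans
            (res_res _ _ _ _)
        have h3 := congrArg (res L' (le_inf hx hy : V ≤ i ⁻¹ᵁ (U x ⊓ U y))) (ha x y).2.2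
        rw [(hgen x).injective hx (hu.symm.trans (e₁.symm.trans (h2.trans (congrArg _ e₂))))]
        exact (res_res _ _ _ _).symm.trans (h3.trans ((res_smul _ _ _ _).trans
          (congrArg (_ • ·) (res_res _ _ _ _)))))
    exact ⟨ψ⟩
  obtain ⟨ψ, -⟩ := AmpleLib.exists_iso_of_gen (M := CohB1.tensorPow (LineCoc.mod C) (m + 1)) (N := L)
    U (fun x _ => Opens.mem_iSup.2 ⟨x, hxU x⟩) (fun x => pw _ (LineCoc.gen C x) (m + 1))
    (fun x => isGen_pw (LineCoc.isGen_gen C x) _) e he (fun x y V hx hy u hu => by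
      have p := (ha x y).res' i L L' (le_inf hx hy)
      have h1 : res (LineCoc.mod C) hy (LineCoc.gen C y) =
          rres (le_inf hx hy) (a x y) • res (LineCoc.mod C) hx (LineCoc.gen C x) := by
        rw [← res_res (LineCoc.mod C) inf_le_right (le_inf hx hy), LineCoc.res_gen_eq, res_smul,
          res_res]
      have h2 : res _ hy (pw _ (LineCoc.gen C y) (m + 1)) = rres (le_inf hx hy) (a x y) ^ (m + 1) •
          res _ hx (pw _ (LineCoc.gen C x) (m + 1)) := by
        rw [res_pw, h1, pw_smul, res_pw]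
      rw [(isGen_pw (LineCoc.isGen_gen C x) (m + 1)).injective hx (hu.symm.trans h2)]
      exact p.2.1)
  exact ⟨ψ⟩

end Groth.Agent.Wt.TorsionLift
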