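import Groth.Agent.Wt.CurvePoint
import Groth.Agent.RedSub.Basic
import Groth.Agent.S9332
import Mathlib.AlgebraicGeometry.Morphisms.QuasiFinite

/-!
# Quasi-finite closed curves through a closed point of a fibre
-/

set_option autoImplicit false
set_option linter.style.haveILetI false

universe u

open CategoryTheory AlgebraicGeometry TopologicalSpace IsLocalRing Topology

noncomputable section

namespace Groth.Agent.Wt.CurveScheme

variable {X S : Scheme.{u}}

/-- A reduced closed subscheme inside the closure of a generalisation `q` of a point is quasi-finite at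
the point if the quotient of the stalk by `q` is. -/
theorem quasiFiniteAt_of_quotient (f : X ⟶ S) {Z : Scheme.{u}} (ι : Z ⟶ X) [IsClosedImmersion ι]
    [IsReduced Z] (x : X) (q : PrimeSpectrum (X.presheaf.stalk x))
    (hq : Set.range ι ⊆ closure {(X.fromSpecStalk x) q})
    (hqf : letI := (f.stalkMap x).hom.toAlgebra
      Algebra.QuasiFinite (S.presheaf.stalk (f x)) (X.presheaf.stalk x ⧸ q.asIdeal))
    (x₀ : Z) (hx₀ : ι x₀ = x) : (ι ≫ f).QuasiFiniteAt x₀ := by
  subst hx₀
  let φ := (ι.stalkMap x₀).hom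
  have hle : q.asIdeal ≤ RingHom.ker φ := by
    intro a ha
    rw [RingHom.mem_ker]
    refine IsNilpotent.eq_zero ?_
    rw [← mem_nilradical, nilradical_eq_sInf]
    refine Submodule.mem_sInf.mpr fun P hP => ?_
    let w : Spec (Z.presheaf.stalk x₀) := ⟨P, hP⟩
    have h1 : (X.fromSpecStalk (ι x₀)) q ⤳ (X.fromSpecStalk (ι x₀)) (Spec.map (ι.stalkMap x₀) w) := by
      rw [specializes_iff_mem_closure, ← Scheme.Hom.comp_apply,
        Scheme.SpecMap_stalkMap_fromSpecStalk, Scheme.Hom.comp_apply]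
      exact hq ⟨_, rfl⟩
    have h2 := (X.fromSpecStalk (ι x₀)).isEmbedding.isInducing.specializes_iff.mp h1
    have h3 : q.asIdeal ≤ Ideal.comap φ P := (PrimeSpectrum.le_iff_specializes _ _).mpr h2
    exact h3 ha
  show ((ι ≫ f).stalkMap x₀).hom.QuasiFinite
  suffices h : (φ.comp (f.stalkMap (ι x₀)).hom).QuasiFinite from
    (congrArg (fun g : S.presheaf.stalk (f (ι x₀)) ⟶ Z.presheaf.stalk x₀ =>
      (CommRingCat.Hom.hom g).QuasiFinite) (Scheme.Hom.stalkMap_comp ι f x₀)).mpr h
  letI := (f.stalkMap (ι x₀)).hom.toAlgebra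
  letI : Algebra (S.presheaf.stalk (f (ι x₀))) (Z.presheaf.stalk x₀) :=
    (φ.comp (f.stalkMap (ι x₀)).hom).toAlgebra
  let ψ : (X.presheaf.stalk (ι x₀) ⧸ q.asIdeal) →ₐ[S.presheaf.stalk (f (ι x₀))]
      Z.presheaf.stalk x₀ :=
    Ideal.Quotient.liftₐ q.asIdeal { φ with commutes' := fun _ => rfl } fun a ha => hle ha
  have hsurj : Function.Surjective ψ := fun z => by
    obtain ⟨a, rfl⟩ := ι.stalkMap_surjective x₀ z
    exact ⟨Ideal.Quotient.mk _ a, rfl⟩
  exact Algebra.QuasiFinite.of_surjective_algHom ψ hsurj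

/-- Curves through a closed point of a fibre. -/
theorem exists_curve (f : X ⟶ S) [LocallyOfFiniteType f] [IsLocallyNoetherian S] (x : X)
    (hcl : IsClosed (Subtype.val ⁻¹' {x} : Set ↑(f ⁻¹' {f x}))) (U : X.Opens)
    (hx' : ∃ x' : X, x' ∈ U ∧ x' ⤳ x ∧ f x' ≠ f x) :
    ∃ (I : X.IdealSheafData) (z₀ x₀ : ↑I.subscheme), I.subschemeι x₀ = x ∧
      (I.subschemeι ≫ f).QuasiFiniteAt x₀ ∧ I.subschemeι z₀ ∈ U ∧ I.subschemeι z₀ ⤳ x ∧
      f (I.subschemeι z₀) ≠ f x := by
  letI := (f.stalkMap x).hom.toAlgebra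
  have : IsNoetherianRing (S.presheaf.stalk (f x)) := inferInstance
  have : Algebra.EssFiniteType (S.presheaf.stalk (f x)) (X.presheaf.stalk x) :=
    LocallyOfFiniteType.stalkMap f x
  have : IsLocalHom (algebraMap (S.presheaf.stalk (f x)) (X.presheaf.stalk x)) :=
    inferInstanceAs (IsLocalHom (f.stalkMap x).hom)
  have : Module.Finite (ResidueField (S.presheaf.stalk (f x))) (ResidueField (X.presheaf.stalk x)) := by
    have h1 : IsClosed ({f.asFiber x} : Set ↑(f.fiber (f x))) := by
      convert hcl.preimage (f.fiberHomeo (f x)).continuous using 1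
      ext y
      simp only [Set.mem_singleton_iff, Set.mem_preimage, Scheme.Hom.fiberHomeo_apply]
      constructor
      · rintro rfl
        exact f.fiberι_asFiber x
      · intro hy
        exact (f.fiberι (f x)).isEmbedding.injective (hy.trans (f.fiberι_asFiber x).symm)
    refine RingHom.finite_algebraMap.mp ?_
    have h2 : algebraMap (ResidueField (S.presheaf.stalk (f x))) (ResidueField (X.presheaf.stalk x)) =
        IsLocalRing.ResidueField.map (f.stalkMap x).hom := by
      refine RingHom.ext fun c => ?_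
      obtain ⟨a, rfl⟩ := IsLocalRing.residue_surjective c
      rfl
    rw [h2]
    exact (Groth.Agent.S9332.result f x).mp h1
  have key : ∀ q : PrimeSpectrum (X.presheaf.stalk x),
      f ((X.fromSpecStalk x) q) = f x ↔
        q.asIdeal.comap (f.stalkMap x).hom = maximalIdeal (S.presheaf.stalk (f x)) := by
    suffices ∀ q : ↥(Spec (X.presheaf.stalk x)), f ((X.fromSpecStalk x) q) = f x ↔
        Spec.map (f.stalkMap x) q = closedPoint (S.presheaf.stalk (f x)) from
      fun q => (this q).trans PrimeSpectrum.ext_iff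
    intro q
    have h1 : f ((X.fromSpecStalk x) q) = (S.fromSpecStalk (f x)) (Spec.map (f.stalkMap x) q) := by
      rw [← Scheme.Hom.comp_apply, ← Scheme.SpecMap_stalkMap_fromSpecStalk, Scheme.Hom.comp_apply]
    rw [h1]
    exact ⟨fun h => (S.fromSpecStalk (f x)).isEmbedding.injective
        (h.trans Scheme.fromSpecStalk_closedPoint.symm),
      fun h => by rw [h]; exact Scheme.fromSpecStalk_closedPoint⟩
  obtain ⟨x', hx'U, hsp, hne⟩ := hx'
  obtain ⟨q', rfl⟩ : x' ∈ Set.range (X.fromSpecStalk x) := by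
    rw [Scheme.range_fromSpecStalk]; exact hsp
  obtain ⟨q, hqU, hqm, hqf⟩ := CurvePoint.exists_prime
    (A := S.presheaf.stalk (f x)) (B := X.presheaf.stalk x)
    ((X.fromSpecStalk x) ⁻¹' (U : Set X)) (U.2.preimage (X.fromSpecStalk x).continuous)
    ⟨q', hx'U, fun h => hne ((key q').mpr h)⟩
  let z := (X.fromSpecStalk x) q
  have hz : z ⤳ x := (Scheme.range_fromSpecStalk (X := X) (x := x)).le ⟨q, rfl⟩
  let C : Closeds X := ⟨closure {z}, isClosed_closure⟩
  let I := Scheme.IdealSheafData.vanishingIdeal C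
  have hr : Set.range I.subschemeι = closure {z} := RedSub.range_vanishingIdeal_subschemeι C
  obtain ⟨z₀, hz₀⟩ : z ∈ Set.range I.subschemeι := hr ▸ subset_closure rfl
  obtain ⟨x₀, hx₀⟩ : x ∈ Set.range I.subschemeι := hr ▸ specializes_iff_mem_closure.mp hz
  have : IsReduced I.subscheme := RedSub.isReduced_vanishingIdeal C
  exact ⟨I, z₀, x₀, hx₀, quasiFiniteAt_of_quotient f I.subschemeι x q hr.le hqf x₀ hx₀,
    hz₀ ▸ hqU, hz₀ ▸ hz, fun h => hqm ((key q).mp ((congrArg f hz₀).symm.trans h))⟩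

end Groth.Agent.Wt.CurveScheme
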