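import Groth.Agent.Wt.Decomp

/-!
# Composition of weightings
-/

universe u

open AlgebraicGeometry CategoryTheory Limits
open scoped Topology

namespace Groth.Agent.Wt.Comp

open GeomPts EtNbhd Split Parts Master Apply Decomp

variable {X Y Z P Q T : Scheme.{u}}

theorem geomSum_comp (φ : P ⟶ Q) (q : Q ⟶ T) (A : Set P) (B : Set Q) (hAB : ∀ x ∈ A, φ x ∈ B)
    (v : P → ℤ) (w : Q → ℤ) {K : Type u} [Field K] (y : Spec (CommRingCat.of K) ⟶ T)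
    (hB : {d : GeomFib q y | pt d.1 ∈ B}.Finite)
    (hA : {x : GeomFib (φ ≫ q) y | pt x.1 ∈ A}.Finite) :
    geomSum (φ ≫ q) A (fun p => v p * w (φ p)) y =
      ∑ᶠ d ∈ {d : GeomFib q y | pt d.1 ∈ B}, w (pt d.1) * geomSum φ A v d.1 := by
  unfold geomSum
  have hset : {x : GeomFib (φ ≫ q) y | pt x.1 ∈ A} = ⋃ d ∈ {d : GeomFib q y | pt d.1 ∈ B},
      {x : GeomFib (φ ≫ q) y | x.1 ≫ φ = d.1 ∧ pt x.1 ∈ A} := by
    ext x
    simp only [Set.mem_iUnion, Set.mem_ofPred_eq, exists_prop]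
    exact ⟨fun h => ⟨⟨x.1 ≫ φ, by rw [Category.assoc]; exact x.2⟩, hAB _ h, rfl, h⟩,
      fun ⟨_, _, _, h⟩ => h⟩
  rw [hset]
  refine (finsum_mem_biUnion ?_ hB fun d _ => hA.subset fun x hx => hx.2).trans
    (finsum_mem_congr rfl fun d _ => ?_)
  · intro d _ d' _ hne
    rw [Function.onFun, Set.disjoint_left]
    exact fun x hx hx' => hne (Subtype.ext (hx.1.symm.trans hx'.1))
  have hfin : {x : GeomFib φ d.1 | pt x.1 ∈ A}.Finite := by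
    refine Set.Finite.of_finite_image (f := fun x : GeomFib φ d.1 => (⟨x.1, by
      rw [← Category.assoc, x.2, d.2]⟩ : GeomFib (φ ≫ q) y)) (hA.subset ?_) ?_
    · rintro _ ⟨x, hx, rfl⟩
      exact hx
    · exact fun a _ b _ e => Subtype.ext (congrArg (fun z : GeomFib (φ ≫ q) y => z.1) e :)
  refine Eq.trans ?_ (mul_finsum_mem _ _).symm
  symm
  refine finsum_mem_eq_of_bijOn (fun x : GeomFib φ d.1 => (⟨x.1, by
      rw [← Category.assoc, x.2, d.2]⟩ : GeomFib (φ ≫ q) y)) ⟨fun x hx => ⟨x.2, hx⟩,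
      fun a _ b _ e => Subtype.ext (congrArg (fun z : GeomFib (φ ≫ q) y => z.1) e :),
      fun x hx => ⟨⟨x.1, hx.1⟩, hx.2, rfl⟩⟩ fun x hx => ?_
  show w (pt d.1) * v (pt x.1) = v (pt x.1) * w (φ (pt x.1))
  rw [← pt_comp, x.2, mul_comm]

variable {f : X ⟶ Y} [LocallyOfFiniteType f] [LocallyQuasiFinite f] {g : Y ⟶ Z}
  [LocallyOfFiniteType g] [LocallyQuasiFinite g] {wf : X → ℤ} {wg : Y → ℤ}

/-- A finite open of the composite lying over a finite open of the middle scheme. -/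
theorem comp_part_of_le (hf : MoreMor.IsWeighting f wf) (hg : MoreMor.IsWeighting g wg)
    {a : P ⟶ X} {φ : P ⟶ Q} {b : Q ⟶ Y} (hsq : IsPullback a φ f b) {q : Q ⟶ T} {c : T ⟶ Z}
    (hsq' : IsPullback b q g c) (P₀ : P.Opens) (W : Q.Opens) (hle : P₀ ≤ φ ⁻¹ᵁ W)
    (hP₀ : IsFinite (P₀.ι ≫ φ ≫ q)) (hW : IsFinite (W.ι ≫ q)) (t : T) (z : Q) (hz : z ∈ W)
    (hfib : ∀ x ∈ W, q x = t → x = z) :
    ∃ k : ℤ, ∀ᶠ n in 𝓝 t, ∀ (K : Type u) [Field K] [IsAlgClosed K]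
      (y : Spec (CommRingCat.of K) ⟶ T), pt y = n →
        geomSum (φ ≫ q) P₀ (fun p => wf (a p) * wg (b (φ p))) y = k := by
  let P₁ := (φ ⁻¹ᵁ W).ι ⁻¹ᵁ P₀
  have hfin₁ : IsFinite ((P₁.ι ≫ φ ∣_ W) ≫ W.ι ≫ q) := by
    have e : Set.range P₀.ι = Set.range (P₁.ι ≫ (φ ⁻¹ᵁ W).ι) := by
      rw [Scheme.Opens.range_ι]
      ext x
      constructor
      · exact fun hx => ⟨⟨⟨x, hle hx⟩, hx⟩, rfl⟩
      · rintro ⟨x, rfl⟩
        exact x.2
    have : (P₁.ι ≫ φ ∣_ W) ≫ W.ι ≫ q =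
        (IsOpenImmersion.isoOfRangeEq P₀.ι (P₁.ι ≫ (φ ⁻¹ᵁ W).ι) e).inv ≫ P₀.ι ≫ φ ≫ q := by
      rw [IsOpenImmersion.isoOfRangeEq_inv_fac_assoc, Category.assoc, Category.assoc,
        morphismRestrict_ι_assoc]
    rw [this]
    infer_instance
  have : IsFinite (P₁.ι ≫ φ ∣_ W) := IsFinite.of_comp _ (W.ι ≫ q)
  have hsqW := (isPullback_morphismRestrict φ W).flip.paste_horiz hsq
  obtain ⟨N, hzN, c₁, hc₁⟩ := exists_nbhd_geomSum' hf hsqW P₁ this ⟨z, hz⟩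
  obtain ⟨M, htM, c₂, hc₂⟩ := exists_nbhd_geomSum' hg hsq' W hW t
  refine ⟨c₂ * c₁, ?_⟩
  filter_upwards [eventually_avoid q W hW _ (W.ι ''ᵁ N).2.isClosed_compl t fun x hx hxt hx' =>
    hx' (hfib x hx hxt ▸ ⟨⟨z, hz⟩, hzN, rfl⟩), M.2.mem_nhds htM] with n hn hnM K _ _ y hy
  rw [geomSum_comp φ q P₀ W (fun x hx => hle hx) (fun p => wf (a p)) (fun d => wg (b d)) y
    (finite_geomFib_open q W hW y)
    (have : LocallyQuasiFinite φ := MorphismProperty.of_isPullback hsq ‹_›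
     have : LocallyQuasiFinite q := MorphismProperty.of_isPullback hsq' ‹_›
     finite_geomFib_open (φ ≫ q) P₀ hP₀ y), ← hc₂ K y (hy.symm ▸ hnM), geomSum]
  refine Eq.trans ?_ (finsum_mem_mul _ _).symm
  refine finsum_mem_congr rfl fun d hd => ?_
  congr 1
  have hqd : q (pt d.1) = n := (apply_pt q y d).trans hy
  obtain ⟨x, hx, hxd⟩ := not_not.mp (hn _ hd hqd)
  have hr : Set.range d.1 ⊆ Set.range W.ι := by
    rintro _ ⟨s, rfl⟩
    rw [eq_pt, Scheme.Opens.range_ι]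
    exact hd
  let d' := IsOpenImmersion.lift W.ι d.1 hr
  have hd' : d' ≫ W.ι = d.1 := IsOpenImmersion.lift_fac _ _ _
  have hpt : pt d' = x := W.ι.isOpenEmbedding.injective (by
    rw [← pt_comp, hd']
    exact hxd.symm)
  rw [← hc₁ K d' (hpt.symm ▸ hx)]
  rw [← hd', ← geomSum_preimage φ (isPullback_morphismRestrict φ W).flip]
  rfl

/-- A finite open of the composite whose points over `t` map to a single point. -/
theorem comp_part (hf : MoreMor.IsWeighting f wf) (hg : MoreMor.IsWeighting g wg)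
    {a : P ⟶ X} {φ : P ⟶ Q} {b : Q ⟶ Y} (hsq : IsPullback a φ f b) {q : Q ⟶ T} {c : T ⟶ Z}
    (hsq' : IsPullback b q g c) (P₀ : P.Opens) (W : Q.Opens)
    (hP₀ : IsFinite (P₀.ι ≫ φ ≫ q)) (hW : IsFinite (W.ι ≫ q)) (t : T) (z : Q) (hz : z ∈ W)
    (hzt : q z = t) (hfib : ∀ x ∈ W, q x = t → x = z)
    (hPW : ∀ x ∈ P₀, q (φ x) = t → φ x ∈ W) :
    ∃ k : ℤ, ∀ᶠ n in 𝓝 t, ∀ (K : Type u) [Field K] [IsAlgClosed K]
      (y : Spec (CommRingCat.of K) ⟶ T), pt y = n →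
        geomSum (φ ≫ q) P₀ (fun p => wf (a p) * wg (b (φ p))) y = k := by
  obtain ⟨N, htN, hN⟩ := exists_nbhd_avoid (φ ≫ q) P₀ hP₀ _ (φ ⁻¹ᵁ W).2.isClosed_compl t
    fun x hx hxt h => h (hPW x hx hxt)
  let qN := q ∣_ N
  let φN := φ ∣_ (q ⁻¹ᵁ N)
  have hq : IsPullback (q ⁻¹ᵁ N).ι qN q N.ι := (isPullback_morphismRestrict q N).flip
  have hφ : IsPullback (φ ⁻¹ᵁ q ⁻¹ᵁ N).ι φN φ (q ⁻¹ᵁ N).ι :=
    (isPullback_morphismRestrict φ _).flip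
  have hφq : IsPullback (φ ⁻¹ᵁ q ⁻¹ᵁ N).ι (φN ≫ qN) (φ ≫ q) N.ι := hφ.paste_vert hq
  obtain ⟨k, hk⟩ := comp_part_of_le hf hg (hφ.paste_horiz hsq) (hq.paste_horiz hsq')
    ((φ ⁻¹ᵁ q ⁻¹ᵁ N).ι ⁻¹ᵁ P₀) ((q ⁻¹ᵁ N).ι ⁻¹ᵁ W)
    (fun x hx => by
      show (q ⁻¹ᵁ N).ι (φN x) ∈ W
      rw [← Scheme.Hom.comp_apply, morphismRestrict_ι]
      exact not_not.mp (hN _ hx x.2))
    (isFinite_preimage N.ι hφq P₀ hP₀) (isFinite_preimage N.ι hq W hW) ⟨t, htN⟩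
    ⟨z, show q z ∈ N from hzt.symm ▸ htN⟩ hz
    fun x hx hxt => Subtype.ext (hfib _ hx (by
      have := congrArg (fun i : ↥N.toScheme => N.ι i) hxt
      rwa [← Scheme.Hom.comp_apply, morphismRestrict_ι] at this))
  refine ⟨k, ?_⟩
  obtain ⟨M, hM, hMo, htM⟩ := mem_nhds_iff.mp hk
  filter_upwards [(N.ι.isOpenEmbedding.isOpenMap M hMo).mem_nhds ⟨_, htM, rfl⟩] with n hn K _ _ y hy
  obtain ⟨m, hm, rfl⟩ := hn
  have hr : Set.range y ⊆ Set.range N.ι := by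
    rintro _ ⟨s, rfl⟩
    rw [eq_pt, hy]
    exact ⟨m, rfl⟩
  let y' := IsOpenImmersion.lift N.ι y hr
  have hy' : y' ≫ N.ι = y := IsOpenImmersion.lift_fac _ _ _
  have hptm : pt y' = m := N.ι.isOpenEmbedding.injective (by rw [← pt_comp, hy', hy])
  rw [← hM hm K y' hptm, ← hy', ← geomSum_preimage (φ ≫ q) hφq]
  congr 1
  funext p
  simp only [Function.comp_apply, Scheme.Hom.comp_apply]
  rw [← Scheme.Hom.comp_apply φN (q ⁻¹ᵁ N).ι, morphismRestrict_ι, Scheme.Hom.comp_apply]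

theorem isWeighting_comp (hf : MoreMor.IsWeighting f wf) (hg : MoreMor.IsWeighting g wg) :
    MoreMor.IsWeighting (f ≫ g) (fun x => wf x * wg (f x)) := by
  intro V gV _ U hU
  refine isLocallyConstant_fibreIntegral (pullback.snd (f ≫ g) gV) U hU
    (fun p => wf (pullback.fst (f ≫ g) gV p) * wg (f (pullback.fst (f ≫ g) gV p))) fun t => ?_
  let A : Set X := pullback.fst (f ≫ g) gV ''
    ((U : Set ↥(pullback (f ≫ g) gV)) ∩ pullback.snd (f ≫ g) gV ⁻¹' {t})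
  have hA : A.Finite := (finite_fibre_open _ U hU t).image _
  have hAt : ∀ x ∈ A, (f ≫ g) x = gV t := by
    rintro _ ⟨p, ⟨-, hp⟩, rfl⟩
    rw [← Scheme.Hom.comp_apply, pullback.condition, Scheme.Hom.comp_apply, hp]
  obtain ⟨V₁, g₁, u₁, _, hu₁, J₁, W₁, -, hJW₁, hmem₁⟩ :=
    Groth.Agent.Wt.Pure.exists_pureParts (f ≫ g) (gV t) A hA hAt
      (fun x _ => (f ≫ g).quasiFiniteAt x)
  obtain ⟨V₂, g₂, u₂, _, hu₂, J₂, W₂, -, hJW₂, hmem₂⟩ :=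
    Groth.Agent.Wt.Pure.exists_pureParts g (gV t) (f '' A) (hA.image _)
      (by rintro _ ⟨x, hx, rfl⟩; exact hAt x hx) (fun y _ => g.quasiFiniteAt y)
  obtain ⟨t₁, ht₁, hu₁'⟩ :=
    Scheme.Pullback.exists_preimage_pullback (f := gV) (g := g₁) t u₁ hu₁.symm
  obtain ⟨t', ht', hu₂'⟩ := Scheme.Pullback.exists_preimage_pullback
    (f := pullback.fst gV g₁ ≫ gV) (g := g₂) t₁ u₂
    (by rw [Scheme.Hom.comp_apply, ht₁, hu₂])
  let T := pullback (pullback.fst gV g₁ ≫ gV) g₂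
  let s₀ := pullback.fst (pullback.fst gV g₁ ≫ gV) g₂
  let s : T ⟶ V := s₀ ≫ pullback.fst gV g₁
  let s₁ : T ⟶ V₁ := s₀ ≫ pullback.snd gV g₁
  let s₂ : T ⟶ V₂ := pullback.snd (pullback.fst gV g₁ ≫ gV) g₂
  have hb₁ : s₁ ≫ g₁ = s ≫ gV := by
    simp only [s₁, s, Category.assoc, pullback.condition]
  have hb₂ : s₂ ≫ g₂ = s ≫ gV := by
    simp only [s₂, s, s₀, Category.assoc]
    exact pullback.condition.symm
  have hst : s t' = t := by rw [Scheme.Hom.comp_apply, ht', ht₁]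
  have hs₁t : s₁ t' = u₁ := by rw [Scheme.Hom.comp_apply, ht', hu₁']
  let φ : pullback (f ≫ g) (s ≫ gV) ⟶ pullback g (s ≫ gV) :=
    pullback.lift (pullback.fst _ _ ≫ f) (pullback.snd _ _)
      ((Category.assoc _ _ _).trans pullback.condition)
  have eφ : φ ≫ pullback.snd g (s ≫ gV) = pullback.snd (f ≫ g) (s ≫ gV) := pullback.lift_snd _ _ _
  have hsq : IsPullback (pullback.fst (f ≫ g) (s ≫ gV)) φ f (pullback.fst g (s ≫ gV)) :=
    .of_bot (by rw [eφ]; exact IsPullback.of_hasPullback _ _) (pullback.lift_fst _ _ _).symm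
      (IsPullback.of_hasPullback _ _)
  let a' := bcMap (f ≫ g) s (g := gV) rfl
  let a₁ := bcMap (f ≫ g) s₁ (g := g₁) hb₁
  let a₂ := bcMap g s₂ (g := g₂) hb₂
  let q' := pullback.snd (f ≫ g) (s ≫ gV)
  have h' : IsPullback a' q' (pullback.snd (f ≫ g) gV) s := isPullback_bcMap _ s rfl
  have h₁ : IsPullback a₁ q' (pullback.snd (f ≫ g) g₁) s₁ := isPullback_bcMap _ s₁ hb₁
  have h₂ : IsPullback a₂ (pullback.snd g (s ≫ gV)) (pullback.snd g g₂) s₂ :=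
    isPullback_bcMap _ s₂ hb₂
  let U' := a' ⁻¹ᵁ U
  have hU' : IsFinite (U'.ι ≫ q') := isFinite_preimage s h' U hU
  let F := (U' : Set ↥(pullback (f ≫ g) (s ≫ gV))) ∩ q' ⁻¹' {t'}
  have hF : F.Finite := finite_fibre_open q' U' hU' t'
  have hFA : ∀ p ∈ F, pullback.fst (f ≫ g) (s ≫ gV) p ∈ A := fun p hp => by
    rw [← fst_bcMap (f ≫ g) s (g := gV) rfl]
    refine ⟨_, ⟨hp.1, ?_⟩, rfl⟩
    rw [Set.mem_preimage, snd_bcMap]
    exact (congrArg s hp.2).trans hst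
  have hFJ₁ : ∀ p ∈ F, a₁ p ∈ J₁ := fun p hp => hmem₁ _
    (by rw [snd_bcMap]; exact (congrArg s₁ hp.2).trans hs₁t)
    (by rw [fst_bcMap]; exact hFA p hp)
  have hφt : ∀ p ∈ F, pullback.snd g (s ≫ gV) (φ p) = t' := fun p hp => by
    rw [← Scheme.Hom.comp_apply, eφ]; exact hp.2
  have hFJ₂ : ∀ p ∈ F, a₂ (φ p) ∈ J₂ := fun p hp => hmem₂ _
    (by rw [snd_bcMap, hφt p hp]; exact hu₂')
    ⟨_, hFA p hp, by rw [fst_bcMap, ← Scheme.Hom.comp_apply, ← Scheme.Hom.comp_apply, hsq.w]⟩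
  let W' := fun p => a₁ ⁻¹ᵁ W₁ (a₁ p)
  let Q' := fun p => a₂ ⁻¹ᵁ W₂ (a₂ (φ p))
  have hW' : ∀ p ∈ F, IsFinite ((W' p).ι ≫ q') := fun p hp =>
    isFinite_preimage s₁ h₁ _ (hJW₁ _ (hFJ₁ p hp)).1.finite
  have hfib : ∀ p ∈ F, ∀ x ∈ W' p, q' x = t' → x = p := fun p hp x hx hxt => by
    obtain ⟨hfp, hsingle, -⟩ := hJW₁ _ (hFJ₁ p hp)
    refine eq_of_isGeomSingle _ h₁ hsingle x p (hfp.unique _ hx ?_) rfl (hxt.trans hp.2.symm)
    rw [snd_bcMap]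
    exact (congrArg s₁ hxt).trans hs₁t
  have hconst : ∀ p ∈ F, ∃ k : ℤ, ∀ᶠ n in 𝓝 t', ∀ (K : Type u) [Field K] [IsAlgClosed K]
      (y : Spec (CommRingCat.of K) ⟶ T), pt y = n →
        geomSum q' (W' p) (fun x => wf (pullback.fst (f ≫ g) (s ≫ gV) x) *
          wg (f (pullback.fst (f ≫ g) (s ≫ gV) x))) y = k := fun p hp => by
    obtain ⟨hfp, hsingle, -⟩ := hJW₂ _ (hFJ₂ p hp)
    obtain ⟨k, hk⟩ := comp_part hf hg hsq (IsPullback.of_hasPullback g (s ≫ gV)) (W' p) (Q' p)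
      (by rw [eφ]; exact hW' p hp) (isFinite_preimage s₂ h₂ _ hfp.finite) t' (φ p) hfp.mem
      (hφt p hp)
      (fun x hx hxt => eq_of_isGeomSingle _ h₂ hsingle x (φ p) (hfp.unique _ hx
        (by rw [snd_bcMap, hxt]; exact hu₂')) rfl (hxt.trans (hφt p hp).symm))
      (fun x hx hxt => by
        rw [hfib p hp x hx (by rw [← hxt, ← Scheme.Hom.comp_apply, eφ])]
        exact hfp.mem)
    rw [eφ] at hk
    refine ⟨k, hk.mono fun n hn K _ _ y hy => ?_⟩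
    rw [← hn K y hy]
    congr 1
    funext x
    rw [← Scheme.Hom.comp_apply φ, ← hsq.w, Scheme.Hom.comp_apply]
  choose! k hk using hconst
  have hdec := eventually_decompose q' U' hU' t' W' hW'
    (fun p hp => (hJW₁ _ (hFJ₁ p hp)).1.mem) hfib
  obtain ⟨N₁, hN₁, hN₁o, htN₁⟩ := mem_nhds_iff.mp (hdec.and (hF.eventually_all.mpr hk))
  refine ⟨⟨s '' N₁, s.isOpenMap N₁ hN₁o⟩, ⟨t', htN₁, hst⟩, ∑ᶠ p ∈ F, k p, fun K _ _ y hy => ?_⟩
  obtain ⟨n, hn, hny⟩ := hy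
  have := locallyQuasiFinite_of_etale s
  obtain ⟨y', hy'⟩ := surjective_pt s y ⟨n, hny⟩
  have hyn : pt y'.1 = n := congrArg Subtype.val hy'
  conv_lhs => rw [← y'.2, ← geomSum_preimage _ h']
  refine Eq.trans ?_ (finsum_mem_congr rfl fun p hp => (hN₁ hn).2 p hp K y'.1 hyn)
  rw [← (hN₁ hn).1 K y'.1 hyn]
  congr 1
  funext x
  simp only [Function.comp_apply, a', fst_bcMap]

end Groth.Agent.Wt.Comp
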