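import Groth.Agent.Wt.Local
import Groth.Agent.SpecTop.Basic
import Groth.Agent.LimLib.Props
import Groth.Agent.FDesc.ProConsImage
import Mathlib.AlgebraicGeometry.Morphisms.FinitePresentation

/-!
# Level sets of weightings are constructible
-/

universe u

open AlgebraicGeometry CategoryTheory Limits Topology

namespace Groth.Agent.Wt.Constr

open GeomPts Split Parts Master Local

variable {X Y P V : Scheme.{u}}

instance (P : Scheme.{u}) [IsAffine P] : SpectralSpace P where


theorem exists_constructible_single (q : P ⟶ V) [IsFinite q] [IsAffine V] (u : V) (z : P)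
    (hu : q z = u) (huniq : ∀ x, q x = u → x = z) (hz : IsGeomSingle q z) :
    ∃ C : Set V, IsConstructible C ∧ u ∈ C ∧ ∀ (K : Type u) [Field K] [IsAlgClosed K]
      (y : Spec (CommRingCat.of K) ⟶ V), pt y ∈ C → Subsingleton (GeomFib q y) := by
  have : IsAffine P := isAffine_of_isAffineHom q
  let R := pullback q q
  let Δ := pullback.diagonal q
  let π : R ⟶ V := pullback.fst q q ≫ q
  have : IsAffine R := inferInstanceAs (IsAffine (pullback q q))
  have : LocallyOfFinitePresentation Δ := LimLib.locallyOfFinitePresentation_diagonal q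
  have hE : IsConstructible (Set.range Δ)ᶜ := by
    rw [← Set.image_univ]
    exact (Δ.isConstructible_image .univ).compl
  have hcl := SpecTop.isClosed_cons_image
    (SpecTop.continuous_cons_of_isSpectralMap (quasiCompact_iff_isSpectralMap.mp
      (inferInstance : QuasiCompact π))) (SpecTop.isClopen_cons_of_isConstructible hE).1
  have huD : u ∉ π '' (Set.range Δ)ᶜ := by
    rintro ⟨e, he, heu⟩
    obtain ⟨yb, hyb⟩ := exists_geomPt u
    obtain ⟨c, hc⟩ := surjective_pt π yb ⟨e, heu.trans hyb.symm⟩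
    have hc' : pt c.1 = e := congrArg Subtype.val hc
    have ha : pt (c.1 ≫ pullback.fst q q) = z := huniq _ (by
      rw [← pt_comp, Category.assoc, c.2, hyb])
    have hb : pt (c.1 ≫ pullback.snd q q) = z := huniq _ (by
      rw [← pt_comp, Category.assoc, ← pullback.condition, c.2, hyb])
    have hab := hz _ _ _ ha hb (by rw [Category.assoc, Category.assoc, pullback.condition])
    have : c.1 = (c.1 ≫ pullback.fst q q) ≫ Δ := by
      refine pullback.hom_ext ?_ ?_
      · simp [Δ]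
      · simp [Δ, hab]
    exact he ⟨pt (c.1 ≫ pullback.fst q q), (pt_comp Δ _).symm.trans (by rw [← hc', ← this])⟩
  obtain ⟨C, hC, huC, hCs⟩ := FDesc.ProConsImage.exists_isConstructible_subset
    ((@isOpen_compl_iff _ _ (constructibleTopology _)).mpr hcl) (x := u) huD
  refine ⟨C, hC, huC, fun K _ _ y hy => ⟨fun a b => ?_⟩⟩
  let l := pullback.lift a.1 b.1 (a.2.trans b.2.symm)
  have hl : pt l ∈ Set.range Δ := by
    by_contra h
    refine hCs hy ⟨pt l, h, ?_⟩
    rw [← pt_comp, ← Category.assoc, pullback.lift_fst, a.2]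
  obtain ⟨p, hp⟩ := hl
  obtain ⟨d, -⟩ := surjective_pt Δ l ⟨p, hp⟩
  have h1 := congrArg (· ≫ pullback.fst q q) d.2
  have h2 := congrArg (· ≫ pullback.snd q q) d.2
  simp only [Δ, l, Category.assoc, pullback.diagonal_fst, pullback.diagonal_snd,
    pullback.lift_fst, pullback.lift_snd] at h1 h2
  exact Subtype.ext (h1.symm.trans h2)

/-- A weighting is constant on a constructible neighbourhood (in an affine open) of each point. -/
theorem exists_constructible_const (f : X ⟶ Y) [LocallyOfFiniteType f] [LocallyQuasiFinite f]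
    {w : X → ℤ} (hw : MoreMor.IsWeighting f w) (X₀ : X.Opens) (hX₀ : IsAffineOpen X₀)
    (x : X₀.toScheme) :
    ∃ C : Set X₀.toScheme, IsConstructible C ∧ x ∈ C ∧ ∀ x' ∈ C, w (X₀.ι x') = w (X₀.ι x) := by
  obtain ⟨V, g, u, hg, hu, J, W, -, hJW, hmem, hev⟩ :=
    exists_single f hw (f (X₀.ι x)) {X₀.ι x} (Set.finite_singleton _) (by simp)
  obtain ⟨z, hz₁, hz₂⟩ :=
    Scheme.Pullback.exists_preimage_pullback (f := f) (g := g) (X₀.ι x) u hu.symm
  have hzJ : z ∈ J := hmem z hz₂ (by simp [hz₁])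
  obtain ⟨hfp, hsingle, -⟩ := hJW z hzJ
  obtain ⟨N₀, hN₀, hN₀o, huN₀⟩ := mem_nhds_iff.mp hev
  obtain ⟨N, hN, huN, hNsub⟩ := exists_isAffineOpen_mem_and_subset (x := u)
    (U := ⟨N₀, hN₀o⟩) huN₀
  have : IsAffine N.toScheme := hN
  have : IsAffine X₀.toScheme := hX₀
  let W₁ := (pullback.snd f g ⁻¹ᵁ N).ι ⁻¹ᵁ W z
  let q := W₁.ι ≫ pullback.snd f g ∣_ N
  have : IsFinite q := isFinite_preimage N.ι
    (isPullback_morphismRestrict (pullback.snd f g) N).flip (W z) hfp.finite
  let j : W₁.toScheme ⟶ pullback f g := W₁.ι ≫ (pullback.snd f g ⁻¹ᵁ N).ι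
  have hjq : q ≫ N.ι = j ≫ pullback.snd f g := by
    simp [q, j]
  let z₁ : W₁.toScheme := ⟨⟨z, show pullback.snd f g z ∈ N from hz₂ ▸ huN⟩, hfp.mem⟩
  let u' : N.toScheme := ⟨u, huN⟩
  have hjq' : ∀ p, N.ι (q p) = pullback.snd f g (j p) := fun p => congr($(hjq) p)
  have hqz : q z₁ = u' := N.ι.isOpenEmbedding.injective ((hjq' z₁).trans hz₂)
  have huniq : ∀ p, q p = u' → p = z₁ := fun p hp =>
    j.isOpenEmbedding.injective (hfp.unique (j p) p.2
      ((hjq' p).symm.trans (congrArg (fun i => N.ι i) hp)))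
  have hs : IsGeomSingle q z₁ := fun K _ _ a b ha hb hab => by
    rw [← cancel_mono j]
    refine hsingle K _ _ ?_ ?_ ?_
    · rw [pt_comp, ha]; rfl
    · rw [pt_comp, hb]; rfl
    · refine (Category.assoc _ _ _).trans ((congrArg (a ≫ ·) hjq.symm).trans ?_)
      refine (reassoc_of% hab) N.ι |>.trans ?_
      exact (congrArg (b ≫ ·) hjq).trans (Category.assoc _ _ _).symm
  obtain ⟨C, hC, huC, hCs⟩ := exists_constructible_single q u' z₁ hqz huniq hs
  let h : W₁.toScheme ⟶ X := j ≫ pullback.fst f g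
  obtain ⟨M, hM, hzM, hMsub⟩ := exists_isAffineOpen_mem_and_subset (x := z₁) (U := h ⁻¹ᵁ X₀)
    (show pullback.fst f g z ∈ X₀ from hz₁.symm ▸ x.2)
  have : IsAffine M.toScheme := hM
  have : IsOpenImmersion j := inferInstanceAs (IsOpenImmersion (W₁.ι ≫ (pullback.snd f g ⁻¹ᵁ N).ι))
  have : LocallyOfFinitePresentation h := inferInstanceAs (LocallyOfFinitePresentation (j ≫ pullback.fst f g))
  have hMle : M ≤ h ⁻¹ᵁ X₀ := hMsub
  let hM₀ := h.resLE X₀ M hMle
  have hι : ∀ m, X₀.ι (hM₀ m) = h (M.ι m) := fun m => congr($(Scheme.Hom.resLE_comp_ι h hMle) m)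
  refine ⟨hM₀ '' ((M.ι ≫ q) ⁻¹' C),
    hM₀.isConstructible_image ((M.ι ≫ q).isConstructible_preimage hC),
    ⟨⟨z₁, hzM⟩, show q z₁ ∈ C from hqz ▸ huC,
      X₀.ι.isOpenEmbedding.injective ((hι _).trans hz₁)⟩, ?_⟩
  rintro _ ⟨m, hm, rfl⟩
  rw [hι, ← hz₁]
  let p := M.ι m
  obtain ⟨yb, hyb⟩ := exists_geomPt (q p)
  have := hCs _ yb (hyb.symm ▸ hm)
  obtain ⟨c, hc⟩ := surjective_pt q yb ⟨p, hyb.symm⟩
  have hc' : pt c.1 = p := congrArg Subtype.val hc
  rw [← hN₀ (hNsub (q p).2) z hzJ _ (yb ≫ N.ι) (by rw [pt_comp, hyb]; rfl)]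
  have hp : pullback.snd f g (j p) = pt (yb ≫ N.ι) := by rw [pt_comp, hyb, hjq']
  let c' : GeomFib (pullback.snd f g) (yb ≫ N.ι) := ⟨c.1 ≫ j, by
    rw [Category.assoc, ← hjq, reassoc_of% c.2]⟩
  have hset : {a : GeomFib (pullback.snd f g) (yb ≫ N.ι) | pt a.1 ∈ (W z : Set _)} = {c'} := by
    ext a
    constructor
    · intro ha
      have hr : Set.range a.1 ⊆ Set.range j := by
        rintro _ ⟨s, rfl⟩
        rw [eq_pt]
        have : pt a.1 ∈ pullback.snd f g ⁻¹ᵁ N := by
          show pullback.snd f g (pt a.1) ∈ N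
          rw [← pt_comp, a.2, pt_comp]
          exact (pt yb).2
        exact ⟨⟨⟨pt a.1, this⟩, ha⟩, rfl⟩
      let a' : GeomFib q yb := ⟨IsOpenImmersion.lift j a.1 hr, by
        rw [← cancel_mono N.ι, Category.assoc, hjq, IsOpenImmersion.lift_fac_assoc]
        exact a.2⟩
      refine Subtype.ext ?_
      show a.1 = c.1 ≫ j
      rw [← Subsingleton.elim a' c]
      exact (IsOpenImmersion.lift_fac _ _ _).symm
    · rintro rfl
      show pt (c.1 ≫ j) ∈ W z
      rw [pt_comp, hc']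
      exact p.2
  unfold geomSum
  rw [hset, finsum_mem_singleton]
  show w _ = w (pullback.fst f g (pt (c.1 ≫ j)))
  rw [pt_comp, hc']
  rfl

theorem isLocallyConstructible_level (f : X ⟶ Y) [LocallyOfFiniteType f] [LocallyQuasiFinite f]
    {w : X → ℤ} (hw : MoreMor.IsWeighting f w) (n : ℤ) :
    IsLocallyConstructible {x : X | w x = n} := by
  intro x
  obtain ⟨X₀, hX₀, hx, -⟩ := exists_isAffineOpen_mem_and_subset (TopologicalSpace.Opens.mem_top x)
  have : IsAffine X₀.toScheme := hX₀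
  have : SpectralSpace (X₀ : Set X) := inferInstanceAs (SpectralSpace X₀.toScheme)
  refine ⟨X₀, X₀.2.mem_nhds hx, X₀.2, ?_⟩
  have key : ∀ P : ℤ → Prop, IsOpen[constructibleTopology X₀.toScheme]
      {x : X₀.toScheme | P (w (X₀.ι x))} := fun P => by
    refine (@isOpen_iff_forall_mem_open _ (constructibleTopology X₀.toScheme) _).mpr fun x hxP => ?_
    obtain ⟨C, hC, hxC, hCw⟩ := exists_constructible_const f hw X₀ hX₀ x
    exact ⟨C, fun x' hx' => by show P _; rw [hCw x' hx']; exact hxP,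
      (SpecTop.isClopen_cons_of_isConstructible hC).2, hxC⟩
  exact SpecTop.isConstructible_of_isClopen_cons
    ⟨@IsClosed.mk _ (constructibleTopology X₀.toScheme) _ (key (· ≠ n)), key (· = n)⟩

/-- A weighting is bounded on an affine open. -/
theorem exists_bound_affine (f : X ⟶ Y) [LocallyOfFiniteType f] [LocallyQuasiFinite f]
    {w : X → ℤ} (hw : MoreMor.IsWeighting f w) (X₀ : X.Opens) (hX₀ : IsAffineOpen X₀) :
    ∃ M : ℕ, ∀ x : X₀.toScheme, w (X₀.ι x) ≤ (M : ℤ) := by
  have : IsAffine X₀.toScheme := hX₀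
  choose C hC hxC hCw using exists_constructible_const f hw X₀ hX₀
  obtain ⟨s, hs⟩ := @IsCompact.elim_finite_subcover X₀.toScheme (constructibleTopology X₀.toScheme)
    Set.univ X₀.toScheme (@isCompact_univ _ (constructibleTopology _) (SpecTop.compactSpace_cons _)) C
    (fun x => (SpecTop.isClopen_cons_of_isConstructible (hC x)).2)
    (fun x _ => Set.mem_iUnion.mpr ⟨x, hxC x⟩)
  refine ⟨s.sup fun x => (w (X₀.ι x)).toNat, fun x' => ?_⟩
  obtain ⟨x, hx, hx'⟩ := Set.mem_iUnion₂.mp (hs (Set.mem_univ x'))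
  rw [hCw x x' hx']
  exact (Int.self_le_toNat _).trans
    (by exact_mod_cast Finset.le_sup (f := fun x => (w (X₀.ι x)).toNat) hx)

end Groth.Agent.Wt.Constr
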