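import Groth.Agent.Wt.Chevalley
import Mathlib.AlgebraicGeometry.Morphisms.Finite

/-!
# Chevalley's theorem for quasi-compact opens of affine schemes
-/

set_option autoImplicit false
set_option linter.style.haveILetI false

universe u

open CategoryTheory AlgebraicGeometry TopologicalSpace Limits

namespace Groth.Agent.Wt.ChevalleyScheme

/-- A quasi-compact open of an affine scheme which receives a finite surjective morphism from an affine
scheme is affine: the case of `Spec A`. -/
theorem isAffineOpen_spec {A : Type u} [CommRing A] (O : (Spec (CommRingCat.of A)).Opens)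
    (hO : IsCompact (O : Set (Spec (CommRingCat.of A)))) {W : Scheme.{u}} [IsAffine W]
    (l : W ⟶ (O : Scheme.{u})) [IsFinite l] [Surjective l] : IsAffineOpen O := by
  classical
  let O₀ : Set (PrimeSpectrum A) := O.1
  obtain ⟨s, hs⟩ := (PrimeSpectrum.isCompact_isOpen_iff (R := A) (s := O₀)).mp ⟨hO, O.2⟩
  let C := Γ(W, ⊤)
  let l₀ : Spec (CommRingCat.of C) ⟶ (O : Scheme.{u}) := W.isoSpec.inv ≫ l
  haveI : IsFinite l₀ := inferInstance
  haveI : Surjective l₀ := inferInstance
  let φ := Spec.preimage (l₀ ≫ O.ι)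
  letI : Algebra A C := φ.hom.toAlgebra
  have hφ : Spec.map (CommRingCat.ofHom (algebraMap A C)) = l₀ ≫ O.ι := Spec.map_preimage _
  have hmem : ∀ p : PrimeSpectrum A, (p : Spec (CommRingCat.of A)) ∈ O ↔
      ¬ (s : Set A) ⊆ p.asIdeal := fun p => by
    have : p ∈ O₀ ↔ p ∈ (PrimeSpectrum.zeroLocus (s : Set A))ᶜ := by
      rw [← hs]
    exact this
  have himg : ∀ q : PrimeSpectrum C,
      (PrimeSpectrum.comap (algebraMap A C) q : Spec (CommRingCat.of A)) ∈ O := fun q => by
    have : ∀ x : Spec (CommRingCat.of C), Spec.map (CommRingCat.ofHom (algebraMap A C)) x ∈ O := by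
      intro x
      rw [hφ, Scheme.Hom.comp_apply]
      exact (l₀ x).2
    exact this q
  have htop : Ideal.span ((algebraMap A C) '' (s : Set A)) = ⊤ := by
    by_contra h
    obtain ⟨m, hm, hle⟩ := Ideal.exists_le_maximal _ h
    refine (hmem _).mp (himg ⟨m, hm.isPrime⟩) fun a ha => ?_
    exact hle (Ideal.subset_span ⟨a, ha, rfl⟩)
  have hsurj : ∀ p : PrimeSpectrum A, ¬ (s : Set A) ⊆ p.asIdeal →
      ∃ q : PrimeSpectrum C, q.asIdeal.comap (algebraMap A C) = p.asIdeal := fun p hp => by
    obtain ⟨q, hq⟩ := l₀.surjective ⟨p, (hmem p).mpr hp⟩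
    refine ⟨q, ?_⟩
    have : Spec.map (CommRingCat.ofHom (algebraMap A C)) q = p := by
      rw [hφ, Scheme.Hom.comp_apply, hq]
      rfl
    exact congrArg PrimeSpectrum.asIdeal this
  have hint : ∀ c : C, ∀ a ∈ s, ∃ N : ℕ, _root_.IsIntegral A (a ^ N • c) := by
    intro c a ha
    let Aa := Localization.Away a
    let Ca := Localization.Away (algebraMap A C a)
    letI : Algebra Aa Ca := (Localization.awayMap (algebraMap A C) a).toAlgebra
    haveI : IsScalarTower A Aa Ca := .of_algebraMap_eq' (IsLocalization.lift_comp _).symm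
    let iA := Spec.map (CommRingCat.ofHom (algebraMap A Aa))
    let iC := Spec.map (CommRingCat.ofHom (algebraMap C Ca))
    let ψ := Spec.map (CommRingCat.ofHom (algebraMap Aa Ca))
    haveI : IsOpenImmersion iA := IsOpenImmersion.of_isLocalization a
    haveI : IsOpenImmersion iC := IsOpenImmersion.of_isLocalization (algebraMap A C a)
    have hrA : Set.range iA = (PrimeSpectrum.basicOpen a : Set (PrimeSpectrum A)) :=
      PrimeSpectrum.localization_away_comap_range Aa a
    have hrC : Set.range iC = (PrimeSpectrum.basicOpen (algebraMap A C a) : Set (PrimeSpectrum C)) :=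
      PrimeSpectrum.localization_away_comap_range Ca _
    have hle : Set.range iA ⊆ Set.range O.ι := by
      rw [hrA, Scheme.Opens.range_ι]
      exact fun p hp => (hmem p).mpr fun h => hp (h ha)
    let j := IsOpenImmersion.lift O.ι iA hle
    have hj : j ≫ O.ι = iA := IsOpenImmersion.lift_fac _ _ _
    haveI : IsOpenImmersion (j ≫ O.ι) := hj ▸ inferInstance
    haveI : IsOpenImmersion j := IsOpenImmersion.of_comp j O.ι
    have hw : iC ≫ l₀ = ψ ≫ j := by
      rw [← cancel_mono O.ι, Category.assoc iC l₀, Category.assoc ψ j, hj, ← hφ]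
      simp only [iC, iA, ψ, ← Spec.map_comp, ← CommRingCat.ofHom_comp, ← IsScalarTower.algebraMap_eq]
    have hsq : IsPullback ψ iC j l₀ := IsOpenImmersion.isPullback ψ iC j l₀ hw (by
      ext q
      have h1 : l₀ q ∈ Set.range j ↔ (O.ι (l₀ q)) ∈ Set.range iA := by
        rw [← hj]
        constructor
        · rintro ⟨z, hz⟩; exact ⟨z, by rw [Scheme.Hom.comp_apply, hz]⟩
        · rintro ⟨z, hz⟩
          exact ⟨z, O.ι.isOpenEmbedding.injective (by rwa [Scheme.Hom.comp_apply] at hz)⟩
      change l₀ q ∈ Set.range j ↔ q ∈ Set.range iC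
      rw [h1, hrA, hrC, ← Scheme.Hom.comp_apply, ← hφ]
      rfl)
    haveI : IsFinite ψ := MorphismProperty.of_isPullback hsq.flip ‹IsFinite l₀›
    have hfin : (algebraMap Aa Ca).Finite := (IsFinite.SpecMap_iff _).mp ‹IsFinite ψ›
    exact Chevalley.exists_pow_smul_isIntegral (Aa := Aa) (Ca := Ca) a c (hfin.to_isIntegral _)
  have h := Chevalley.isAffineOpen_of_algebra s htop hint hsurj
  convert! h using 1
  ext p
  change p ∈ O ↔ ¬ ((Ideal.span (s : Set A) : Set A) ⊆ (p : PrimeSpectrum A).asIdeal)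
  rw [SetLike.coe_subset_coe, Ideal.span_le]
  exact hmem p

/-- A quasi-compact open of an affine scheme which receives a finite surjective morphism from an affine
scheme is affine. -/
theorem isAffineOpen_of_finite_surjective {Y : Scheme.{u}} [IsAffine Y] (O : Y.Opens)
    (hO : IsCompact (O : Set Y)) {W : Scheme.{u}} [IsAffine W] (l : W ⟶ (O : Scheme.{u}))
    [IsFinite l] [Surjective l] : IsAffineOpen O := by
  let e := Y.isoSpec
  let O' := e.inv ⁻¹ᵁ O
  haveI : IsIso (e.inv ∣_ O) := inferInstance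
  let l' : W ⟶ (O' : Scheme.{u}) := l ≫ inv (e.inv ∣_ O)
  have hO' : IsCompact (O' : Set (Spec Γ(Y, ⊤))) :=
    (Scheme.homeoOfIso e.symm).isClosedEmbedding.isCompact_preimage hO
  have h : IsAffineOpen O' := isAffineOpen_spec (A := Γ(Y, ⊤)) O' hO' l'
  have h2 := h.image_of_isOpenImmersion e.inv
  rwa [Scheme.Hom.image_preimage_eq_opensRange_inf, Scheme.Hom.opensRange_of_isIso, top_inf_eq] at h2

end Groth.Agent.Wt.ChevalleyScheme
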