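import Groth.Agent.Wt.LSC
import Groth.Agent.S1418
import Groth.Agent.S1419
import Groth.Agent.S7185
import Groth.Agent.S0082

/-!
# Affineness of the maximal locus of a fibre integral

Induction on the maximum `d`: base changing along `f` itself makes every fibre integral positive, and
etale locally the finite parts through a fibre split off a positive constant.
-/

set_option autoImplicit false
set_option linter.style.haveILetI false

universe u

open AlgebraicGeometry CategoryTheory Limits TopologicalSpace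
open scoped Topology

namespace Groth.Agent.Wt.MaxAffine

open GeomPts EtNbhd Master Local

variable {X Y : Scheme.{u}}

set_option backward.isDefEq.respectTransparency false in
/-- Affineness of an open can be checked on an etale neighbourhood of each point. -/
theorem isAffineOpen_of_etale_local [IsAffine Y] (O : Y.Opens)
    (h : ∀ y : Y, ∃ (V : Scheme.{u}) (g : V ⟶ Y) (v : V),
      Etale g ∧ IsAffine V ∧ g v = y ∧ IsAffineOpen (g ⁻¹ᵁ O)) : IsAffineOpen O := by
  classical
  choose V g v hg hV hv hO using h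
  obtain ⟨t, ht⟩ := isCompact_univ.elim_finite_subcover (fun y => Set.range (g y))
    (fun y => (g y).isOpenMap.isOpen_range) (fun y _ => Set.mem_iUnion.mpr ⟨y, v y, hv y⟩)
  let T : Scheme.{u} := ∐ fun y : t => V y.1
  let π : T ⟶ Y := Sigma.desc fun y : t => g y.1
  haveI : ∀ y : t, Etale (g y.1) := fun y => hg y.1
  haveI : ∀ y : t, IsAffine (V y.1) := fun y => hV y.1
  haveI : Flat π := IsZariskiLocalAtSource.sigmaDesc fun y => inferInstance
  haveI : IsAffine T := inferInstanceAs (IsAffine (∐ fun y : t => V y.1))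
  haveI : Surjective π := ⟨fun y => by
    obtain ⟨y', hy', x, hx⟩ := Set.mem_iUnion₂.mp (ht (Set.mem_univ y))
    refine ⟨Sigma.ι (fun y : t => V y.1) ⟨y', hy'⟩ x, ?_⟩
    rw [← Scheme.Hom.comp_apply, Sigma.ι_desc]
    exact hx⟩
  have hπO : IsAffineOpen (π ⁻¹ᵁ O) := by
    have hcov : π ⁻¹ᵁ O = ⨆ y : t, Sigma.ι (fun y : t => V y.1) y ''ᵁ (g y.1 ⁻¹ᵁ O) := by
      refine le_antisymm (fun x hx => ?_) (iSup_le fun y => ?_)
      · obtain ⟨y, x, rfl⟩ := (sigmaOpenCover fun y : t => V y.1).exists_eq x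
        refine Opens.mem_iSup.mpr ⟨y, x, ?_, rfl⟩
        change g (Subtype.val (p := fun z => z ∈ t) y) x ∈ O
        have h' : π (Sigma.ι (fun y : t => V y.1) y x) ∈ O := hx
        have e : ∀ (y : t) (x : V y.1), π (Sigma.ι (fun y : t => V y.1) y x) = g y.1 x := fun y x => by
          rw [← Scheme.Hom.comp_apply, Sigma.ι_desc]
        exact (e y x) ▸ h'
      · rintro _ ⟨x, hx, rfl⟩
        change π (Sigma.ι (fun y : t => V y.1) y x) ∈ O
        rw [← Scheme.Hom.comp_apply, Sigma.ι_desc]
        exact hx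
    rw [hcov]
    refine IsAffineOpen.iSup_of_disjoint (fun y => (hO y.1).image_of_isOpenImmersion _)
      fun a b hab => ?_
    exact Disjoint.mono (Scheme.Hom.image_le_opensRange (Sigma.ι (fun y : t => V y.1) a) _)
      (Scheme.Hom.image_le_opensRange (Sigma.ι (fun y : t => V y.1) b) _)
      (disjoint_opensRange_sigmaι (fun y : t => V y.1) a b hab)
  haveI : IsAffine ((π ⁻¹ᵁ O : T.Opens) : Scheme.{u}) := hπO
  haveI : IsAffineHom (π ⁻¹ᵁ O).ι := inferInstance
  have hflat : (@Surjective ⊓ @Flat ⊓ @QuasiCompact : MorphismProperty Scheme.{u}) π :=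
    ⟨⟨inferInstance, inferInstance⟩, inferInstance⟩
  haveI := Groth.Agent.S0082.result.{u}
  have : IsAffineHom O.ι := MorphismProperty.of_isPullback_of_descendsAlong
    (P := @IsAffineHom) (Q := @Surjective ⊓ @Flat ⊓ @QuasiCompact)
    (isPullback_morphismRestrict π O).flip hflat inferInstance
  exact isAffine_of_isAffineHom O.ι

/-- The locus where the fibre integral equals `d`, as an open. -/
theorem isOpen_max (f : X ⟶ Y) [LocallyQuasiFinite f] [LocallyOfFiniteType f] [IsSeparated f]
    [QuasiCompact f] {w : X → ℤ} (hw : MoreMor.IsWeighting f w) (hpos : ∀ x, 0 < w x) (d : ℤ)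
    (hmax : ∀ y : Y, MoreMor.fibreIntegral f w y ≤ d) :
    IsOpen {y : Y | MoreMor.fibreIntegral f w y = d} := by
  have hls := LSC.lowerSemicontinuous_fibreIntegral f (fun y => f.finite_preimage_singleton y) hw hpos
  have : {y : Y | MoreMor.fibreIntegral f w y = d} =
      MoreMor.fibreIntegral f w ⁻¹' Set.Ioi (d - 1) := by
    ext y
    simp only [Set.mem_ofPred_eq, Set.mem_preimage, Set.mem_Ioi]
    have := hmax y
    omega
  rw [this]
  exact hls.isOpen_preimage _

theorem fibreIntegral_nonneg (f : X ⟶ Y) {w : X → ℤ} (hpos : ∀ x, 0 < w x) (y : Y) :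
    0 ≤ MoreMor.fibreIntegral f w y :=
  finsum_nonneg fun x => mul_nonneg (hpos _).le (Int.natCast_nonneg _)

theorem fibreIntegral_pos (f : X ⟶ Y) [LocallyQuasiFinite f] [QuasiCompact f]
    {w : X → ℤ} (hpos : ∀ x, 0 < w x) (x : X) : 0 < MoreMor.fibreIntegral f w (f x) := by
  obtain ⟨yb, hyb⟩ := exists_geomPt (f x)
  rw [← hyb]
  have : Finite {u : X // f u = pt yb} := (f.finite_preimage_singleton (pt yb)).to_subtype
  have := finite_geomFib f yb
  rw [← geomInt_eq_fibreIntegral f yb]
  obtain ⟨c, -⟩ := surjective_pt f yb ⟨x, hyb.symm⟩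
  cases nonempty_fintype (GeomFib f yb)
  unfold geomInt
  rw [finsum_eq_sum_of_fintype]
  exact Finset.sum_pos (fun a _ => hpos _) ⟨c, Finset.mem_univ _⟩

/-- The form of Chevalley's theorem which is used. -/
def ChevalleyHyp : Prop :=
  ∀ (X Y : Scheme.{u}) (f : X ⟶ Y) [IsAffine X] [IsAffine Y] (O : Y.Opens),
    IsCompact (O : Set Y) → IsFinite (f ∣_ O) → Surjective (f ∣_ O) → IsAffineOpen (f ⁻¹ᵁ O) →
      IsAffineOpen O

/-- One etale local step: the finite parts split off a positive constant. -/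
theorem exists_step (f : X ⟶ Y) [LocallyQuasiFinite f] [LocallyOfFiniteType f]
    [IsAffine X] [IsAffine Y] {w : X → ℤ} (hw : MoreMor.IsWeighting f w) (hpos : ∀ x, 0 < w x)
    (y : Y) :
    ∃ (N : Scheme.{u}) (g : N ⟶ Y) (v : N), Etale g ∧ IsAffine N ∧ g v = y ∧
      ∃ (R : Scheme.{u}) (ρ : R ⟶ N) (wR : R → ℤ), IsAffine R ∧ LocallyQuasiFinite ρ ∧
        LocallyOfFiniteType ρ ∧ MoreMor.IsWeighting ρ wR ∧ (∀ r, 0 < wR r) ∧
        ∀ n : N, MoreMor.fibreIntegral f w (g n) =
          MoreMor.fibreIntegral f w y + MoreMor.fibreIntegral ρ wR n := by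
  classical
  have hfin : ∀ y : Y, (f ⁻¹' {y}).Finite := fun y => f.finite_preimage_singleton y
  obtain ⟨V, g, u, hg, hu, J, W, hJ, hJW, hmem, hev⟩ :=
    exists_single f hw y (f ⁻¹' {y}) (hfin y) fun _ h => h
  let q := pullback.snd f g
  haveI : IsAffineHom f := inferInstance
  haveI : IsAffineHom q := MorphismProperty.of_isPullback (IsPullback.of_hasPullback f g) ‹_›
  haveI : LocallyQuasiFinite q := MorphismProperty.of_isPullback (IsPullback.of_hasPullback f g) ‹_›
  haveI : LocallyOfFiniteType q :=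
    MorphismProperty.of_isPullback (IsPullback.of_hasPullback f g) ‹_›
  obtain ⟨N₀, hN₀, hN₀o, huN₀⟩ :=
    mem_nhds_iff.mp (hev.and (eventually_disjoint q hJ fun z hz => (hJW z hz).1))
  obtain ⟨N, hN, huN, hNsub⟩ := exists_isAffineOpen_mem_and_subset (x := u)
    (U := ⟨N₀, hN₀o⟩) huN₀
  let P := q ⁻¹ᵁ N
  have hP : IsAffineOpen P := hN.preimage q
  let w' : ↥(pullback f g) → ℤ := fun p => w (pullback.fst f g p)
  -- the finite parts are closed
  have hWc : ∀ z ∈ J, IsClosed (W z : Set ↥(pullback f g)) := fun z hz => by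
    have := (hJW z hz).1.finite
    have : IsFinite (W z).ι := IsFinite.of_comp (W z).ι q
    rw [← Scheme.Opens.range_ι]
    exact (W z).ι.isClosedMap.isClosed_range
  let R : (pullback f g).Opens :=
    P ⊓ ⟨(⋃ z ∈ J, (W z : Set ↥(pullback f g)))ᶜ, (hJ.isClosed_biUnion hWc).isOpen_compl⟩
  have hRa : IsAffineOpen R := by
    have : IsAffine (P : Scheme.{u}) := hP
    have hcl : IsClosed (P.ι ⁻¹ᵁ R : Set (P : Scheme.{u})) := by
      have : (P.ι ⁻¹ᵁ R : Set (P : Scheme.{u})) =
          (P.ι ⁻¹' (⋃ z ∈ J, (W z : Set ↥(pullback f g))))ᶜ := by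
        ext p
        exact ⟨fun h => h.2, fun h => ⟨p.2, h⟩⟩
      rw [this]
      refine (IsOpen.preimage P.ι.continuous ?_).isClosed_compl
      exact isOpen_biUnion fun z _ => (W z).2
    haveI : IsClosedImmersion (P.ι ⁻¹ᵁ R).ι :=
      IsClosedImmersion.of_isPreimmersion _ (by rw [Scheme.Opens.range_ι]; exact hcl)
    have h : IsAffineOpen (P.ι ⁻¹ᵁ R) := isAffine_of_isAffineHom (P.ι ⁻¹ᵁ R).ι
    have := h.image_of_isOpenImmersion P.ι
    rwa [Scheme.Hom.image_preimage_eq_opensRange_inf, Scheme.Opens.opensRange_ι,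
      inf_eq_right.mpr inf_le_left] at this
  haveI : IsAffine (R : Scheme.{u}) := hRa
  have hr : Set.range (R.ι ≫ q) ⊆ Set.range N.ι := by
    rw [Scheme.Opens.range_ι]
    rintro _ ⟨r, rfl⟩
    exact r.2.1
  let ρ := IsOpenImmersion.lift N.ι (R.ι ≫ q) hr
  have hρ : ρ ≫ N.ι = R.ι ≫ q := IsOpenImmersion.lift_fac _ _ _
  have hsq : IsPullback (𝟙 (R : Scheme.{u})) ρ (R.ι ≫ q) N.ι :=
    ⟨⟨by rw [Category.id_comp, hρ]⟩, ⟨PullbackCone.IsLimit.mk _ (fun s => s.fst)
      (fun s => Category.comp_id _) (fun s => by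
        rw [← cancel_mono N.ι, Category.assoc, hρ]; exact s.condition)
      (fun s m h₁ _ => by rw [← h₁]; exact (Category.comp_id m).symm)⟩⟩
  haveI : LocallyOfFiniteType (R.ι ≫ q) := inferInstance
  haveI : LocallyQuasiFinite ρ := MorphismProperty.of_isPullback hsq inferInstance
  haveI : LocallyOfFiniteType ρ := MorphismProperty.of_isPullback hsq inferInstance
  have hwq : MoreMor.IsWeighting q w' :=
    Groth.Agent.S1419.result f w hw q (pullback.fst f g) g (IsPullback.of_hasPullback f g)
  have hwR : MoreMor.IsWeighting (R.ι ≫ q) (fun p => w' (R.ι p)) :=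
    Groth.Agent.S7185.result q w' hwq R
  have hwρ : MoreMor.IsWeighting ρ (fun p => w' (R.ι p)) :=
    Groth.Agent.S1419.result (R.ι ≫ q) _ hwR ρ (𝟙 _) N.ι hsq
  have hgen : ∀ (K : Type u) [Field K] [IsAlgClosed K] (yv : Spec (CommRingCat.of K) ⟶ V),
      pt yv ∈ N → MoreMor.fibreIntegral f w (g (pt yv)) =
        (∑ᶠ z ∈ J, w' z) + geomSum q R w' yv := by
    intro K _ _ yv hyv
    obtain ⟨hn, hn'⟩ := hN₀ (hNsub hyv)
    obtain ⟨hF, hI⟩ := LSC.fibreIntegral_eq_geomInt f hfin w g yv
    cases nonempty_fintype (GeomFib q yv)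
    let U := hJ.toFinset.biUnion fun z =>
      (Finset.univ : Finset (GeomFib q yv)).filter fun x => pt x.1 ∈ W z
    have hUS : ∑ x ∈ U, w' (pt x.1) = ∑ᶠ z ∈ J, w' z := by
      rw [Finset.sum_biUnion]
      · refine ((finsum_mem_eq_finite_toFinset_sum _ hJ).trans
          (Finset.sum_congr rfl fun z hz => ?_)).symm
        rw [← (show geomSum q (W z) w' yv = w' z from hn z (hJ.mem_toFinset.mp hz) _ yv rfl),
          geomSum, finsum_mem_eq_finite_toFinset_sum _ (Set.toFinite _)]
        refine Finset.sum_congr ?_ fun _ _ => rfl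
        ext x
        simp
      · intro z hz z' hz' hne
        rw [Function.onFun, Finset.disjoint_left]
        simp only [Finset.mem_filter, Finset.mem_univ, true_and]
        exact fun x hx => hn' z (hJ.mem_toFinset.mp hz) z' (hJ.mem_toFinset.mp hz') hne _ hx
          (apply_pt q yv x)
    have hRS : geomSum q R w' yv = ∑ x ∈ Uᶜ, w' (pt x.1) := by
      rw [geomSum, finsum_mem_eq_finite_toFinset_sum _ (Set.toFinite _)]
      refine Finset.sum_congr ?_ fun _ _ => rfl
      ext x
      have hxP : pt x.1 ∈ P := by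
        change q (pt x.1) ∈ N
        rw [apply_pt q yv x]
        exact hyv
      simp [U, R, hxP]
    rw [hI]
    unfold geomInt
    rw [finsum_eq_sum_of_fintype, hRS, ← hUS, Finset.sum_add_sum_compl]
  have hy : MoreMor.fibreIntegral f w y = ∑ᶠ z ∈ J, w' z := by
    obtain ⟨yb₀, hyb₀⟩ := exists_geomPt u
    have h := hgen _ yb₀ (hyb₀.symm ▸ huN)
    rw [hyb₀, hu] at h
    have hzero : geomSum q R w' yb₀ = 0 := by
      refine finsum_mem_eq_zero_of_forall_eq_zero fun x hx => absurd hx fun hx => ?_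
      have hxu : q (pt x.1) = u := (apply_pt q yb₀ x).trans hyb₀
      have hx' : pullback.fst f g (pt x.1) ∈ f ⁻¹' {y} := by
        change f _ = y
        rw [← Scheme.Hom.comp_apply, pullback.condition, Scheme.Hom.comp_apply]
        exact (congrArg g hxu).trans hu
      have hz := hmem _ hxu hx'
      exact hx.2 (Set.mem_biUnion hz (hJW _ hz).1.mem)
    rw [h, hzero, add_zero]
  have hfR : ∀ v : V, ((R.ι ≫ q) ⁻¹' {v}).Finite := fun v =>
    Set.Finite.preimage (f := R.ι) R.ι.isOpenEmbedding.injective.injOn (q.finite_preimage_singleton v)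
  refine ⟨N, N.ι ≫ g, ⟨u, huN⟩, inferInstance, hN, hu, R, ρ, fun p => w' (R.ι p), hRa, inferInstance,
    inferInstance, hwρ, fun r => hpos _, fun n => ?_⟩
  obtain ⟨yb, hyb⟩ := exists_geomPt n
  let yv := yb ≫ N.ι
  have hyv : pt yv = N.ι n := by rw [pt_comp, hyb]
  have hRn : MoreMor.fibreIntegral ρ (fun p => w' (R.ι p)) n = geomSum q R w' yv := by
    have h := Groth.Agent.S1418.result (R.ι ≫ q) hfR ρ (𝟙 _) N.ι hsq (fun p => w' (R.ι p)) n
    refine h.trans ?_
    rw [← hyv, ← geomInt_open q R w' yv]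
    haveI : Finite {r // (R.ι ≫ q) r = pt yv} := (hfR _).to_subtype
    exact (geomInt_eq_fibreIntegral (R.ι ≫ q) yv _).symm
  have hn : pt yv ∈ N := hyv.symm ▸ n.2
  rw [Scheme.Hom.comp_apply, ← hyv, hgen _ yv hn, hy, hRn]

/-- The maximal locus is affine. -/
theorem isAffineOpen_max (hCh : ChevalleyHyp.{u}) : ∀ (k : ℕ) (X Y : Scheme.{u}) (f : X ⟶ Y)
    [LocallyQuasiFinite f] [LocallyOfFiniteType f] [IsAffine X] [IsAffine Y] (w : X → ℤ),
    MoreMor.IsWeighting f w → (∀ x, 0 < w x) → ∀ d : ℤ, d.toNat = k →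
    (∀ y : Y, MoreMor.fibreIntegral f w y ≤ d) →
    ∀ O : Y.Opens, (O : Set Y) = {y | MoreMor.fibreIntegral f w y = d} → IsAffineOpen O := by
  intro k
  induction k using Nat.strong_induction_on with
  | _ k ih =>
  intro X Y f _ _ _ _ w hw hpos d hd hmax O hO
  rcases le_or_gt d 0 with hd0 | hd0
  · rcases eq_or_lt_of_le hd0 with rfl | hneg
    · have : O = ⊤ := by
        ext y
        rw [hO]
        simp only [Set.mem_ofPred_eq, TopologicalSpace.Opens.coe_top, Set.mem_univ, iff_true]
        exact le_antisymm (hmax y) (fibreIntegral_nonneg f hpos y)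
      rw [this]
      exact isAffineOpen_top Y
    · have : O = ⊥ := by
        ext y
        rw [hO]
        simp only [Set.mem_ofPred_eq, TopologicalSpace.Opens.coe_bot, Set.mem_empty_iff_false,
          iff_false]
        have := fibreIntegral_nonneg f hpos y
        omega
      rw [this]
      exact isAffineOpen_bot Y
  · -- after base change along `f` every point is in the image
    have key : ∀ (X' Y' : Scheme.{u}) (f' : X' ⟶ Y') [LocallyQuasiFinite f']
        [LocallyOfFiniteType f'] [IsAffine X'] [IsAffine Y'] (w' : X' → ℤ),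
        MoreMor.IsWeighting f' w' → (∀ x, 0 < w' x) →
        (∀ y : Y', MoreMor.fibreIntegral f' w' y ≤ d) →
        (∀ y : Y', 0 < MoreMor.fibreIntegral f' w' y) → ∀ O' : Y'.Opens,
        (O' : Set Y') = {y | MoreMor.fibreIntegral f' w' y = d} → IsAffineOpen O' := by
      intro X' Y' f' _ _ _ _ w' hw' hpos' hmax' hall O' hO'
      refine isAffineOpen_of_etale_local O' fun y => ?_
      obtain ⟨N, g, v, hg, hN, hgv, R, ρ, wR, hR, hq, hf, hwR, hposR, hsum⟩ :=
        exists_step f' hw' hpos' y
      refine ⟨N, g, v, hg, hN, hgv, ?_⟩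
      have he := hall y
      refine ih (d - MoreMor.fibreIntegral f' w' y).toNat (by omega) R N ρ wR hwR hposR
        (d - MoreMor.fibreIntegral f' w' y) rfl (fun n => ?_) _ ?_
      · have := hmax' (g n); have := hsum n; omega
      · ext n
        change g n ∈ (O' : Set Y') ↔ _
        rw [hO']
        simp only [Set.mem_ofPred_eq]
        have := hsum n
        omega
    haveI : IsAffineHom f := inferInstance
    have hpre : IsAffineOpen (f ⁻¹ᵁ O) := by
      have hfin : ∀ y : Y, (f ⁻¹' {y}).Finite := fun y => f.finite_preimage_singleton y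
      have hc := IsPullback.of_hasPullback f f
      haveI : LocallyQuasiFinite (pullback.snd f f) := MorphismProperty.of_isPullback hc ‹_›
      haveI : LocallyOfFiniteType (pullback.snd f f) :=
        MorphismProperty.of_isPullback hc ‹_›
      have hI : ∀ x, MoreMor.fibreIntegral (pullback.snd f f) (w ∘ pullback.fst f f) x =
          MoreMor.fibreIntegral f w (f x) :=
        Groth.Agent.S1418.result f hfin (pullback.snd f f) (pullback.fst f f) f hc w
      refine key _ X (pullback.snd f f) (w ∘ pullback.fst f f)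
        (Groth.Agent.S1419.result f w hw _ _ f hc) (fun x => hpos _) (fun x => ?_) (fun x => ?_) _ ?_
      · rw [hI]; exact hmax _
      · rw [hI]; exact fibreIntegral_pos f hpos x
      · ext x
        change f x ∈ (O : Set Y) ↔ _
        rw [hO]
        simp only [Set.mem_ofPred_eq, hI]
    have hfinO : IsFinite (f ∣_ O) := LSC.isFinite_morphismRestrict f
      (fun y => f.finite_preimage_singleton y) hw hpos d O fun y hy => by
        have : y ∈ (O : Set Y) := hy
        rwa [hO] at this
    have hsurj : Surjective (f ∣_ O) := by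
      constructor
      intro y
      have hy : y.1 ∈ (O : Set Y) := y.2
      rw [hO] at hy
      have hne : MoreMor.fibreIntegral f w y.1 ≠ 0 := by
        have : MoreMor.fibreIntegral f w y.1 = d := hy
        omega
      obtain ⟨x⟩ : Nonempty {u : X // f u = y.1} := by
        by_contra hE
        rw [not_nonempty_iff] at hE
        exact hne (finsum_of_isEmpty _)
      refine ⟨⟨x.1, show f x.1 ∈ O by rw [x.2]; exact y.2⟩, Subtype.ext ?_⟩
      exact (morphismRestrict_base_coe f O _).trans x.2
    have hcpt : IsCompact (O : Set Y) := by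
      have : (O : Set Y) = f '' (f ⁻¹ᵁ O : Set X) := by
        refine le_antisymm (fun y hy => ?_) (Set.image_preimage_subset _ _)
        obtain ⟨x, hx⟩ := hsurj.surj ⟨y, hy⟩
        exact ⟨x.1, x.2, (morphismRestrict_base_coe f O x).symm.trans (congrArg Subtype.val hx)⟩
      rw [this]
      exact hpre.isCompact.image f.continuous
    exact hCh X Y f O hcpt hfinO hsurj hpre

end Groth.Agent.Wt.MaxAffine
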