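import Groth.Agent.Wt.AffStrat
import Groth.Agent.CohTop.Push
import Groth.Agent.CohDev.Loc
import Groth.Agent.CohDev.Piece
import Groth.Agent.QCohGen.Presentable
import Groth.Agent.ModShf.ToSheaf
import Groth.Agent.CohLin.Basic
import Groth.Agent.LimTop.StalkHom
import Groth.Agent.S0468
import Groth.Agent.S0007
import Groth.Agent.S0012
import Groth.Agent.S9377

/-!
# Vanishing of cohomology above the affine stratification number
-/

set_option autoImplicit false
set_option linter.style.haveILetI false

universe u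

open AlgebraicGeometry CategoryTheory Limits TopologicalSpace Opposite

noncomputable section

namespace Groth.Agent.Wt.AffStratCoh

variable {X : Scheme.{u}}

open Groth.Agent.QCohGen Groth.Agent.Props.SubSheaf Groth.Agent.Props.SubMod in
/-- Cohomology vanishes if it vanishes on all finite type submodules. -/
theorem subsingleton_of_subs [CompactSpace X] [QuasiSeparatedSpace X] (F : X.Modules)
    (hF : Coh.IsQCoh F) (p : ℕ)
    (h : ∀ S : Presentable.Index (⟨F, hF⟩ : QCohCat.QCoh X),
      Subsingleton (Coh.HH X (sub S.1) p)) :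
    Subsingleton (Coh.HH X F p) := by
  let F' : QCohCat.QCoh X := ⟨F, hF⟩
  haveI := Presentable.isDirected F'
  haveI := Presentable.nonempty_index F'
  haveI : PrespectralSpace X.toPresheafedSpace.carrier := inferInstanceAs (PrespectralSpace X)
  haveI : QuasiSeparatedSpace X.toPresheafedSpace.carrier :=
    inferInstanceAs (QuasiSeparatedSpace X)
  haveI := Groth.Agent.S0468.result (X := X.toPresheafedSpace.carrier) ⊤ isCompact_univ
    (Presentable.Index F') p
  obtain ⟨hc⟩ := Presentable.nonempty_isColimit_toF F'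
  haveI : PreservesColimitsOfShape (Presentable.Index F') (CohLin.abFun X) :=
    ModShf.toSheafPreservesColimitsOfShape (R := X.ringCatSheaf) (Presentable.Index F')
  have h₁ := isColimitOfPreserves (CohLin.abFun X)
    (isColimitOfPreserves (QCohCat.isQCoh X).ι hc)
  have h₂ := isColimitOfPreserves
    ((Sheaf.cohomologyPresheafFunctor (Opens.grothendieckTopology X.toPresheafedSpace.carrier)
      p).flip.obj (op (⊤ : Opens X.toPresheafedSpace.carrier))) h₁
  haveI : Subsingleton (CohTop.HU (Coh.toAb F) p ⊤) := by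
    refine subsingleton_of_forall_eq 0 fun x => ?_
    obtain ⟨S, y, hy⟩ := Concrete.isColimit_exists_rep _ h₂ x
    haveI := h S
    haveI : Subsingleton (CohTop.HU (Coh.toAb (sub S.1)) p ⊤) :=
      (CohTop.Basic.HEquivHUTop _ p).symm.injective.subsingleton
    have hy0 : y = 0 := @Subsingleton.elim (CohTop.HU (Coh.toAb (sub S.1)) p ⊤) _ _ _
    rw [← hy, hy0]
    exact map_zero _
  exact (CohTop.Basic.HEquivHUTop (Coh.toAb F) p).injective.subsingleton

/-- The inductive statement: vanishing for all schemes with a stratification of length `n`. -/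
def Vanish (n : ℕ) : Prop :=
  ∀ (Y : Scheme.{u}), MoreMor.HasAffineStratification Y n → ∀ (G : Y.Modules), Coh.IsQCoh G →
    ∀ p, n < p → Subsingleton (Coh.HH Y G p)

/-- Finite type modules supported in the lower strata. -/
theorem subsingleton_ft {n m : ℕ} (hV : Vanish.{u} m) (hm : m ≤ n)
    (s : X → Fin (n + 1)) (hc : ∀ k, IsClosed {x : X | s x ≤ k})
    (hs : ∀ k : Fin (n + 1), ∃ (T : Scheme.{u}) (ι : T ⟶ X),
      IsImmersion ι ∧ IsAffine T ∧ IsAffineHom ι ∧ Set.range ι = {x : X | s x = k})
    (G : X.Modules) (hG : Coh.IsQCoh G) (hft : CohB1.IsFT G)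
    (hsupp : CohB1.support G ⊆ {x | (s x : ℕ) ≤ m}) (p : ℕ) (hp : m < p) :
    Subsingleton (Coh.HH X G p) := by
  obtain ⟨J, -, hiso, -, hJ⟩ := Groth.Agent.S9377.result X G hG hft
  have hZ : MoreMor.HasAffineStratification J.subscheme m :=
    AffStrat.restrict J.subschemeι m s hc hs hm fun z => hsupp (by
      rw [← hJ, ← J.range_subschemeι]
      exact ⟨z, rfl⟩)
  let M := (Scheme.Modules.pullback J.subschemeι).obj G
  haveI : G.IsQuasicoherent := hG
  haveI hMq : Coh.IsQCoh M := inferInstanceAs
    ((Scheme.Modules.pullback J.subschemeι).obj G).IsQuasicoherent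
  haveI := hV _ hZ M hMq p hp
  obtain ⟨e⟩ := Groth.Agent.S0012.result J.subschemeι M p
  let e' := CategoryTheory.asIso
    ((Scheme.Modules.pullbackPushforwardAdjunction J.subschemeι).unit.app G)
  haveI : Subsingleton (Coh.HH X ((Scheme.Modules.pushforward J.subschemeι).obj M) p) :=
    e.symm.injective.subsingleton
  have hinj : Function.Injective (CohLin.hMap e'.hom p) :=
    Function.LeftInverse.injective (g := CohLin.hMap e'.inv p) fun x => by
      rw [← CohLin.hMap_comp, e'.hom_inv_id, CohLin.hMap_id]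
  exact @Function.Injective.subsingleton _ _ _ hinj ‹_›

open Groth.Agent.QCohGen Groth.Agent.Props.SubSheaf Groth.Agent.Props.SubMod in
/-- Quasi-coherent modules supported in the lower strata. -/
theorem subsingleton_supported {n m : ℕ} (hV : Vanish.{u} m) (hm : m ≤ n)
    [CompactSpace X] [QuasiSeparatedSpace X]
    (s : X → Fin (n + 1)) (hc : ∀ k, IsClosed {x : X | s x ≤ k})
    (hs : ∀ k : Fin (n + 1), ∃ (T : Scheme.{u}) (ι : T ⟶ X),
      IsImmersion ι ∧ IsAffine T ∧ IsAffineHom ι ∧ Set.range ι = {x : X | s x = k})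
    (F : X.Modules) (hF : Coh.IsQCoh F)
    (hsupp : CohB1.support F ⊆ {x | (s x : ℕ) ≤ m}) (p : ℕ) (hp : m < p) :
    Subsingleton (Coh.HH X F p) := by
  haveI : F.IsQuasicoherent := hF
  refine subsingleton_of_subs F hF p fun S => ?_
  exact subsingleton_ft hV hm s hc hs _ (isQuasicoherent_sub S.2) (isFiniteType_sub S.2)
    ((CohDev.support_subset_of_mono (incl S.1)).trans hsupp) p hp

open Groth.Agent.PullStalk.Sky Groth.Agent.PullStalk.Exact in
/-- A composition which vanishes does so on stalks. -/
lemma stalkLin_comp_apply_eq_zero {A B C : X.Modules} {f : A ⟶ B} {g : B ⟶ C} (h : f ≫ g = 0)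
    (y : X) (t : A.presheaf.stalk y) : stalkLin g y (stalkLin f y t) = 0 := by
  rw [← LimTop.stalkLin_comp, h]
  obtain ⟨W, hyW, m, rfl⟩ := exists_germM_eq A y t
  rw [stalkLin_germ]
  exact map_zero _

open Groth.Agent.PullStalk.Sky Groth.Agent.PullStalk.Exact in
theorem vanish : ∀ n, Vanish.{u} n := by
  intro n
  induction n with
  | zero =>
    intro Y hY G hG p hp
    obtain ⟨s, -, hs⟩ := hY
    obtain ⟨T, ι, _, _, _, hr⟩ := hs 0
    obtain ⟨hA, -⟩ := AffStrat.isAffine_of_range_eq ι ⊤ (by
      rw [hr]; ext x; simp [Fin.eq_zero (s x)])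
    haveI : IsAffine ((⊤ : Y.Opens) : Scheme.{u}) := hA
    haveI : IsAffine Y := IsAffine.of_isIso Y.topIso.inv
    haveI : Coh.IsQCoh G := hG
    exact Groth.Agent.S0007.result Y G p hp
  | succ n ih =>
    intro X hX F hF p hp
    haveI := AffStrat.compactSpace hX
    haveI := AffStrat.quasiSeparatedSpace hX
    obtain ⟨s, hc, hs⟩ := hX
    let U : X.Opens := ⟨{x | s x ≤ (Fin.last n).castSucc}ᶜ, (hc _).isOpen_compl⟩
    have hU' : ∀ x, x ∉ U → (s x : ℕ) ≤ n := fun x hx => by
      have : s x ≤ (Fin.last n).castSucc := not_not.mp hx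
      exact this
    obtain ⟨T, ι, _, _, _, hr⟩ := hs (Fin.last (n + 1))
    obtain ⟨hUa, hj⟩ := AffStrat.isAffine_of_range_eq ι U (by
      rw [hr]
      ext x
      simp only [Set.mem_ofPred_eq, U, TopologicalSpace.Opens.coe_mk, Set.mem_compl_iff, not_le,
        Fin.lt_def, Fin.ext_iff, Fin.val_castSucc, Fin.val_last]
      omega)
    haveI : IsAffine (U : Scheme.{u}) := hUa
    haveI := hj
    haveI : F.IsQuasicoherent := hF
    let R := Scheme.Modules.restrictFunctor U.ι
    let η : F ⟶ (Scheme.Modules.pushforward U.ι).obj (R.obj F) :=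
      (Scheme.Modules.restrictAdjunction U.ι).unit.app F
    let J := (Scheme.Modules.pushforward U.ι).obj (R.obj F)
    haveI : (R.obj F).IsQuasicoherent := inferInstanceAs
      ((Scheme.Modules.restrictFunctor U.ι).obj F).IsQuasicoherent
    haveI : J.IsQuasicoherent := QCoh.isQuasicoherent_pushforward U.ι (R.obj F)
    haveI : IsIso (R.map η) := by
      haveI : IsIso (R.map η ≫ (Scheme.Modules.restrictAdjunction U.ι).counit.app (R.obj F)) := by
        rw [show R.map η ≫ (Scheme.Modules.restrictAdjunction U.ι).counit.app (R.obj F) = 𝟙 _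
          from (Scheme.Modules.restrictAdjunction U.ι).left_triangle_components F]
        infer_instance
      exact IsIso.of_isIso_comp_right (R.map η)
        ((Scheme.Modules.restrictAdjunction U.ι).counit.app (R.obj F))
    have hηb : ∀ y ∈ U, Function.Bijective (stalkLin η y) := fun y hy =>
      CohDev.stalk_bijective_of_isIso_restrict U.ι η (by rwa [Scheme.Opens.range_ι])
    have hlow : ∀ (M : X.Modules), (∀ y ∈ U, Subsingleton (M.presheaf.stalk y)) →
        CohB1.support M ⊆ {x | (s x : ℕ) ≤ n} := fun M hM x hx =>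
      hU' x fun hxU => hx (hM x hxU)
    haveI hKq : (kernel η).IsQuasicoherent := QCoh.isQuasicoherent_kernel η
    haveI hCq : (cokernel η).IsQuasicoherent := QCoh.isQuasicoherent_cokernel η
    haveI hIq : (Abelian.image η).IsQuasicoherent := QCoh.isQuasicoherent_image η
    obtain ⟨q, rfl⟩ : ∃ q, p = q + 1 := ⟨p - 1, by omega⟩
    have hJ0 : Subsingleton (Coh.HH X J (q + 1)) := by
      haveI : Coh.IsQCoh (R.obj F) := ‹(R.obj F).IsQuasicoherent›
      haveI := Groth.Agent.S0007.result (U : Scheme.{u}) (R.obj F) (q + 1) q.succ_pos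
      obtain ⟨e⟩ := Groth.Agent.S0012.result U.ι (R.obj F) (q + 1)
      exact e.symm.injective.subsingleton
    let S₂ := ShortComplex.mk (Abelian.image.ι η) (cokernel.π η) (kernel.condition _)
    have hS₂ : S₂.ShortExact :=
      { exact := ShortComplex.exact_of_f_is_kernel _ (kernelIsKernel (cokernel.π η)) }
    have hcok : ∀ y ∈ U, Subsingleton ((cokernel η).presheaf.stalk y) := fun y hy =>
      subsingleton_of_forall_eq 0 fun t => by
        obtain ⟨a, rfl⟩ := stalk_surjective (cokernel.π η) y t
        obtain ⟨b, rfl⟩ := (hηb y hy).2 a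
        exact stalkLin_comp_apply_eq_zero (cokernel.condition η) y b
    have hI : Subsingleton (Coh.HH X (Abelian.image η) (q + 1)) := by
      haveI : Subsingleton (Coh.HH X S₂.X₂ (q + 1)) := hJ0
      haveI : Subsingleton (Coh.HH X S₂.X₃ q) :=
        subsingleton_supported ih n.le_succ s hc hs _ hCq (hlow _ hcok) q (by omega)
      exact CohLin.subsingleton_X₁ hS₂
    have hker : ∀ y ∈ U, Subsingleton ((kernel η).presheaf.stalk y) := fun y hy =>
      subsingleton_of_forall_eq 0 fun t => by
        have h0 : stalkLin η y (stalkLin (kernel.ι η) y t) = 0 :=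
          stalkLin_comp_apply_eq_zero (kernel.condition η) y t
        exact CohDev.stalk_injective (kernel.ι η) y
          (((hηb y hy).1 (h0.trans (map_zero _).symm)).trans (map_zero _).symm)
    let S₁ := ShortComplex.mk (kernel.ι η) (Abelian.factorThruImage η)
      ((cancel_mono (Abelian.image.ι η)).mp (by simp))
    have hS₁ : S₁.ShortExact :=
      { exact := ShortComplex.exact_of_f_is_kernel _
          (isKernelOfComp _ _ (kernelIsKernel η) _ (Abelian.image.fac η)) }
    haveI : Subsingleton (Coh.HH X S₁.X₁ (q + 1)) :=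
      subsingleton_supported ih n.le_succ s hc hs _ hKq (hlow _ hker) (q + 1) (by omega)
    haveI : Subsingleton (Coh.HH X S₁.X₃ (q + 1)) := hI
    exact CohLin.subsingleton_X₂ hS₁

end Groth.Agent.Wt.AffStratCoh
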