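import Groth.Prelude.Def_MoreMor
import Groth.Agent.AffThick.Nil

/-!
# Affine stratifications: elementary properties
-/

set_option autoImplicit false
set_option linter.style.haveILetI false

universe u

open AlgebraicGeometry CategoryTheory Limits TopologicalSpace

namespace Groth.Agent.Wt.AffStrat

variable {X : Scheme.{u}}

/-- An immersion from an affine scheme with image the open `U` and affine shows that `U` is affine,
with affine inclusion. -/
theorem isAffine_of_range_eq {Z : Scheme.{u}} (ι : Z ⟶ X) [IsImmersion ι] [IsAffine Z]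
    [IsAffineHom ι] (U : X.Opens) (h : Set.range ι = (U : Set X)) :
    IsAffineOpen U ∧ IsAffineHom U.ι := by
  have hle : Set.range ι ⊆ Set.range U.ι := by rw [Scheme.Opens.range_ι, h]
  let l := IsOpenImmersion.lift U.ι ι hle
  have hl : l ≫ U.ι = ι := IsOpenImmersion.lift_fac _ _ _
  haveI : IsImmersion (l ≫ U.ι) := by rwa [hl]
  haveI : IsImmersion l := IsImmersion.of_comp l U.ι
  have hsurj : Function.Surjective l := fun x => by
    obtain ⟨z, hz⟩ : U.ι x ∈ Set.range ι := by rw [h]; exact x.2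
    refine ⟨z, U.ι.isOpenEmbedding.injective ?_⟩
    rw [← Scheme.Hom.comp_apply, hl, hz]
  haveI : IsClosedImmersion l := by
    refine IsClosedImmersion.of_isPreimmersion l ?_
    rw [hsurj.range_eq]
    exact isClosed_univ
  haveI : Surjective l := ⟨hsurj⟩
  have hU : IsAffine (U : Scheme.{u}) := AffThick.isAffine_of_surjective l
  refine ⟨hU, ⟨fun W hW => ?_⟩⟩
  haveI : IsAffine ((l ⁻¹ᵁ U.ι ⁻¹ᵁ W : Z.Opens) : Scheme.{u}) := by
    rw [← Scheme.Hom.comp_preimage, hl]
    exact hW.preimage ι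
  haveI : IsClosedImmersion (l ∣_ U.ι ⁻¹ᵁ W) :=
    IsZariskiLocalAtTarget.restrict ‹IsClosedImmersion l› _
  haveI : Surjective (l ∣_ U.ι ⁻¹ᵁ W) :=
    IsZariskiLocalAtTarget.restrict ‹Surjective l› _
  exact AffThick.isAffine_of_surjective (l ∣_ U.ι ⁻¹ᵁ W)

/-- A scheme with an affine stratification is quasi-compact. -/
theorem compactSpace {n : ℕ} (h : MoreMor.HasAffineStratification X n) : CompactSpace X := by
  obtain ⟨s, -, hs⟩ := h
  refine ⟨?_⟩
  have : (Set.univ : Set X) = ⋃ i, {x | s x = i} := by ext x; simp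
  rw [this]
  refine isCompact_iUnion fun i => ?_
  obtain ⟨Z, ι, _, _, _, hr⟩ := hs i
  rw [← hr]
  exact isCompact_range ι.continuous

/-- A scheme with an affine stratification is quasi-separated. -/
theorem quasiSeparatedSpace {n : ℕ} (h : MoreMor.HasAffineStratification X n) :
    QuasiSeparatedSpace X := by
  obtain ⟨s, -, hs⟩ := h
  refine quasiSeparatedSpace_iff_forall_affineOpens.mpr fun U V => ?_
  have : ((U.1 : Set X) ∩ (V.1 : Set X)) = ⋃ i, {x | s x = i} ∩ ((U.1 : Set X) ∩ V.1) := by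
    ext x; simp
  rw [this]
  refine isCompact_iUnion fun i => ?_
  obtain ⟨Z, ι, _, _, _, hr⟩ := hs i
  rw [← hr, Set.inter_comm, ← Set.image_preimage_eq_inter_range]
  refine IsCompact.image ?_ ι.continuous
  exact QuasiSeparatedSpace.inter_isCompact _ _ (ι ⁻¹ᵁ U.1).2 (U.2.preimage ι).isCompact
    (ι ⁻¹ᵁ V.1).2 (V.2.preimage ι).isCompact

/-- An affine stratification restricts to a closed subscheme lying in the lower strata. -/
theorem restrict {Z : Scheme.{u}} (i : Z ⟶ X) [IsClosedImmersion i] {n : ℕ} (m : ℕ)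
    (s : X → Fin (n + 1)) (hc : ∀ k, IsClosed {x : X | s x ≤ k})
    (hs : ∀ k : Fin (n + 1), ∃ (T : Scheme.{u}) (ι : T ⟶ X),
      IsImmersion ι ∧ IsAffine T ∧ IsAffineHom ι ∧ Set.range ι = {x : X | s x = k})
    (hm : m ≤ n) (hZ : ∀ z, (s (i z) : ℕ) ≤ m) :
    MoreMor.HasAffineStratification Z m := by
  refine ⟨fun z => ⟨s (i z), Nat.lt_succ_of_le (hZ z)⟩, fun k => ?_, fun k => ?_⟩
  · exact (hc ⟨k, by omega⟩).preimage i.continuous
  · obtain ⟨T, ι, _, _, _, hr⟩ := hs ⟨k, by omega⟩
    refine ⟨pullback i ι, pullback.fst i ι,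
      MorphismProperty.of_isPullback (IsPullback.of_hasPullback i ι).flip ‹IsImmersion ι›, ?_,
      MorphismProperty.of_isPullback (IsPullback.of_hasPullback i ι).flip ‹IsAffineHom ι›, ?_⟩
    · haveI : IsClosedImmersion (pullback.snd i ι) :=
        MorphismProperty.of_isPullback (IsPullback.of_hasPullback i ι) ‹IsClosedImmersion i›
      exact isAffine_of_isAffineHom (pullback.snd i ι)
    · rw [Scheme.Pullback.range_fst, hr]
      ext z
      simp [Fin.ext_iff]

end Groth.Agent.Wt.AffStrat
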