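import Groth.Prelude.Def_MoreMor
import Groth.Agent.Wt.MaxAffine
import Groth.Agent.Wt.ChevalleyGeneral
import Mathlib.Data.Finset.Sort

/-!
# The affine stratification given by a positive weighting

For `f : X ⟶ Y` quasi-finite surjective with `X` affine and `Y` separated, the level sets of the fibre
integral of a positive weighting are affine.
-/

set_option autoImplicit false
set_option linter.style.haveILetI false

universe u

open CategoryTheory Limits AlgebraicGeometry TopologicalSpace

noncomputable section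

namespace Groth.Agent.Wt.AffStratWt

variable {X Y : Scheme.{u}}

theorem chevalleyHyp : MaxAffine.ChevalleyHyp.{u} := by
  intro X Y f _ _ O _ hfin hsurj hW
  have : IsAffine ((f ⁻¹ᵁ O : X.Opens) : Scheme.{u}) := hW
  exact Chevalley.isAffine (f ∣_ O)

/-- The level sets are affine. -/
theorem exists_stratum (f : X ⟶ Y) [Surjective f] [LocallyQuasiFinite f] [LocallyOfFiniteType f]
    [QuasiCompact f] [IsAffine X] [Y.IsSeparated] {w : X → ℤ} (hw : MoreMor.IsWeighting f w)
    (hpos : ∀ x, 0 < w x) (d : ℤ) :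
    ∃ (Z : Scheme.{u}) (ι : Z ⟶ Y), IsImmersion ι ∧ IsAffine Z ∧ IsAffineHom ι ∧
      Set.range ι = {y : Y | MoreMor.fibreIntegral f w y = d} := by
  have hfin : ∀ y : Y, (f ⁻¹' {y}).Finite := fun y => f.finite_preimage_singleton y
  have hls := LSC.lowerSemicontinuous_fibreIntegral f hfin hw hpos
  let C : Closeds Y := ⟨{y | MoreMor.fibreIntegral f w y ≤ d}, hls.isClosed_preimage d⟩
  let Zc : Scheme.{u} := (Scheme.IdealSheafData.vanishingIdeal C).subscheme
  let zι : Zc ⟶ Y := (Scheme.IdealSheafData.vanishingIdeal C).subschemeι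
  have hrange : Set.range zι = {y : Y | MoreMor.fibreIntegral f w y ≤ d} := by
    show Set.range (Scheme.IdealSheafData.vanishingIdeal C).subschemeι = _
    rw [Scheme.IdealSheafData.range_subschemeι, Scheme.IdealSheafData.coe_support_vanishingIdeal]
    rfl
  have hc := IsPullback.of_hasPullback f zι
  let f' : pullback f zι ⟶ Zc := pullback.snd f zι
  let w' : ↥(pullback f zι) → ℤ := fun x => w (pullback.fst f zι x)
  have : IsClosedImmersion zι := inferInstanceAs (IsClosedImmersion (Scheme.IdealSheafData.subschemeι _))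
  have : Surjective f' := MorphismProperty.of_isPullback hc ‹Surjective f›
  have : LocallyQuasiFinite f' := MorphismProperty.of_isPullback hc ‹LocallyQuasiFinite f›
  have : LocallyOfFiniteType f' := MorphismProperty.of_isPullback hc ‹LocallyOfFiniteType f›
  have : QuasiCompact f' := MorphismProperty.of_isPullback hc ‹QuasiCompact f›
  have : IsAffineHom f := by
    have : IsAffineHom (f ≫ terminal.from Y) := by rw [terminal.comp_from]; infer_instance
    exact IsAffineHom.of_comp f (terminal.from Y)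
  have : IsAffineHom f' := MorphismProperty.of_isPullback hc ‹IsAffineHom f›
  have : IsAffine (pullback f zι) := isAffine_of_isAffineHom (pullback.fst f zι)
  have hw' : MoreMor.IsWeighting f' w' := Groth.Agent.S1419.result f w hw _ _ zι hc
  have hI : ∀ z, MoreMor.fibreIntegral f' w' z = MoreMor.fibreIntegral f w (zι z) :=
    Groth.Agent.S1418.result f hfin f' (pullback.fst f zι) zι hc w
  have hmax : ∀ z, MoreMor.fibreIntegral f' w' z ≤ d := fun z => by
    rw [hI]
    have : zι z ∈ Set.range zι := ⟨z, rfl⟩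
    rwa [hrange] at this
  have hpos' : ∀ x, 0 < w' x := fun x => hpos _
  have hfin' : ∀ z : Zc, (f' ⁻¹' {z}).Finite := fun z => f'.finite_preimage_singleton z
  let O : Zc.Opens := ⟨{z | MoreMor.fibreIntegral f' w' z = d},
    MaxAffine.isOpen_max f' hw' hpos' d hmax⟩
  have : IsAffineHom O.ι := by
    refine ⟨fun V hV => ?_⟩
    have : IsAffine (V : Scheme.{u}) := hV
    have : IsAffine ((f' ⁻¹ᵁ V : Scheme.Opens _) : Scheme.{u}) := hV.preimage f'
    have hcV := (isPullback_morphismRestrict f' V).flip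
    have : LocallyQuasiFinite (f' ∣_ V) := MorphismProperty.of_isPullback hcV ‹LocallyQuasiFinite f'›
    have : LocallyOfFiniteType (f' ∣_ V) :=
      MorphismProperty.of_isPullback hcV ‹LocallyOfFiniteType f'›
    have hIV : ∀ v, MoreMor.fibreIntegral (f' ∣_ V) (w' ∘ (f' ⁻¹ᵁ V).ι) v =
        MoreMor.fibreIntegral f' w' (V.ι v) :=
      Groth.Agent.S1418.result f' hfin' (f' ∣_ V) (f' ⁻¹ᵁ V).ι V.ι hcV w'
    have hVO : IsAffineOpen (V.ι ⁻¹ᵁ O) :=
      MaxAffine.isAffineOpen_max chevalleyHyp d.toNat _ _ (f' ∣_ V) (w' ∘ (f' ⁻¹ᵁ V).ι)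
        (Groth.Agent.S1419.result f' w' hw' _ _ V.ι hcV) (fun x => hpos' _) d rfl
        (fun v => by rw [hIV]; exact hmax _) _ (by
          ext v
          simp only [Set.mem_ofPred_eq, hIV]
          rfl)
    rw [← O.ι.isAffineOpen_iff_of_isOpenImmersion, Scheme.Hom.image_preimage_eq_opensRange_inf,
      Scheme.Opens.opensRange_ι]
    rw [← V.ι.isAffineOpen_iff_of_isOpenImmersion, Scheme.Hom.image_preimage_eq_opensRange_inf,
      Scheme.Opens.opensRange_ι, inf_comm] at hVO
    exact hVO
  have : IsFinite (f' ∣_ O) :=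
    LSC.isFinite_morphismRestrict f' hfin' hw' hpos' d O fun z hz => hz
  have : Surjective (f' ∣_ O) := IsZariskiLocalAtTarget.restrict ‹Surjective f'› _
  have : IsAffineHom (f' ⁻¹ᵁ O).ι :=
    MorphismProperty.of_isPullback (isPullback_morphismRestrict f' O) ‹IsAffineHom O.ι›
  have : IsAffine ((f' ⁻¹ᵁ O : Scheme.Opens _) : Scheme.{u}) :=
    isAffine_of_isAffineHom (f' ⁻¹ᵁ O).ι
  have : IsAffine (O : Scheme.{u}) := Chevalley.isAffine (f' ∣_ O)
  refine ⟨O, O.ι ≫ zι, inferInstance, inferInstance, inferInstance, ?_⟩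
  ext y
  constructor
  · rintro ⟨z, rfl⟩
    have hz : MoreMor.fibreIntegral f' w' (O.ι z) = d := z.2
    rw [hI] at hz
    exact hz
  · intro hy
    have : y ∈ Set.range zι := by rw [hrange]; exact le_of_eq hy
    obtain ⟨z, rfl⟩ := this
    have hzO : z ∈ O := by
      show MoreMor.fibreIntegral f' w' z = d
      rw [hI]; exact hy
    exact ⟨⟨z, hzO⟩, rfl⟩

/-- A weighting with `n + 1` values gives an affine stratification. -/
theorem hasAffineStratification (f : X ⟶ Y) [Surjective f] [LocallyQuasiFinite f]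
    [LocallyOfFiniteType f] [QuasiCompact f] [IsAffine X] [Y.IsSeparated] {w : X → ℤ}
    (hw : MoreMor.IsWeighting f w) (hpos : ∀ x, 0 < w x) (n : ℕ) (V : Finset ℤ)
    (hV : ∀ y, MoreMor.fibreIntegral f w y ∈ V) (hn : V.card = n + 1) :
    MoreMor.HasAffineStratification Y n := by
  have hls := LSC.lowerSemicontinuous_fibreIntegral f (fun y => f.finite_preimage_singleton y) hw hpos
  let e := V.orderIsoOfFin hn
  refine ⟨fun y => e.symm ⟨_, hV y⟩, fun i => ?_, fun i => ?_⟩
  · convert hls.isClosed_preimage (e i).1 using 1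
    ext y
    simp only [Set.mem_ofPred_eq, Set.mem_preimage, Set.mem_Iic]
    rw [e.symm_apply_le]
    exact Iff.rfl
  · obtain ⟨Z, ι, h₁, h₂, h₃, h₄⟩ := exists_stratum f hw hpos (e i).1
    refine ⟨Z, ι, h₁, h₂, h₃, h₄.trans ?_⟩
    ext y
    simp only [Set.mem_ofPred_eq]
    rw [OrderIso.symm_apply_eq]
    exact ⟨fun h => Subtype.ext h, fun h => congrArg Subtype.val h⟩

end Groth.Agent.Wt.AffStratWt
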