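import Groth.Agent.EtConsAb.Strata
import Mathlib.AlgebraicGeometry.Morphisms.FinitePresentation
import Mathlib.AlgebraicGeometry.ResidueField
import Mathlib.RingTheory.FinitePresentation

/-!
# Stratifications over which a completely decomposed morphism has sections
-/

set_option autoImplicit false
set_option linter.style.haveILetI false

universe u

open CategoryTheory Limits AlgebraicGeometry TopologicalSpace Opposite Topology

noncomputable section

namespace Groth.Agent.Wt.SectionStrat

/-- A point of a finitely presented algebra with values in a residue field spreads out. -/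
theorem exists_spread {A B k : Type u} [CommRing A] [CommRing B] [Field k] (θ : A →+* B)
    (hθ : θ.FinitePresentation) (ev : A →+* k)
    (hev : ∀ c : k, ∃ a s : A, ev s ≠ 0 ∧ c * ev s = ev a)
    (χ₀ : B →+* k) (hχ : χ₀.comp θ = ev) :
    ∃ (s : A) (I : Ideal A), ev s ≠ 0 ∧ I.FG ∧ I ≤ RingHom.ker ev ∧
      ∀ (A' : Type u) [CommRing A'] [Algebra A A'], IsUnit (algebraMap A A' s) →
        (∀ a ∈ I, algebraMap A A' a = 0) → ∃ χ : B →+* A', χ.comp θ = algebraMap A A' := by
  classical
  letI := θ.toAlgebra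
  haveI : Algebra.FinitePresentation A B := hθ
  obtain ⟨n, q, hq, hker⟩ := Algebra.FinitePresentation.out (R := A) (A := B)
  obtain ⟨G, hG⟩ := hker
  choose a s₁ hs hc using fun i : Fin n => hev (χ₀ (q (MvPolynomial.X i)))
  let s := ∏ i, s₁ i
  have hs0 : ev s ≠ 0 := by
    rw [map_prod]; exact Finset.prod_ne_zero_iff.mpr fun i _ => hs i
  let As := Localization.Away s
  let b : Fin n → As := fun i => IsLocalization.mk' As (a i * ∏ j ∈ Finset.univ.erase i, s₁ j)
    (⟨s, Submonoid.mem_powers s⟩ : Submonoid.powers s)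
  have hun : IsUnit (ev s) := isUnit_iff_ne_zero.mpr hs0
  let evs : As →+* k := IsLocalization.Away.lift (S := As) s hun
  have hb : ∀ i, evs (b i) = χ₀ (q (MvPolynomial.X i)) := fun i => by
    have hsp : s = s₁ i * ∏ j ∈ Finset.univ.erase i, s₁ j :=
      (Finset.mul_prod_erase _ _ (Finset.mem_univ i)).symm
    have h1 := congrArg evs (IsLocalization.mk'_spec As (a i * ∏ j ∈ Finset.univ.erase i, s₁ j)
      (⟨s, Submonoid.mem_powers s⟩ : Submonoid.powers s))
    rw [map_mul] at h1
    simp only [evs, IsLocalization.Away.lift_eq] at h1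
    refine mul_right_cancel₀ hs0 (h1.trans ?_)
    rw [map_mul, ← hc i, mul_assoc, ← map_mul, ← hsp]
  have hgen : ∀ g : MvPolynomial (Fin n) A, evs (MvPolynomial.aeval b g) = χ₀ (q g) := by
    have : (evs.comp (MvPolynomial.aeval b).toRingHom) = χ₀.comp q.toRingHom := by
      refine MvPolynomial.ringHom_ext (fun r => ?_) (fun i => ?_)
      · simp only [RingHom.comp_apply, AlgHom.toRingHom_eq_coe, RingHom.coe_coe, MvPolynomial.aeval_C]
        rw [show q (MvPolynomial.C r) = θ r from q.commutes r]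
        exact (IsLocalization.Away.lift_eq (S := As) s hun r).trans (RingHom.congr_fun hχ r).symm
      · simpa using hb i
    exact fun g => RingHom.congr_fun this g
  choose r hr using fun g : MvPolynomial (Fin n) A =>
    IsLocalization.Away.surj s (MvPolynomial.aeval b g : As)
  choose r' hr' using hr
  refine ⟨s, Ideal.span (r' '' (G : Set (MvPolynomial (Fin n) A))), hs0,
    Submodule.fg_span (G.finite_toSet.image r'), ?_, fun A' _ _ hu h0 => ?_⟩
  · refine Ideal.span_le.mpr ?_
    rintro _ ⟨g, hg, rfl⟩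
    have h1 := congrArg evs (hr' g)
    have h2 : q g = 0 := by
      have : g ∈ RingHom.ker q.toRingHom := hG ▸ Ideal.subset_span hg
      exact this
    rw [map_mul, hgen, h2, map_zero, zero_mul] at h1
    simp only [evs, IsLocalization.Away.lift_eq] at h1
    exact h1.symm
  · let ι : As →ₐ[A] A' :=
      { toRingHom := IsLocalization.Away.lift (S := As) s hu
        commutes' := fun x => IsLocalization.Away.lift_eq (S := As) s hu x }
    let Φ : MvPolynomial (Fin n) A →ₐ[A] A' := ι.comp (MvPolynomial.aeval b)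
    have hle : RingHom.ker q.toRingHom ≤ RingHom.ker Φ.toRingHom := by
      rw [← hG]
      refine Ideal.span_le.mpr fun g hg => ?_
      have h1 := congrArg ι (hr' g)
      rw [map_mul, map_pow, AlgHom.commutes, AlgHom.commutes,
        h0 _ (Ideal.subset_span ⟨g, hg, rfl⟩)] at h1
      exact (hu.pow _).mul_left_eq_zero.mp h1
    let χ : B →ₐ[A] A' := AlgHom.liftOfSurjective q hq Φ hle
    exact ⟨χ.toRingHom, RingHom.ext fun x => χ.commutes x⟩

variable {X Y : Scheme.{u}}

/-- A section over a constructible stratum through a given point. -/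
theorem exists_stratum [QuasiSeparatedSpace Y] (f : X ⟶ Y) [LocallyOfFinitePresentation f] (y : Y)
    (h : ∃ x : X, f x = y ∧ Function.Bijective (f.residueFieldMap x)) :
    ∃ (Z : Scheme.{u}) (z : Z ⟶ Y) (σ : Z ⟶ X), σ ≫ f = z ∧ IsImmersion z ∧
      LocallyOfFinitePresentation z ∧ QuasiCompact z ∧ QuasiSeparated z ∧
      IsConstructible (Set.range z) ∧ y ∈ Set.range z := by
  obtain ⟨x, rfl, hbij⟩ := h
  obtain ⟨V, hV, hxV, -⟩ := exists_isAffineOpen_mem_and_subset (show f x ∈ (⊤ : Y.Opens) from trivial)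
  obtain ⟨W, hW, hxW, hWV⟩ := exists_isAffineOpen_mem_and_subset (show x ∈ f ⁻¹ᵁ V from hxV)
  let θ := f.appLE V W hWV
  have hθ : θ.hom.FinitePresentation := f.finitePresentation_appLE hV hW hWV
  let R := RingEquiv.ofBijective (f.residueFieldMap x).hom hbij
  let ev : Γ(Y, V) →+* Y.residueField (f x) := (Y.evaluation V (f x) hxV).hom
  let χ₀ : Γ(X, W) →+* Y.residueField (f x) :=
    R.symm.toRingHom.comp (X.evaluation W x hxW).hom
  have hχ : χ₀.comp θ.hom = ev := by
    ext a
    refine R.injective ((R.apply_symm_apply _).trans ?_)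
    show X.evaluation W x hxW (f.appLE V W hWV a) = f.residueFieldMap x (Y.evaluation V (f x) hxV a)
    rw [Scheme.evaluation_naturality_apply f x hxV a]
    show (X.evaluation W x hxW) ((X.presheaf.map (homOfLE hWV).op) (f.app V a)) = _
    exact congrArg (X.residue x) (X.presheaf.germ_res_apply (homOfLE hWV) x hxW (f.app V a))
  have hev : ∀ c, ∃ a s : Γ(Y, V), ev s ≠ 0 ∧ c * ev s = ev a := by
    intro c
    obtain ⟨t, rfl⟩ := Y.residue_surjective (f x) c
    letI : Algebra Γ(Y, V) (Y.presheaf.stalk (f x)) := (Y.presheaf.germ V (f x) hxV).hom.toAlgebra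
    haveI := hV.isLocalization_stalk ⟨f x, hxV⟩
    obtain ⟨⟨a, s⟩, hs⟩ := IsLocalization.surj
      (hV.primeIdealOf ⟨f x, hxV⟩).asIdeal.primeCompl t
    refine ⟨a, s.1, ?_, ?_⟩
    · have h1 : IsUnit (algebraMap Γ(Y, V) (Y.presheaf.stalk (f x)) s.1) :=
        IsLocalization.map_units _ s
      exact (h1.map (Y.residue (f x)).hom).ne_zero
    · exact (map_mul (Y.residue (f x)).hom _ _).symm.trans (congrArg (Y.residue (f x)).hom hs)
  obtain ⟨s, I, hs, hI, hIp, hχ'⟩ := exists_spread θ.hom hθ ev hev χ₀ hχ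
  let A' := Localization.Away (Ideal.Quotient.mk I s)
  let φ : Γ(Y, V) →+* A' := algebraMap Γ(Y, V) A'
  have hφ : φ = (algebraMap (Γ(Y, V) ⧸ I) A').comp (Ideal.Quotient.mk I) :=
    IsScalarTower.algebraMap_eq Γ(Y, V) (Γ(Y, V) ⧸ I) A'
  obtain ⟨χ, hχc⟩ := hχ' A'
    (by
      show IsUnit (φ s)
      rw [hφ]
      exact IsLocalization.Away.algebraMap_isUnit (Ideal.Quotient.mk I s))
    (fun a ha => by
      show φ a = 0
      rw [hφ, RingHom.comp_apply, Ideal.Quotient.eq_zero_iff_mem.2 ha, map_zero])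
  let ψ : Spec (CommRingCat.of A') ⟶ Spec Γ(Y, V) := Spec.map (CommRingCat.ofHom φ)
  let z : Spec (CommRingCat.of A') ⟶ Y := ψ ≫ hV.fromSpec
  have hψr : Set.range ψ =
      PrimeSpectrum.zeroLocus (I : Set Γ(Y, V)) ∩ PrimeSpectrum.basicOpen s := by
    show Set.range (PrimeSpectrum.comap φ) = _
    rw [hφ, PrimeSpectrum.comap_comp]
    show Set.range (PrimeSpectrum.comap (Ideal.Quotient.mk I) ∘
      PrimeSpectrum.comap (algebraMap _ A')) = _
    rw [Set.range_comp, PrimeSpectrum.localization_away_comap_range A' (Ideal.Quotient.mk I s)]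
    have hq := range_comap_of_surjective _ (Ideal.Quotient.mk I) Ideal.Quotient.mk_surjective
    rw [Ideal.mk_ker] at hq
    rw [← hq, show ((PrimeSpectrum.basicOpen (Ideal.Quotient.mk I s)) :
        Set (PrimeSpectrum (Γ(Y, V) ⧸ I))) =
      PrimeSpectrum.comap (Ideal.Quotient.mk I) ⁻¹'
        (PrimeSpectrum.basicOpen s : Set (PrimeSpectrum Γ(Y, V)))
      from rfl, Set.image_preimage_eq_inter_range, Set.inter_comm]
  have hfp : φ.FinitePresentation := by
    rw [hφ]
    exact (RingHom.finitePresentation_algebraMap.mpr (IsLocalization.Away.finitePresentation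
      (Ideal.Quotient.mk I s) (S := A'))).comp
      (RingHom.FinitePresentation.of_surjective _ Ideal.Quotient.mk_surjective
        (by rw [Ideal.mk_ker]; exact hI))
  haveI : LocallyOfFinitePresentation ψ :=
    (HasRingHomProperty.Spec_iff (P := @LocallyOfFinitePresentation)).mpr hfp
  haveI : IsImmersion ψ := by
    haveI : IsClosedImmersion (Spec.map (CommRingCat.ofHom (Ideal.Quotient.mk I))) :=
      IsClosedImmersion.spec_of_surjective _ Ideal.Quotient.mk_surjective
    haveI : IsOpenImmersion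
        (Spec.map (CommRingCat.ofHom (algebraMap (Γ(Y, V) ⧸ I) A'))) :=
      IsOpenImmersion.of_isLocalization (Ideal.Quotient.mk I s)
    show IsImmersion (Spec.map (CommRingCat.ofHom φ))
    rw [hφ, CommRingCat.ofHom_comp, Spec.map_comp]
    infer_instance
  refine ⟨_, z, Spec.map (CommRingCat.ofHom χ) ≫ hW.fromSpec, ?_, inferInstance, inferInstance,
    quasiCompact_of_compactSpace z, inferInstance, ?_, ?_⟩
  · rw [Category.assoc, ← hV.SpecMap_appLE_fromSpec f hW hWV, ← Category.assoc, ← Spec.map_comp]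
    show Spec.map _ ≫ _ = Spec.map (CommRingCat.ofHom φ) ≫ _
    congr 2
    exact CommRingCat.hom_ext hχc
  · rw [show ⇑z = hV.fromSpec ∘ ψ from funext fun _ => Scheme.Hom.comp_apply _ _ _, Set.range_comp,
      hψr]
    refine (IsConstructible.inter ?_ ?_).image_of_isOpenEmbedding hV.fromSpec.isOpenEmbedding ?_
    · refine isConstructible_compl.mp ?_
      exact (PrimeSpectrum.isRetrocompact_zeroLocus_compl_of_fg hI).isConstructible
        (PrimeSpectrum.isClosed_zeroLocus _).isOpen_compl
    · exact (PrimeSpectrum.isCompact_basicOpen s).isConstructible (PrimeSpectrum.basicOpen s).2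
    · rw [hV.range_fromSpec]
      exact hV.isCompact.isRetrocompact V.2
  · rw [show ⇑z = hV.fromSpec ∘ ψ from funext fun _ => Scheme.Hom.comp_apply _ _ _, Set.range_comp,
      hψr]
    have hker : ∀ a : Γ(Y, V), ev a = 0 ↔ a ∈ (hV.primeIdealOf ⟨f x, hxV⟩).asIdeal := by
      intro a
      letI : Algebra Γ(Y, V) (Y.presheaf.stalk (f x)) := (Y.presheaf.germ V (f x) hxV).hom.toAlgebra
      haveI := hV.isLocalization_stalk ⟨f x, hxV⟩
      rw [← IsLocalization.AtPrime.to_map_mem_maximal_iff (Y.presheaf.stalk (f x))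
        (hV.primeIdealOf ⟨f x, hxV⟩).asIdeal a]
      exact IsLocalRing.residue_eq_zero_iff _
    exact ⟨hV.primeIdealOf ⟨f x, hxV⟩,
      ⟨fun a ha => (hker a).mp (hIp ha), fun h => hs ((hker s).mpr h)⟩,
      hV.fromSpec_primeIdealOf ⟨f x, hxV⟩⟩

/-- Finitely many strata with sections. -/
theorem exists_strata [CompactSpace Y] [QuasiSeparatedSpace Y] (f : X ⟶ Y)
    [LocallyOfFinitePresentation f]
    (hcd : ∀ y : Y, ∃ x : X, f x = y ∧ Function.Bijective (f.residueFieldMap x)) :
    ∃ (n : ℕ) (Z : Fin n → Scheme.{u}) (z : ∀ i, Z i ⟶ Y), (∀ y : Y, ∃ i, y ∈ Set.range (z i)) ∧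
      ∀ i, IsImmersion (z i) ∧ LocallyOfFinitePresentation (z i) ∧ QuasiCompact (z i) ∧
        QuasiSeparated (z i) ∧
        ∃ s : Z i ⟶ pullback f (z i), s ≫ pullback.snd f (z i) = 𝟙 (Z i) := by
  classical
  choose Z z σ hσ himm hfp hqc hqs hcons hy using fun y => exists_stratum f y (hcd y)
  obtain ⟨t, ht⟩ := EtConsAb.exists_finite_subcover_of_isConstructible
    (fun y => Set.range (z y)) hcons (Set.eq_univ_of_forall fun y => Set.mem_iUnion.mpr ⟨y, hy y⟩)
  refine ⟨t.card, fun i => Z (t.equivFin.symm i), fun i => z (t.equivFin.symm i), fun y => ?_,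
    fun i => ⟨himm _, hfp _, hqc _, hqs _, pullback.lift (σ _) (𝟙 _) (by rw [hσ, Category.id_comp]),
      pullback.lift_snd _ _ _⟩⟩
  obtain ⟨w, hw, hyw⟩ := Set.mem_iUnion₂.mp (ht.ge (Set.mem_univ y))
  exact ⟨t.equivFin ⟨w, hw⟩, by
    show y ∈ Set.range (z (t.equivFin.symm (t.equivFin ⟨w, hw⟩)).1)
    rw [Equiv.symm_apply_apply]
    exact hyw⟩

end Groth.Agent.Wt.SectionStrat
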