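import Mathlib.RingTheory.FinitePresentation
import Mathlib.Algebra.Module.FinitePresentation
import Mathlib.RingTheory.TensorProduct.Maps
import Mathlib.LinearAlgebra.TensorProduct.RightExactness
import Mathlib.RingTheory.Idempotents

/-!
# The universal idempotent in a finitely generated ideal of a finite finitely presented algebra
-/

universe u

open TensorProduct MvPolynomial

namespace Groth.Agent.Wt.UnivIdem

variable (A C : Type u) [CommRing A] [CommRing C] [Algebra A C] [Module.FinitePresentation A C]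

theorem exists_universal_idempotent (R : Finset C) :
    ∃ (Q : Type u) (_ : CommRing Q) (_ : Algebra A Q), Algebra.FinitePresentation A Q ∧
      ∃ e : Q ⊗[A] C, IsIdempotentElem e ∧
        e ∈ Ideal.span ((fun r => (1 : Q) ⊗ₜ[A] r) '' (R : Set C)) ∧
        ∀ (A' : Type u) [CommRing A'] [Algebra A A'] (e' : A' ⊗[A] C), IsIdempotentElem e' →
          e' ∈ Ideal.span ((fun r => (1 : A') ⊗ₜ[A] r) '' (R : Set C)) →
            ∃ ψ : Q →ₐ[A] A', Algebra.TensorProduct.map ψ (AlgHom.id A C) e = e' := by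
  classical
  obtain ⟨n, c, hc⟩ := Module.Finite.exists_fin' A C
  have hker : (LinearMap.ker c).FG := Module.FinitePresentation.fg_ker c hc
  obtain ⟨S, hS⟩ := hker
  let P := MvPolynomial ((↥R × Fin n) ⊕ ↥S) A
  let cb : Fin n → C := fun i => c (Pi.single i 1)
  have hrep : ∀ (A' : Type u) [CommRing A'] [Algebra A A'] (z : A' ⊗[A] C),
      ∃ a : Fin n → A', z = ∑ i, a i ⊗ₜ cb i := by
    intro A' _ _ z
    induction z using TensorProduct.induction_on with
    | zero => exact ⟨0, by simp⟩
    | tmul a x =>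
      obtain ⟨v, rfl⟩ := hc x
      refine ⟨fun i => v i • a, ?_⟩
      conv_lhs => rw [pi_eq_sum_univ' v]
      simp only [map_sum, map_smul, TensorProduct.tmul_sum, TensorProduct.tmul_smul, cb,
        TensorProduct.smul_tmul']
    | add x y hx hy =>
      obtain ⟨a, rfl⟩ := hx
      obtain ⟨b, rfl⟩ := hy
      exact ⟨a + b, by simp [TensorProduct.add_tmul, Finset.sum_add_distrib]⟩
  let e₀ : P ⊗[A] C := ∑ r : ↥R, (∑ i, (X (Sum.inl (r, i)) : P) ⊗ₜ cb i) * ((1 : P) ⊗ₜ[A] r.1)
  let σ : P →ₐ[A] P := aeval (Sum.elim (fun p => X (Sum.inl p)) 0)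
  have hσe : Algebra.TensorProduct.map σ (AlgHom.id A C) e₀ = e₀ := by
    simp [e₀, σ, P]
  obtain ⟨h', hh'⟩ := hrep P (e₀ * e₀ - e₀)
  let h : Fin n → P := fun i => σ (h' i)
  have hh : e₀ * e₀ - e₀ = ∑ i, h i ⊗ₜ cb i := by
    have := congrArg (Algebra.TensorProduct.map σ (AlgHom.id A C)) hh'
    simpa [map_sum, hσe, h] using this
  let eqn : Fin n → P := fun i => h i - ∑ s : ↥S, s.1 i • X (Sum.inr s)
  let K := Ideal.span (Set.range eqn)
  let mk : P →ₐ[A] P ⧸ K := Ideal.Quotient.mkₐ A K
  let e := Algebra.TensorProduct.map mk (AlgHom.id A C) e₀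
  have hS' : ∀ s : ↥S, ∑ i, s.1 i • cb i = 0 := fun s => by
    have : s.1 ∈ LinearMap.ker c := hS ▸ Submodule.subset_span s.2
    conv_rhs => rw [← LinearMap.mem_ker.mp this, pi_eq_sum_univ' s.1]
    simp [cb]
  refine ⟨P ⧸ K, inferInstance, inferInstance,
    .quotient ⟨(Set.finite_range eqn).toFinset, by rw [Set.Finite.coe_toFinset]⟩, e, ?_, ?_, ?_⟩
  · show e * e = e
    rw [← sub_eq_zero]
    simp only [e, ← map_mul, ← map_sub, hh, map_sum, Algebra.TensorProduct.map_tmul, AlgHom.id_apply]
    have hmk : ∀ i, mk (h i) = ∑ s : ↥S, s.1 i • mk (X (Sum.inr s)) := fun i => by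
      have : mk (eqn i) = 0 :=
        Ideal.Quotient.eq_zero_iff_mem.mpr (Ideal.subset_span ⟨i, rfl⟩)
      rw [map_sub, sub_eq_zero, map_sum] at this
      simpa only [map_smul] using this
    simp only [hmk, TensorProduct.sum_tmul, TensorProduct.smul_tmul]
    rw [Finset.sum_comm]
    simp only [← TensorProduct.tmul_sum, hS', TensorProduct.tmul_zero, Finset.sum_const_zero]
  · simp only [e, e₀, map_sum, map_mul, Algebra.TensorProduct.map_tmul, AlgHom.id_apply, map_one]
    exact sum_mem fun r _ => Ideal.mul_mem_left _ _ (Ideal.subset_span ⟨r.1, r.2, rfl⟩)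
  · intro A' _ _ e' he' hspan
    rw [show (fun r => (1 : A') ⊗ₜ[A] r) '' (R : Set C) =
      Set.range (fun r : ↥R => (1 : A') ⊗ₜ[A] r.1) from Set.image_eq_range _ _] at hspan
    obtain ⟨s, hs⟩ := Ideal.mem_span_range_iff_exists_fun.mp hspan
    choose a ha using fun r : ↥R => hrep A' (s r)
    let ψ₀ : P →ₐ[A] A' := aeval (Sum.elim (fun p => a p.1 p.2) 0)
    have hψe : ∀ ψ : P →ₐ[A] A', (∀ r i, ψ (X (Sum.inl (r, i))) = a r i) →
        Algebra.TensorProduct.map ψ (AlgHom.id A C) e₀ = e' := fun ψ hψ => by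
      simp only [e₀, map_sum, map_mul, Algebra.TensorProduct.map_tmul, AlgHom.id_apply, map_one, hψ]
      rw [← hs]
      exact Finset.sum_congr rfl fun r _ => by rw [ha r]
    have hzero : ∀ ψ : P →ₐ[A] A', (∀ r i, ψ (X (Sum.inl (r, i))) = a r i) →
        ∑ i, ψ (h i) ⊗ₜ[A] cb i = 0 := fun ψ hψ => by
      have := congrArg (Algebra.TensorProduct.map ψ (AlgHom.id A C)) hh
      simp only [map_sub, map_mul, hψe ψ hψ, map_sum, Algebra.TensorProduct.map_tmul,
        AlgHom.id_apply] at this
      rw [← this, he'.eq, sub_self]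
    have hrel : ∀ v : Fin n → A', ∑ i, v i ⊗ₜ[A] cb i = 0 →
        ∃ b : ↥S → A', ∀ i, v i = ∑ t : ↥S, t.1 i • b t := by
      intro v hv
      let k : (↥S → A) →ₗ[A] (Fin n → A) := Fintype.linearCombination A (fun t : ↥S => t.1)
      have hk : Function.Exact k c := by
        rw [LinearMap.exact_iff, Fintype.range_linearCombination]
        rw [← hS]
        congr 1
        ext x
        simp
      have hex := lTensor_exact A' hk hc
      let z : A' ⊗[A] (Fin n → A) := ∑ i, v i ⊗ₜ Pi.single i 1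
      have hz : c.lTensor A' z = 0 := by
        simp only [z, map_sum, LinearMap.lTensor_tmul]
        exact hv
      obtain ⟨w, hw⟩ := (hex z).mp hz
      refine ⟨TensorProduct.piScalarRight A A' A' ↥S w, fun i => ?_⟩
      have h1 : TensorProduct.piScalarRight A A' A' (Fin n) z i = v i := by
        simp [z, Pi.single_apply, ite_smul]
      rw [← h1, ← hw]
      clear hw h1
      induction w using TensorProduct.induction_on with
      | zero => simp
      | tmul x y =>
        simp only [LinearMap.lTensor_tmul, TensorProduct.piScalarRight_apply,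
          TensorProduct.piScalarRightHom_tmul, k, Fintype.linearCombination_apply]
        rw [Finset.sum_apply, Finset.sum_smul]
        refine Finset.sum_congr rfl fun t _ => ?_
        rw [Pi.smul_apply, smul_eq_mul, mul_comm, mul_smul]
      | add x y hx hy =>
        simp only [map_add, Pi.add_apply, smul_add, Finset.sum_add_distrib, hx, hy]
    obtain ⟨b, hb⟩ := hrel (fun i => ψ₀ (h i)) (hzero _ fun r i => by simp [ψ₀, P])
    let ψ : P →ₐ[A] A' := aeval (Sum.elim (fun p => a p.1 p.2) b)
    have hψσ : ψ.comp σ = ψ₀.comp σ := by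
      ext (p | q) <;> simp [ψ, ψ₀, σ, P]
    have hψh : ∀ i, ψ (h i) = ψ₀ (h i) := fun i => DFunLike.congr_fun hψσ (h' i)
    have hK : K ≤ RingHom.ker ψ := by
      rw [Ideal.span_le]
      rintro _ ⟨i, rfl⟩
      show ψ (eqn i) = 0
      simp only [eqn, map_sub, map_sum, map_smul, hψh, hb i, sub_eq_zero]
      exact Finset.sum_congr rfl fun t _ => by simp [ψ, P]
    refine ⟨Ideal.Quotient.liftₐ K ψ hK, ?_⟩
    have : (Ideal.Quotient.liftₐ K ψ hK).comp mk = ψ := AlgHom.ext fun x => rfl
    rw [← hψe ψ fun r i => by simp [ψ, P]]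
    conv_rhs => rw [← this]
    simp only [e]
    rw [← AlgHom.comp_apply, ← Algebra.TensorProduct.map_comp, AlgHom.comp_id]

end Groth.Agent.Wt.UnivIdem
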