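import Groth.Agent.Wt.FinFactor
import Groth.Agent.Wt.UnivIdem
import Mathlib.AlgebraicGeometry.Morphisms.Finite
import Mathlib.AlgebraicGeometry.Morphisms.QuasiFinite
import Mathlib.AlgebraicGeometry.Morphisms.FinitePresentation

/-!
# Open immersions of quasi-finite affine schemes into finite ones, clopen subschemes
-/

universe u

open AlgebraicGeometry CategoryTheory Limits TensorProduct

namespace Groth.Agent.Wt.UnivOpen

theorem isOpenImmersion_specMap {C B : Type u} [CommRing C] [CommRing B] (π : C →+* B) (s : Set C)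
    (hs : Ideal.span (π '' s) = ⊤)
    (hbij : ∀ r ∈ s, Function.Bijective (Localization.awayMap π r)) :
    IsOpenImmersion (Spec.map (CommRingCat.ofHom π)) ∧
      Set.range (Spec.map (CommRingCat.ofHom π)) =
        ⋃ r ∈ s, (PrimeSpectrum.basicOpen r : Set (PrimeSpectrum C)) := by
  set g := Spec.map (CommRingCat.ofHom π)
  have hres : ∀ r ∈ s, IsIso (g ∣_ (PrimeSpectrum.basicOpen r)) := fun r hr => by
    show MorphismProperty.isomorphisms Scheme.{u} _
    rw [(MorphismProperty.isomorphisms Scheme.{u}).arrow_mk_iso_iff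
      (SpecMapRestrictBasicOpenIso (CommRingCat.ofHom π) r)]
    have : IsIso (CommRingCat.ofHom (Localization.awayMap π r)) :=
      (ConcreteCategory.isIso_iff_bijective _).mpr (hbij r hr)
    exact inferInstanceAs (IsIso (Spec.map _))
  have hcov : ∀ x : PrimeSpectrum B, ∃ r ∈ s, π r ∉ x.asIdeal := fun x => by
    by_contra h
    push Not at h
    exact x.isPrime.ne_top (top_le_iff.mp (hs ▸ Ideal.span_le.mpr (by
      rintro _ ⟨r, hr, rfl⟩; exact h r hr)))
  refine ⟨IsZariskiLocalAtTarget.of_forall_source_exists_preimage _ fun x => ?_, ?_⟩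
  · obtain ⟨r, hr, hx⟩ := hcov x
    refine ⟨PrimeSpectrum.basicOpen r, hx, ?_⟩
    have := hres r hr
    let U : (Spec (CommRingCat.of C)).Opens := PrimeSpectrum.basicOpen r
    have : IsIso (g ∣_ U) := hres r hr
    exact (morphismRestrict_ι g U) ▸ (inferInstance : IsOpenImmersion ((g ∣_ U) ≫ U.ι))
  · refine subset_antisymm ?_ ?_
    · rintro _ ⟨x, rfl⟩
      obtain ⟨r, hr, hx⟩ := hcov x
      exact Set.mem_iUnion₂.mpr ⟨r, hr, hx⟩
    · intro y hy
      obtain ⟨r, hr, hy⟩ := Set.mem_iUnion₂.mp hy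
      let U : (Spec (CommRingCat.of C)).Opens := PrimeSpectrum.basicOpen r
      have : IsIso (g ∣_ U) := hres r hr
      obtain ⟨z, hz⟩ := (g ∣_ U).surjective ⟨y, hy⟩
      refine ⟨(g ⁻¹ᵁ U).ι z, ?_⟩
      rw [← Scheme.Hom.comp_apply, ← morphismRestrict_ι, Scheme.Hom.comp_apply, hz]
      rfl

/-- An idempotent whose basic open lies in the union of the basic opens of `s` is in their span. -/
theorem mem_span_of_basicOpen_subset {D : Type u} [CommRing D] {e : D} (he : IsIdempotentElem e)
    (s : Set D) (h : (PrimeSpectrum.basicOpen e : Set (PrimeSpectrum D)) ⊆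
      ⋃ r ∈ s, (PrimeSpectrum.basicOpen r : Set (PrimeSpectrum D))) :
    e ∈ Ideal.span s := by
  have : e ∈ (Ideal.span s).radical := by
    rw [Ideal.radical_eq_sInf, Submodule.mem_sInf]
    rintro p ⟨hp, hpp⟩
    by_contra hep
    obtain ⟨r, hr, hrp⟩ := Set.mem_iUnion₂.mp (h (show (⟨p, hpp⟩ : PrimeSpectrum D) ∈ _ from hep))
    exact hrp (hp (Ideal.subset_span hr))
  obtain ⟨n, hn⟩ := this
  rcases n with _ | n
  · exact (Ideal.eq_top_iff_one _).mpr (by simpa using hn) ▸ Submodule.mem_top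
  · rwa [he.pow_succ_eq] at hn

theorem basicOpen_subset_of_mem_span {D : Type u} [CommRing D] {e : D}
    (s : Set D) (h : e ∈ Ideal.span s) :
    (PrimeSpectrum.basicOpen e : Set (PrimeSpectrum D)) ⊆
      ⋃ r ∈ s, (PrimeSpectrum.basicOpen r : Set (PrimeSpectrum D)) := fun p hp => by
  by_contra hne
  simp only [Set.mem_iUnion, not_exists] at hne
  exact hp ((Ideal.span_le (I := p.asIdeal)).mpr (fun r hr => not_not.mp (hne r hr)) h)

end Groth.Agent.Wt.UnivOpen
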