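import Groth.Agent.S0388
import Groth.Agent.S9633
import Groth.Agent.SecComp.GeomCount
import Groth.Agent.SecComp.GeomNear
import Mathlib.Topology.NoetherianSpace

/-!
Geometric connected components along the Stein factorisation, and integral morphisms with connected
geometric fibres.
-/

set_option autoImplicit false
set_option linter.style.haveILetI false

universe u

open AlgebraicGeometry CategoryTheory CategoryTheory.Limits

namespace Groth.Agent.Wt.SteinCount

variable {X S : Scheme.{u}} (f : X ⟶ S)

/-- The projection of a geometric fibre onto the geometric fibre of the Stein factor: a closed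
surjection with connected fibres. -/
theorem exists_proj [IsProper f] {L : Type u} [Field L] (pt : Spec (CommRingCat.of L) ⟶ S) :
    ∃ (P : Scheme.{u}) (_ : P ≅ pullback f pt) (π : P ⟶ pullback f.fromNormalization pt),
      Function.Surjective π ∧ Topology.IsCoinducing π ∧ ∀ t, _root_.IsConnected (π ⁻¹' {t}) := by
  haveI : IsProper (f.toNormalization ≫ f.fromNormalization) := by
    rw [f.toNormalization_fromNormalization]; infer_instance
  haveI : IsProper f.toNormalization := IsProper.of_comp f.toNormalization f.fromNormalization
  haveI := (Groth.Agent.S0388.result f).1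
  let q := pullback.fst f.fromNormalization pt
  let π := pullback.snd f.toNormalization q
  haveI : GeometricallyConnected π := inferInstance
  haveI : IsProper π := inferInstance
  refine ⟨pullback f.toNormalization q, pullbackRightPullbackFstIso f.fromNormalization pt f.toNormalization ≪≫
    pullback.congrHom f.toNormalization_fromNormalization rfl, π, π.surjective, ?_, fun t => π.isConnected_preimage_singleton t⟩
  exact (π.isClosedMap.isQuotientMap π.continuous π.surjective).isCoinducing

theorem nGeomConnComp_eq [IsProper f] (s : S) :
    MoreMor.nGeomConnComp f s < ⊤ ∧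
      MoreMor.nGeomConnComp f s = MoreMor.nGeomConnComp f.fromNormalization s := by
  obtain ⟨L, _, _, pt, hpt⟩ := Groth.Agent.SecComp.exists_algClosed_point S s
  obtain ⟨P, e, π, -, hπ, hconn⟩ := exists_proj f pt
  have h1 := (Groth.Agent.SecComp.nGeom_eq f pt).2
  have h2 := (Groth.Agent.SecComp.nGeom_eq f.fromNormalization pt).2
  rw [hpt] at h1 h2
  have hfin : Finite (_root_.ConnectedComponents ↥(pullback f pt)) := by
    haveI : IsProper (pullback.snd f pt) := inferInstance
    haveI : IsLocallyNoetherian (pullback f pt) := LocallyOfFiniteType.isLocallyNoetherian (pullback.snd f pt)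
    haveI : CompactSpace ↥(pullback f pt) := QuasiCompact.compactSpace_of_compactSpace (pullback.snd f pt)
    haveI : IsNoetherian (pullback f pt) := ⟨⟩
    haveI := (TopologicalSpace.NoetherianSpace.finite_irreducibleComponents (α := ↥(pullback f pt))).to_subtype
    refine Finite.of_surjective (fun Z : irreducibleComponents ↥(pullback f pt) =>
      (_root_.ConnectedComponents.mk Z.2.1.nonempty.some)) fun c => ?_
    obtain ⟨x, rfl⟩ := _root_.ConnectedComponents.surjective_coe c
    refine ⟨⟨_, irreducibleComponent_mem_irreducibleComponents x⟩, _root_.ConnectedComponents.coe_eq_coe.mpr ?_⟩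
    have hsome := (irreducibleComponent_mem_irreducibleComponents x).1.nonempty.some_mem
    exact connectedComponent_eq (isIrreducible_irreducibleComponent.isConnected.subset_connectedComponent
      hsome mem_irreducibleComponent)
  refine ⟨?_, ?_⟩
  · rw [← h1, ENat.card_lt_top]; exact hfin
  · rw [← h1, ← h2, ← Groth.Agent.Wt.GenFib.card_connectedComponents_of_homeomorph (Scheme.homeoOfIso e)]
    exact ENat.card_congr (Equiv.ofBijective _ (hπ.connectedComponentsMap_bijective hconn))

/-- An integral algebra over an algebraically closed field with connected spectrum has only one point. -/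
theorem eq_of_connected {L C : Type u} [Field L] [IsAlgClosed L] [CommRing C] [Algebra L C]
    [Algebra.IsIntegral L C] [ConnectedSpace (PrimeSpectrum C)] (φ ψ : C →ₐ[L] L) : φ = ψ := by
  have hmax : ∀ I : Ideal C, I.IsPrime → I.IsMaximal := fun I hI => by
    haveI := hI
    exact Ideal.isMaximal_of_isIntegral_of_isMaximal_comap (R := L) I (by
      have : I.comap (algebraMap L C) = ⊥ := (Ideal.eq_bot_or_top _).resolve_right (Ideal.comap_ne_top _ hI.ne_top)
      rw [this]; exact Ideal.bot_isMaximal)
  haveI : TotallyDisconnectedSpace (PrimeSpectrum C) := ((Groth.Agent.S9633.result (R := C)).out 5 2).mp hmax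
  haveI : Subsingleton (PrimeSpectrum C) := ⟨fun p q => isPreconnected_univ.subsingleton trivial trivial⟩
  refine AlgHom.ext fun c => ?_
  have hk : RingHom.ker φ.toRingHom = RingHom.ker ψ.toRingHom :=
    congrArg PrimeSpectrum.asIdeal (Subsingleton.elim (⟨_, RingHom.ker_isPrime φ.toRingHom⟩ : PrimeSpectrum C)
      ⟨_, RingHom.ker_isPrime ψ.toRingHom⟩)
  have h0 : c - algebraMap L C (φ c) ∈ RingHom.ker φ.toRingHom := by
    rw [RingHom.mem_ker]
    show φ (c - algebraMap L C (φ c)) = 0
    rw [map_sub, φ.commutes]; exact sub_self _
  rw [hk, RingHom.mem_ker] at h0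
  have h1 : ψ c - ψ (algebraMap L C (φ c)) = 0 := by rw [← map_sub]; exact h0
  rw [ψ.commutes] at h1
  exact (sub_eq_zero.mp h1).symm

/-- An integral morphism dominated by one with geometrically connected fibres is universally injective. -/
theorem universallyInjective_of_comp {P Q R : Scheme.{u}} (a : P ⟶ Q) (h : Q ⟶ R) [IsIntegralHom h]
    [Surjective a] [GeometricallyConnected (a ≫ h)] : UniversallyInjective h := by
  refine ((tfae_universallyInjective h).out 0 1).mpr ?_
  intro K _ g₁ g₂ hg
  let L := AlgebraicClosure K
  let b := Spec.map (CommRingCat.ofHom (algebraMap K L))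
  haveI : Surjective b := ⟨fun x => ⟨IsLocalRing.closedPoint L, Subsingleton.elim _ _⟩⟩
  suffices hb : b ≫ g₁ = b ≫ g₂ by
    haveI : Flat b := Flat.SpecMap_iff.mpr (RingHom.flat_algebraMap_iff.mpr inferInstance)
    exact (cancel_epi b).mp hb
  let pt := b ≫ g₁ ≫ h
  let T := pullback h pt
  let π := pullback.snd a (pullback.fst h pt)
  let e := pullbackRightPullbackFstIso h pt a
  haveI : ConnectedSpace ↥(pullback (a ≫ h) pt) :=
    GeometricallyConnected.geometrically_connectedSpace (f := a ≫ h) _ _ _ (.of_hasPullback _ _)
  haveI : ConnectedSpace ↥(pullback a (pullback.fst h pt)) :=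
    (Scheme.homeoOfIso e).symm.surjective.connectedSpace (Scheme.homeoOfIso e).symm.continuous
  haveI : ConnectedSpace T := π.surjective.connectedSpace π.continuous
  haveI : IsAffine T := isAffine_of_isAffineHom (pullback.snd h pt)
  let C := Γ(T, ⊤)
  let hT : T ⟶ Spec (CommRingCat.of L) := pullback.snd h pt
  obtain ⟨ρ, hρ⟩ := Spec.map_surjective (T.isoSpec.inv ≫ hT)
  letI : Algebra L C := ρ.hom.toAlgebra
  haveI : Algebra.IsIntegral L C := by
    haveI : IsIntegralHom (Spec.map ρ) := by rw [hρ]; infer_instance
    exact ⟨(IsIntegralHom.SpecMap_iff).mp this⟩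
  haveI : ConnectedSpace (PrimeSpectrum C) :=
    (Scheme.homeoOfIso T.isoSpec).surjective.connectedSpace (Scheme.homeoOfIso T.isoSpec).continuous
  have key : ∀ g : Spec (CommRingCat.of K) ⟶ Q, g ≫ h = g₁ ≫ h →
      ∃ φ : C →ₐ[L] L, b ≫ g = Spec.map (CommRingCat.ofHom φ.toRingHom) ≫ T.isoSpec.inv ≫ pullback.fst _ _ := by
    intro g hg'
    let σ : Spec (CommRingCat.of L) ⟶ T := pullback.lift (b ≫ g) (𝟙 _) (by
      rw [Category.id_comp, Category.assoc, hg'])
    obtain ⟨φ, hφ⟩ := Spec.map_surjective (σ ≫ T.isoSpec.hom)
    have h1 : Spec.map φ ≫ Spec.map ρ = 𝟙 _ := by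
      rw [hφ, hρ, Category.assoc, Iso.hom_inv_id_assoc]
      exact pullback.lift_snd _ _ _
    rw [← Spec.map_comp, ← Spec.map_id, Spec.map_inj] at h1
    refine ⟨{ toRingHom := φ.hom, commutes' := fun l => congrArg (fun k => k l) h1 }, ?_⟩
    show _ = Spec.map φ ≫ _
    rw [hφ, Category.assoc, Iso.hom_inv_id_assoc]
    exact (pullback.lift_fst _ _ _).symm
  obtain ⟨φ₁, h1⟩ := key g₁ rfl
  obtain ⟨φ₂, h2⟩ := key g₂ hg.symm
  rw [h1, h2, eq_of_connected φ₁ φ₂]

theorem isUnivHomeo_fromNormalization [IsProper f] [GeometricallyConnected f] :
    UniversallyInjective f.fromNormalization ∧ Surjective f.fromNormalization := by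
  haveI : IsProper (f.toNormalization ≫ f.fromNormalization) := by
    rw [f.toNormalization_fromNormalization]; infer_instance
  haveI : IsProper f.toNormalization := IsProper.of_comp f.toNormalization f.fromNormalization
  haveI := (Groth.Agent.S0388.result f).1
  haveI : GeometricallyConnected (f.toNormalization ≫ f.fromNormalization) := by
    rw [f.toNormalization_fromNormalization]; infer_instance
  exact ⟨universallyInjective_of_comp f.toNormalization f.fromNormalization,
    Surjective.of_comp f.toNormalization f.fromNormalization⟩

/-- The comparison map of Stein factors is universally injective and surjective. -/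
theorem normalizationPullback_bijective {T : Scheme.{u}} [IsProper f] (g : T ⟶ S) :
    UniversallyInjective (f.normalizationPullback g) ∧ Surjective (f.normalizationPullback g) := by
  haveI : IsProper (f.toNormalization ≫ f.fromNormalization) := by
    rw [f.toNormalization_fromNormalization]; infer_instance
  haveI : IsProper f.toNormalization := IsProper.of_comp f.toNormalization f.fromNormalization
  haveI := (Groth.Agent.S0388.result f).1
  let fT := pullback.snd f g
  haveI : IsProper (fT.toNormalization ≫ fT.fromNormalization) := by
    rw [fT.toNormalization_fromNormalization]; infer_instance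
  haveI : IsProper fT.toNormalization := IsProper.of_comp fT.toNormalization fT.fromNormalization
  haveI := (Groth.Agent.S0388.result fT).1
  let π := pullback.snd f.toNormalization (pullback.fst f.fromNormalization g)
  let e := pullbackRightPullbackFstIso f.fromNormalization g f.toNormalization ≪≫
    pullback.congrHom f.toNormalization_fromNormalization rfl
  have hcomp : fT.toNormalization ≫ f.normalizationPullback g = e.inv ≫ π := by
    rw [Iso.eq_inv_comp]
    apply pullback.hom_ext
    · simp [e, π, fT, pullback.map]
      erw [pullback.lift_fst_assoc]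
      simp [pullback.condition]
    · simp [e, π, fT, pullback.map]
      erw [pullback.lift_snd]
      simp
  haveI : GeometricallyConnected (fT.toNormalization ≫ f.normalizationPullback g) := by
    rw [hcomp]
    exact (MorphismProperty.cancel_left_of_respectsIso @GeometricallyConnected e.inv π).mpr inferInstance
  haveI : Surjective (fT.toNormalization ≫ f.normalizationPullback g) := inferInstance
  exact ⟨universallyInjective_of_comp fT.toNormalization _, Surjective.of_comp fT.toNormalization _⟩

end Groth.Agent.Wt.SteinCount
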