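import Groth.Agent.LocCoh.AffineCompl
import Groth.Agent.LocCoh.AffineOfCd
import Groth.Agent.LocCohSweep.TopRightExact
import Mathlib.RingTheory.Ideal.GoingUp
import Mathlib.RingTheory.Localization.Integral
import Mathlib.AlgebraicGeometry.Morphisms.Finite

/-!
# Chevalley's theorem for opens of affine schemes

An open `D(s) ⊆ Spec A` which is the image of an affine scheme, finite over it, is affine. No Noetherian
hypothesis: the data descend to a finitely generated subring, where the statement is proved with local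
cohomology (Noetherian induction in the top degree).
-/

set_option autoImplicit false
set_option linter.style.haveILetI false

universe u

open CategoryTheory AlgebraicGeometry Polynomial

namespace Groth.Agent.Wt.Chevalley

open Groth.Agent.LocCoh

section Noetherian

variable {A : Type u} [CommRing A] [IsNoetherianRing A]

/-- Vanishing of the middle term. -/
theorem subsingleton_mid {J : Ideal A} {k : ℕ} {M N : Type u} [AddCommGroup M] [Module A M]
    [AddCommGroup N] [Module A N] (f : M →ₗ[A] N) (hf : Function.Surjective f)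
    (h₁ : Subsingleton (_root_.LocCoh.H J k (LinearMap.ker f)))
    (h₃ : Subsingleton (_root_.LocCoh.H J k N)) : Subsingleton (_root_.LocCoh.H J k M) := by
  refine subsingleton_of_forall_eq 0 fun x => ?_
  obtain ⟨y, rfl⟩ := (LocCoh.exact₂ (I := J) (i := k) (LinearMap.shortExact_shortComplexKer hf) x).mp
    (h₃.elim _ _)
  rw [h₁.elim y 0, map_zero]

theorem subsingleton_of_surjective {J : Ideal A} {k : ℕ} (hk : _root_.LocCoh.CdLE A J k)
    {M N : Type u} [AddCommGroup M] [Module A M] [AddCommGroup N] [Module A N] (f : M →ₗ[A] N)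
    (hf : Function.Surjective f) (h : Subsingleton (_root_.LocCoh.H J k M)) :
    Subsingleton (_root_.LocCoh.H J k N) :=
  (LocCohSweep.TopRightExact.surjective_hmap hk f hf).subsingleton

/-- A finite module over a domain with a torsion-free element has a functional nonzero on it. -/
theorem exists_functional {R M : Type u} [CommRing R] [IsDomain R] [IsNoetherianRing R]
    [AddCommGroup M] [Module R M] [Module.Finite R M] (m : M)
    (hm : ∀ r : R, r • m = 0 → r = 0) : ∃ φ : M →ₗ[R] R, φ m ≠ 0 := by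
  let K := FractionRing R
  let V := LocalizedModule (nonZeroDivisors R) M
  let ι := LocalizedModule.mkLinearMap (nonZeroDivisors R) M
  have hv : ι m ≠ 0 := fun h => by
    obtain ⟨c, hc⟩ := (IsLocalizedModule.eq_zero_iff (nonZeroDivisors R) ι).mp h
    exact nonZeroDivisors.ne_zero c.2 (hm _ hc)
  letI : Field (Localization (nonZeroDivisors R)) :=
    inferInstanceAs (Field (FractionRing R))
  obtain ⟨b⟩ : Nonempty (Module.Basis _ (Localization (nonZeroDivisors R)) V) :=
    ⟨Module.Free.chooseBasis (Localization (nonZeroDivisors R)) V⟩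
  obtain ⟨i, hi⟩ : ∃ i, b.repr (ι m) i ≠ 0 := by
    by_contra h
    push Not at h
    exact hv (b.repr.injective (by ext i; simp [h i]))
  let g : M →ₗ[R] Localization (nonZeroDivisors R) := (b.coord i).restrictScalars R ∘ₗ ι
  obtain ⟨φ, s, hs⟩ := Module.FinitePresentation.exists_lift_of_isLocalizedModule (nonZeroDivisors R)
    (Algebra.linearMap R (Localization (nonZeroDivisors R))) (h := Module.finitePresentation_of_finite R M) g
  refine ⟨φ, fun h0 => hi ?_⟩
  have := congr($hs m)
  simp only [LinearMap.comp_apply, Algebra.linearMap_apply, h0, map_zero, LinearMap.smul_apply] at this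
  have hs0 : (s : R) ≠ 0 := nonZeroDivisors.ne_zero s.2
  have : algebraMap R (Localization (nonZeroDivisors R)) s * g m = 0 := by
    rw [← Algebra.smul_def]
    exact this.symm
  rcases mul_eq_zero.mp this with h | h
  · exact absurd ((IsFractionRing.injective R (Localization (nonZeroDivisors R)))
      (h.trans (map_zero _).symm)) hs0
  · exact h

variable {B : Type u} [CommRing B] [IsNoetherianRing B] [Algebra A B] [Module.Finite A B]

theorem subsingleton_H_quotient {J : Ideal A}
    (hsurj : ∀ p : Ideal A, p.IsPrime → ¬ J ≤ p → ∃ q : Ideal B, q.IsPrime ∧ q.under A = p)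
    (hB : _root_.LocCoh.CdLE B (J.map (algebraMap A B)) 1) {k : ℕ} (hk : 2 ≤ k)
    (hA : _root_.LocCoh.CdLE A J k) (𝔟 : Ideal A) :
    Subsingleton (_root_.LocCoh.H J k (A ⧸ 𝔟)) := by
  induction 𝔟 using IsNoetherian.induction with
  | _ 𝔟 ih =>
  change Ideal A at 𝔟
  have hbot : ∀ (M : Type u) [AddCommGroup M] [Module A M], Subsingleton M →
      Subsingleton (_root_.LocCoh.H J k M) := fun M _ _ hM => by
    obtain ⟨j, rfl⟩ : ∃ j, k = j + 1 := ⟨k - 1, by omega⟩
    exact LocCoh.subsingleton_H_succ_of_isPowerTorsion J j (ModuleCat.of A M)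
      fun m => ⟨0, fun a _ => Subsingleton.elim _ _⟩
  by_cases htop : 𝔟 = ⊤
  · exact hbot _ (Submodule.Quotient.subsingleton_iff.mpr htop)
  by_cases hp : 𝔟.IsPrime
  · by_cases hJ : J ≤ 𝔟
    · obtain ⟨j, rfl⟩ : ∃ j, k = j + 1 := ⟨k - 1, by omega⟩
      refine LocCoh.subsingleton_H_succ_of_isPowerTorsion J j (ModuleCat.of A (A ⧸ 𝔟))
        fun m => ⟨1, fun a ha => ?_⟩
      rw [pow_one] at ha
      obtain ⟨x, rfl⟩ := Submodule.Quotient.mk_surjective _ m
      rw [← Submodule.Quotient.mk_smul, Submodule.Quotient.mk_eq_zero]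
      exact Ideal.mul_mem_right _ _ (hJ ha)
    obtain ⟨q, hq, hqp⟩ := hsurj 𝔟 hp hJ
    let M := B ⧸ q
    have hM : Subsingleton (_root_.LocCoh.H J k M) := by
      let e : M ≃ₗ[A] (resA A (ModuleCat.of B M) : ModuleCat.{u} A) :=
        { AddEquiv.refl M with map_smul' := fun a x => (algebraMap_smul B a x).symm }
      refine (HLinearEquiv J k e).toEquiv.subsingleton_congr.mpr ?_
      exact (LocCoh.subsingleton_H_restrict_iff (B := B) J k (ModuleCat.of B M)).mp
        (hB M k (by omega))
    -- `M` is a module over the domain `A ⧸ 𝔟`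
    haveI : IsDomain (A ⧸ 𝔟) := Ideal.Quotient.isDomain 𝔟
    letI : Algebra (A ⧸ 𝔟) M :=
      (Ideal.quotientMap q (algebraMap A B) (le_of_eq hqp.symm)).toAlgebra
    haveI : IsScalarTower A (A ⧸ 𝔟) M := .of_algebraMap_eq fun a => rfl
    haveI : Module.Finite (A ⧸ 𝔟) M := Module.Finite.of_restrictScalars_finite A _ _
    obtain ⟨φ, hφ⟩ := exists_functional (R := A ⧸ 𝔟) (1 : M) fun r hr => by
      obtain ⟨a, rfl⟩ := Ideal.Quotient.mk_surjective r
      rw [Algebra.smul_def, mul_one, RingHom.algebraMap_toAlgebra, Ideal.quotientMap_mk,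
        Ideal.Quotient.eq_zero_iff_mem] at hr
      rw [Ideal.Quotient.eq_zero_iff_mem, ← hqp]
      exact hr
    let ψ : M →ₗ[A] A ⧸ 𝔟 := φ.restrictScalars A
    let 𝔞 : Ideal A := Submodule.comap (Submodule.mkQ 𝔟) (LinearMap.range ψ)
    have hlt : 𝔟 < 𝔞 := by
      refine lt_of_le_of_ne (fun a ha => ?_) fun h => hφ ?_
      · exact ⟨0, by rw [map_zero]; exact ((Submodule.Quotient.mk_eq_zero 𝔟).mpr ha).symm⟩
      · obtain ⟨a, ha⟩ := Submodule.mkQ_surjective 𝔟 (φ 1)
        have ha' : a ∈ 𝔞 := ⟨1, ha.symm⟩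
        rw [← h] at ha'
        rw [← ha]
        exact (Submodule.Quotient.mk_eq_zero 𝔟).mpr ha'
    let π : (A ⧸ 𝔟) →ₗ[A] A ⧸ 𝔞 := Submodule.factor hlt.le
    refine subsingleton_mid π (Submodule.factor_surjective _) ?_ (ih 𝔞 hlt)
    have hker : LinearMap.ker π = LinearMap.range ψ := by
      ext x
      obtain ⟨a, rfl⟩ := Submodule.mkQ_surjective 𝔟 x
      exact (Submodule.Quotient.mk_eq_zero 𝔞).trans Iff.rfl
    rw [hker]
    exact subsingleton_of_surjective hA ψ.rangeRestrict ψ.surjective_rangeRestrict hM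
  · obtain ⟨a, ha, b, hb, hab⟩ := (Ideal.not_isPrime_iff.mp hp).resolve_left htop
    let 𝔞 : Ideal A := 𝔟 ⊔ Ideal.span {a}
    let 𝔠 : Ideal A := 𝔟.colon {a}
    have h𝔞 : 𝔟 < 𝔞 := lt_of_le_of_ne le_sup_left fun h =>
      ha (h ▸ Ideal.mem_sup_right (Ideal.mem_span_singleton_self a))
    have h𝔠 : 𝔟 < 𝔠 := lt_of_le_of_ne
      (fun x hx => Submodule.mem_colon_singleton.mpr (Ideal.mul_mem_right a 𝔟 hx)) fun h => hb (by
        rw [h]
        exact Submodule.mem_colon_singleton.mpr (by rwa [smul_eq_mul, mul_comm]))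
    let π : (A ⧸ 𝔟) →ₗ[A] A ⧸ 𝔞 := Submodule.factor h𝔞.le
    refine subsingleton_mid π (Submodule.factor_surjective _) ?_ (ih 𝔞 h𝔞)
    let m : (A ⧸ 𝔠) →ₗ[A] A ⧸ 𝔟 :=
      Submodule.liftQ 𝔠 (LinearMap.toSpanSingleton A (A ⧸ 𝔟) (Submodule.Quotient.mk a))
        fun x hx => by
          rw [LinearMap.mem_ker, LinearMap.toSpanSingleton_apply, ← Submodule.Quotient.mk_smul,
            Submodule.Quotient.mk_eq_zero]
          exact Submodule.mem_colon_singleton.mp hx
    have hker : LinearMap.ker π = LinearMap.range m := by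
      rw [Submodule.range_liftQ, LinearMap.range_toSpanSingleton]
      ext x
      obtain ⟨c, rfl⟩ := Submodule.mkQ_surjective 𝔟 x
      refine (Submodule.Quotient.mk_eq_zero 𝔞).trans ?_
      rw [Submodule.mem_span_singleton, Submodule.mem_sup]
      constructor
      · rintro ⟨y, hy, z, hz, rfl⟩
        obtain ⟨r, rfl⟩ := Ideal.mem_span_singleton'.mp hz
        refine ⟨r, ?_⟩
        rw [← Submodule.Quotient.mk_smul, Submodule.mkQ_apply, Submodule.Quotient.eq, smul_eq_mul]
        simpa using 𝔟.neg_mem hy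
      · rintro ⟨r, hr⟩
        rw [← Submodule.Quotient.mk_smul, Submodule.mkQ_apply, Submodule.Quotient.eq, smul_eq_mul] at hr
        exact ⟨c - r * a, by simpa using 𝔟.neg_mem hr, r * a, Ideal.mem_span_singleton'.mpr ⟨r, rfl⟩,
          sub_add_cancel _ _⟩
    rw [hker]
    exact subsingleton_of_surjective hA m.rangeRestrict m.surjective_rangeRestrict (ih 𝔠 h𝔠)

/-- Chevalley in terms of cohomological dimension. -/
theorem cdLE_one {J : Ideal A}
    (hsurj : ∀ p : Ideal A, p.IsPrime → ¬ J ≤ p → ∃ q : Ideal B, q.IsPrime ∧ q.under A = p)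
    (hB : _root_.LocCoh.CdLE B (J.map (algebraMap A B)) 1) : _root_.LocCoh.CdLE A J 1 := by
  obtain ⟨s, hs⟩ := IsNoetherian.noetherian J
  suffices ∀ k, _root_.LocCoh.CdLE A J k → _root_.LocCoh.CdLE A J 1 from
    this s.card (by rw [← hs]; exact LocCoh.cdLE_span_finset s)
  intro k
  induction k with
  | zero => exact fun h M _ _ i hi => h M i (by omega)
  | succ k ih =>
    intro h
    rcases Nat.eq_zero_or_pos k with rfl | hk
    · exact h
    refine ih ((LocCoh.cdLE_iff_subsingleton_H_self (I := J) k).mp fun i hi => ?_)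
    rcases Nat.lt_or_ge (k + 1) i with hlt | hge
    · exact h A i hlt
    · obtain rfl : i = k + 1 := by omega
      exact (HLinearEquiv J (k + 1) (Submodule.quotEquivOfEqBot (⊥ : Ideal A) rfl)).toEquiv.subsingleton_congr.mp
        (subsingleton_H_quotient hsurj hB (by omega) h ⊥)

end Noetherian

section Descent

/-- Local cohomology of an algebra in which the ideal becomes the unit ideal vanishes. -/
theorem subsingleton_H_of_map_eq_top {A D : Type u} [CommRing A] [IsNoetherianRing A] [CommRing D]
    [IsNoetherianRing D] [Algebra A D] {J : Ideal A} (h : J.map (algebraMap A D) = ⊤) (i : ℕ) :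
    Subsingleton (_root_.LocCoh.H J i D) := by
  let e : D ≃ₗ[A] (resA A (ModuleCat.of D D) : ModuleCat.{u} A) :=
    { AddEquiv.refl D with map_smul' := fun a x => Algebra.smul_def a x }
  refine (HLinearEquiv J i e).toEquiv.subsingleton_congr.mpr ?_
  refine (LocCoh.subsingleton_H_restrict_iff (B := D) J i (ModuleCat.of D D)).mp ?_
  rw [h]
  refine subsingleton_of_forall_eq 0 fun x => ?_
  obtain ⟨n, hn⟩ := LocCoh.isPowerTorsion_H (ModuleCat.of D D) x
  simpa using hn 1 (by rw [Ideal.top_pow]; trivial)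

/-- The complement of `V(s)` is affine if it is the image of a finite cover with affine preimage:
algebraic form. -/
theorem isAffineOpen_of_algebra {A C : Type u} [CommRing A] [CommRing C] [Algebra A C]
    (s : Finset A) (htop : Ideal.span ((algebraMap A C) '' (s : Set A)) = ⊤)
    (hint : ∀ c : C, ∀ a ∈ s, ∃ N : ℕ, IsIntegral A (a ^ N • c))
    (hsurj : ∀ p : PrimeSpectrum A, ¬ (s : Set A) ⊆ p.asIdeal →
      ∃ q : PrimeSpectrum C, q.asIdeal.comap (algebraMap A C) = p.asIdeal) :
    IsAffineOpen (_root_.LocCoh.puncturedOpen A (Ideal.span (s : Set A))) := by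
  classical
  obtain ⟨c, hc⟩ : ∃ c : s → C, ∑ a : s, algebraMap A C a.1 * c a = 1 := by
    have h1 : (1 : C) ∈ Submodule.span C (Set.range fun a : s => algebraMap A C a.1) := by
      rw [show (Set.range fun a : s => algebraMap A C a.1) = algebraMap A C '' (s : Set A) by
        ext x; simp]
      change (1 : C) ∈ Ideal.span _
      rw [htop]; trivial
    obtain ⟨c, hc⟩ := (Submodule.mem_span_range_iff_exists_fun C).mp h1
    exact ⟨c, by simpa [mul_comm] using hc⟩
  choose N hN using fun (b : s × s) => hint (c b.1) b.2.1 b.2.2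
  let e : s × s → C := fun b => b.2.1 ^ N b • c b.1
  choose P hPm hP using fun b : s × s => hN b
  -- the finitely generated subring
  let T : Finset A := s ∪ Finset.univ.biUnion fun b : s × s =>
    (Finset.range ((P b).natDegree + 1)).image fun i => (P b).coeff i
  let A₀ : Subalgebra ℤ A := Algebra.adjoin ℤ (T : Set A)
  haveI : Algebra.FiniteType ℤ A₀ := (Subalgebra.fg_iff_finiteType A₀).mp (Subalgebra.fg_adjoin_finset T)
  haveI : IsNoetherianRing A₀ := Algebra.FiniteType.isNoetherianRing ℤ A₀
  have hsA : ∀ a : s, a.1 ∈ A₀ := fun a =>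
    Algebra.subset_adjoin (Finset.mem_union_left _ a.2)
  let s₀ : s → A₀ := fun a => ⟨a.1, hsA a⟩
  have hei : ∀ b, IsIntegral A₀ (e b) := fun b => by
    have hl : P b ∈ Polynomial.lifts (algebraMap A₀ A) := by
      rw [Polynomial.lifts_iff_coeff_lifts]
      intro i
      by_cases hi : i ∈ Finset.range ((P b).natDegree + 1)
      · refine ⟨⟨(P b).coeff i, Algebra.subset_adjoin (Finset.mem_union_right _ ?_)⟩, rfl⟩
        exact Finset.mem_biUnion.mpr ⟨b, Finset.mem_univ _, Finset.mem_image_of_mem _ hi⟩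
      · rw [Finset.mem_range, Nat.lt_succ_iff, not_le] at hi
        exact ⟨0, by rw [map_zero, Polynomial.coeff_eq_zero_of_natDegree_lt hi]⟩
    rcases subsingleton_or_nontrivial A with hA | hA
    · haveI : Subsingleton C := (algebraMap A C).codomain_trivial
      rw [Subsingleton.elim (e b) 0]
      exact isIntegral_zero
    obtain ⟨Q, hQ, -, hQm⟩ := Polynomial.lifts_and_degree_eq_and_monic hl (hPm b)
    refine ⟨Q, hQm, ?_⟩
    have := hP b
    rw [← hQ, Polynomial.eval₂_map] at this
    exact this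
  let B : Subalgebra A₀ C := Algebra.adjoin A₀ (Set.range e)
  haveI : Module.Finite A₀ B := Module.Finite.iff_fg.mpr
    (fg_adjoin_of_finite (Set.finite_range e) fun x hx => by
      obtain ⟨b, rfl⟩ := hx
      exact hei b)
  haveI : IsNoetherianRing B := isNoetherianRing_iff.mpr (isNoetherian_of_tower A₀ inferInstance)
  let D : Subalgebra B C := Algebra.adjoin B (Set.range c)
  haveI : Algebra.FiniteType B D :=
    (Subalgebra.fg_iff_finiteType D).mp (Subalgebra.fg_def.mpr ⟨_, Set.finite_range c, rfl⟩)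
  haveI : IsNoetherianRing D := Algebra.FiniteType.isNoetherianRing B D
  let J : Ideal A₀ := Ideal.span (Set.range s₀)
  let JB := J.map (algebraMap A₀ B)
  have hJB : JB = Ideal.span (Set.range fun a => algebraMap A₀ B (s₀ a)) := by
    simp only [JB, J, Ideal.map_span, ← Set.range_comp, Function.comp_def]
  have hB : _root_.LocCoh.CdLE B JB 1 := by
    refine (LocCoh.cdLE_iff_subsingleton_H_self (I := JB) 1).mp fun i hi => ?_
    refine LocCoh.subsingleton_H_of_torsion_ker_coker (M := B) (N := D) JB (Algebra.linearMap B D) ?_ ?_ i hi ?_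
    · intro x
      have hx : (algebraMap B D x.1) = 0 := x.2
      have : x = 0 := Subtype.ext (Subtype.ext (congrArg (fun z : D => (z : C)) hx))
      exact ⟨0, fun a _ => by rw [this, smul_zero]⟩
    · refine LocCoh.isPowerTorsion_of_forall_exists_pow fun a ha x => ?_
      obtain ⟨d, rfl⟩ := Submodule.Quotient.mk_surjective _ x
      suffices ∀ y ∈ D, ∃ k : ℕ, (a : C) ^ k * y ∈ B by
        obtain ⟨k, hk⟩ := this d.1 d.2
        refine ⟨k, ?_⟩
        rw [← Submodule.Quotient.mk_smul, Submodule.Quotient.mk_eq_zero]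
        refine ⟨⟨_, hk⟩, Subtype.ext ?_⟩
        change (a : C) ^ k * d.1 = (↑(a ^ k) : C) * d.1
        rw [SubmonoidClass.coe_pow]
      intro y hy
      induction hy using Algebra.adjoin_induction with
      | mem y hy =>
        obtain ⟨i, rfl⟩ := hy
        have hrad : a ∈ (Submodule.colon (Subalgebra.toSubmodule (⊥ : Subalgebra B C)) {c i}).radical := by
          have hle : JB ≤ (Submodule.colon (Subalgebra.toSubmodule (⊥ : Subalgebra B C)) {c i}).radical := by
            rw [hJB, Ideal.span_le]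
            rintro _ ⟨j, rfl⟩
            refine ⟨N (i, j), Submodule.mem_colon_singleton.mpr ?_⟩
            refine Algebra.mem_bot.mpr ⟨⟨e (i, j), Algebra.subset_adjoin ⟨_, rfl⟩⟩, ?_⟩
            change e (i, j) = (↑((algebraMap A₀ B (s₀ j)) ^ N (i, j)) : C) * c i
            rw [SubmonoidClass.coe_pow]
            simp only [e, Algebra.smul_def, map_pow]
            rfl
          exact hle ha
        obtain ⟨k, hk⟩ := hrad
        obtain ⟨z, hz⟩ := Algebra.mem_bot.mp (Submodule.mem_colon_singleton.mp hk)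
        refine ⟨k, ?_⟩
        have : (a : C) ^ k * c i = (z : C) := by
          rw [← SubmonoidClass.coe_pow]; exact hz.symm
        rw [this]
        exact z.2
      | algebraMap r => exact ⟨0, by rw [pow_zero, one_mul]; exact r.2⟩
      | add y y' _ _ ih ih' =>
        obtain ⟨k, hk⟩ := ih
        obtain ⟨k', hk'⟩ := ih'
        refine ⟨k + k', ?_⟩
        have : (a : C) ^ (k + k') * (y + y') = (a : C) ^ k' * ((a : C) ^ k * y) +
            (a : C) ^ k * ((a : C) ^ k' * y') := by ring
        rw [this]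
        exact add_mem (mul_mem (pow_mem a.2 _) hk) (mul_mem (pow_mem a.2 _) hk')
      | mul y y' _ _ ih ih' =>
        obtain ⟨k, hk⟩ := ih
        obtain ⟨k', hk'⟩ := ih'
        refine ⟨k + k', ?_⟩
        rw [show (a : C) ^ (k + k') * (y * y') = ((a : C) ^ k * y) * ((a : C) ^ k' * y') by ring]
        exact mul_mem hk hk'
    · refine subsingleton_H_of_map_eq_top (A := B) (D := D) (J := JB) ?_ i
      have htopD : JB.map (algebraMap B D) = ⊤ := by
        rw [hJB, Ideal.map_span, ← Set.range_comp, Ideal.eq_top_iff_one]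
        have : (1 : D) = ∑ a : s, (⟨c a, Algebra.subset_adjoin ⟨a, rfl⟩⟩ : D) *
            algebraMap B D (algebraMap A₀ B (s₀ a)) := by
          apply Subtype.ext
          rw [AddSubmonoidClass.coe_finsetSum]
          refine (Eq.trans ?_ hc).symm
          refine Finset.sum_congr rfl fun a _ => ?_
          rw [mul_comm]
          rfl
        rw [this]
        exact Ideal.sum_mem _ fun a _ => Ideal.mul_mem_left _ _ (Ideal.subset_span ⟨a, rfl⟩)
      exact htopD
  have hsurj₀ : ∀ p : Ideal A₀, p.IsPrime → ¬ J ≤ p → ∃ q : Ideal B, q.IsPrime ∧ q.under A₀ = p := by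
    intro p hp hJp
    obtain ⟨a, hap⟩ : ∃ a, s₀ a ∉ p := by
      by_contra h
      push Not at h
      exact hJp (Ideal.span_le.mpr (by rintro _ ⟨a, rfl⟩; exact h a))
    have hker : RingHom.ker (algebraMap A₀ B) ≤ p := fun x hx => by
      have hx0 : algebraMap A C (x : A) = 0 := congrArg Subtype.val hx
      have hnil : IsNilpotent (a.1 * (x : A)) := nilpotent_iff_mem_prime.mpr fun P hP => by
        by_cases hPs : (s : Set A) ⊆ P
        · exact P.mul_mem_right _ (hPs a.2)
        · obtain ⟨q, hq⟩ := hsurj ⟨P, hP⟩ hPs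
          refine P.mul_mem_left _ ?_
          have : (x : A) ∈ q.asIdeal.comap (algebraMap A C) := by
            rw [Ideal.mem_comap, hx0]; exact zero_mem _
          rwa [hq] at this
      obtain ⟨n, hn⟩ := hnil
      have hn' : (s₀ a * x) ^ n = 0 := Subtype.ext hn
      exact (hp.mem_or_mem (hp.mem_of_pow_mem n (hn' ▸ p.zero_mem))).resolve_left hap
    obtain ⟨q, -, hq, hqp⟩ := Ideal.exists_ideal_over_prime_of_isIntegral p (⊥ : Ideal B) hker
    exact ⟨q, hq, hqp⟩
  have haff := LocCoh.isAffineOpen_puncturedOpen (cdLE_one hsurj₀ hB)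
  let f := Spec.map (CommRingCat.ofHom (algebraMap A₀ A))
  have : _root_.LocCoh.puncturedOpen A (Ideal.span (s : Set A)) =
      f ⁻¹ᵁ _root_.LocCoh.puncturedOpen A₀ J := by
    ext x
    change ¬ ((Ideal.span (s : Set A) : Set A) ⊆ (x : PrimeSpectrum A).asIdeal) ↔
      ¬ ((J : Set A₀) ⊆ (x : PrimeSpectrum A).asIdeal.comap (algebraMap A₀ A))
    rw [SetLike.coe_subset_coe, SetLike.coe_subset_coe, Ideal.span_le, Ideal.span_le]
    refine not_congr ⟨?_, fun h a ha => by exact h (Set.mem_range_self (f := s₀) ⟨a, ha⟩)⟩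
    rintro h _ ⟨a, rfl⟩
    exact h a.2
  rw [this]
  exact haff.preimage f

/-- Integrality up to powers, from integrality after inverting `a`. -/
theorem exists_pow_smul_isIntegral {A C : Type u} [CommRing A] [CommRing C] [Algebra A C] (a : A)
    {Aa Ca : Type u} [CommRing Aa] [CommRing Ca] [Algebra A Aa] [IsLocalization.Away a Aa]
    [Algebra C Ca] [IsLocalization.Away (algebraMap A C a) Ca] [Algebra Aa Ca] [Algebra A Ca]
    [IsScalarTower A C Ca] [IsScalarTower A Aa Ca] (c : C)
    (hc : IsIntegral Aa (algebraMap C Ca c)) : ∃ N : ℕ, IsIntegral A (a ^ N • c) := by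
  obtain ⟨⟨_, n, rfl⟩, p, hp, hp'⟩ := hc.exists_multiple_integral_of_isLocalization (.powers a)
  rw [IsScalarTower.algebraMap_eq A C Ca, Submonoid.smul_def, Algebra.smul_def,
    IsScalarTower.algebraMap_apply A C Ca, ← map_mul, ← hom_eval₂,
    IsLocalization.map_eq_zero_iff (.powers (algebraMap A C a))] at hp'
  obtain ⟨⟨x, m, (rfl : algebraMap A C a ^ m = x)⟩, e⟩ := hp'
  by_cases hp' : 1 ≤ p.natDegree; swap
  · obtain rfl : p = 1 := eq_one_of_monic_natDegree_zero hp (by lia)
    refine ⟨m, ?_⟩
    rw [Algebra.smul_def, map_pow, show algebraMap A C a ^ m = 0 by simpa using e, zero_mul]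
    exact isIntegral_zero
  refine ⟨m + n, p.scaleRoots (a ^ m), (monic_scaleRoots_iff _).mpr hp, ?_⟩
  have := p.scaleRoots_eval₂_mul (algebraMap A C) (a ^ n • c) (a ^ m)
  simp only [pow_add, ← Algebra.smul_def, mul_smul, ← map_pow] at e this ⊢
  rw [this, ← tsub_add_cancel_of_le hp', pow_succ, mul_smul, e, smul_zero]

end Descent

end Groth.Agent.Wt.Chevalley
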