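import Groth.Agent.VarDim.Algebra
import Mathlib.RingTheory.ZariskisMainTheorem
import Mathlib.RingTheory.Polynomial.IsIntegral
import Mathlib.RingTheory.Valuation.ValuationRing
import Mathlib.RingTheory.IntegralClosure.GoingDown
import Mathlib.RingTheory.Bezout
import Mathlib.Algebra.GCDMonoid.IntegrallyClosed

/-!
# Curves over valuation rings: many generic points specialise to a given closed point
-/

universe u

open Polynomial

namespace Groth.Agent.Wt.ClosedPts

variable {A B : Type u} [CommRing A] [IsDomain A] [ValuationRing A]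
  [CommRing B] [IsDomain B] [Algebra A B] [FaithfulSMul A B]

theorem exists_content {σ : Type*} (P : MvPolynomial σ A) (hP : P ≠ 0) :
    ∃ (c : A) (P' : MvPolynomial σ A), c ≠ 0 ∧ P = MvPolynomial.C c * P' ∧
      ∃ n, P'.coeff n = 1 := by
  classical
  have key : ∀ T : Finset A, T.Nonempty → ∃ c ∈ T, ∀ a ∈ T, c ∣ a := by
    intro T hT
    induction hT using Finset.Nonempty.cons_induction with
    | singleton a => exact ⟨a, Finset.mem_singleton_self a, by simp⟩
    | cons a T ha hT ih =>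
      obtain ⟨c, hc, hcT⟩ := ih
      rcases (PreValuationRing.iff_dvd_total.mp inferInstance).total c a with h | h
      · refine ⟨c, Finset.mem_cons_of_mem hc, fun z hz => ?_⟩
        rcases Finset.mem_cons.mp hz with rfl | hz
        exacts [h, hcT z hz]
      · refine ⟨a, Finset.mem_cons_self a T, fun z hz => ?_⟩
        rcases Finset.mem_cons.mp hz with rfl | hz
        exacts [dvd_rfl, h.trans (hcT z hz)]
  obtain ⟨n, hn⟩ := MvPolynomial.ne_zero_iff.mp hP
  obtain ⟨c, hc, hdvd⟩ := key (P.support.image P.coeff)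
    ⟨_, Finset.mem_image_of_mem _ (MvPolynomial.mem_support_iff.mpr hn)⟩
  obtain ⟨m, hm, rfl⟩ := Finset.mem_image.mp hc
  have hm0 : P.coeff m ≠ 0 := MvPolynomial.mem_support_iff.mp hm
  obtain ⟨P', hP'⟩ : MvPolynomial.C (P.coeff m) ∣ P :=
    MvPolynomial.C_dvd_iff_dvd_coeff _ _ |>.mpr fun i => by
      by_cases hi : P.coeff i = 0
      · exact hi ▸ dvd_zero _
      · exact hdvd _ (Finset.mem_image_of_mem _ (MvPolynomial.mem_support_iff.mpr hi))
  refine ⟨_, P', hm0, hP', m, ?_⟩
  have := congrArg (MvPolynomial.coeff m) hP'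
  rw [MvPolynomial.coeff_C_mul] at this
  exact (mul_eq_left₀ hm0).mp this.symm

/-- Elements with algebraically independent residues are algebraically independent. -/
theorem algebraicIndependent_of_residue {ι : Type*} {C : Type u} [CommRing C]
    (ρ : B →+* C) {k : Type u} [Field k] [Algebra k C] (res : A →+* k)
    (hres : ∀ a, ρ (algebraMap A B a) = algebraMap k C (res a)) (x : ι → B)
    (h : AlgebraicIndependent k (ρ ∘ x)) : AlgebraicIndependent A x := by
  rw [algebraicIndependent_iff]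
  intro P hP
  by_contra hP0
  obtain ⟨c, P', hc, rfl, n, hn⟩ := exists_content P hP0
  rw [map_mul, MvPolynomial.aeval_C, mul_eq_zero] at hP
  have hP' : MvPolynomial.aeval x P' = 0 :=
    hP.resolve_left ((map_ne_zero_iff _ (FaithfulSMul.algebraMap_injective A B)).mpr hc)
  have hz : MvPolynomial.aeval (ρ ∘ x) (MvPolynomial.map res P') = 0 := by
    rw [MvPolynomial.aeval_def, MvPolynomial.eval₂_map,
      show (algebraMap k C).comp res = ρ.comp (algebraMap A B) from RingHom.ext fun a => (hres a).symm]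
    rw [← MvPolynomial.eval₂_comp_left, ← MvPolynomial.aeval_def, hP', map_zero]
  have := congrArg (MvPolynomial.coeff n) (algebraicIndependent_iff.mp h _ hz)
  rw [MvPolynomial.coeff_map, hn, map_one, MvPolynomial.coeff_zero] at this
  exact one_ne_zero this

variable [Algebra.FiniteType A B]

/-- The special fibre of a curve over a valuation ring has no chains of primes of length two. -/
theorem no_chain (htr : Algebra.trdeg A B = 1) {P₀ P₁ m : Ideal B} [P₀.IsPrime] [P₁.IsPrime] [m.IsPrime]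
    (hP₀ : (IsLocalRing.maximalIdeal A).map (algebraMap A B) ≤ P₀) (h₁ : P₀ < P₁) (h₂ : P₁ < m) :
    False := by
  let mA := IsLocalRing.maximalIdeal A
  letI : Algebra (A ⧸ mA) (B ⧸ P₀) :=
    (Ideal.quotientMap P₀ (algebraMap A B) (Ideal.map_le_iff_le_comap.mp hP₀)).toAlgebra
  letI : Field (A ⧸ mA) := Ideal.Quotient.field mA
  have : IsScalarTower A (A ⧸ mA) (B ⧸ P₀) := IsScalarTower.of_algebraMap_eq' rfl
  have : Algebra.FiniteType (A ⧸ mA) (B ⧸ P₀) := Algebra.FiniteType.of_restrictScalars_finiteType A _ _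
  obtain ⟨n, hdim, hn, -⟩ := VarDim.exists_ringKrullDim_eq_trdeg (A ⧸ mA) (B ⧸ P₀)
  have h2 : 2 ≤ n := by
    let q : ∀ P : Ideal B, P₀ ≤ P → P.IsPrime → PrimeSpectrum (B ⧸ P₀) := fun P hle hP =>
      ⟨P.map (Ideal.Quotient.mk P₀), Ideal.map_isPrime_of_surjective Ideal.Quotient.mk_surjective
        (by rwa [Ideal.mk_ker])⟩
    have hlt : ∀ (P P' : Ideal B) (hle : P₀ ≤ P) (hle' : P₀ ≤ P') (hP : P.IsPrime) (hP' : P'.IsPrime),
        P < P' → q P hle hP < q P' hle' hP' := by
      intro P P' hle hle' hP hP' h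
      refine lt_of_le_of_ne (Ideal.map_mono h.le) fun he => h.ne ?_
      have := congrArg (fun z : PrimeSpectrum (B ⧸ P₀) => z.asIdeal.comap (Ideal.Quotient.mk P₀)) he
      simpa [q, Ideal.comap_map_of_surjective' _ Ideal.Quotient.mk_surjective, Ideal.mk_ker,
        sup_eq_left.mpr hle, sup_eq_left.mpr hle'] using this
    let l : LTSeries (PrimeSpectrum (B ⧸ P₀)) :=
      LTSeries.mk 2 ![q P₀ le_rfl ‹_›, q P₁ h₁.le ‹_›, q m (h₁.trans h₂).le ‹_›]
        (Fin.strictMono_iff_lt_succ.mpr fun i => by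
          fin_cases i
          · exact hlt P₀ P₁ le_rfl h₁.le ‹_› ‹_› h₁
          · exact hlt P₁ m h₁.le (h₁.trans h₂).le ‹_› ‹_› h₂)
    have hl : ((l.length : ℕ∞) : WithBot ℕ∞) ≤ ringKrullDim (B ⧸ P₀) := Order.LTSeries.length_le_krullDim l
    rw [hdim] at hl
    have : l.length = 2 := rfl
    rw [this] at hl
    exact_mod_cast hl
  obtain ⟨ι, x, hx⟩ := exists_isTranscendenceBasis' (A ⧸ mA) (B ⧸ P₀)
  have hcard : Cardinal.mk ι = n := hx.cardinalMk_eq_trdeg.trans hn
  choose y hy using fun i => Ideal.Quotient.mk_surjective (x i)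
  have hy' : AlgebraicIndependent A y :=
    algebraicIndependent_of_residue (Ideal.Quotient.mk P₀) (Ideal.Quotient.mk mA) (fun a => rfl) y
      ((funext hy : Ideal.Quotient.mk P₀ ∘ y = x) ▸ hx.1)
  have := hy'.cardinalMk_le_trdeg
  rw [hcard, htr] at this
  have : n ≤ 1 := by exact_mod_cast this
  omega

/-- On a curve over a valuation ring, points of the generic fibre avoiding a given closed subset
specialise to any closed point of the special fibre. -/
theorem exists_prime_of_trdeg_eq_one (htr : Algebra.trdeg A B = 1) (hA : IsLocalRing.maximalIdeal A ≠ ⊥)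
    (m : Ideal B) [m.IsMaximal] (hm : m.comap (algebraMap A B) = IsLocalRing.maximalIdeal A)
    (g : B) (hg : g ≠ 0) :
    ∃ Q : Ideal B, Q.IsPrime ∧ Q ≤ m ∧ Q.comap (algebraMap A B) = ⊥ ∧ g ∉ Q ∧ Q ≠ ⊥ := by
  classical
  let mA := IsLocalRing.maximalIdeal A
  let J := mA.map (algebraMap A B)
  have hJm : J ≤ m := Ideal.map_le_iff_le_comap.mpr hm.ge
  obtain ⟨π, hπ, hπ0⟩ := (Submodule.ne_bot_iff _).mp hA
  have hfin : J.minimalPrimes.Finite := by
    letI : Algebra (A ⧸ mA) (B ⧸ J) :=
      (Ideal.quotientMap J (algebraMap A B) Ideal.le_comap_map).toAlgebra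
    letI : Field (A ⧸ mA) := Ideal.Quotient.field mA
    have : IsScalarTower A (A ⧸ mA) (B ⧸ J) := IsScalarTower.of_algebraMap_eq' rfl
    have : Algebra.FiniteType (A ⧸ mA) (B ⧸ J) := Algebra.FiniteType.of_restrictScalars_finiteType A _ _
    have : IsNoetherianRing (B ⧸ J) := Algebra.FiniteType.isNoetherianRing (A ⧸ mA) _
    refine Set.Finite.subset ((minimalPrimes.finite_of_isNoetherianRing (B ⧸ J)).image
      (Ideal.comap (Ideal.Quotient.mk J))) ?_
    rw [← Ideal.minimalPrimes_eq_comap]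
  -- a transcendental element of `m` avoiding the other components of the special fibre
  obtain ⟨t₀, ht₀m, ht₀⟩ : ∃ t ∈ m, ∀ P ∈ J.minimalPrimes, P ≠ m → t ∉ P := by
    have h : ¬ (m : Set B) ⊆ ⋃ P ∈ (hfin.toFinset.filter (· ≠ m) : Set (Ideal B)), (P : Set B) := by
      rw [Ideal.subset_union_prime ⊥ ⊥ fun P hP _ _ => (hfin.mem_toFinset.mp (Finset.mem_filter.mp hP).1).1.1]
      rintro ⟨P, hP, hle⟩
      obtain ⟨hP, hne⟩ := Finset.mem_filter.mp hP
      have hPp := (hfin.mem_toFinset.mp hP).1.1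
      exact hne (Ideal.IsMaximal.eq_of_le ‹m.IsMaximal› hPp.ne_top hle).symm
    obtain ⟨t, htm, ht⟩ := Set.not_subset.mp h
    exact ⟨t, htm, fun P hP hne htP => ht (Set.mem_iUnion₂.mpr
      ⟨P, Finset.mem_coe.mpr (Finset.mem_filter.mpr ⟨hfin.mem_toFinset.mpr hP, hne⟩), htP⟩)⟩
  have hπJ : algebraMap A B π ∈ J := Ideal.mem_map_of_mem _ hπ
  obtain ⟨x, hx⟩ : ∃ x : B, Transcendental A x := by
    by_contra h
    push Not at h
    have : Algebra.IsAlgebraic A B := ⟨fun z => not_not.mp (h z)⟩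
    rw [trdeg_eq_zero] at htr
    exact zero_ne_one htr
  obtain ⟨t, htm, ht, htr'⟩ : ∃ t ∈ m, (∀ P ∈ J.minimalPrimes, P ≠ m → t ∉ P) ∧ Transcendental A t := by
    by_cases h : IsAlgebraic A t₀
    · refine ⟨t₀ + algebraMap A B π * x, m.add_mem ht₀m (m.mul_mem_right _ (hJm hπJ)),
        fun P hP hne hmem => ht₀ P hP hne ?_, fun halg => hx ?_⟩
      · simpa using P.sub_mem hmem (P.mul_mem_right x (hP.1.2 hπJ))
      · have hπx : IsAlgebraic A (π • x) := by
          simpa [Algebra.smul_def] using halg.sub h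
        exact hπx.of_smul (mem_nonZeroDivisors_of_ne_zero hπ0)
    · exact ⟨t₀, ht₀m, ht₀, h⟩
  -- `B` as a quasi-finite algebra over `A[X]`
  letI : Algebra A[X] B := (aeval t).toRingHom.toAlgebra
  have : IsScalarTower A A[X] B := IsScalarTower.of_algebraMap_eq fun a => (aeval_C t a).symm
  have halgmap : ∀ p : A[X], algebraMap A[X] B p = aeval t p := fun p => rfl
  have : FaithfulSMul A[X] B :=
    (faithfulSMul_iff_algebraMap_injective _ _).mpr (transcendental_iff_injective.mp htr')
  have : Algebra.FiniteType A[X] B := Algebra.FiniteType.of_restrictScalars_finiteType A _ _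
  have halg : Algebra.IsAlgebraic A[X] B := by
    have := trdeg_add_eq A A[X] (A := B)
    rw [Polynomial.trdeg_of_isDomain, htr] at this
    refine (trdeg_eq_zero_iff (R := A[X]) (A := B)).mp ?_
    refine Cardinal.eq_of_add_eq_add_left (this.trans (add_zero _).symm) Cardinal.one_lt_aleph0
  have hqf : Algebra.QuasiFiniteAt A[X] m := by
    obtain ⟨f, hfm, hf⟩ : ∃ f ∉ m, ∀ P ∈ (J ⊔ Ideal.span {t}).minimalPrimes, P ≠ m → f ∈ P := by
      have hmin : ∀ P ∈ (J ⊔ Ideal.span {t}).minimalPrimes, P ≠ m → P ∈ J.minimalPrimes ∨ ¬ P ≤ m := by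
        intro P hP hne
        by_cases hle : P ≤ m
        · exfalso
          have := hP.1.1
          obtain ⟨P₀, hP₀, hle₀⟩ := Ideal.exists_minimalPrimes_le (le_sup_left.trans hP.1.2)
          have := hP₀.1.1
          have hP₀m : P₀ ≠ m := fun e => hne (le_antisymm hle (e ▸ hle₀))
          refine no_chain (A := A) htr hP₀.1.2 (lt_of_le_of_ne hle₀ fun e => ?_) (lt_of_le_of_ne hle hne)
          exact ht P₀ hP₀ hP₀m (e ▸ hP.1.2 (le_sup_right (a := J) (Ideal.mem_span_singleton_self t)))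
        · exact Or.inr hle
      have hfinK : (J ⊔ Ideal.span {t}).minimalPrimes.Finite := by
        letI : Algebra (A ⧸ mA) (B ⧸ (J ⊔ Ideal.span {t})) :=
          (Ideal.quotientMap _ (algebraMap A B) (Ideal.le_comap_map.trans (Ideal.comap_mono le_sup_left))).toAlgebra
        letI : Field (A ⧸ mA) := Ideal.Quotient.field mA
        have : IsScalarTower A (A ⧸ mA) (B ⧸ (J ⊔ Ideal.span {t})) := IsScalarTower.of_algebraMap_eq' rfl
        have : Algebra.FiniteType (A ⧸ mA) (B ⧸ (J ⊔ Ideal.span {t})) :=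
          Algebra.FiniteType.of_restrictScalars_finiteType A _ _
        have : IsNoetherianRing (B ⧸ (J ⊔ Ideal.span {t})) :=
          Algebra.FiniteType.isNoetherianRing (A ⧸ mA) _
        refine Set.Finite.subset ((minimalPrimes.finite_of_isNoetherianRing
          (B ⧸ (J ⊔ Ideal.span {t}))).image (Ideal.comap (Ideal.Quotient.mk _))) ?_
        rw [← Ideal.minimalPrimes_eq_comap]
      let S := hfinK.toFinset.filter (· ≠ m)
      have hnot : ¬ S.inf id ≤ m := by
        intro h
        obtain ⟨P, hP, hle⟩ := (Ideal.IsPrime.inf_le' (Ideal.IsMaximal.isPrime ‹m.IsMaximal›)).mp h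
        obtain ⟨hP, hne⟩ := Finset.mem_filter.mp hP
        have hP' := hfinK.mem_toFinset.mp hP
        rcases hmin P hP' hne with h' | h'
        · exact ht P h' hne (hP'.1.2 (le_sup_right (a := J) (Ideal.mem_span_singleton_self t)))
        · exact h' hle
      obtain ⟨f, hf, hfm⟩ := SetLike.not_le_iff_exists.mp hnot
      exact ⟨f, hfm, fun P hP hne => (Finset.inf_le (f := id) (Finset.mem_filter.mpr
        ⟨hfinK.mem_toFinset.mpr hP, hne⟩) : S.inf id ≤ P) hf⟩
    refine Algebra.QuasiFiniteAt.of_isOpen_singleton_fiber (R := A[X]) ⟨m, inferInstance⟩ ?_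
    refine ⟨PrimeSpectrum.basicOpen f, (PrimeSpectrum.basicOpen f).2, ?_⟩
    ext ⟨⟨q, hq⟩, hqm⟩
    refine ⟨fun hfq => ?_, fun e => ?_⟩
    · have hqm' : ∀ p : A[X], aeval t p ∈ q ↔ aeval t p ∈ m := fun p =>
        Ideal.ext_iff.mp (congrArg PrimeSpectrum.asIdeal hqm) p
      have hle : J ⊔ Ideal.span {t} ≤ q := by
        refine sup_le (Ideal.map_le_iff_le_comap.mpr fun a ha => ?_) ?_
        · have := (hqm' (C a)).mpr (by rw [aeval_C]; exact hJm (Ideal.mem_map_of_mem _ ha))
          rwa [aeval_C] at this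
        · rw [Ideal.span_singleton_le_iff_mem]
          have := (hqm' X).mpr (by rwa [aeval_X])
          rwa [aeval_X] at this
      obtain ⟨P, hP, hPq⟩ := Ideal.exists_minimalPrimes_le hle
      by_cases hPm : P = m
      · refine Subtype.ext (PrimeSpectrum.ext ?_)
        exact (Ideal.IsMaximal.eq_of_le ‹m.IsMaximal› hq.ne_top (hPm ▸ hPq)).symm
      · exact absurd (hPq (hf P hP hPm)) hfq
    · cases e; exact hfm
  obtain ⟨S', hS', r, hrm, hbij⟩ :=
    Algebra.QuasiFiniteAt.exists_fg_and_exists_notMem_and_awayMap_bijective (R := A[X]) m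
  have : Module.Finite A[X] S' := Module.Finite.iff_fg.mpr hS'
  have hr0 : r.1 ≠ 0 := fun h => hrm (h ▸ m.zero_mem)
  obtain ⟨c, hc0, hc⟩ : ∃ c : A[X], c ≠ 0 ∧ ∀ Q : Ideal B, g ∈ Q → aeval t c ∈ Q := by
    obtain ⟨q, hq0, hq⟩ := (halg.isAlgebraic g).exists_nonzero_coeff_and_aeval_eq_zero
      (mem_nonZeroDivisors_of_ne_zero hg)
    refine ⟨q.coeff 0, hq0, fun Q hgQ => ?_⟩
    rw [← Polynomial.divX_mul_X_add q, map_add, map_mul, aeval_X, aeval_C] at hq
    rw [← halgmap, ← neg_eq_of_add_eq_zero_right hq]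
    exact Q.neg_mem (Q.mul_mem_left _ hgQ)
  obtain ⟨a, ha, hca⟩ : ∃ a ∈ mA, c.eval a ≠ 0 := by
    have hinj : Function.Injective fun n : ℕ => π ^ (n + 1) := fun i j h => by
      have := pow_injective_of_not_isUnit ((IsLocalRing.mem_maximalIdeal _).mp hπ) hπ0 h
      omega
    obtain ⟨_, ⟨n, rfl⟩, hn⟩ := (Set.infinite_range_of_injective hinj).exists_notMem_finset c.roots.toFinset
    refine ⟨_, mA.pow_mem_of_mem hπ (n + 1) (Nat.succ_pos n), fun h => hn ?_⟩
    rw [Multiset.mem_toFinset, mem_roots hc0]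
    exact h
  let qa : Ideal A[X] := RingHom.ker (evalRingHom a)
  have : qa.IsPrime := RingHom.ker_isPrime _
  have hqa : ∀ p : A[X], p ∈ qa → aeval t p ∈ m := fun p hp => by
    obtain ⟨h, rfl⟩ := dvd_iff_isRoot.mpr (show p.IsRoot a from hp)
    rw [map_mul, map_sub, aeval_X, aeval_C]
    exact m.mul_mem_right _ (m.sub_mem htm (hJm (Ideal.mem_map_of_mem _ ha)))
  let n₁ : Ideal S' := m.comap S'.val.toRingHom
  let n₀ : Ideal A[X] := n₁.comap (algebraMap A[X] S')
  have : n₁.LiesOver n₀ := ⟨rfl⟩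
  have : IsIntegrallyClosed A := inferInstance
  have : FaithfulSMul A[X] S' := (faithfulSMul_iff_algebraMap_injective _ _).mpr fun p q h =>
    transcendental_iff_injective.mp htr' (congrArg Subtype.val h)
  have : Algebra.IsIntegral A[X] S' := inferInstance
  have : IsIntegrallyClosed A[X] := inferInstance
  have : IsDomain S' := inferInstance
  have : Algebra.HasGoingDown A[X] S' := inferInstance
  obtain ⟨P, hPn, hP, hPq⟩ := Ideal.exists_ideal_le_liesOver_of_le (p := qa) (q := n₀) n₁ hqa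
  have hrP : r ∉ P := fun h => hrm (hPn h)
  let e := RingEquiv.ofBijective (Localization.awayMap S'.val.toRingHom r) hbij
  let Pr : Ideal (Localization.Away r) := P.map (algebraMap S' _)
  have hdisj : Disjoint (Submonoid.powers r : Set S') (P : Set S') := by
    rw [Set.disjoint_left]
    rintro _ ⟨k, rfl⟩ hk
    exact hrP (hP.mem_of_pow_mem k hk)
  have hPr : Pr.IsPrime := IsLocalization.isPrime_of_isPrime_disjoint (Submonoid.powers r) _ P hP hdisj
  let Q : Ideal B := Pr.comap (e.symm.toRingHom.comp (algebraMap B _))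
  have hmem : ∀ s : S', s.1 ∈ Q ↔ s ∈ P := fun s => by
    have he : e (algebraMap S' _ s) = algebraMap B _ s.1 := by
      show Localization.awayMap S'.val.toRingHom r (algebraMap S' _ s) = _
      exact IsLocalization.map_eq _ s
    show e.symm (algebraMap B _ s.1) ∈ Pr ↔ _
    rw [← he, e.symm_apply_apply]
    exact Ideal.ext_iff.mp (IsLocalization.comap_map_of_isPrime_disjoint (Submonoid.powers r) _ hP hdisj) s
  have hQ : Q.IsPrime := Ideal.IsPrime.comap _
  have hover : ∀ p : A[X], aeval t p ∈ Q ↔ p ∈ qa := fun p => by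
    rw [hPq.over]
    exact hmem (algebraMap A[X] S' p)
  refine ⟨Q, hQ, fun b hb => ?_, ?_, fun hgQ => hca ((hover c).mp (hc Q hgQ)), fun hbot => ?_⟩
  · obtain ⟨z, hz⟩ := hbij.2 (algebraMap B _ b)
    obtain ⟨⟨s, _, k, rfl⟩, hs⟩ := IsLocalization.surj (Submonoid.powers r) z
    have h1 := congrArg (Localization.awayMap S'.val.toRingHom r) hs
    erw [map_mul, hz, IsLocalization.map_eq, IsLocalization.map_eq] at h1
    rw [← map_mul] at h1
    have h2 : b * (r ^ k : S').1 = s.1 :=
      IsLocalization.injective (Localization.Away (S'.val.toRingHom r))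
        (M := Submonoid.powers (S'.val.toRingHom r)) (powers_le_nonZeroDivisors_of_noZeroDivisors hr0) h1
    have hsQ : s.1 ∈ Q := h2 ▸ Q.mul_mem_right _ hb
    have hsm : s.1 ∈ m := hPn ((hmem s).mp hsQ)
    rw [← h2] at hsm
    exact ((Ideal.IsMaximal.isPrime ‹m.IsMaximal›).mem_or_mem hsm).resolve_right
      fun h => hrm ((Ideal.IsMaximal.isPrime ‹m.IsMaximal›).mem_of_pow_mem k (by simpa using h))
  · refine eq_bot_iff.mpr fun z hz => ?_
    have := RingHom.mem_ker.mp ((hover (C z)).mp (by rw [aeval_C]; exact hz))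
    rw [coe_evalRingHom, eval_C] at this
    exact Ideal.mem_bot.mpr this
  · have h := (hover (X - C a)).mpr (by simp [qa])
    rw [hbot, Ideal.mem_bot] at h
    have := transcendental_iff_injective.mp htr' (h.trans (map_zero (aeval t)).symm)
    exact X_sub_C_ne_zero a this

end Groth.Agent.Wt.ClosedPts
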