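import Groth.Agent.Wt.Local

/-!
# Decomposition of a finite open near a point
-/

universe u

open AlgebraicGeometry CategoryTheory Limits
open scoped Topology

namespace Groth.Agent.Wt.Decomp

open GeomPts Master

variable {P T : Scheme.{u}}

theorem eventually_avoid (q : P ⟶ T) (W : P.Opens) (hW : IsFinite (W.ι ≫ q)) (C : Set P)
    (hC : IsClosed C) (t : T) (h : ∀ x ∈ W, q x = t → x ∉ C) :
    ∀ᶠ n in 𝓝 t, ∀ x ∈ W, q x = n → x ∉ C := by
  obtain ⟨N, htN, hN⟩ := exists_nbhd_avoid q W hW C hC t h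
  filter_upwards [N.2.mem_nhds htN] with n hn x hx hxn
  exact hN x hx (show q x ∈ N from hxn ▸ hn)

/-- A finite open is near a point the disjoint union of finite parts at the points of its fibre. -/
theorem eventually_decompose (q : P ⟶ T) [LocallyQuasiFinite q] (U : P.Opens)
    (hU : IsFinite (U.ι ≫ q)) (t : T) (W : P → P.Opens)
    (hW : ∀ p ∈ (U : Set P) ∩ q ⁻¹' {t}, IsFinite ((W p).ι ≫ q))
    (hself : ∀ p ∈ (U : Set P) ∩ q ⁻¹' {t}, p ∈ W p)
    (hfib : ∀ p ∈ (U : Set P) ∩ q ⁻¹' {t}, ∀ x ∈ W p, q x = t → x = p) :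
    ∀ᶠ n in 𝓝 t, ∀ (K : Type u) [Field K] [IsAlgClosed K] (y : Spec (CommRingCat.of K) ⟶ T),
      pt y = n → ∀ w : P → ℤ,
        geomSum q U w y = ∑ᶠ p ∈ (U : Set P) ∩ q ⁻¹' {t}, geomSum q (W p) w y := by
  let F := (U : Set P) ∩ q ⁻¹' {t}
  have hF : F.Finite := finite_fibre_open q U hU t
  have ev₁ : ∀ᶠ n in 𝓝 t, ∀ p ∈ F, ∀ x ∈ W p, q x = n → x ∈ U := by
    refine hF.eventually_all.mpr fun p hp => ?_
    filter_upwards [eventually_avoid q (W p) (hW p hp) _ U.2.isClosed_compl t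
      fun x hx hxt hxU => hxU (hfib p hp x hx hxt ▸ hp.1)] with n hn x hx hxn
    exact not_not.mp (hn x hx hxn)
  have ev₂ : ∀ᶠ n in 𝓝 t, ∀ x ∈ U, q x = n → ∃ p ∈ F, x ∈ W p := by
    filter_upwards [eventually_avoid q U hU (⋃ p ∈ F, (W p : Set _))ᶜ
      (isOpen_biUnion fun p _ => (W p).2).isClosed_compl t
      fun x hx hxt hx' => hx' (Set.mem_biUnion (show x ∈ F from ⟨hx, hxt⟩) (hself x ⟨hx, hxt⟩))]
      with n hn x hx hxn
    simpa using hn x hx hxn
  have ev₃ : ∀ᶠ n in 𝓝 t, ∀ p ∈ F, ∀ p' ∈ F, p ≠ p' → ∀ x ∈ W p, q x = n → x ∈ U → x ∉ W p' := by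
    refine hF.eventually_all.mpr fun p hp => hF.eventually_all.mpr fun p' hp' => ?_
    by_cases hne : p = p'
    · exact .of_forall fun n h => absurd hne h
    obtain ⟨N, htN, hN⟩ := exists_nbhd_avoid q (W p') (hW p' hp') _ U.2.isClosed_compl t
      fun x hx hxt hxU => hxU (hfib p' hp' x hx hxt ▸ hp'.1)
    obtain ⟨C, hC, hCW⟩ := exists_isClosed_inter q (W p') U (hW p' hp') hU N
      fun x hx hxN => not_not.mp (hN x hx hxN)
    filter_upwards [eventually_avoid q (W p) (hW p hp) C hC t fun x hx hxt hxC => by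
        obtain rfl := hfib p hp x hx hxt
        exact hne (hfib p' hp' x ((hCW x hp.1 (hxt ▸ htN)).mp hxC) hxt),
      N.2.mem_nhds htN] with n hn hnN _ x hx hxn hxU hx'
    exact hn x hx hxn ((hCW x hxU (show q x ∈ N from hxn ▸ hnN)).mpr hx')
  filter_upwards [ev₁, ev₂, ev₃] with n e₁ e₂ e₃ K _ _ y hy w
  unfold geomSum
  have hset : {x : GeomFib q y | pt x.1 ∈ (U : Set P)} =
      ⋃ p ∈ F, {x : GeomFib q y | pt x.1 ∈ (W p : Set P)} := by
    ext x
    have hx : q (pt x.1) = n := (apply_pt q y x).trans hy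
    simp only [Set.mem_iUnion, Set.mem_ofPred_eq, SetLike.mem_coe, exists_prop]
    exact ⟨fun h => e₂ _ h hx, fun ⟨p, hp, h⟩ => e₁ p hp _ h hx⟩
  rw [hset]
  refine finsum_mem_biUnion ?_ hF fun p hp => finite_geomFib_open q _ (hW p hp) y
  intro p hp p' hp' hne
  rw [Function.onFun, Set.disjoint_left]
  intro x hx hx'
  have hxn : q (pt x.1) = n := (apply_pt q y x).trans hy
  exact e₃ p hp p' hp' hne _ hx hxn (e₁ p hp _ hx hxn) hx'

end Groth.Agent.Wt.Decomp
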