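import Groth.Agent.FibSemi.Basic
import Groth.Agent.RelDim.Prescribed
import Groth.Agent.TrdegDim.Basic

/-!
The numbers `dim (closed fibre of R_q)` and `trdeg κ(q)/κ(p)` for a finitely generated domain: their sum
is at least `trdeg_A R` and is realised by a chain in the fibre.
-/

set_option autoImplicit false
set_option linter.style.haveILetI false

universe u

open scoped TensorProduct

namespace Groth.Agent.Wt.EftDims

/-- Chains through a closed point lying only on the components through `qb`. -/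
theorem chain_le {k S : Type u} [Field k] [CommRing S] [Algebra k S] [Algebra.FiniteType k S] (qb : Ideal S)
    [qb.IsPrime] (d e : ℕ) (hd : qb.height = d) (hr : Algebra.trdeg k qb.ResidueField = e) (g : S)
    (hg : ∀ P' ∈ minimalPrimes S, ¬ P' ≤ qb → g ∈ P') {n : ℕ} (L : Fin (n + 1) → PrimeSpectrum S)
    (hL : StrictMono L) (hgM : g ∉ (L (Fin.last n)).asIdeal) : n ≤ d + e := by
  obtain ⟨P', hP', hP'le⟩ := Ideal.exists_minimalPrimes_le (bot_le : (⊥ : Ideal S) ≤ (L 0).asIdeal)
  haveI := hP'.1.1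
  have hP'M : P' ≤ (L (Fin.last n)).asIdeal := hP'le.trans (hL.monotone (Fin.zero_le _))
  have hP'q : P' ≤ qb := by
    by_contra h
    exact hgM (hP'M (hg P' hP' h))
  have h := TrdegDim.ringKrullDim_quotient_le qb P' hP'q e hr
  rw [hd] at h
  let z : Fin (n + 1) → PrimeSpectrum.zeroLocus (R := S) (P' : Set S) := fun i =>
    ⟨L i, SetLike.coe_subset_coe.mpr (hP'le.trans (hL.monotone (Fin.zero_le i)))⟩
  have h2 : (n : WithBot ℕ∞) ≤ ringKrullDim (S ⧸ P') := Order.le_krullDim_iff.mpr ⟨LTSeries.mk n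
    (fun i => (Ideal.primeSpectrumQuotientOrderIsoZeroLocus P').symm (z i))
    ((OrderIso.strictMono _).comp fun i j hij => hL hij), rfl⟩
  have h3 := h2.trans h
  exact_mod_cast h3

/-- Transcendence degree along a ring isomorphism over the base. -/
theorem trdeg_congr {k K L : Type u} [CommRing k] {_ : CommRing K} {_ : CommRing L} {iK : Algebra k K}
    {iL : Algebra k L} (φ : K ≃+* L) (h : ∀ c, φ (algebraMap k K c) = algebraMap k L c) :
    Algebra.trdeg k K = Algebra.trdeg k L :=
  (AlgEquiv.ofRingEquiv (f := φ) h).trdeg_eq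

/-- The transcendence degree of a residue field, as a natural number. -/
theorem exists_residue_trdeg {k S : Type u} [Field k] [CommRing S] [Algebra k S] [Algebra.FiniteType k S]
    (qb : Ideal S) [qb.IsPrime] : ∃ e : ℕ, Algebra.trdeg k qb.ResidueField = e := by
  haveI : Algebra.FiniteType k (S ⧸ qb) := VarDim.finiteType_quotient k S qb
  obtain ⟨e, -, he', -⟩ := VarDim.exists_ringKrullDim_eq_trdeg k (S ⧸ qb)
  haveI : FaithfulSMul (S ⧸ qb) qb.ResidueField :=
    (faithfulSMul_iff_algebraMap_injective _ _).mpr qb.injective_algebraMap_quotient_residueField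
  haveI : Algebra.IsAlgebraic (S ⧸ qb) qb.ResidueField :=
    IsLocalization.isAlgebraic qb.ResidueField (nonZeroDivisors (S ⧸ qb))
  exact ⟨e, by rw [← trdeg_add_eq k (S ⧸ qb) (A := qb.ResidueField), trdeg_eq_zero (R := S ⧸ qb), add_zero, he']⟩

theorem exists_dims {A R : Type u} [CommRing A] [CommRing R] [IsDomain A] [IsDomain R] [Algebra A R]
    [FaithfulSMul A R] [Algebra.FiniteType A R] (p : Ideal A) [p.IsPrime] (q : PrimeSpectrum R)
    (hq : q.comap (algebraMap A R) = ⟨p, inferInstance⟩) [Algebra p.ResidueField q.asIdeal.ResidueField]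
    [IsScalarTower A p.ResidueField q.asIdeal.ResidueField] :
    ∃ d e : ℕ,
      ringKrullDim (Localization.AtPrime q.asIdeal ⧸
        (p.map (algebraMap A R)).map (algebraMap R (Localization.AtPrime q.asIdeal))) = d ∧
      Algebra.trdeg p.ResidueField q.asIdeal.ResidueField = e ∧
      Algebra.trdeg A R ≤ (d + e : ℕ) ∧
      ∃ l : LTSeries (PrimeSpectrum R), l.length = d + e ∧
        ∀ i, (l i).comap (algebraMap A R) = ⟨p, inferInstance⟩ := by
  classical
  let E := PrimeSpectrum.preimageOrderIsoFiber A R ⟨p, inferInstance⟩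
  let k := p.ResidueField
  let S := p.Fiber R
  set 𝒬 := E ⟨q, hq⟩
  let qb : Ideal S := 𝒬.asIdeal
  haveI hqb : qb.IsPrime := 𝒬.isPrime
  haveI : IsNoetherianRing S := Algebra.FiniteType.isNoetherianRing k S
  haveI : IsJacobsonRing S := isJacobsonRing_of_finiteType (A := k)
  obtain ⟨e, hr⟩ := exists_residue_trdeg (k := k) qb
  obtain ⟨d, hd⟩ := ENat.ne_top_iff_exists.1 (Ideal.height_ne_top_of_isPrime (I := qb))
  have hqQ : qb.comap Algebra.TensorProduct.includeRight.toRingHom = q.asIdeal :=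
    congr(($(E.symm_apply_apply ⟨q, hq⟩)).1.asIdeal)
  refine ⟨d, e, ?_, ?_, ?_, ?_⟩
  · obtain ⟨φ⟩ := RelDim.exists_localizationEquiv p q.asIdeal qb hqQ
    rw [← ringKrullDim_eq_of_ringEquiv φ,
      IsLocalization.AtPrime.ringKrullDim_eq_height qb (Localization.AtPrime qb), ← hd]
    rfl
  · obtain ⟨φ, hφ⟩ := RelDim.exists_residueFieldEquiv p q.asIdeal qb hqQ.symm
    rw [← hr]
    refine trdeg_congr φ fun c => ?_
    exact (hφ c).trans rfl
  · -- upper bound
    obtain ⟨g, hgq, hg⟩ : ∃ g : S, g ∉ qb ∧ ∀ P' ∈ minimalPrimes S, ¬ P' ≤ qb → g ∈ P' := by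
      have hfin : {P' | P' ∈ minimalPrimes S ∧ ¬ P' ≤ qb}.Finite :=
        (minimalPrimes.finite_of_isNoetherianRing S).subset fun _ h => h.1
      have hch : ∀ P' : {P' | P' ∈ minimalPrimes S ∧ ¬ P' ≤ qb}, ∃ x, x ∈ P'.1 ∧ x ∉ qb :=
        fun P' => SetLike.not_le_iff_exists.mp P'.2.2
      choose x hx using hch
      haveI := hfin.fintype
      refine ⟨∏ P', x P', fun h => ?_, fun P' h1 h2 => ?_⟩
      · obtain ⟨P', -, hP'⟩ := (Ideal.IsPrime.prod_mem_iff (hp := hqb)).mp h
        exact (hx P').2 hP'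
      · exact Ideal.mem_of_dvd _ (Finset.dvd_prod_of_mem x (Finset.mem_univ ⟨P', h1, h2⟩)) (hx ⟨P', h1, h2⟩).1
    obtain ⟨M, ⟨hqM, hM⟩, hgM⟩ : ∃ M : Ideal S, (qb ≤ M ∧ M.IsMaximal) ∧ g ∉ M := by
      by_contra h
      push Not at h
      refine hgq ?_
      rw [← IsJacobsonRing.out' qb hqb.isRadical]
      exact Submodule.mem_sInf.mpr fun M hM => h M hM
    let Mp : PrimeSpectrum S := ⟨M, hM.isPrime⟩
    let Qs := (E.symm Mp).1
    have hQs : Qs.comap (algebraMap A R) = ⟨p, inferInstance⟩ := (E.symm Mp).2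
    have hmax : ∀ Q : Ideal R, Q.IsPrime → Qs.asIdeal ≤ Q →
        Q.comap (algebraMap A R) = Qs.asIdeal.comap (algebraMap A R) → Q = Qs.asIdeal := by
      intro Q hQ hle hQA
      have hQ' : (⟨Q, hQ⟩ : PrimeSpectrum R).comap (algebraMap A R) = ⟨p, inferInstance⟩ :=
        PrimeSpectrum.ext (hQA.trans (congrArg PrimeSpectrum.asIdeal hQs))
      have h1 : Mp ≤ E ⟨⟨Q, hQ⟩, hQ'⟩ := E.symm_apply_le.mp (show (E.symm Mp).1 ≤ _ from hle)
      have h2 : E ⟨⟨Q, hQ⟩, hQ'⟩ = Mp :=
        PrimeSpectrum.ext (hM.eq_of_le (E ⟨⟨Q, hQ⟩, hQ'⟩).isPrime.ne_top h1).symm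
      show _ = (E.symm Mp).1.asIdeal
      rw [← h2, OrderIso.symm_apply_apply]
    have hle : ∀ l : LTSeries (PrimeSpectrum R),
        (∀ i, (l i).asIdeal.comap (algebraMap A R) = Qs.asIdeal.comap (algebraMap A R)) →
        l.last.asIdeal = Qs.asIdeal → l.length ≤ d + e := by
      intro l hl hlast
      have hfib : ∀ i, (l i).comap (algebraMap A R) = ⟨p, inferInstance⟩ := fun i =>
        PrimeSpectrum.ext ((hl i).trans (congrArg PrimeSpectrum.asIdeal hQs))
      let L : Fin (l.length + 1) → PrimeSpectrum S := fun i => E ⟨l i, hfib i⟩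
      have hL : StrictMono L := fun i j hij => E.strictMono (show (⟨l i, hfib i⟩ :
        PrimeSpectrum.comap (algebraMap A R) ⁻¹' {⟨p, inferInstance⟩}) < ⟨l j, hfib j⟩ from l.strictMono hij)
      have hlastM : L (Fin.last _) = Mp := by
        apply E.symm.injective
        refine (E.symm_apply_apply _).trans ?_
        exact Subtype.ext (PrimeSpectrum.ext hlast)
      exact chain_le qb d e hd.symm hr g hg L hL (by rw [hlastM]; exact hgM)
    have hinj := FaithfulSMul.algebraMap_injective A R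
    obtain ⟨T, hT⟩ := exists_isTranscendenceBasis A R
    rw [← hT.cardinalMk_eq_trdeg]
    refine Cardinal.card_le_of fun s => ?_
    by_contra hlt
    push Not at hlt
    have hind : DimSpec.Indep (⊥ : Ideal A) (⊥ : Ideal R) (fun i : Fin s.card => (((s.equivFin.symm i).1 : T) : R)) := by
      intro G hG hmem
      obtain ⟨i, hi⟩ := hG
      have h := (hT.1.comp _ (Subtype.val_injective.comp s.equivFin.symm.injective))
      rw [algebraicIndependent_iff] at h
      exact hi (by rw [h G (Submodule.mem_bot _ |>.mp hmem)]; simp)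
    obtain ⟨l, hlen, hl⟩ := DimSpec.exists_chain_of_indep (⊥ : Ideal A) (⟨⊥, Ideal.isPrime_bot⟩ : PrimeSpectrum R)
      (PrimeSpectrum.ext (Ideal.comap_bot_of_injective _ hinj)) _ hind
    have hbot : ∀ i, (l i).asIdeal.comap (algebraMap A R) = (⊥ : Ideal R).comap (algebraMap A R) := fun i => by
      rw [Ideal.comap_bot_of_injective _ hinj]; exact congrArg PrimeSpectrum.asIdeal (hl i).2
    obtain ⟨l₀, h₀⟩ : ∃ l₀ : LTSeries (PrimeSpectrum R), s.card ≤ l₀.length ∧ l₀.head.asIdeal = ⊥ ∧
        ∀ i, (l₀ i).asIdeal.comap (algebraMap A R) = (⊥ : Ideal R).comap (algebraMap A R) := by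
      by_cases h : l.head.asIdeal = ⊥
      · exact ⟨l, hlen.ge, h, hbot⟩
      · refine ⟨l.cons ⟨⊥, Ideal.isPrime_bot⟩ (lt_of_le_of_ne bot_le fun hh => h (congrArg PrimeSpectrum.asIdeal hh).symm), ?_, ?_, fun i => ?_⟩
        · rw [RelSeries.cons_length, hlen]; omega
        · rw [RelSeries.head_cons]
        · obtain ⟨i', rfl⟩ : ∃ i' : Fin (l.length + 1 + 1), Fin.cast (by rw [RelSeries.cons_length]) i' = i :=
            ⟨Fin.cast (by rw [RelSeries.cons_length]) i, Fin.ext rfl⟩
          induction i' using Fin.cases with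
          | zero => exact congrArg (fun z : PrimeSpectrum R => z.asIdeal.comap (algebraMap A R)) (RelSeries.head_cons _ _ _)
          | succ j =>
            rw [RelSeries.cons_cast_succ]
            exact hbot j
    have := FibSemi.length_le_of_chain (A := A) Qs.asIdeal hmax hle l₀ h₀.2.1 h₀.2.2
    omega
  · -- a chain in a component of maximal dimension
    obtain ⟨P, hP, hPq, hPdim⟩ := TrdegDim.exists_minimalPrime_eq qb e hr
    haveI := hP.1.1
    rw [← hd] at hPdim
    obtain ⟨l, hl⟩ := Order.le_krullDim_iff.mp (show ((d + e : ℕ) : WithBot ℕ∞) ≤ ringKrullDim (S ⧸ P) by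
      rw [hPdim, Nat.cast_add]; rfl)
    let ι := Ideal.primeSpectrumQuotientOrderIsoZeroLocus P
    exact ⟨l.map (fun x => (E.symm (ι x).1).1) (fun x y hxy => E.symm.strictMono (ι.strictMono hxy)), hl,
      fun i => (E.symm (ι (l i)).1).2⟩

end Groth.Agent.Wt.EftDims
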