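import Mathlib.RingTheory.ZariskisMainTheorem
import Mathlib.RingTheory.FinitePresentation
import Mathlib.RingTheory.Spectrum.Prime.Topology
import Mathlib.Algebra.Module.FinitePresentation
import Mathlib.RingTheory.Finiteness.ModuleFinitePresentation
import Mathlib.RingTheory.Localization.Away.AdjoinRoot

/-!
# Quasi-finite algebras of finite presentation as opens of finite finitely presented algebras
-/

universe u

open MvPolynomial

namespace Groth.Agent.Wt.FinFactor

section Away

variable {R S : Type u} [CommRing R] [CommRing S] (f : R →+* S) (r : R)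

theorem awayMap_algebraMap (x : R) :
    Localization.awayMap f r (algebraMap R _ x) = algebraMap S _ (f x) :=
  IsLocalization.map_eq _ x

theorem awayMap_surjective (h : ∀ b : S, ∃ a n,
    algebraMap S (Localization.Away (f r)) (f a) =
      algebraMap S _ b * algebraMap S _ (f r) ^ n) :
    Function.Surjective (Localization.awayMap f r) := by
  intro z
  obtain ⟨⟨b, _, k, rfl⟩, hb⟩ := IsLocalization.surj (Submonoid.powers (f r)) z
  obtain ⟨a, n, ha⟩ := h b
  obtain ⟨v, hv⟩ : ∃ v, v * algebraMap R (Localization.Away r) r = 1 :=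
    (IsLocalization.Away.algebraMap_isUnit r).exists_left_inv
  refine ⟨algebraMap R _ a * v ^ (n + k), ?_⟩
  have hu : IsUnit (algebraMap S (Localization.Away (f r)) (f r)) :=
    IsLocalization.Away.algebraMap_isUnit (f r)
  refine (hu.pow (n + k)).mul_right_cancel ?_
  have hv' : Localization.awayMap f r v * algebraMap S _ (f r) = 1 := by
    rw [← awayMap_algebraMap, ← map_mul, hv, map_one]
  rw [map_mul, map_pow, awayMap_algebraMap, mul_assoc, ← mul_pow, hv', one_pow, mul_one, ha, ← hb,
    map_pow, pow_add]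
  ring

theorem exists_ker_numerator {z : Localization.Away r} (hz : Localization.awayMap f r z = 0) :
    ∃ a, f a = 0 ∧ z ∈ Ideal.span {algebraMap R (Localization.Away r) a} := by
  obtain ⟨⟨a, _, k, rfl⟩, ha⟩ := IsLocalization.surj (Submonoid.powers r) z
  have h0 : algebraMap S (Localization.Away (f r)) (f a) = 0 := by
    rw [← awayMap_algebraMap, ← ha, map_mul, hz, zero_mul]
  obtain ⟨⟨_, e, rfl⟩, he⟩ := (IsLocalization.map_eq_zero_iff (Submonoid.powers (f r)) _ _).mp h0
  refine ⟨r ^ e * a, by rw [map_mul, map_pow]; exact he, ?_⟩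
  have hu := IsLocalization.Away.algebraMap_isUnit (S := Localization.Away r) r
  rw [Ideal.mem_span_singleton, map_mul, map_pow, (hu.pow e).mul_left_dvd, ← ha, map_pow,
    (hu.pow k).mul_right_dvd]

end Away

variable (A B : Type u) [CommRing A] [CommRing B] [Algebra A B]

theorem exists_fg_subalgebra [Algebra.QuasiFinite A B] [Algebra.FiniteType A B] :
    ∃ (S : Subalgebra A B), S.toSubmodule.FG ∧ ∃ t : Finset S, Ideal.span ((↑) '' (t : Set S) : Set B) = ⊤ ∧
      ∀ r ∈ t, Function.Surjective (Localization.awayMap S.val.toRingHom r) := by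
  have h := fun p : PrimeSpectrum B =>
    Algebra.QuasiFiniteAt.exists_fg_and_exists_notMem_and_awayMap_bijective (R := A) p.asIdeal
  choose S hS r hr hbij using h
  obtain ⟨s, hs⟩ := isCompact_univ.elim_finite_subcover
    (fun p : PrimeSpectrum B => (PrimeSpectrum.basicOpen (r p).1 : Set (PrimeSpectrum B)))
    (fun p => (PrimeSpectrum.basicOpen _).2) fun p _ => Set.mem_iUnion.mpr ⟨p, hr p⟩
  classical
  have : ∀ p, Module.Finite A (S p) := fun p => Module.Finite.iff_fg.mpr (hS p)
  refine ⟨⨆ p ∈ s, S p, ?_, ?_⟩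
  · clear hs
    induction s using Finset.induction with
    | empty =>
      simp only [Finset.notMem_empty, iSup_false, iSup_bot]
      rw [Algebra.toSubmodule_bot, Submodule.one_eq_span]
      exact Submodule.fg_span_singleton 1
    | insert a t _ ih =>
      rw [Finset.iSup_insert]
      have : Module.Finite A ↥(⨆ x ∈ t, S x) := Module.Finite.iff_fg.mpr ih
      exact Module.Finite.iff_fg.mp (Subalgebra.finite_sup _ _)
  · have hle : ∀ p : s, S p.1 ≤ ⨆ x ∈ s, S x := fun p => le_biSup S p.2
    refine ⟨s.attach.image fun p => ⟨(r p.1).1, hle p (r p.1).2⟩, ?_, ?_⟩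
    · by_contra hne
      obtain ⟨M, hM, hle'⟩ := Ideal.exists_le_maximal _ hne
      obtain ⟨p, hp, hpM⟩ := Set.mem_iUnion₂.mp (hs (Set.mem_univ (⟨M, hM.isPrime⟩ : PrimeSpectrum B)))
      exact hpM (hle' (Ideal.subset_span ⟨⟨(r p).1, hle ⟨p, hp⟩ (r p).2⟩,
        Finset.mem_image.mpr ⟨⟨p, hp⟩, Finset.mem_attach _ _, rfl⟩, rfl⟩))
    · intro x hx
      obtain ⟨p, -, rfl⟩ := Finset.mem_image.mp hx
      let i := Subalgebra.inclusion (hle p)
      have key : (Localization.awayMap (⨆ x ∈ s, S x).val.toRingHom (i (r p.1))).comp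
          (Localization.awayMap i.toRingHom (r p.1)) =
          Localization.awayMap (S p.1).val.toRingHom (r p.1) := by
        refine IsLocalization.ringHom_ext (Submonoid.powers (r p.1)) (RingHom.ext fun c => ?_)
        exact ((congrArg _ (awayMap_algebraMap i.toRingHom (r p.1) c)).trans
          (awayMap_algebraMap (⨆ x ∈ s, S x).val.toRingHom (i (r p.1)) (i c))).trans
          (awayMap_algebraMap (S p.1).val.toRingHom (r p.1) c).symm
      intro b
      obtain ⟨c, hc⟩ := (hbij p.1).2 b
      exact ⟨_, (DFunLike.congr_fun key c).trans hc⟩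

/-- A quasi-finite algebra of finite presentation is, up to localisation, a finite finitely presented
algebra. -/
theorem exists_finite_fp_factor [Algebra.QuasiFinite A B] [Algebra.FinitePresentation A B] :
    ∃ (C : Type u) (_ : CommRing C) (_ : Algebra A C), Module.FinitePresentation A C ∧
      ∃ (π : C →ₐ[A] B) (s : Finset C), Ideal.span (π '' (s : Set C)) = ⊤ ∧
        ∀ r ∈ s, Function.Bijective (Localization.awayMap π.toRingHom r) := by
  obtain ⟨S, hS, t, ht, hsurj⟩ := exists_fg_subalgebra A B
  have : Module.Finite A S := Module.Finite.iff_fg.mpr hS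
  obtain ⟨n, φ₀, hφ₀⟩ := Algebra.FiniteType.iff_quotient_mvPolynomial''.mp
    (inferInstance : Algebra.FiniteType A S)
  let P := MvPolynomial (Fin n) A
  let φ : P →ₐ[A] B := S.val.comp φ₀
  choose m hm hm0 using fun i : Fin n => Algebra.IsIntegral.isIntegral (R := A) (φ₀ (X i))
  let R := fun r : S => (hφ₀ r).choose
  have hR : ∀ r, φ₀ (R r) = r := fun r => (hφ₀ r).choose_spec
  have hφR : ∀ r, φ (R r) = r.1 := fun r => congrArg Subtype.val (hR r)
  -- finitely many elements of the kernel control the localisations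
  have hsurj' : ∀ r ∈ t, Function.Surjective (Localization.awayMapₐ φ (R r)) := fun r hr => by
    refine awayMap_surjective φ.toRingHom (R r) fun b₀ => ?_
    obtain ⟨c, hc⟩ := hsurj r hr (algebraMap B _ b₀)
    obtain ⟨⟨c₀, _, l, rfl⟩, hl⟩ := IsLocalization.surj (Submonoid.powers r) c
    obtain ⟨x, rfl⟩ := hφ₀ c₀
    refine ⟨x, l, ?_⟩
    have h := congrArg (Localization.awayMap S.val.toRingHom r) hl
    rw [map_mul, hc, awayMap_algebraMap, awayMap_algebraMap, map_pow, map_pow] at h
    have key : ∀ (u w : B), u = w → ∀ p q : B, ∀ n : ℕ,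
        algebraMap B (Localization.Away u) p * algebraMap B _ u ^ n = algebraMap B _ q →
        algebraMap B (Localization.Away w) q = algebraMap B _ p * algebraMap B _ w ^ n := by
      rintro u _ rfl p q n h
      exact h.symm
    exact key _ _ (hφR r).symm b₀ (φ x) l h
  have hker : ∀ r : t, ∃ F : Finset P, (∀ a ∈ F, φ a = 0) ∧
      ∀ z, Localization.awayMapₐ φ (R r.1) z = 0 →
        z ∈ Ideal.span ((algebraMap P (Localization.Away (R r.1))) '' (F : Set P)) := fun r => by
    have : Algebra.FinitePresentation B (Localization.Away (φ (R r.1))) :=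
      IsLocalization.Away.finitePresentation (φ (R r.1))
    have hfp : Algebra.FinitePresentation A (Localization.Away (φ (R r.1))) :=
      .trans A B _
    obtain ⟨G, hG⟩ := Algebra.FinitePresentation.ker_fG_of_surjective
      (Localization.awayMapₐ φ (R r.1)) (hsurj' r.1 r.2)
    have hnum : ∀ g ∈ G, ∃ a : P, φ a = 0 ∧
        g ∈ Ideal.span {algebraMap P (Localization.Away (R r.1)) a} := fun g hg => by
      refine exists_ker_numerator φ.toRingHom (R r.1) ?_
      have h0 : g ∈ RingHom.ker (Localization.awayMapₐ φ (R r.1)) := hG ▸ Ideal.subset_span hg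
      exact h0
    choose a ha hag using hnum
    classical
    refine ⟨G.attach.image fun g => a g.1 g.2, ?_, fun z hz => ?_⟩
    · intro x hx
      obtain ⟨g, -, rfl⟩ := Finset.mem_image.mp hx
      exact ha g.1 g.2
    · have : Ideal.span (G : Set (Localization.Away (R r.1))) ≤
          Ideal.span ((algebraMap P (Localization.Away (R r.1))) ''
            ((G.attach.image fun g => a g.1 g.2 : Finset P) : Set P)) := by
        rw [Ideal.span_le]
        intro g hg
        refine Ideal.span_mono ?_ (hag g hg)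
        exact Set.singleton_subset_iff.mpr ⟨_, Finset.mem_image.mpr ⟨⟨g, hg⟩, Finset.mem_attach _ _, rfl⟩, rfl⟩
      exact this (hG.symm ▸ (RingHom.mem_ker.mpr hz))
  choose F hF0 hF using hker
  let gens : Set P := Set.range (fun i => Polynomial.aeval (X i : P) (m i)) ∪ ⋃ r, (F r : Set P)
  have hgens : gens.Finite :=
    (Set.finite_range _).union (Set.finite_iUnion fun r => (F r).finite_toSet)
  let K := Ideal.span gens
  have hKφ : K ≤ RingHom.ker φ := by
    rw [Ideal.span_le]
    rintro _ (⟨i, rfl⟩ | hx)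
    · show φ _ = 0
      rw [← Polynomial.aeval_algHom_apply]
      show Polynomial.aeval (S.val (φ₀ (X i))) (m i) = 0
      rw [Polynomial.aeval_algHom_apply]
      simp [Polynomial.aeval_def, hm0 i]
    · obtain ⟨r, hr⟩ := Set.mem_iUnion.mp hx
      exact hF0 r _ hr
  let π : P ⧸ K →ₐ[A] B := Ideal.Quotient.liftₐ K φ hKφ
  have hπ : ∀ x, π (Ideal.Quotient.mk K x) = φ x := fun x => rfl
  have hfp : Algebra.FinitePresentation A (P ⧸ K) :=
    .quotient ⟨hgens.toFinset, by rw [hgens.coe_toFinset]⟩
  have hint : Algebra.IsIntegral A (P ⧸ K) := by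
    refine ⟨fun x => ?_⟩
    obtain ⟨x, rfl⟩ := Ideal.Quotient.mk_surjective x
    induction x using MvPolynomial.induction_on with
    | C a => exact isIntegral_algebraMap
    | add p q hp hq => rw [map_add]; exact hp.add hq
    | mul_X p i hp =>
      rw [map_mul]
      refine hp.mul ⟨m i, hm i, ?_⟩
      show Polynomial.aeval (Ideal.Quotient.mkₐ A K (X i)) (m i) = 0
      rw [Polynomial.aeval_algHom_apply]
      exact Ideal.Quotient.eq_zero_iff_mem.mpr (Ideal.subset_span (Or.inl ⟨i, rfl⟩))
  have : Module.Finite A (P ⧸ K) := Algebra.IsIntegral.finite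
  refine ⟨P ⧸ K, inferInstance, inferInstance, Module.FinitePresentation.of_finite_of_finitePresentation A (P ⧸ K),
    π, ?_⟩
  classical
  refine ⟨t.image fun r => Ideal.Quotient.mk K (R r), ?_, ?_⟩
  · rw [← top_le_iff, ← ht]
    refine Ideal.span_mono ?_
    rintro _ ⟨r, hr, rfl⟩
    exact ⟨_, Finset.mem_image.mpr ⟨r, hr, rfl⟩, (hπ _).trans (hφR r)⟩
  · intro x hx
    obtain ⟨r, hr, rfl⟩ := Finset.mem_image.mp hx
    let μ := Localization.awayMap (Ideal.Quotient.mk K) (R r)
    have hμ : Function.Surjective μ := awayMap_surjective _ _ fun b => by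
      obtain ⟨a, rfl⟩ := Ideal.Quotient.mk_surjective b
      exact ⟨a, 0, by rw [pow_zero, mul_one]⟩
    have hcomp : ∀ z, Localization.awayMap π.toRingHom (Ideal.Quotient.mk K (R r)) (μ z) =
        Localization.awayMapₐ φ (R r) z := by
      refine DFunLike.congr_fun (?_ : (Localization.awayMap π.toRingHom _).comp μ = (Localization.awayMapₐ φ (R r)).toRingHom)
      refine IsLocalization.ringHom_ext (Submonoid.powers (R r)) (RingHom.ext fun a => ?_)
      exact ((congrArg _ (awayMap_algebraMap (Ideal.Quotient.mk K) (R r) a)).trans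
        (awayMap_algebraMap _ _ _)).trans (awayMap_algebraMap φ.toRingHom (R r) a).symm
    refine ⟨(injective_iff_map_eq_zero _).mpr fun y hy => ?_, fun b => ?_⟩
    · obtain ⟨z, rfl⟩ := hμ y
      have hz := hF ⟨r, hr⟩ z ((hcomp z).symm.trans hy)
      have : Ideal.span ((algebraMap P (Localization.Away (R r))) '' (F ⟨r, hr⟩ : Set P)) ≤ RingHom.ker μ := by
        rw [Ideal.span_le]
        rintro _ ⟨a, ha, rfl⟩
        show μ _ = 0
        refine (awayMap_algebraMap _ _ a).trans ?_
        have hmem : a ∈ K := Ideal.subset_span (Or.inr (Set.mem_iUnion.mpr ⟨⟨r, hr⟩, ha⟩))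
        rw [Ideal.Quotient.eq_zero_iff_mem.mpr hmem, map_zero]
      exact this hz
    · obtain ⟨z, hz⟩ := hsurj' r hr b
      exact ⟨μ z, (hcomp z).trans hz⟩

end Groth.Agent.Wt.FinFactor
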