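import Groth.Agent.LocFlat.Basic
import Groth.Agent.CAlg48.FlatFS
import Mathlib.RingTheory.RingHom.Flat
import Mathlib.RingTheory.FinitePresentation
import Mathlib.RingTheory.Flat.Basic

/-!
# Algebras over a nilpotent thickening of the base, flat over the base

`R → A → B` with `B` flat over `R` and `I ⊆ R` nilpotent: properties of `A ⧸ IA → B ⧸ IB` lift to
`A → B`.
-/

universe u

open TensorProduct

namespace Groth.Agent.Wt.FinOrdRing

variable {R A B : Type u} [CommRing R] [CommRing A] [CommRing B] [Algebra R A] [Algebra R B]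
  [Algebra A B] [IsScalarTower R A B] (I : Ideal R)

/-- Flatness lifts. -/
theorem flat_of_mod [Module.Flat R B] (hI : IsNilpotent I)
    (h : Module.Flat (A ⧸ I.map (algebraMap R A))
      (B ⧸ (I.map (algebraMap R A)).map (algebraMap A B))) : Module.Flat A B := by
  classical
  set J := I.map (algebraMap R A)
  have hJ : IsNilpotent J := by
    obtain ⟨n, hn⟩ := hI
    exact ⟨n, by rw [← Ideal.map_pow, hn]; exact Ideal.map_bot⟩
  refine LocFlat.flat_criterion_nilpotent (R := A) (M := B) J hJ ?_ ?_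
  · let a : I →ₗ[R] J :=
      { toFun := fun x => ⟨algebraMap R A x, Ideal.mem_map_of_mem _ x.2⟩
        map_add' := fun x y => Subtype.ext (by simp)
        map_smul' := fun r x => Subtype.ext (by simp [Algebra.smul_def]) }
    let Φ : I ⊗[R] B →ₗ[R] J ⊗[A] B :=
      TensorProduct.lift
        (LinearMap.mk₂ R (fun x b => a x ⊗ₜ[A] b)
          (fun x y b => by rw [map_add, TensorProduct.add_tmul])
          (fun r x b => by rw [map_smul, ← TensorProduct.smul_tmul'])
          (fun x b c => TensorProduct.tmul_add _ _ _)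
          (fun r x b => by rw [TensorProduct.tmul_smul]))
    have hΦ : Function.Surjective Φ := by
      intro z
      induction z using TensorProduct.induction_on with
      | zero => exact ⟨0, map_zero _⟩
      | add x y hx hy =>
        obtain ⟨p, rfl⟩ := hx
        obtain ⟨q, rfl⟩ := hy
        exact ⟨p + q, map_add _ _ _⟩
      | tmul j b =>
        obtain ⟨j, hj⟩ := j
        suffices hh : ∀ b, ∃ w, Φ w = (⟨j, hj⟩ : J) ⊗ₜ[A] b from hh b
        refine Submodule.span_induction ?_ ?_ ?_ ?_ (show j ∈ Submodule.span A (algebraMap R A '' I) from hj)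
        · rintro _ ⟨x, hx, rfl⟩ b
          exact ⟨(⟨x, hx⟩ : I) ⊗ₜ b, by simp [Φ, a]⟩
        · intro b
          exact ⟨0, by rw [map_zero]; exact (TensorProduct.zero_tmul _ b).symm⟩
        · intro x y hx hy h₁ h₂ b
          obtain ⟨p, hp⟩ := h₁ b
          obtain ⟨q, hq⟩ := h₂ b
          exact ⟨p + q, by rw [map_add, hp, hq, ← TensorProduct.add_tmul]; rfl⟩
        · intro c x hx h₁ b
          obtain ⟨p, hp⟩ := h₁ (c • b)
          exact ⟨p, hp.trans (by rw [← TensorProduct.smul_tmul]; rfl)⟩
    have key : ∀ w, TensorProduct.lid A B ((Submodule.subtype J).rTensor B (Φ w)) =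
        TensorProduct.lid R B (I.subtype.rTensor B w) := fun w => by
      induction w using TensorProduct.induction_on with
      | zero => simp
      | add x y hx hy => simp only [map_add, hx, hy]
      | tmul x b => simp [Φ, a, Algebra.smul_def, ← IsScalarTower.algebraMap_apply]
    have hinj : Function.Injective (I.subtype.rTensor B) :=
      Module.Flat.rTensor_preserves_injective_linearMap _ Subtype.val_injective
    intro z₁ z₂ hz
    obtain ⟨w₁, rfl⟩ := hΦ z₁
    obtain ⟨w₂, rfl⟩ := hΦ z₂
    refine congrArg Φ (hinj ((TensorProduct.lid R B).injective ?_))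
    rw [← key, ← key, hz]
  · let e₁ := TensorProduct.quotTensorEquivQuotSMul B J
    let e₂ : (A ⧸ J) ⊗[A] B ≃ₗ[A] B ⧸ J.map (algebraMap A B) :=
      e₁ ≪≫ₗ Submodule.quotEquivOfEq _ ((J.map (algebraMap A B)).restrictScalars A)
        (Ideal.smul_top_eq_map J) ≪≫ₗ Submodule.Quotient.restrictScalarsEquiv A _
    have hsmul : ∀ (s : A ⧸ J) (x : (A ⧸ J) ⊗[A] B), e₂ (s • x) = s • e₂ x := fun s x => by
      obtain ⟨r, rfl⟩ := Ideal.Quotient.mk_surjective s
      rw [show (Ideal.Quotient.mk J r) • x = r • x from algebraMap_smul (R := A) (A ⧸ J) r x,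
        map_smul]
      exact (algebraMap_smul (R := A) (A ⧸ J) r (e₂ x)).symm
    let e₃ : (A ⧸ J) ⊗[A] B ≃ₗ[A ⧸ J] B ⧸ J.map (algebraMap A B) :=
      { e₂ with map_smul' := hsmul }
    exact Module.Flat.of_linearEquiv e₃

/-- Finite presentation lifts. -/
theorem finitePresentation_of_mod [Module.Flat R B] (hI : IsNilpotent I)
    (h : (Ideal.quotientMap ((I.map (algebraMap R A)).map (algebraMap A B)) (algebraMap A B)
      Ideal.le_comap_map).FinitePresentation) : Algebra.FinitePresentation A B := by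
  classical
  set J := I.map (algebraMap R A)
  set K₀ := J.map (algebraMap A B)
  haveI : Algebra.FinitePresentation (A ⧸ J) (B ⧸ K₀) := RingHom.finitePresentation_algebraMap.1 (by
    rwa [show algebraMap (A ⧸ J) (B ⧸ K₀) = Ideal.quotientMap K₀ (algebraMap A B) Ideal.le_comap_map
      from Ideal.Quotient.ringHom_ext (RingHom.ext fun _ => rfl)])
  obtain ⟨n, hn⟩ := hI
  obtain ⟨t, ht⟩ := (inferInstance : Algebra.FiniteType (A ⧸ J) (B ⧸ K₀)).out
  choose l hl using fun x : B ⧸ K₀ => Ideal.Quotient.mk_surjective x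
  let ε : MvPolynomial t A →ₐ[A] B := MvPolynomial.aeval fun i => l i.1
  let ρ : MvPolynomial t A →+* MvPolynomial t (A ⧸ J) := MvPolynomial.map (Ideal.Quotient.mk J)
  let ε₀ : MvPolynomial t (A ⧸ J) →ₐ[A ⧸ J] B ⧸ K₀ := MvPolynomial.aeval fun i => i.1
  have hcomm : ∀ p, ε₀ (ρ p) = Ideal.Quotient.mk K₀ (ε p) := fun p => by
    refine RingHom.congr_fun (f := ε₀.toRingHom.comp ρ) (g := (Ideal.Quotient.mk K₀).comp ε.toRingHom)
      (MvPolynomial.ringHom_ext (fun c => ?_) fun i => ?_) p
    · simp [ρ, ε, ε₀]; rfl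
    · simp [ρ, ε, ε₀, hl]
  have hρ : Function.Surjective ρ := MvPolynomial.map_surjective _ Ideal.Quotient.mk_surjective
  have hε₀ : Function.Surjective ε₀ := by
    rw [← AlgHom.range_eq_top, eq_top_iff, ← ht, Algebra.adjoin_le_iff]
    intro x hx
    exact ⟨MvPolynomial.X ⟨x, hx⟩, MvPolynomial.aeval_X _ _⟩
  have hε : Function.Surjective ε := by
    let S : Submodule A B := LinearMap.range ε.toLinearMap
    have h1 : ∀ b, ∃ s ∈ S, b - s ∈ K₀ := fun b => by
      obtain ⟨q, hq⟩ := hε₀ (Ideal.Quotient.mk K₀ b)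
      obtain ⟨p, rfl⟩ := hρ q
      refine ⟨ε p, ⟨p, rfl⟩, ?_⟩
      rw [← Ideal.Quotient.eq, ← hcomm, hq]
    have h2 : ∀ k, ⊤ ≤ S ⊔ (J ^ k) • (⊤ : Submodule A B) := by
      intro k
      induction k with
      | zero => simp only [pow_zero, Ideal.one_eq_top, Submodule.top_smul]; exact le_sup_right
      | succ k ih =>
        refine ih.trans (sup_le le_sup_left (Submodule.smul_le.2 fun r hr b _ => ?_))
        obtain ⟨s, hs, hb⟩ := h1 b
        rw [← sub_add_cancel b s, smul_add]
        refine add_mem (Submodule.mem_sup_right ?_) (Submodule.mem_sup_left (S.smul_mem r hs))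
        have hb' : b - s ∈ J • (⊤ : Submodule A B) := by rw [Ideal.smul_top_eq_map]; exact hb
        rw [pow_succ, Submodule.mul_smul]
        exact Submodule.smul_mem_smul hr hb'
    intro b
    have h3 := h2 n (Submodule.mem_top : b ∈ ⊤)
    rw [← Ideal.map_pow, hn] at h3
    simpa [S] using h3
  have hker0 : (RingHom.ker ε₀.toRingHom).FG :=
    Algebra.FinitePresentation.ker_fG_of_surjective ε₀ hε₀
  obtain ⟨G, hG⟩ := hker0
  have hlift : ∀ q ∈ G, ∃ p, ρ p = q ∧ ε p = 0 := fun q hq => by
    obtain ⟨p, rfl⟩ := hρ q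
    have hz : ε p ∈ K₀ := by
      rw [← Ideal.Quotient.eq_zero_iff_mem, ← hcomm]
      have : ρ p ∈ RingHom.ker ε₀.toRingHom := hG ▸ Ideal.subset_span hq
      exact this
    have hK₀ : K₀ = (J.map (algebraMap A (MvPolynomial t A))).map ε.toRingHom := by
      rw [Ideal.map_map, show ε.toRingHom.comp (algebraMap A (MvPolynomial t A)) = algebraMap A B
        from ε.comp_algebraMap]
    obtain ⟨p', hp', hpε⟩ := (Ideal.mem_map_iff_of_surjective ε.toRingHom hε).1 (hK₀.le hz)
    refine ⟨p - p', ?_, by rw [map_sub, sub_eq_zero]; exact hpε.symm⟩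
    have hρ' : ρ p' = 0 := by
      have := Ideal.mem_map_of_mem ρ hp'
      rw [Ideal.map_map] at this
      have hbot : J.map (ρ.comp (algebraMap A (MvPolynomial t A))) = ⊥ := by
        rw [Ideal.map_eq_bot_iff_le_ker]
        intro c hc
        simp [RingHom.mem_ker, ρ, Ideal.Quotient.eq_zero_iff_mem.2 hc]
      rw [hbot] at this
      exact this
    rw [map_sub, hρ', sub_zero]
  choose! g hg using hlift
  refine Algebra.FinitePresentation.of_surjective hε ?_
  refine ⟨G.image g, ?_⟩
  set N := Submodule.span (MvPolynomial t A) (↑(G.image g) : Set (MvPolynomial t A)) with hN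
  set K := RingHom.ker ε.toRingHom with hKdef
  refine le_antisymm (Submodule.span_le.2 fun p hp => ?_) ?_
  · obtain ⟨q, hq, rfl⟩ := Finset.mem_image.1 hp
    exact (hg q hq).2
  let IP := I.map (algebraMap R (MvPolynomial t A))
  have hIP : IP = J.map (algebraMap A (MvPolynomial t A)) := by
    rw [Ideal.map_map, ← IsScalarTower.algebraMap_eq]
  have step : K ≤ N ⊔ IP * K := fun x hx => by
    have h1 : ρ x ∈ Ideal.map ρ N := by
      have h0 : ρ x ∈ RingHom.ker ε₀.toRingHom := by
        show ε₀ (ρ x) = 0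
        rw [hcomm, show ε x = 0 from hx, map_zero]
      rw [← hG] at h0
      refine (Submodule.span_le.2 fun q hq => ?_) h0
      rw [← (hg q hq).1]
      exact Ideal.mem_map_of_mem _ (Submodule.subset_span (Finset.mem_image_of_mem _ hq))
    rw [Ideal.mem_map_iff_of_surjective _ hρ] at h1
    obtain ⟨y, hy, hyx⟩ := h1
    rw [← add_sub_cancel y x]
    refine add_mem (Submodule.mem_sup_left hy) (Submodule.mem_sup_right ?_)
    have hmem : x - y ∈ IP := by
      have h2 : x - y ∈ RingHom.ker ρ := by rw [RingHom.mem_ker, map_sub, hyx, sub_self]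
      rw [hIP]
      rwa [MvPolynomial.ker_map, Ideal.mk_ker] at h2
    refine CAlg48.FlatFS.mem_map_mul_of_flat (ε.restrictScalars R) hε I hmem ?_
    have hy0 : ε y = 0 := (Submodule.span_le.2 (fun p hp => by
      obtain ⟨q, hq, rfl⟩ := Finset.mem_image.1 hp
      exact (hg q hq).2) : N ≤ K) hy
    show ε (x - y) = 0
    rw [map_sub, show ε x = 0 from hx, hy0, sub_zero]
  have h2 : ∀ k, K ≤ N ⊔ IP ^ k * K := by
    intro k
    induction k with
    | zero => simp
    | succ k ih =>
      refine ih.trans (sup_le le_sup_left ?_)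
      calc IP ^ k * K ≤ IP ^ k * (N ⊔ IP * K) := Ideal.mul_mono_right step
        _ ≤ N ⊔ IP ^ (k + 1) * K := by
          rw [Ideal.mul_sup, ← mul_assoc, ← pow_succ]
          exact sup_le_sup_right Ideal.mul_le_right _
  refine (h2 n).trans (le_of_eq ?_)
  rw [← Ideal.map_pow, hn, Ideal.zero_eq_bot, Ideal.map_bot, Submodule.bot_mul, sup_bot_eq]

end Groth.Agent.Wt.FinOrdRing
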