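import Mathlib

/-!
# Rings integrally closed in a product of algebraically closed fields
-/

set_option autoImplicit false

universe u

namespace Groth.Agent.Wt.SplitRing

/-- `A` is integrally closed in a product of algebraically closed fields containing it. -/
def IsSplitRing (A : Type u) [CommRing A] : Prop :=
  ∃ (ι : Type u) (K : ι → Type u) (_ : ∀ i, Field (K i)) (_ : ∀ i, IsAlgClosed (K i))
    (j : A →+* Π i, K i), Function.Injective j ∧
      ∀ x : Π i, K i, j.IsIntegralElem x → x ∈ j.range

theorem isSplitRing_integralClosure {R : Type u} [CommRing R] {ι : Type u} (K : ι → Type u)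
    [∀ i, Field (K i)] [∀ i, IsAlgClosed (K i)] [∀ i, Algebra R (K i)] :
    IsSplitRing (integralClosure R (Π i, K i)) := by
  refine ⟨ι, K, inferInstance, inferInstance, (integralClosure R (Π i, K i)).val.toRingHom,
    Subtype.val_injective, fun x hx => ?_⟩
  have h : IsIntegral (integralClosure R (Π i, K i)) x := hx
  exact ⟨⟨x, isIntegral_trans x h⟩, rfl⟩

/-- A finite algebra which is surjective on spectra has a section over a split ring. -/
theorem exists_section {A : Type u} [CommRing A] (hA : IsSplitRing A) {B : Type u} [CommRing B]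
    (φ : A →+* B) (hint : φ.IsIntegral)
    (hsurj : Function.Surjective (PrimeSpectrum.comap φ)) :
    ∃ σ : B →+* A, σ.comp φ = RingHom.id A := by
  classical
  obtain ⟨ι, K, _, _, j, hj, hcl⟩ := hA
  let := φ.toAlgebra
  have : Algebra.IsIntegral A B := ⟨hint⟩
  have hpt : ∀ i, ∃ ψ : B →+* K i, ψ.comp φ = (Pi.evalRingHom K i).comp j := by
    intro i
    let := ((Pi.evalRingHom K i).comp j).toAlgebra
    let p : PrimeSpectrum A := ⟨RingHom.ker (algebraMap A (K i)), RingHom.ker_isPrime _⟩
    obtain ⟨q, hq⟩ := hsurj p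
    haveI : p.asIdeal.IsPrime := p.isPrime
    haveI : q.asIdeal.IsPrime := q.isPrime
    haveI : IsDomain (A ⧸ p.asIdeal) := Ideal.Quotient.isDomain _
    have : q.asIdeal.LiesOver p.asIdeal := ⟨(congrArg PrimeSpectrum.asIdeal hq).symm⟩
    let a : A ⧸ p.asIdeal →+* K i := RingHom.kerLift (algebraMap A (K i))
    let := a.toAlgebra
    have : FaithfulSMul (A ⧸ p.asIdeal) (K i) :=
      (faithfulSMul_iff_algebraMap_injective _ _).mpr (RingHom.kerLift_injective _)
    have : Algebra.IsAlgebraic (A ⧸ p.asIdeal) (B ⧸ q.asIdeal) :=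
      Algebra.IsIntegral.isAlgebraic
    haveI : Module.IsTorsionFree (A ⧸ p.asIdeal) (B ⧸ q.asIdeal) :=
      Module.isTorsionFree_iff_faithfulSMul.mpr inferInstance
    haveI : Module.IsTorsionFree (A ⧸ p.asIdeal) (K i) :=
      Module.isTorsionFree_iff_faithfulSMul.mpr inferInstance
    let ψ : B ⧸ q.asIdeal →ₐ[A ⧸ p.asIdeal] K i := IsAlgClosed.lift
    refine ⟨ψ.toRingHom.comp (Ideal.Quotient.mk q.asIdeal), RingHom.ext fun x => ?_⟩
    exact (ψ.commutes (Ideal.Quotient.mk p.asIdeal x)).trans rfl
  choose ψ hψ using hpt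
  let F : B →+* Π i, K i := RingHom.pi ψ
  have hF : F.comp φ = j := RingHom.ext fun a => funext fun i => RingHom.congr_fun (hψ i) a
  have hmem : ∀ b, F b ∈ j.range := fun b => by
    obtain ⟨P, hP, hPb⟩ := hint b
    refine hcl _ ⟨P, hP, ?_⟩
    rw [← hF, ← Polynomial.hom_eval₂, hPb, map_zero]
  have hb : Function.Bijective j.rangeRestrict :=
    ⟨fun a b h => hj (congrArg Subtype.val h), j.rangeRestrict_surjective⟩
  refine ⟨(RingEquiv.ofBijective j.rangeRestrict hb).symm.toRingHom.comp
    (F.codRestrict j.range hmem), RingHom.ext fun a => ?_⟩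
  show (RingEquiv.ofBijective j.rangeRestrict hb).symm _ = a
  rw [RingEquiv.symm_apply_eq]
  exact Subtype.ext (RingHom.congr_fun hF a)

/-- Being split is inherited by basic open subsets. -/
theorem isSplitRing_away {A : Type u} [CommRing A] (hA : IsSplitRing A) (g : A) (A' : Type u)
    [CommRing A'] [Algebra A A'] [IsLocalization.Away g A'] : IsSplitRing A' := by
  classical
  obtain ⟨ι, K, _, _, j, hj, hcl⟩ := hA
  let ι' := {i : ι // j g i ≠ 0}
  let res : (Π i, K i) →+* Π i : ι', K i.1 := RingHom.pi fun i => Pi.evalRingHom K i.1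
  have hu : IsUnit (res (j g)) := Pi.isUnit_iff.mpr fun i => (i.2 : j g i.1 ≠ 0).isUnit
  let j' : A' →+* Π i : ι', K i.1 := IsLocalization.Away.lift g (g := res.comp j) hu
  have hj' : ∀ a, j' (algebraMap A A' a) = res (j a) := fun a => IsLocalization.Away.lift_eq g hu a
  have key : ∀ a : A, res (j a) = 0 → g * a = 0 := fun a ha => hj (funext fun i => by
    simp only [map_mul, map_zero, Pi.mul_apply, Pi.zero_apply]
    by_cases hi : j g i = 0
    · rw [hi, zero_mul]
    · rw [show j a i = 0 from congrFun ha ⟨i, hi⟩, mul_zero])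
  refine ⟨ι', fun i => K i.1, inferInstance, inferInstance, j',
    (injective_iff_map_eq_zero _).mpr fun z hz => ?_, fun x hx => ?_⟩
  · obtain ⟨⟨a, t⟩, ha⟩ := IsLocalization.surj (Submonoid.powers g) z
    have h0 : res (j a) = 0 := by rw [← hj', ← ha, map_mul, hz, zero_mul]
    refine (IsLocalization.map_units A' t).mul_left_eq_zero.mp ?_
    rw [ha, IsLocalization.map_eq_zero_iff (Submonoid.powers g)]
    exact ⟨⟨g, Submonoid.mem_powers g⟩, key a h0⟩
  · let := j'.toAlgebra
    let := (res.comp j).toAlgebra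
    have : IsScalarTower A A' (Π i : ι', K i.1) := IsScalarTower.of_algebraMap_eq fun a => (hj' a).symm
    obtain ⟨⟨_, n, rfl⟩, hn⟩ :=
      IsIntegral.exists_multiple_integral_of_isLocalization (Submonoid.powers g) (Rₘ := A') x hx
    let y : Π i, K i := fun i => if h : j g i = 0 then 0 else (res (j g) ^ n * x) ⟨i, h⟩
    obtain ⟨P, hP, hPx⟩ := hn
    have hsm : (((⟨g ^ n, n, rfl⟩ : Submonoid.powers g)) • x : Π i : ι', K i.1) =
        res (j g) ^ n * x := by
      rw [Submonoid.smul_def, Algebra.smul_def, map_pow]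
      rfl
    have hy : j.IsIntegralElem y := by
      refine ⟨Polynomial.X * P, Polynomial.monic_X.mul hP, funext fun i => ?_⟩
      rw [Polynomial.eval₂_mul, Polynomial.eval₂_X, Pi.mul_apply, Pi.zero_apply]
      by_cases hi : j g i = 0
      · simp [y, hi]
      · have h1 := congrFun hPx ⟨i, hi⟩
        rw [show (Polynomial.eval₂ j y P) i = Polynomial.eval₂ ((Pi.evalRingHom K i).comp j) (y i) P
          from Polynomial.hom_eval₂ P j (Pi.evalRingHom K i) y]
        have h2 : Polynomial.eval₂ ((Pi.evalRingHom K i).comp j) (y i) P = 0 := by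
          rw [hsm] at h1
          refine Eq.trans ?_ (((Polynomial.hom_eval₂ P _ (Pi.evalRingHom (fun k : ι' => K k.1) ⟨i, hi⟩)
            _).symm).trans h1)
          simp only [y, dif_neg hi]
          rfl
        rw [h2, mul_zero]
    obtain ⟨a, ha⟩ := hcl y hy
    refine ⟨IsLocalization.mk' A' a (⟨g ^ n, n, rfl⟩ : Submonoid.powers g), ?_⟩
    refine (hu.pow n).mul_left_cancel ?_
    rw [← map_pow, ← map_pow, ← hj', ← map_mul, mul_comm, IsLocalization.mk'_spec, hj', ha]
    funext i
    show y i.1 = _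
    rw [hj']
    simp [y, dif_neg i.2]
    rfl

end Groth.Agent.Wt.SplitRing
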